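import Mathlib
import Groth.Prelude.Def_Found
import Groth.Prelude.Def_CAlgX

universe u

namespace Groth.Agent.LD.ML

open TensorProduct

variable {R : Type u} [CommRing R]

section Basic

variable {M N : Type u} [AddCommGroup M] [Module R M] [AddCommGroup N] [Module R N]
variable {ι : Type u} (Q : ι → Type u) [∀ i, AddCommGroup (Q i)] [∀ i, Module R (Q i)]

/-- naturality of `piRightHom` in the left module -/
theorem piRightHom_rTensor (f : M →ₗ[R] N) (x : M ⊗[R] (∀ i, Q i)) (i : ι) :
    TensorProduct.piRightHom R R N Q (f.rTensor (∀ i, Q i) x) i =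
      f.rTensor (Q i) (TensorProduct.piRightHom R R M Q x i) := by
  induction x using TensorProduct.induction_on with
  | zero => simp
  | tmul m q => simp
  | add x y hx hy => simp only [map_add, Pi.add_apply, hx, hy]

theorem isML_of_universallyInjective (f : M →ₗ[R] N) (hf : CAlgX.UniversallyInjective R f)
    (hN : CAlg.IsMittagLeffler R N) : CAlg.IsMittagLeffler R M := by
  intro ι Q _ _
  rw [injective_iff_map_eq_zero]
  intro x hx
  have h1 : TensorProduct.piRightHom R R N Q (f.rTensor (∀ i, Q i) x) = 0 := by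
    funext i
    rw [piRightHom_rTensor, hx]
    simp
  have h2 := (injective_iff_map_eq_zero _).mp (hN ι Q) _ h1
  exact (injective_iff_map_eq_zero _).mp (hf (∀ i, Q i)) _ h2

--START2
theorem exists_sum_tmul {n : ℕ} (g : Fin n → N) (hg : Submodule.span R (Set.range g) = ⊤)
    {P : Type u} [AddCommGroup P] [Module R P] (w : N ⊗[R] P) :
    ∃ q : Fin n → P, w = ∑ k, g k ⊗ₜ[R] q k := by
  induction w using TensorProduct.induction_on with
  | zero => exact ⟨0, by simp⟩
  | tmul m p =>
    have hm : m ∈ Submodule.span R (Set.range g) := by rw [hg]; trivial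
    obtain ⟨c, rfl⟩ := (Submodule.mem_span_range_iff_exists_fun R).mp hm
    refine ⟨fun k => c k • p, ?_⟩
    rw [TensorProduct.sum_tmul]
    refine Finset.sum_congr rfl fun k _ => ?_
    rw [TensorProduct.smul_tmul]
  | add x y hx hy =>
    obtain ⟨q1, rfl⟩ := hx
    obtain ⟨q2, rfl⟩ := hy
    refine ⟨q1 + q2, ?_⟩
    rw [← Finset.sum_add_distrib]
    refine Finset.sum_congr rfl fun k _ => ?_
    rw [Pi.add_apply, TensorProduct.tmul_add]

theorem piRightHom_surjective_of_finite [Module.Finite R N] :
    Function.Surjective (TensorProduct.piRightHom R R N Q) := by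
  obtain ⟨n, g, hg⟩ := Module.Finite.exists_fin (R := R) (M := N)
  intro z
  choose q hq using fun i => exists_sum_tmul g hg (z i)
  refine ⟨∑ k, g k ⊗ₜ[R] (fun i => q i k), ?_⟩
  funext i
  rw [map_sum, Finset.sum_apply, hq i]
  rfl

end Basic

theorem S6338 (R : Type u) [CommRing R] {M₁ M₂ : Type u}
    [AddCommGroup M₁] [Module R M₁] [AddCommGroup M₂] [Module R M₂] (f : M₁ →ₗ[R] M₂)
    (hf : CAlgX.UniversallyInjective R f) (h₂ : CAlg.IsMittagLeffler R M₂) :
    CAlg.IsMittagLeffler R M₁ := isML_of_universallyInjective f hf h₂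

theorem S6339 (R : Type u) [CommRing R] {M₁ M₂ M₃ : Type u}
    [AddCommGroup M₁] [Module R M₁] [AddCommGroup M₂] [Module R M₂] [AddCommGroup M₃] [Module R M₃]
    (f : M₁ →ₗ[R] M₂) (g : M₂ →ₗ[R] M₃) (hf : CAlgX.UniversallyInjective R f)
    (hg : Function.Surjective g) (hfg : LinearMap.range f = LinearMap.ker g)
    (h₁ : CAlg.IsMittagLeffler R M₁) (h₃ : CAlg.IsMittagLeffler R M₃) :
    CAlg.IsMittagLeffler R M₂ := by
  intro ι Q _ _
  rw [injective_iff_map_eq_zero]
  intro x hx
  have hex : Function.Exact f g := by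
    intro y
    rw [← LinearMap.mem_ker, ← hfg]
    rfl
  have h1 : TensorProduct.piRightHom R R M₃ Q (g.rTensor (∀ i, Q i) x) = 0 := by
    funext i
    rw [piRightHom_rTensor, hx]
    simp
  have h2 := (injective_iff_map_eq_zero _).mp (h₃ ι Q) _ h1
  obtain ⟨y, rfl⟩ := (rTensor_exact (∀ i, Q i) hex hg x).mp h2
  have h3 : TensorProduct.piRightHom R R M₁ Q y = 0 := by
    funext i
    have := congrFun hx i
    rw [piRightHom_rTensor] at this
    exact (injective_iff_map_eq_zero _).mp (hf (Q i)) _ this
  rw [(injective_iff_map_eq_zero _).mp (h₁ ι Q) _ h3, map_zero]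

theorem S6340 (R : Type u) [CommRing R] {M : Type u} [AddCommGroup M] [Module R M]
    (N : Submodule R M) (hN : N.FG) (hM : CAlg.IsMittagLeffler R M) :
    CAlg.IsMittagLeffler R (M ⧸ N) := by
  intro ι Q _ _
  rw [injective_iff_map_eq_zero]
  intro x hx
  have : Module.Finite R N := Module.Finite.iff_fg.mpr hN
  have hex : Function.Exact N.subtype N.mkQ := LinearMap.exact_subtype_mkQ N
  have hsurj : Function.Surjective N.mkQ := N.mkQ_surjective
  obtain ⟨y, rfl⟩ := LinearMap.rTensor_surjective (∀ i, Q i) hsurj x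
  have h1 : ∀ i, ∃ z : N ⊗[R] Q i, N.subtype.rTensor (Q i) z = TensorProduct.piRightHom R R M Q y i := by
    intro i
    have := congrFun hx i
    rw [piRightHom_rTensor] at this
    exact (rTensor_exact (Q i) hex hsurj _).mp this
  choose z hz using h1
  obtain ⟨w, hw⟩ := piRightHom_surjective_of_finite (N := N) Q z
  have h2 : TensorProduct.piRightHom R R M Q (N.subtype.rTensor (∀ i, Q i) w) =
      TensorProduct.piRightHom R R M Q y := by
    funext i
    rw [piRightHom_rTensor, hw, hz]
  have h3 := hM ι Q h2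
  rw [← h3, ← LinearMap.comp_apply, ← LinearMap.rTensor_comp]
  have : N.mkQ ∘ₗ N.subtype = 0 := by
    ext n; simp
  rw [this]; simp

--START3
theorem universallyInjective_of_leftInverse {M N : Type u} [AddCommGroup M] [Module R M]
    [AddCommGroup N] [Module R N] (f : M →ₗ[R] N) (g : N →ₗ[R] M) (h : g ∘ₗ f = LinearMap.id) :
    CAlgX.UniversallyInjective R f := by
  intro Q _ _
  apply Function.LeftInverse.injective (g := g.rTensor Q)
  intro x
  rw [← LinearMap.comp_apply, ← LinearMap.rTensor_comp, h, LinearMap.rTensor_id, LinearMap.id_apply]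

theorem directSumLeft_apply {ι : Type u} [DecidableEq ι] (M : ι → Type u) [∀ i, AddCommGroup (M i)]
    [∀ i, Module R (M i)] {P : Type u} [AddCommGroup P] [Module R P]
    (x : (DirectSum ι M) ⊗[R] P) (j : ι) :
    TensorProduct.directSumLeft R R M P x j = (DirectSum.component R ι M j).rTensor P x := by
  induction x using TensorProduct.induction_on with
  | zero => simp
  | add x y hx hy => rw [map_add, map_add, DirectSum.add_apply, hx, hy]
  | tmul m p =>
    rw [TensorProduct.directSumLeft_tmul, LinearMap.rTensor_tmul]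
    rfl

theorem S6337 (R : Type u) [CommRing R] {ι : Type u} (M : ι → Type u)
    [∀ i, AddCommGroup (M i)] [∀ i, Module R (M i)] :
    CAlg.IsMittagLeffler R (DirectSum ι M) ↔ ∀ i, CAlg.IsMittagLeffler R (M i) := by
  classical
  constructor
  · intro h i
    refine isML_of_universallyInjective (DirectSum.lof R ι M i) ?_ h
    exact universallyInjective_of_leftInverse _ (DirectSum.component R ι M i)
      (DirectSum.component_comp_lof_same R i)
  · intro h κ Q _ _
    rw [injective_iff_map_eq_zero]
    intro x hx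
    apply (TensorProduct.directSumLeft R R M (∀ k, Q k)).injective
    rw [map_zero]
    ext j
    rw [directSumLeft_apply, DirectSum.zero_apply]
    apply (injective_iff_map_eq_zero _).mp (h j κ Q)
    funext k
    rw [piRightHom_rTensor, hx]
    simp

--START4
section BaseChange

variable (R S : Type u) [CommRing R] [CommRing S] [Algebra R S]
variable (M : Type u) [AddCommGroup M] [Module R M]

/-- `(S ⊗[R] M) ⊗[S] P → M ⊗[R] P`, `(s ⊗ m) ⊗ p ↦ m ⊗ s • p`. -/
noncomputable def bcPhi (P : Type u) [AddCommGroup P] [Module R P] [Module S P] [IsScalarTower R S P] :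
    (S ⊗[R] M) ⊗[S] P →+ M ⊗[R] P :=
  ((TensorProduct.comm R P M).toAddEquiv.toAddMonoidHom.comp
    (TensorProduct.AlgebraTensorModule.cancelBaseChange R S S P M).toAddEquiv.toAddMonoidHom).comp
    (TensorProduct.comm S (S ⊗[R] M) P).toAddEquiv.toAddMonoidHom

theorem bcPhi_tmul (P : Type u) [AddCommGroup P] [Module R P] [Module S P] [IsScalarTower R S P]
    (s : S) (m : M) (p : P) : bcPhi R S M P ((s ⊗ₜ[R] m) ⊗ₜ[S] p) = m ⊗ₜ[R] (s • p) := by
  simp [bcPhi]

theorem bcPhi_injective (P : Type u) [AddCommGroup P] [Module R P] [Module S P] [IsScalarTower R S P] :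
    Function.Injective (bcPhi R S M P) := by
  unfold bcPhi
  simp only [AddMonoidHom.coe_comp]
  exact ((TensorProduct.comm R P M).injective.comp
    (TensorProduct.AlgebraTensorModule.cancelBaseChange R S S P M).injective).comp
    (TensorProduct.comm S (S ⊗[R] M) P).injective

theorem bcPhi_piRightHom {ι : Type u} (Q : ι → Type u) [∀ i, AddCommGroup (Q i)] [∀ i, Module R (Q i)]
    [∀ i, Module S (Q i)] [∀ i, IsScalarTower R S (Q i)]
    (x : (S ⊗[R] M) ⊗[S] (∀ i, Q i)) (i : ι) :
    bcPhi R S M (Q i) (TensorProduct.piRightHom S S (S ⊗[R] M) Q x i) =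
      TensorProduct.piRightHom R R M Q (bcPhi R S M (∀ i, Q i) x) i := by
  induction x using TensorProduct.induction_on with
  | zero => simp
  | add x y hx hy => simp only [map_add, Pi.add_apply, hx, hy]
  | tmul y q =>
    induction y using TensorProduct.induction_on with
    | zero => simp
    | add a b ha hb => simp only [TensorProduct.add_tmul, map_add, Pi.add_apply, ha, hb]
    | tmul s m =>
      rw [TensorProduct.piRightHom_tmul, bcPhi_tmul, bcPhi_tmul, TensorProduct.piRightHom_tmul]
      rfl

end BaseChange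

theorem S6348 (R S : Type u) [CommRing R] [CommRing S] [Algebra R S] (M : Type u)
    [AddCommGroup M] [Module R M] (hM : CAlg.IsMittagLeffler R M) :
    CAlg.IsMittagLeffler S (S ⊗[R] M) := by
  intro ι Q _ _
  let _ : ∀ i, Module R (Q i) := fun i => Module.compHom (Q i) (algebraMap R S)
  have : ∀ i, IsScalarTower R S (Q i) := fun i => IsScalarTower.of_algebraMap_smul (fun r x => rfl)
  rw [injective_iff_map_eq_zero]
  intro x hx
  apply bcPhi_injective R S M (∀ i, Q i)
  rw [map_zero]
  apply hM ι Q
  rw [map_zero]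
  funext i
  rw [← bcPhi_piRightHom, hx]
  simp

--START5
theorem S6342 (R S : Type u) [CommRing R] [CommRing S] [Algebra R S]
    (M : Type u) [AddCommGroup M] [Module S M] [Module R M] [IsScalarTower R S M]
    (hS : CAlg.IsMittagLeffler R S) [Module.Flat S M] (hM : CAlg.IsMittagLeffler S M) :
    CAlg.IsMittagLeffler R M := by
  intro ι Q _ _
  -- the S-linear version of piRightHom for S
  set g : S ⊗[R] (∀ i, Q i) →ₗ[S] ∀ i, S ⊗[R] Q i := TensorProduct.piRightHom R S S Q with hg
  have hginj : Function.Injective g := by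
    have h1 : ∀ y, g y = TensorProduct.piRightHom R R S Q y := by
      intro y
      induction y using TensorProduct.induction_on with
      | zero => simp
      | tmul s q => rfl
      | add a b ha hb => rw [map_add, map_add, ha, hb]
    intro a b hab
    rw [h1, h1] at hab
    exact hS ι Q hab
  have hlinj : Function.Injective (g.lTensor M) :=
    Module.Flat.lTensor_preserves_injective_linearMap g hginj
  have key : ∀ (x : M ⊗[R] (∀ i, Q i)) (i : ι),
      TensorProduct.AlgebraTensorModule.cancelBaseChange R S S M (Q i)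
        (TensorProduct.piRightHom S S M (fun i => S ⊗[R] Q i)
          (g.lTensor M ((TensorProduct.AlgebraTensorModule.cancelBaseChange R S S M (∀ i, Q i)).symm x)) i) =
        TensorProduct.piRightHom R R M Q x i := by
    intro x i
    induction x using TensorProduct.induction_on with
    | zero => simp
    | add a b ha hb => simp only [map_add, Pi.add_apply, ha, hb]
    | tmul m q =>
      rw [TensorProduct.AlgebraTensorModule.cancelBaseChange_symm_tmul, LinearMap.lTensor_tmul]
      simp [hg]
  rw [injective_iff_map_eq_zero]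
  intro x hx
  have h2 : TensorProduct.piRightHom S S M (fun i => S ⊗[R] Q i)
      (g.lTensor M ((TensorProduct.AlgebraTensorModule.cancelBaseChange R S S M (∀ i, Q i)).symm x)) = 0 := by
    funext i
    apply (TensorProduct.AlgebraTensorModule.cancelBaseChange R S S M (Q i)).injective
    rw [key, hx]
    simp
  have h3 := (injective_iff_map_eq_zero _).mp (hM ι (fun i => S ⊗[R] Q i)) _ h2
  have h4 := (injective_iff_map_eq_zero _).mp hlinj _ h3
  exact (LinearEquiv.map_eq_zero_iff _).mp h4

--START6
theorem directLimit_of_universallyInjective (R : Type u) [CommRing R] {ι : Type u}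
    [Preorder ι] [IsDirected ι (· ≤ ·)] [DecidableEq ι] (G : ι → Type u) [∀ i, AddCommGroup (G i)]
    [∀ i, Module R (G i)] (f : ∀ i j, i ≤ j → G i →ₗ[R] G j) [DirectedSystem G fun i j h => f i j h]
    (hf : ∀ i j (h : i ≤ j), CAlgX.UniversallyInjective R (f i j h)) (i : ι) :
    CAlgX.UniversallyInjective R (Module.DirectLimit.of R ι G f i) := by
  intro Q _ _
  rw [injective_iff_map_eq_zero]
  intro x hx
  have h1 := TensorProduct.directLimitLeft_rTensor_of f Q (i := i) x
  rw [hx, map_zero] at h1
  obtain ⟨j, hij, hj⟩ := Module.DirectLimit.of.zero_exact h1.symm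
  exact (injective_iff_map_eq_zero _).mp (hf i j hij Q) _ hj

theorem S6341 (R : Type u) [CommRing R] {ι : Type u}
    [Preorder ι] [IsDirected ι (· ≤ ·)] [DecidableEq ι] (G : ι → Type u) [∀ i, AddCommGroup (G i)]
    [∀ i, Module R (G i)] (f : ∀ i j, i ≤ j → G i →ₗ[R] G j) [DirectedSystem G fun i j h => f i j h]
    (hf : ∀ i j (h : i ≤ j), CAlgX.UniversallyInjective R (f i j h))
    (hG : ∀ i, CAlg.IsMittagLeffler R (G i)) :
    CAlg.IsMittagLeffler R (Module.DirectLimit G f) := by
  intro κ Q _ _
  rcases isEmpty_or_nonempty ι with hι | hι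
  · have : Subsingleton (Module.DirectLimit G f) := Unique.instSubsingleton
    intro a b _
    exact Subsingleton.elim a b
  rw [injective_iff_map_eq_zero]
  intro x hx
  obtain ⟨i, xi, hxi⟩ := Module.DirectLimit.exists_of (TensorProduct.directLimitLeft f (∀ k, Q k) x)
  have hx' : x = (Module.DirectLimit.of R ι G f i).rTensor (∀ k, Q k) xi := by
    apply (TensorProduct.directLimitLeft f (∀ k, Q k)).injective
    rw [TensorProduct.directLimitLeft_rTensor_of]
    exact hxi.symm
  have h2 : TensorProduct.piRightHom R R (G i) Q xi = 0 := by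
    funext k
    have := congrFun hx k
    rw [hx', piRightHom_rTensor] at this
    exact (injective_iff_map_eq_zero _).mp (directLimit_of_universallyInjective R G f hf i (Q k)) _ this
  rw [hx', (injective_iff_map_eq_zero _).mp (hG i κ Q) _ h2, map_zero]

--START7
section Approx

variable {R : Type u} [CommRing R]

theorem exists_fin_sum_tmul {M Q : Type u} [AddCommGroup M] [Module R M] [AddCommGroup Q] [Module R Q]
    (x : M ⊗[R] Q) : ∃ (n : ℕ) (m : Fin n → M) (q : Fin n → Q), x = ∑ k, m k ⊗ₜ[R] q k := by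
  obtain ⟨S, rfl⟩ := TensorProduct.exists_finset x
  refine ⟨S.card, fun k => (S.equivFin.symm k).1.1, fun k => (S.equivFin.symm k).1.2, ?_⟩
  rw [← Finset.sum_coe_sort S, ← S.equivFin.symm.sum_comp]

/-- General vanishing criterion: a vanishing sum of pure tensors vanishes trivially after extending
the left family by finitely many further elements (paired with zeros). -/
theorem exists_vanishesTrivially_extend {A B : Type u} [AddCommGroup A] [Module R A]
    [AddCommGroup B] [Module R B] {n : ℕ} (a : Fin n → A) (b : Fin n → B)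
    (h : ∑ k, a k ⊗ₜ[R] b k = 0) :
    ∃ (s : ℕ) (a₂ : Fin s → A),
      TensorProduct.VanishesTrivially R (Sum.elim a a₂) (Sum.elim b (fun _ : Fin s => (0 : B))) := by
  set A₀ : Submodule R A := Submodule.span R (Set.range a) with hA₀
  have hA₀fg : A₀.FG := Submodule.fg_span (Set.finite_range a)
  have hmem : ∀ k, a k ∈ A₀ := fun k => Submodule.subset_span ⟨k, rfl⟩
  set z : A₀ ⊗[R] B := ∑ k, (⟨a k, hmem k⟩ : A₀) ⊗ₜ[R] b k with hz
  have hz0 : A₀.subtype.rTensor B z = A₀.subtype.rTensor B 0 := by
    rw [map_zero, hz, map_sum]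
    simpa using h
  obtain ⟨A₁, hA₁fg, hle, heq⟩ := hA₀fg.exists_rTensor_fg_inclusion_eq hz0
  rw [map_zero] at heq
  have : Module.Finite R A₁ := Module.Finite.iff_fg.mpr hA₁fg
  obtain ⟨s, g, hg⟩ := Module.Finite.exists_fin (R := R) (M := A₁)
  set m : Fin n ⊕ Fin s → A₁ := Sum.elim (fun k => ⟨a k, hle (hmem k)⟩) g with hm
  have hmspan : Submodule.span R (Set.range m) = ⊤ := by
    rw [eq_top_iff, ← hg]
    apply Submodule.span_mono
    rintro _ ⟨l, rfl⟩
    exact ⟨Sum.inr l, rfl⟩
  have hsum : ∑ i, m i ⊗ₜ[R] (Sum.elim b (fun _ : Fin s => (0 : B))) i = 0 := by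
    rw [Fintype.sum_sum_type]
    simp only [hm, Sum.elim_inl, Sum.elim_inr, TensorProduct.tmul_zero, Finset.sum_const_zero,
      add_zero]
    rw [← heq, hz, map_sum]
    rfl
  obtain ⟨k, c, y, h1, h2⟩ := TensorProduct.vanishesTrivially_of_sum_tmul_eq_zero R hmspan hsum
  refine ⟨s, fun l => (g l : A), k, c, y, h1, fun j => ?_⟩
  have := congrArg A₁.subtype (h2 j)
  rw [map_sum, map_zero] at this
  rw [← this]
  refine Finset.sum_congr rfl fun i _ => ?_
  rw [map_smul]
  rcases i with i | i <;> rfl

/-- Finitely presented approximation of the right tensor factor: a tensor `x ∈ M ⊗ Q` killed by `f ⊗ Q`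
comes from a tensor in `M ⊗ P`, `P` finitely presented over `Q`, already killed by `f ⊗ P`. -/
theorem exists_fp_approx {M N Q : Type u} [AddCommGroup M] [Module R M] [AddCommGroup N] [Module R N]
    [AddCommGroup Q] [Module R Q] (f : M →ₗ[R] N) (x : M ⊗[R] Q) (hx : f.rTensor Q x = 0) :
    ∃ (P : Type u) (_ : AddCommGroup P) (_ : Module R P) (_ : Module.FinitePresentation R P)
      (φ : P →ₗ[R] Q) (x' : M ⊗[R] P), φ.lTensor M x' = x ∧ f.rTensor P x' = 0 := by
  classical
  obtain ⟨n, m, q, rfl⟩ := exists_fin_sum_tmul x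
  have h0 : ∑ k, q k ⊗ₜ[R] f (m k) = 0 := by
    have := congrArg (TensorProduct.comm R N Q) hx
    simpa using this
  obtain ⟨s, q₂, k, c, y, h1, h2⟩ := exists_vanishesTrivially_extend q (fun k => f (m k)) h0
  set K : Submodule R ((Fin n ⊕ Fin s) → R) := Submodule.span R (Set.range fun j : Fin k => fun i : (Fin n ⊕ Fin s) => c i j) with hK
  have hKfg : K.FG := Submodule.fg_span (Set.finite_range _)
  have hfp : Module.FinitePresentation R (((Fin n ⊕ Fin s) → R) ⧸ K) :=
    Module.finitePresentation_of_surjective K.mkQ K.mkQ_surjective (by rwa [Submodule.ker_mkQ])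
  set q' : (Fin n ⊕ Fin s) → Q := Sum.elim q q₂ with hq'
  have hKle : K ≤ LinearMap.ker (Fintype.linearCombination R q') := by
    rw [hK, Submodule.span_le]
    rintro _ ⟨j, rfl⟩
    show Fintype.linearCombination R q' (fun i => c i j) = 0
    exact h2 j
  refine ⟨((Fin n ⊕ Fin s) → R) ⧸ K, inferInstance, inferInstance, hfp, K.liftQ _ hKle,
    ∑ l, m l ⊗ₜ[R] K.mkQ (Pi.single (Sum.inl l) 1), ?_, ?_⟩
  · rw [map_sum]
    refine Finset.sum_congr rfl fun l _ => ?_
    rw [LinearMap.lTensor_tmul, Submodule.mkQ_apply, Submodule.liftQ_apply,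
      Fintype.linearCombination_apply_single, one_smul]
    rfl
  · rw [map_sum]
    simp only [LinearMap.rTensor_tmul]
    -- rewrite as a sum over (Fin n ⊕ Fin s)
    have e1 : ∑ l, f (m l) ⊗ₜ[R] K.mkQ (Pi.single (Sum.inl l) 1) =
        ∑ i : (Fin n ⊕ Fin s), (Sum.elim (fun l => f (m l)) (fun _ : Fin s => (0 : N))) i ⊗ₜ[R]
          K.mkQ (Pi.single i (1 : R)) := by
      rw [Fintype.sum_sum_type]
      simp
    rw [e1]
    simp_rw [h1, TensorProduct.sum_tmul]
    rw [Finset.sum_comm]
    refine Finset.sum_eq_zero fun j _ => ?_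
    simp_rw [TensorProduct.smul_tmul, ← TensorProduct.tmul_sum, ← map_smul, ← map_sum]
    have : (∑ i : (Fin n ⊕ Fin s), c i j • (Pi.single i (1 : R) : (Fin n ⊕ Fin s) → R)) ∈ K := by
      have e2 : (∑ i : (Fin n ⊕ Fin s), c i j • (Pi.single i (1 : R) : (Fin n ⊕ Fin s) → R)) = fun i => c i j := by
        funext i'
        simp [Finset.sum_apply, Pi.single_apply, Finset.sum_ite_eq]
      rw [e2]
      exact Submodule.subset_span ⟨j, rfl⟩
    rw [Submodule.mkQ_apply, (Submodule.Quotient.mk_eq_zero K).mpr this, TensorProduct.tmul_zero]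

end Approx

theorem S6360 (R : Type u) [CommRing R] {M N M' : Type u}
    [AddCommGroup M] [Module R M] [AddCommGroup N] [Module R N] [AddCommGroup M'] [Module R M']
    (f : M →ₗ[R] N) (g : M →ₗ[R] M') :
    (∀ (Q : Type u) [AddCommGroup Q] [Module R Q], LinearMap.ker (f.rTensor Q) ≤ LinearMap.ker (g.rTensor Q)) ↔
      ∀ (Q : Type u) [AddCommGroup Q] [Module R Q], Module.FinitePresentation R Q →
        LinearMap.ker (f.rTensor Q) ≤ LinearMap.ker (g.rTensor Q) := by
  constructor
  · intro h Q _ _ _
    exact h Q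
  · intro h Q _ _ x hx
    obtain ⟨P, _, _, hP, φ, x', rfl, hx'⟩ := exists_fp_approx f x (LinearMap.mem_ker.mp hx)
    have h1 : g.rTensor P x' = 0 := LinearMap.mem_ker.mp (h P hP (LinearMap.mem_ker.mpr hx'))
    rw [LinearMap.mem_ker, ← LinearMap.comp_apply, LinearMap.rTensor_comp_lTensor,
      ← LinearMap.lTensor_comp_rTensor, LinearMap.comp_apply, h1, map_zero]

--START8
theorem S6388 (R : Type u) [CommRing R] {M N M' : Type u}
    [AddCommGroup M] [Module R M] [AddCommGroup N] [Module R N] [AddCommGroup M'] [Module R M']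
    (f : M →ₗ[R] N) (g : M →ₗ[R] M') :
    (∀ (Q : Type u) [AddCommGroup Q] [Module R Q], LinearMap.ker (f.rTensor Q) ≤ LinearMap.ker (g.rTensor Q)) ↔
      CAlgX.UniversallyInjective R
        ((LinearMap.range (g.prod (-f))).mkQ ∘ₗ LinearMap.inl R M' N) := by
  set W := LinearMap.range (g.prod (-f)) with hW
  have hex : Function.Exact (g.prod (-f)) W.mkQ := by
    intro y
    rw [← LinearMap.mem_ker, Submodule.ker_mkQ, hW]
    rfl
  constructor
  · intro h Q _ _
    rw [injective_iff_map_eq_zero]
    intro w hw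
    rw [LinearMap.rTensor_comp, LinearMap.comp_apply] at hw
    obtain ⟨x, hx⟩ := (rTensor_exact Q hex W.mkQ_surjective _).mp hw
    have h1 := congrArg ((LinearMap.fst R M' N).rTensor Q) hx
    have h2 := congrArg ((LinearMap.snd R M' N).rTensor Q) hx
    rw [← LinearMap.comp_apply, ← LinearMap.comp_apply, ← LinearMap.rTensor_comp,
      ← LinearMap.rTensor_comp] at h1 h2
    rw [LinearMap.fst_prod, LinearMap.fst_comp_inl, LinearMap.rTensor_id, LinearMap.id_apply] at h1
    rw [LinearMap.snd_prod, LinearMap.snd_comp_inl, LinearMap.rTensor_zero, LinearMap.zero_apply,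
      LinearMap.rTensor_neg, LinearMap.neg_apply, neg_eq_zero] at h2
    rw [← h1]
    exact h Q (LinearMap.mem_ker.mpr h2)
  · intro h Q _ _ x hx
    rw [LinearMap.mem_ker] at hx ⊢
    apply h Q
    rw [map_zero, ← LinearMap.comp_apply, ← LinearMap.rTensor_comp, LinearMap.comp_assoc]
    have e : LinearMap.inl R M' N ∘ₗ g = g.prod (-f) + LinearMap.inr R M' N ∘ₗ f := by
      ext m <;> simp
    rw [e, LinearMap.comp_add, LinearMap.rTensor_add, LinearMap.add_apply, ← LinearMap.comp_assoc,
      LinearMap.rTensor_comp _ _ f, LinearMap.comp_apply, hx, map_zero, add_zero,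
      LinearMap.rTensor_comp, LinearMap.comp_apply]
    exact (rTensor_exact Q hex W.mkQ_surjective _).mpr ⟨x, rfl⟩

--START9
theorem S6380 (R : Type u) [CommRing R] {P M Q : Type u}
    [AddCommGroup P] [Module R P] [Module.FinitePresentation R P] [AddCommGroup M] [Module R M]
    [AddCommGroup Q] [Module R Q] (f : P →ₗ[R] M) (x : P ⊗[R] Q) (hx : f.rTensor Q x = 0) :
    ∃ (P' : Type u) (_ : AddCommGroup P') (_ : Module R P') (_ : Module.FinitePresentation R P')
      (f' : P →ₗ[R] P') (h : P' →ₗ[R] M), f = h ∘ₗ f' ∧ f'.rTensor Q x = 0 := by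
  classical
  obtain ⟨n, p, q, rfl⟩ := exists_fin_sum_tmul x
  have h0 : ∑ k, f (p k) ⊗ₜ[R] q k = 0 := by
    simpa using hx
  obtain ⟨s, m₂, kk, c, y, h1, h2⟩ := exists_vanishesTrivially_extend (fun k => f (p k)) q h0
  -- the elements u_i
  set u : Fin n ⊕ Fin s → P × (Fin s → R) :=
    Sum.elim (fun k => (p k, 0)) (fun l => (0, Pi.single l 1)) with hu
  set v : Fin kk → P × (Fin s → R) := fun j => ∑ i, c i j • u i with hv
  set K : Submodule R (P × (Fin s → R)) := Submodule.span R (Set.range v) with hK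
  have hKfg : K.FG := Submodule.fg_span (Set.finite_range _)
  have hfp : Module.FinitePresentation R ((P × (Fin s → R)) ⧸ K) :=
    Module.finitePresentation_of_surjective K.mkQ K.mkQ_surjective (by rwa [Submodule.ker_mkQ])
  set H : P × (Fin s → R) →ₗ[R] M := f.coprod (Fintype.linearCombination R m₂) with hH
  have hHu : ∀ i, H (u i) = Sum.elim (fun k => f (p k)) m₂ i := by
    rintro (k | l)
    · simp [hH, hu]
    · simp [hH, hu]
  have hKle : K ≤ LinearMap.ker H := by
    rw [hK, Submodule.span_le]
    rintro _ ⟨j, rfl⟩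
    show H (v j) = 0
    rw [hv, map_sum]
    simp_rw [map_smul, hHu]
    exact h2 j
  refine ⟨(P × (Fin s → R)) ⧸ K, inferInstance, inferInstance, hfp,
    K.mkQ ∘ₗ LinearMap.inl R P (Fin s → R), K.liftQ H hKle, ?_, ?_⟩
  · ext a
    simp [hH]
  · rw [map_sum]
    simp only [LinearMap.rTensor_tmul, LinearMap.comp_apply, LinearMap.inl_apply]
    have e1 : ∑ k, K.mkQ (p k, 0) ⊗ₜ[R] q k =
        ∑ i, K.mkQ (u i) ⊗ₜ[R] (Sum.elim q (fun _ : Fin s => (0 : Q))) i := by
      rw [Fintype.sum_sum_type]
      simp [hu]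
    rw [e1]
    simp_rw [h1, TensorProduct.tmul_sum]
    rw [Finset.sum_comm]
    refine Finset.sum_eq_zero fun j _ => ?_
    simp_rw [← TensorProduct.smul_tmul, ← TensorProduct.sum_tmul, ← map_smul, ← map_sum]
    have : (∑ i, c i j • u i) ∈ K := Submodule.subset_span ⟨j, rfl⟩
    rw [Submodule.mkQ_apply, (Submodule.Quotient.mk_eq_zero K).mpr this, TensorProduct.zero_tmul]

--START10
/-- coherent module: finite, and every finitely generated submodule is finitely presented -/
def Coh (R : Type u) [CommRing R] (M : Type u) [AddCommGroup M] [Module R M] : Prop :=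
  Module.Finite R M ∧ ∀ N : Submodule R M, N.FG → Module.FinitePresentation R N

theorem coh_of_exact (R : Type u) [CommRing R] {M₁ M₂ M₃ : Type u}
    [AddCommGroup M₁] [Module R M₁] [AddCommGroup M₂] [Module R M₂] [AddCommGroup M₃] [Module R M₃]
    (f : M₁ →ₗ[R] M₂) (g : M₂ →ₗ[R] M₃) (hf : Function.Injective f) (hg : Function.Surjective g)
    (hfg : LinearMap.range f = LinearMap.ker g)
    (h₁ : Coh R M₁) (h₃ : Coh R M₃) : Coh R M₂ := by
  obtain ⟨hfin1, hc1⟩ := h₁
  obtain ⟨hfin3, hc3⟩ := h₃
  constructor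
  · refine ⟨?_⟩
    apply Submodule.fg_of_fg_map_of_fg_inf_ker g
    · rw [Submodule.map_top, LinearMap.range_eq_top.mpr hg]
      exact Module.Finite.fg_top
    · rw [top_inf_eq, ← hfg, LinearMap.range_eq_map]
      exact Module.Finite.fg_top.map f
  · intro N hN
    have : Module.Finite R N := Module.Finite.iff_fg.mpr hN
    have hfp3 : Module.FinitePresentation R (N.map g) := hc3 _ (hN.map g)
    set l : N →ₗ[R] N.map g := g.submoduleMap N with hl
    have hlsurj : Function.Surjective l := g.submoduleMap_surjective N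
    have hkerfg : (LinearMap.ker l).FG := Module.FinitePresentation.fg_ker l hlsurj
    -- the submodule of M₁
    set N₁ : Submodule R M₁ := N.comap f with hN₁
    have hmem : ∀ x : N₁, f x ∈ N := fun x => x.2
    have hker : ∀ x : N₁, (⟨f x, hmem x⟩ : N) ∈ LinearMap.ker l := by
      intro x
      rw [LinearMap.mem_ker]
      apply Subtype.ext
      show g (f x) = 0
      have : f x ∈ LinearMap.ker g := by rw [← hfg]; exact ⟨x, rfl⟩
      exact this
    let e0 : N₁ →ₗ[R] LinearMap.ker l :=
      { toFun := fun x => ⟨⟨f x, hmem x⟩, hker x⟩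
        map_add' := fun x y => by
          apply Subtype.ext; apply Subtype.ext
          simp
        map_smul' := fun r x => by
          apply Subtype.ext; apply Subtype.ext
          simp }
    have he0inj : Function.Injective e0 := by
      intro x y hxy
      have : f x = f y := congrArg (fun z : LinearMap.ker l => ((z : N) : M₂)) hxy
      exact Subtype.ext (hf this)
    have he0surj : Function.Surjective e0 := by
      rintro ⟨⟨y, hyN⟩, hy⟩
      have hy' : g y = 0 := by
        have := congrArg (fun z : N.map g => (z : M₃)) (LinearMap.mem_ker.mp hy)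
        exact this
      have : y ∈ LinearMap.range f := by rw [hfg]; exact hy'
      obtain ⟨x, rfl⟩ := this
      exact ⟨⟨x, hyN⟩, rfl⟩
    let e : N₁ ≃ₗ[R] LinearMap.ker l := LinearEquiv.ofBijective e0 ⟨he0inj, he0surj⟩
    have hN₁fg : N₁.FG := by
      rw [← Module.Finite.iff_fg]
      have : Module.Finite R (LinearMap.ker l) := Module.Finite.iff_fg.mpr hkerfg
      exact Module.Finite.equiv e.symm
    have hfp1 : Module.FinitePresentation R N₁ := hc1 _ hN₁fg
    have hfpk : Module.FinitePresentation R (LinearMap.ker l) := Module.FinitePresentation.of_equiv e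
    exact Module.finitePresentation_of_ker l hlsurj

theorem S6367 (R : Type u) [CommRing R] {M₁ M₂ M₃ : Type u}
    [AddCommGroup M₁] [Module R M₁] [AddCommGroup M₂] [Module R M₂] [AddCommGroup M₃] [Module R M₃]
    (f : M₁ →ₗ[R] M₂) (g : M₂ →ₗ[R] M₃) (hf : Function.Injective f) (hg : Function.Surjective g)
    (hfg : LinearMap.range f = LinearMap.ker g)
    (h₁ : (Module.Finite R M₁ ∧ ∀ N : Submodule R M₁, N.FG → Module.FinitePresentation R N))
    (h₃ : (Module.Finite R M₃ ∧ ∀ N : Submodule R M₃, N.FG → Module.FinitePresentation R N)) :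
    (Module.Finite R M₂ ∧ ∀ N : Submodule R M₂, N.FG → Module.FinitePresentation R N) :=
  coh_of_exact R f g hf hg hfg h₁ h₃

--START11
theorem coh_of_subsingleton (R : Type u) [CommRing R] (M : Type u) [AddCommGroup M] [Module R M]
    [Subsingleton M] : Coh R M := by
  refine ⟨inferInstance, fun N _ => ?_⟩
  infer_instance

theorem coh_of_equiv (R : Type u) [CommRing R] {M M' : Type u} [AddCommGroup M] [Module R M]
    [AddCommGroup M'] [Module R M'] (e : M ≃ₗ[R] M') (h : Coh R M) : Coh R M' := by
  refine coh_of_exact R (0 : PUnit.{u+1} →ₗ[R] M') e.symm.toLinearMap ?_ e.symm.surjective ?_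
    (coh_of_subsingleton R PUnit) h
  · intro a b _; exact Subsingleton.elim a b
  · rw [LinearMap.range_zero, LinearMap.ker_eq_bot.mpr e.symm.injective]

theorem coh_prod (R : Type u) [CommRing R] {M M' : Type u} [AddCommGroup M] [Module R M]
    [AddCommGroup M'] [Module R M'] (h : Coh R M) (h' : Coh R M') : Coh R (M × M') := by
  refine coh_of_exact R (LinearMap.inl R M M') (LinearMap.snd R M M') LinearMap.inl_injective
    LinearMap.snd_surjective ?_ h h'
  rw [LinearMap.range_inl]

theorem coh_pi (R : Type u) [CommRing R]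
    (hR : ∀ I : Ideal R, I.FG → Module.FinitePresentation R I) (n : ℕ) : Coh R (Fin n → R) := by
  induction n with
  | zero => exact coh_of_subsingleton R _
  | succ n ih =>
    have hRR : Coh R R := ⟨inferInstance, fun N hN => hR N hN⟩
    exact coh_of_equiv R (Fin.consLinearEquiv R (fun _ : Fin (n + 1) => R)) (coh_prod R hRR ih)

theorem S6366 (R : Type u) [CommRing R]
    (hR : ∀ I : Ideal R, I.FG → Module.FinitePresentation R I) (M : Type u) [AddCommGroup M] [Module R M] :
    (Module.Finite R M ∧ ∀ N : Submodule R M, N.FG → Module.FinitePresentation R N) ↔ Module.FinitePresentation R M := by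
  constructor
  · rintro ⟨hfin, hc⟩
    have := hc ⊤ Module.Finite.fg_top
    exact Module.FinitePresentation.of_equiv (Submodule.topEquiv (R := R) (M := M))
  · intro hfp
    refine ⟨inferInstance, fun N hN => ?_⟩
    obtain ⟨n, K, e, hK⟩ := Module.FinitePresentation.exists_fin R M
    set f : (Fin n → R) →ₗ[R] M := e.symm.toLinearMap ∘ₗ K.mkQ with hf
    have hfsurj : Function.Surjective f := e.symm.surjective.comp K.mkQ_surjective
    have hkerf : LinearMap.ker f = K := by
      rw [hf, LinearMap.ker_comp, LinearMap.ker_eq_bot.mpr e.symm.injective, Submodule.comap_bot,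
        Submodule.ker_mkQ]
    set N' : Submodule R (Fin n → R) := N.comap f with hN'
    have hN'fg : N'.FG := by
      apply Submodule.fg_of_fg_map_of_fg_inf_ker f
      · rw [Submodule.map_comap_eq_of_surjective hfsurj]; exact hN
      · have : LinearMap.ker f ≤ N' := by
          intro x hx
          show f x ∈ N
          rw [LinearMap.mem_ker.mp hx]; exact N.zero_mem
        rw [inf_eq_right.mpr this, hkerf]; exact hK
    have hfpN' : Module.FinitePresentation R N' := (coh_pi R hR n).2 N' hN'fg
    set l : N' →ₗ[R] N := f.restrict (fun x hx => hx) with hl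
    have hlsurj : Function.Surjective l := by
      rintro ⟨y, hy⟩
      obtain ⟨x, rfl⟩ := hfsurj y
      exact ⟨⟨x, hy⟩, rfl⟩
    refine Module.finitePresentation_of_surjective l hlsurj ?_
    apply Submodule.fg_of_fg_map_injective N'.subtype N'.injective_subtype
    have : (LinearMap.ker l).map N'.subtype = K := by
      ext x
      constructor
      · rintro ⟨⟨y, hy⟩, hyk, rfl⟩
        rw [← hkerf, LinearMap.mem_ker]
        have := congrArg (fun z : N => (z : M)) (LinearMap.mem_ker.mp hyk)
        exact this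
      · intro hx
        have hx' : f x = 0 := by rw [← LinearMap.mem_ker, hkerf]; exact hx
        refine ⟨⟨x, ?_⟩, ?_, rfl⟩
        · show f x ∈ N
          rw [hx']; exact N.zero_mem
        · show l ⟨x, _⟩ = 0
          apply Subtype.ext
          exact hx'
    rw [this]; exact hK

--START12
theorem S6379 (R : Type u) [CommRing R] (M : Type u)
    [AddCommGroup M] [Module R M] [Module.Flat R M] (hM : CAlg.IsMittagLeffler R M)
    (F : Type u) [AddCommGroup F] [Module R F] (x : F ⊗[R] M) :
    ∃ F' : Submodule R F, F'.FG ∧ x ∈ LinearMap.range (F'.subtype.rTensor M) ∧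
      ∀ F'' : Submodule R F, x ∈ LinearMap.range (F''.subtype.rTensor M) → F' ≤ F'' := by
  set ι := {F'' : Submodule R F // x ∈ LinearMap.range (F''.subtype.rTensor M)} with hι
  set φ : F →ₗ[R] (∀ i : ι, F ⧸ i.1) := LinearMap.pi (fun i => i.1.mkQ) with hφ
  set F' : Submodule R F := LinearMap.ker φ with hF'
  have hle : ∀ F'' : Submodule R F, x ∈ LinearMap.range (F''.subtype.rTensor M) → F' ≤ F'' := by
    intro F'' hx v hv
    have : φ v ⟨F'', hx⟩ = 0 := by rw [LinearMap.mem_ker.mp hv]; rfl
    exact (Submodule.Quotient.mk_eq_zero F'').mp this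
  set x' : M ⊗[R] F := TensorProduct.comm R F M x with hx'
  have h1 : TensorProduct.piRightHom R R M (fun i : ι => F ⧸ i.1) (φ.lTensor M x') = 0 := by
    funext i
    have e1 : ∀ z : M ⊗[R] F, TensorProduct.piRightHom R R M (fun i : ι => F ⧸ i.1) (φ.lTensor M z) i =
        i.1.mkQ.lTensor M z := by
      intro z
      induction z using TensorProduct.induction_on with
      | zero => simp
      | tmul m v => rfl
      | add a b ha hb => simp only [map_add, Pi.add_apply, ha, hb]
    rw [e1]
    obtain ⟨w, hw⟩ := i.2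
    have key : ∀ (G : Submodule R F) (w : G ⊗[R] M),
        G.mkQ.lTensor M (TensorProduct.comm R F M (G.subtype.rTensor M w)) = 0 := by
      intro G w
      induction w using TensorProduct.induction_on with
      | zero => simp
      | tmul v m =>
        simp only [LinearMap.rTensor_tmul, Submodule.subtype_apply, TensorProduct.comm_tmul,
          LinearMap.lTensor_tmul, Submodule.mkQ_apply]
        rw [(Submodule.Quotient.mk_eq_zero G).mpr v.2, TensorProduct.tmul_zero]
      | add a b ha hb => simp only [map_add, ha, hb, add_zero]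
    have := key i.1 w
    rw [hw] at this
    exact this
  have h2 : φ.lTensor M x' = 0 := (injective_iff_map_eq_zero _).mp (hM ι _) _ h1
  have hex : Function.Exact F'.subtype φ := LinearMap.exact_subtype_ker_map φ
  obtain ⟨w, hw⟩ := (Module.Flat.lTensor_exact M hex _).mp h2
  have hxmem : x ∈ LinearMap.range (F'.subtype.rTensor M) := by
    refine ⟨TensorProduct.comm R M F' w, ?_⟩
    have key2 : ∀ w : M ⊗[R] F', F'.subtype.rTensor M (TensorProduct.comm R M F' w) =
        (TensorProduct.comm R F M).symm (F'.subtype.lTensor M w) := by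
      intro w
      induction w using TensorProduct.induction_on with
      | zero => simp
      | tmul m v => simp
      | add a b ha hb => simp only [map_add, ha, hb]
    rw [key2, hw, hx']
    simp
  refine ⟨F', ?_, hxmem, hle⟩
  obtain ⟨w', hw'⟩ := hxmem
  obtain ⟨J, hJfg, hJle, y, hy⟩ := Submodule.exists_fg_le_eq_rTensor_inclusion w'
  have hxJ : x ∈ LinearMap.range (J.subtype.rTensor M) := by
    refine ⟨y, ?_⟩
    rw [← hw', hy, ← LinearMap.comp_apply, ← LinearMap.rTensor_comp]
    rfl
  have : F' = J := le_antisymm (hle J hxJ) hJle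
  rw [this]; exact hJfg

--START13
theorem S6368 (R S : Type u) [CommRing R] [CommRing S] [Algebra R S]
    [Module.FaithfullyFlat R S] (M : Type u) [AddCommGroup M] [Module R M]
    (h : CAlg.IsCountablyGenerated S (S ⊗[R] M)) : CAlg.IsCountablyGenerated R M := by
  obtain ⟨s, hs, hspan⟩ := h
  -- for each y, a finite set of elements of M
  have hrep : ∀ y : S ⊗[R] M, ∃ t : Finset M, ∀ M' : Submodule R M, (↑t : Set M) ⊆ M' →
      y ∈ LinearMap.range (M'.subtype.lTensor S) := by
    intro y
    obtain ⟨n, a, m, rfl⟩ := exists_fin_sum_tmul y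
    classical
    refine ⟨Finset.univ.image m, fun M' hM' => ?_⟩
    have hm : ∀ k, m k ∈ M' := fun k => hM' (by simp)
    refine ⟨∑ k, a k ⊗ₜ[R] (⟨m k, hm k⟩ : M'), ?_⟩
    rw [map_sum]
    rfl
  choose t ht using hrep
  set T : Set M := ⋃ y ∈ s, (↑(t y) : Set M) with hT
  have hTc : T.Countable := hs.biUnion (fun y _ => (t y).countable_toSet)
  refine ⟨T, hTc, ?_⟩
  set M' := Submodule.span R T with hM'
  have hsurj : Function.Surjective (M'.subtype.lTensor S) := by
    have hrange : ∀ y ∈ s, y ∈ LinearMap.range (M'.subtype.baseChange S) := by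
      intro y hy
      obtain ⟨w, hw⟩ := ht y M' (fun z hz => Submodule.subset_span (Set.mem_biUnion hy hz))
      exact ⟨w, by rw [← hw]; rfl⟩
    have htop : LinearMap.range (M'.subtype.baseChange S) = ⊤ := by
      rw [eq_top_iff, ← hspan, Submodule.span_le]
      exact hrange
    intro y
    have : y ∈ LinearMap.range (M'.subtype.baseChange S) := by rw [htop]; trivial
    obtain ⟨w, hw⟩ := this
    exact ⟨w, by rw [← hw]; rfl⟩
  have := (Module.FaithfullyFlat.lTensor_surjective_iff_surjective R S M'.subtype).mp hsurj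
  rw [← LinearMap.range_eq_top, Submodule.range_subtype] at this
  exact this

theorem S6346 (R : Type u) [CommRing R] (M : Type u)
    [AddCommGroup M] [Module R M] [Module.Flat R M] :
    CAlg.IsMittagLeffler R M ↔
      ∀ (n : ℕ) (x : (Fin n → R) ⊗[R] M), ∃ F' : Submodule R (Fin n → R),
        x ∈ LinearMap.range (F'.subtype.rTensor M) ∧
        ∀ F'' : Submodule R (Fin n → R), x ∈ LinearMap.range (F''.subtype.rTensor M) → F' ≤ F'' := by
  constructor
  · intro hM n x
    obtain ⟨F', _, h1, h2⟩ := S6379 R M hM (Fin n → R) x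
    exact ⟨F', h1, h2⟩
  · intro h ι Q _ _
    classical
    rw [injective_iff_map_eq_zero]
    intro x hx
    obtain ⟨n, m, q, rfl⟩ := exists_fin_sum_tmul x
    -- y = Σ e_k ⊗ m_k
    set y : (Fin n → R) ⊗[R] M := ∑ k, (Pi.single k (1 : R) : Fin n → R) ⊗ₜ[R] m k with hy
    obtain ⟨F', hyF', hmin⟩ := h n y
    -- the maps φ_α and φ
    set φ : (Fin n → R) →ₗ[R] (∀ i, Q i) := Fintype.linearCombination R q with hφ
    have hφy : ∀ (P : Type u) [AddCommGroup P] [Module R P] (ψ : (Fin n → R) →ₗ[R] P),
        ψ.rTensor M y = ∑ k, ψ (Pi.single k 1) ⊗ₜ[R] m k := by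
      intro P _ _ ψ
      rw [hy, map_sum]
      rfl
    -- each component
    have hcomp : ∀ i : ι, F' ≤ LinearMap.ker ((LinearMap.proj i : (∀ i, Q i) →ₗ[R] Q i) ∘ₗ φ) := by
      intro i
      apply hmin
      have hzero : ((LinearMap.proj i : (∀ i, Q i) →ₗ[R] Q i) ∘ₗ φ).rTensor M y = 0 := by
        rw [hφy]
        have := congrFun hx i
        rw [map_sum] at this
        simp only [TensorProduct.piRightHom_tmul, Finset.sum_apply, Pi.zero_apply] at this
        have e := congrArg (TensorProduct.comm R M (Q i)) this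
        rw [map_sum, map_zero] at e
        simp only [TensorProduct.comm_tmul] at e
        rw [← e]
        refine Finset.sum_congr rfl fun k _ => ?_
        simp [hφ]
      exact (Module.Flat.rTensor_exact M (LinearMap.exact_subtype_ker_map _) y).mp hzero
    have hF'φ : F' ≤ LinearMap.ker φ := by
      intro v hv
      rw [LinearMap.mem_ker]
      funext i
      exact LinearMap.mem_ker.mp (hcomp i hv)
    obtain ⟨w, hw⟩ := hyF'
    have h3 : φ.rTensor M y = 0 := by
      rw [← hw, ← LinearMap.comp_apply, ← LinearMap.rTensor_comp]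
      have : φ ∘ₗ F'.subtype = 0 := by
        apply LinearMap.ext
        intro v
        exact LinearMap.mem_ker.mp (hF'φ v.2)
      rw [this]; simp
    rw [hφy] at h3
    have e := congrArg (TensorProduct.comm R (∀ i, Q i) M) h3
    rw [map_sum, map_zero] at e
    simp only [TensorProduct.comm_tmul] at e
    rw [← e]
    refine Finset.sum_congr rfl fun k _ => ?_
    simp [hφ]

--START14
section FP

variable {R : Type u} [CommRing R]

theorem isML_of_equiv {M M' : Type u} [AddCommGroup M] [Module R M] [AddCommGroup M'] [Module R M']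
    (e : M ≃ₗ[R] M') (h : CAlg.IsMittagLeffler R M) : CAlg.IsMittagLeffler R M' :=
  isML_of_universallyInjective e.symm.toLinearMap
    (universallyInjective_of_leftInverse _ e.toLinearMap (by ext x; simp)) h

theorem isML_self : CAlg.IsMittagLeffler R R := by
  intro ι Q _ _
  rw [injective_iff_map_eq_zero]
  intro x hx
  obtain ⟨q, rfl⟩ : ∃ q : (∀ i, Q i), x = (1 : R) ⊗ₜ[R] q := by
    refine ⟨TensorProduct.lid R _ x, ?_⟩
    rw [← TensorProduct.lid_symm_apply, LinearEquiv.symm_apply_apply]
  have hq : q = 0 := by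
    funext i
    have := congrArg (TensorProduct.lid R (Q i)) (congrFun hx i)
    simpa using this
  rw [hq, TensorProduct.tmul_zero]

theorem isML_prod {M M' : Type u} [AddCommGroup M] [Module R M] [AddCommGroup M'] [Module R M']
    (h : CAlg.IsMittagLeffler R M) (h' : CAlg.IsMittagLeffler R M') :
    CAlg.IsMittagLeffler R (M × M') := by
  refine S6339 R (LinearMap.inl R M M') (LinearMap.snd R M M')
    (universallyInjective_of_leftInverse _ (LinearMap.fst R M M') (by ext x; simp))
    LinearMap.snd_surjective ?_ h h'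
  rw [LinearMap.range_inl]

theorem isML_of_subsingleton (M : Type u) [AddCommGroup M] [Module R M] [Subsingleton M] :
    CAlg.IsMittagLeffler R M := by
  intro ι Q _ _ a b _
  exact Subsingleton.elim a b

theorem isML_pi_fin (n : ℕ) : CAlg.IsMittagLeffler R (Fin n → R) := by
  induction n with
  | zero => exact isML_of_subsingleton _
  | succ n ih =>
    exact isML_of_equiv (Fin.consLinearEquiv R (fun _ : Fin (n + 1) => R)) (isML_prod isML_self ih)

theorem isML_of_finitePresentation (M : Type u) [AddCommGroup M] [Module R M]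
    [Module.FinitePresentation R M] : CAlg.IsMittagLeffler R M := by
  obtain ⟨n, K, e, hK⟩ := Module.FinitePresentation.exists_fin R M
  exact isML_of_equiv e.symm (S6340 R K hK (isML_pi_fin n))

theorem piRightHom_bijective_of_finitePresentation (M : Type u) [AddCommGroup M] [Module R M]
    [Module.FinitePresentation R M] {ι : Type u} (Q : ι → Type u) [∀ i, AddCommGroup (Q i)]
    [∀ i, Module R (Q i)] : Function.Bijective (TensorProduct.piRightHom R R M Q) :=
  ⟨isML_of_finitePresentation M ι Q, piRightHom_surjective_of_finite Q⟩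

end FP

/-- restriction of scalars for Mittag-Leffler modules, assuming the comparison maps for `S` stay
injective after tensoring with `M` over `S`. -/
theorem isML_restrictScalars_aux (R S : Type u) [CommRing R] [CommRing S] [Algebra R S]
    (M : Type u) [AddCommGroup M] [Module S M] [Module R M] [IsScalarTower R S M]
    (hS : ∀ (ι : Type u) (Q : ι → Type u) [∀ i, AddCommGroup (Q i)] [∀ i, Module R (Q i)],
      Function.Injective ((TensorProduct.piRightHom R S S Q).lTensor M))
    (hM : CAlg.IsMittagLeffler S M) :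
    CAlg.IsMittagLeffler R M := by
  intro ι Q _ _
  set g : S ⊗[R] (∀ i, Q i) →ₗ[S] ∀ i, S ⊗[R] Q i := TensorProduct.piRightHom R S S Q with hg
  have hlinj : Function.Injective (g.lTensor M) := hS ι Q
  have key : ∀ (x : M ⊗[R] (∀ i, Q i)) (i : ι),
      TensorProduct.AlgebraTensorModule.cancelBaseChange R S S M (Q i)
        (TensorProduct.piRightHom S S M (fun i => S ⊗[R] Q i)
          (g.lTensor M ((TensorProduct.AlgebraTensorModule.cancelBaseChange R S S M (∀ i, Q i)).symm x)) i) =
        TensorProduct.piRightHom R R M Q x i := by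
    intro x i
    induction x using TensorProduct.induction_on with
    | zero => simp
    | add a b ha hb => simp only [map_add, Pi.add_apply, ha, hb]
    | tmul m q =>
      rw [TensorProduct.AlgebraTensorModule.cancelBaseChange_symm_tmul, LinearMap.lTensor_tmul]
      simp [hg]
  rw [injective_iff_map_eq_zero]
  intro x hx
  have h2 : TensorProduct.piRightHom S S M (fun i => S ⊗[R] Q i)
      (g.lTensor M ((TensorProduct.AlgebraTensorModule.cancelBaseChange R S S M (∀ i, Q i)).symm x)) = 0 := by
    funext i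
    apply (TensorProduct.AlgebraTensorModule.cancelBaseChange R S S M (Q i)).injective
    rw [key, hx]
    simp
  have h3 := (injective_iff_map_eq_zero _).mp (hM ι (fun i => S ⊗[R] Q i)) _ h2
  have h4 := (injective_iff_map_eq_zero _).mp hlinj _ h3
  exact (LinearEquiv.map_eq_zero_iff _).mp h4

theorem piRightHom_tower_eq (R S : Type u) [CommRing R] [CommRing S] [Algebra R S]
    {ι : Type u} (Q : ι → Type u) [∀ i, AddCommGroup (Q i)] [∀ i, Module R (Q i)]
    (y : S ⊗[R] (∀ i, Q i)) :
    TensorProduct.piRightHom R S S Q y = TensorProduct.piRightHom R R S Q y := by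
  induction y using TensorProduct.induction_on with
  | zero => simp
  | tmul s q => rfl
  | add a b ha hb => rw [map_add, map_add, ha, hb]

theorem isML_restrictScalars_of_fp (R S : Type u) [CommRing R] [CommRing S] [Algebra R S]
    [Module.FinitePresentation R S]
    (M : Type u) [AddCommGroup M] [Module S M] [Module R M] [IsScalarTower R S M]
    (hM : CAlg.IsMittagLeffler S M) : CAlg.IsMittagLeffler R M := by
  refine isML_restrictScalars_aux R S M ?_ hM
  intro ι Q _ _
  have hbij : Function.Bijective (TensorProduct.piRightHom R S S Q) := by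
    have := piRightHom_bijective_of_finitePresentation (R := R) S Q
    constructor
    · intro a b hab
      rw [piRightHom_tower_eq, piRightHom_tower_eq] at hab
      exact this.1 hab
    · intro z
      obtain ⟨y, hy⟩ := this.2 z
      exact ⟨y, by rw [piRightHom_tower_eq, hy]⟩
  exact ((LinearEquiv.ofBijective _ hbij).lTensor M).injective

theorem S6344 (R S : Type u) [CommRing R] [CommRing S]
    [Algebra R S] [Module.Finite R S] [Algebra.FinitePresentation R S]
    (M : Type u) [AddCommGroup M] [Module S M] [Module R M] [IsScalarTower R S M]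
    (hM : CAlg.IsMittagLeffler S M) : CAlg.IsMittagLeffler R M := by
  have : Module.FinitePresentation R S := Module.FinitePresentation.of_finite_of_finitePresentation R S
  exact isML_restrictScalars_of_fp R S M hM

--START15
theorem S6345 (R : Type u) [CommRing R] (I : Ideal R) (hI : I.FG)
    (M : Type u) [AddCommGroup M] [Module (R ⧸ I) M] [Module R M] [IsScalarTower R (R ⧸ I) M] :
    CAlg.IsMittagLeffler R M ↔ CAlg.IsMittagLeffler (R ⧸ I) M := by
  constructor
  · intro hM ι Q _ _
    let _ : ∀ i, Module R (Q i) := fun i => Module.compHom (Q i) (algebraMap R (R ⧸ I))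
    have : ∀ i, IsScalarTower R (R ⧸ I) (Q i) :=
      fun i => IsScalarTower.of_algebraMap_smul (fun r x => rfl)
    have hcompat : ∀ (P : Type u) [AddCommGroup P] [Module R P] [Module (R ⧸ I) P]
        [IsScalarTower R (R ⧸ I) P], TensorProduct.CompatibleSMul R (R ⧸ I) M P := by
      intro P _ _ _ _
      refine ⟨fun s m p => ?_⟩
      obtain ⟨r, rfl⟩ := Ideal.Quotient.mk_surjective s
      rw [← Ideal.Quotient.algebraMap_eq, algebraMap_smul, algebraMap_smul, TensorProduct.smul_tmul]
    have := hcompat (∀ i, Q i)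
    have hc2 : ∀ i, TensorProduct.CompatibleSMul R (R ⧸ I) M (Q i) := fun i => hcompat (Q i)
    -- θ : M ⊗[R] P → M ⊗[R/I] P
    rw [injective_iff_map_eq_zero]
    intro y hy
    obtain ⟨x, rfl⟩ := (TensorProduct.equivOfCompatibleSMul (R ⧸ I) R R M (∀ i, Q i)).surjective y
    have key : ∀ (x : M ⊗[R] (∀ i, Q i)) (i : ι),
        TensorProduct.piRightHom (R ⧸ I) (R ⧸ I) M Q
          (TensorProduct.equivOfCompatibleSMul (R ⧸ I) R R M (∀ i, Q i) x) i =
        TensorProduct.equivOfCompatibleSMul (R ⧸ I) R R M (Q i)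
          (TensorProduct.piRightHom R R M Q x i) := by
      intro x i
      induction x using TensorProduct.induction_on with
      | zero => simp
      | add a b ha hb => simp only [map_add, Pi.add_apply, ha, hb]
      | tmul m q => rfl
    have h1 : TensorProduct.piRightHom R R M Q x = 0 := by
      funext i
      apply (TensorProduct.equivOfCompatibleSMul (R ⧸ I) R R M (Q i)).injective
      rw [← key, hy]
      simp
    rw [(injective_iff_map_eq_zero _).mp (hM ι Q) _ h1, map_zero]
  · intro hM
    have : Module.FinitePresentation R (R ⧸ I) :=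
      Module.finitePresentation_of_surjective (Submodule.mkQ I) (Submodule.mkQ_surjective I)
        (by rwa [Submodule.ker_mkQ])
    exact isML_restrictScalars_of_fp R (R ⧸ I) M hM

--START16
section Pure

variable {R : Type u} [CommRing R]

theorem injective_of_universallyInjective {A B : Type u} [AddCommGroup A] [Module R A]
    [AddCommGroup B] [Module R B] (j : A →ₗ[R] B) (hj : CAlgX.UniversallyInjective R j) :
    Function.Injective j := by
  intro a a' h
  have := hj R (a₁ := a ⊗ₜ[R] (1 : R)) (a₂ := a' ⊗ₜ[R] (1 : R)) (by simp [h])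
  simpa using congrArg (TensorProduct.rid R A) this

/-- A pure (universally injective) submodule: finite linear systems with constants in `A` solvable in
`B` are solvable in `A`. -/
theorem exists_solution_of_universallyInjective {A B : Type u} [AddCommGroup A] [Module R A]
    [AddCommGroup B] [Module R B] (j : A →ₗ[R] B) (hj : CAlgX.UniversallyInjective R j)
    {n s : ℕ} (a : Fin n → Fin s → R) (t : Fin s → A) (b : Fin n → B)
    (hb : ∀ l, ∑ i, a i l • b i = j (t l)) :
    ∃ u : Fin n → A, ∀ l, ∑ i, a i l • u i = t l := by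
  classical
  set K : Submodule R (Fin s → R) := Submodule.span R (Set.range a) with hK
  set ε : Fin s → (Fin s → R) ⧸ K := fun l => K.mkQ (Pi.single l 1) with hε
  have hεspan : Submodule.span R (Set.range ε) = ⊤ := by
    rw [eq_top_iff]
    rintro x -
    obtain ⟨v, rfl⟩ := K.mkQ_surjective x
    have : v = ∑ l, v l • (Pi.single l (1 : R) : Fin s → R) := by
      funext l'
      simp [Finset.sum_apply, Pi.single_apply, Finset.sum_ite_eq]
    rw [this, map_sum]
    refine Submodule.sum_mem _ fun l _ => ?_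
    rw [map_smul]
    exact Submodule.smul_mem _ _ (Submodule.subset_span ⟨l, rfl⟩)
  -- the tensor Σ ε_l ⊗ t_l vanishes in Q ⊗ A
  have hzero : ∑ l, ε l ⊗ₜ[R] t l = (0 : ((Fin s → R) ⧸ K) ⊗[R] A) := by
    have h1 : j.lTensor ((Fin s → R) ⧸ K) (∑ l, ε l ⊗ₜ[R] t l) = 0 := by
      rw [map_sum]
      simp only [LinearMap.lTensor_tmul, ← hb, TensorProduct.tmul_sum, TensorProduct.tmul_smul]
      rw [Finset.sum_comm]
      refine Finset.sum_eq_zero fun i _ => ?_
      simp_rw [TensorProduct.smul_tmul', ← TensorProduct.sum_tmul, hε, ← map_smul, ← map_sum]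
      have : (∑ l, a i l • (Pi.single l (1 : R) : Fin s → R)) ∈ K := by
        have e2 : (∑ l, a i l • (Pi.single l (1 : R) : Fin s → R)) = a i := by
          funext l'
          simp [Finset.sum_apply, Pi.single_apply, Finset.sum_ite_eq]
        rw [e2]
        exact Submodule.subset_span ⟨i, rfl⟩
      rw [Submodule.mkQ_apply, (Submodule.Quotient.mk_eq_zero K).mpr this, TensorProduct.zero_tmul]
    have h2 : Function.Injective (j.lTensor ((Fin s → R) ⧸ K)) := by
      have := hj ((Fin s → R) ⧸ K)
      intro x y hxy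
      apply (TensorProduct.comm R _ _).injective
      apply this
      have e : ∀ z, j.rTensor ((Fin s → R) ⧸ K) (TensorProduct.comm R _ _ z) =
          TensorProduct.comm R _ _ (j.lTensor ((Fin s → R) ⧸ K) z) := by
        intro z
        induction z using TensorProduct.induction_on with
        | zero => simp
        | tmul p q => simp
        | add p q hp hq => simp only [map_add, hp, hq]
      rw [e, e, hxy]
    exact h2 (by rw [h1, map_zero])
  obtain ⟨kk, c, y, h1, h2⟩ := TensorProduct.vanishesTrivially_of_sum_tmul_eq_zero R hεspan hzero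
  -- each column of c lies in K
  have hcK : ∀ jj : Fin kk, (fun l => c l jj) ∈ K := by
    intro jj
    have := h2 jj
    simp only [hε, ← map_smul, ← map_sum] at this
    have h3 := (Submodule.Quotient.mk_eq_zero K).mp this
    have e2 : (∑ l, c l jj • (Pi.single l (1 : R) : Fin s → R)) = fun l => c l jj := by
      funext l'
      simp [Finset.sum_apply, Pi.single_apply, Finset.sum_ite_eq]
    rwa [e2] at h3
  have hd : ∀ jj : Fin kk, ∃ d : Fin n → R, ∑ i, d i • a i = fun l => c l jj := by
    intro jj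
    exact (Submodule.mem_span_range_iff_exists_fun R).mp (hcK jj)
  choose d hd using hd
  refine ⟨fun i => ∑ jj, d jj i • y jj, fun l => ?_⟩
  rw [h1 l]
  simp_rw [Finset.smul_sum, smul_smul]
  rw [Finset.sum_comm]
  refine Finset.sum_congr rfl fun jj _ => ?_
  rw [← Finset.sum_smul]
  congr 1
  have := congrFun (hd jj) l
  simp only [Finset.sum_apply, Pi.smul_apply, smul_eq_mul] at this
  rw [← this]
  refine Finset.sum_congr rfl fun i _ => ?_
  ring

/-- A universally injective map whose cokernel is finitely presented has a retraction. -/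
theorem exists_retraction_of_universallyInjective {A B C : Type u} [AddCommGroup A] [Module R A]
    [AddCommGroup B] [Module R B] [AddCommGroup C] [Module R C] [Module.FinitePresentation R C]
    (j : A →ₗ[R] B) (hj : CAlgX.UniversallyInjective R j) (π : B →ₗ[R] C)
    (hπ : Function.Surjective π) (hex : LinearMap.range j = LinearMap.ker π) :
    ∃ r : B →ₗ[R] A, r ∘ₗ j = LinearMap.id := by
  classical
  have hjinj := injective_of_universallyInjective j hj
  obtain ⟨n, K, e, hK⟩ := Module.FinitePresentation.exists_fin R C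
  set ψ : (Fin n → R) →ₗ[R] C := e.symm.toLinearMap ∘ₗ K.mkQ with hψ
  have hkerψ : LinearMap.ker ψ = K := by
    rw [hψ, LinearMap.ker_comp, LinearMap.ker_eq_bot.mpr e.symm.injective, Submodule.comap_bot,
      Submodule.ker_mkQ]
  obtain ⟨ψ', hψ'⟩ := Module.projective_lifting_property π ψ hπ
  obtain ⟨s, g, hg⟩ := Submodule.fg_iff_exists_fin_generating_family.mp hK
  have hgK : ∀ l, g l ∈ K := fun l => by rw [← hg]; exact Submodule.subset_span ⟨l, rfl⟩
  have ht : ∀ l, ∃ t : A, j t = ψ' (g l) := by
    intro l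
    have : ψ' (g l) ∈ LinearMap.range j := by
      rw [hex, LinearMap.mem_ker, ← LinearMap.comp_apply, hψ', ← LinearMap.mem_ker, hkerψ]
      exact hgK l
    exact this
  choose t ht using ht
  have hsys : ∀ l, ∑ i, (g l i) • ψ' (Pi.single i 1) = j (t l) := by
    intro l
    rw [ht l]
    conv_rhs => rw [show g l = ∑ i, g l i • (Pi.single i (1 : R) : Fin n → R) from by
      funext i'
      simp [Finset.sum_apply, Pi.single_apply, Finset.sum_ite_eq]]
    rw [map_sum]
    simp_rw [map_smul]
  obtain ⟨u, hu⟩ := exists_solution_of_universallyInjective j hj (fun i l => g l i) t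
    (fun i => ψ' (Pi.single i 1)) hsys
  set δ : (Fin n → R) →ₗ[R] A := Fintype.linearCombination R u with hδ
  set ψ'' : (Fin n → R) →ₗ[R] B := ψ' - j ∘ₗ δ with hψ''
  have hKle : K ≤ LinearMap.ker ψ'' := by
    rw [← hg, Submodule.span_le]
    rintro _ ⟨l, rfl⟩
    show ψ'' (g l) = 0
    rw [hψ'', LinearMap.sub_apply, LinearMap.comp_apply, hδ, Fintype.linearCombination_apply, hu l,
      ht l, sub_self]
  have hπψ'' : π ∘ₗ ψ'' = ψ := by
    rw [hψ'', LinearMap.comp_sub, hψ', ← LinearMap.comp_assoc]
    have : π ∘ₗ j = 0 := by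
      apply LinearMap.ext; intro a
      have : j a ∈ LinearMap.ker π := by rw [← hex]; exact ⟨a, rfl⟩
      exact this
    rw [this, LinearMap.zero_comp, sub_zero]
  set σ : C →ₗ[R] B := K.liftQ ψ'' hKle ∘ₗ e.toLinearMap with hσ
  have hπσ : ∀ c, π (σ c) = c := by
    intro c
    obtain ⟨v, hv⟩ := K.mkQ_surjective (e c)
    rw [hσ, LinearMap.comp_apply, LinearEquiv.coe_coe, ← hv, Submodule.mkQ_apply, Submodule.liftQ_apply,
      ← LinearMap.comp_apply, hπψ'', hψ, LinearMap.comp_apply, hv]
    simp
  have hmem : ∀ b, ((LinearMap.id : B →ₗ[R] B) - σ ∘ₗ π) b ∈ LinearMap.range j := by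
    intro b
    rw [hex, LinearMap.mem_ker, LinearMap.sub_apply, map_sub, LinearMap.comp_apply, hπσ]
    simp
  refine ⟨(LinearEquiv.ofInjective j hjinj).symm.toLinearMap ∘ₗ
    ((LinearMap.id : B →ₗ[R] B) - σ ∘ₗ π).codRestrict (LinearMap.range j) hmem, ?_⟩
  apply LinearMap.ext
  intro a
  rw [LinearMap.comp_apply, LinearMap.comp_apply, LinearEquiv.coe_coe, LinearEquiv.symm_apply_eq]
  apply Subtype.ext
  have : π (j a) = 0 := by
    have : j a ∈ LinearMap.ker π := by rw [← hex]; exact ⟨a, rfl⟩
    exact this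
  simp [this]

end Pure

--START17
theorem S6359 (R : Type u) [CommRing R] {M N M' : Type u}
    [AddCommGroup M] [Module R M] [AddCommGroup N] [Module R N] [AddCommGroup M'] [Module R M']
    (f : M →ₗ[R] N) (g : M →ₗ[R] M') [Module.FinitePresentation R (N ⧸ LinearMap.range f)] :
    (∀ (Q : Type u) [AddCommGroup Q] [Module R Q], LinearMap.ker (f.rTensor Q) ≤ LinearMap.ker (g.rTensor Q)) ↔
      ∃ h : N →ₗ[R] M', g = h ∘ₗ f := by
  constructor
  · intro hdom
    set W := LinearMap.range (g.prod (-f)) with hW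
    set j : M' →ₗ[R] (M' × N) ⧸ W := W.mkQ ∘ₗ LinearMap.inl R M' N with hj
    have hjui : CAlgX.UniversallyInjective R j := (S6388 R f g).mp hdom
    -- π : N' → N / range f
    have hWle : W ≤ LinearMap.ker ((LinearMap.range f).mkQ ∘ₗ LinearMap.snd R M' N) := by
      rintro _ ⟨x, rfl⟩
      rw [LinearMap.mem_ker, LinearMap.comp_apply]
      simp
    set π : (M' × N) ⧸ W →ₗ[R] N ⧸ LinearMap.range f := W.liftQ _ hWle with hπ
    have hπsurj : Function.Surjective π := by
      intro c
      obtain ⟨n, rfl⟩ := (LinearMap.range f).mkQ_surjective c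
      exact ⟨W.mkQ (0, n), by simp [hπ]⟩
    have hrel : ∀ x : M, W.mkQ (g x, 0) = W.mkQ (0, f x) := by
      intro x
      rw [← sub_eq_zero, ← map_sub, Submodule.mkQ_apply, Submodule.Quotient.mk_eq_zero]
      exact ⟨x, by simp⟩
    have hex : LinearMap.range j = LinearMap.ker π := by
      ext z
      constructor
      · rintro ⟨m', rfl⟩
        simp [hj, hπ]
      · intro hz
        obtain ⟨⟨m', n⟩, rfl⟩ := W.mkQ_surjective z
        have hn : n ∈ LinearMap.range f := by
          have := LinearMap.mem_ker.mp hz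
          simpa [hπ] using this
        obtain ⟨x, rfl⟩ := hn
        refine ⟨m' + g x, ?_⟩
        rw [hj, LinearMap.comp_apply, LinearMap.inl_apply]
        have e1 : ((m' + g x, 0) : M' × N) = (m', 0) + (g x, 0) := by simp
        have e2 : ((m', f x) : M' × N) = (m', 0) + (0, f x) := by simp
        rw [e1, e2, map_add, map_add, hrel]
    obtain ⟨r, hr⟩ := exists_retraction_of_universallyInjective j hjui π hπsurj hex
    refine ⟨r ∘ₗ W.mkQ ∘ₗ LinearMap.inr R M' N, ?_⟩
    apply LinearMap.ext
    intro x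
    rw [LinearMap.comp_apply, LinearMap.comp_apply, LinearMap.comp_apply, LinearMap.inr_apply, ← hrel]
    have := congrArg (fun φ => φ (g x)) hr
    simpa [hj] using this.symm
  · rintro ⟨h, rfl⟩ Q _ _ x hx
    rw [LinearMap.mem_ker] at hx ⊢
    rw [LinearMap.rTensor_comp, LinearMap.comp_apply, hx, map_zero]

--START18
section Dom

variable {R : Type u} [CommRing R]

theorem ker_rTensor_congr_equiv {P M N N' : Type u} [AddCommGroup P] [Module R P] [AddCommGroup M]
    [Module R M] [AddCommGroup N] [Module R N] [AddCommGroup N'] [Module R N']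
    (f : P →ₗ[R] M) (e : N ≃ₗ[R] N') (x : P ⊗[R] N) :
    f.rTensor N' (e.toLinearMap.lTensor P x) = e.toLinearMap.lTensor M (f.rTensor N x) := by
  rw [← LinearMap.comp_apply, ← LinearMap.comp_apply, LinearMap.rTensor_comp_lTensor,
    LinearMap.lTensor_comp_rTensor]

/-- index type: all quotients of finite free modules together with a tensor killed by `f` -/
def DomIdx {P M : Type u} [AddCommGroup P] [Module R P] [AddCommGroup M] [Module R M]
    (f : P →ₗ[R] M) : Type u :=
  Σ (n : ℕ) (K : Submodule R (Fin n → R)),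
    {x : P ⊗[R] ((Fin n → R) ⧸ K) // f.rTensor ((Fin n → R) ⧸ K) x = 0}

def DomQ {P M : Type u} [AddCommGroup P] [Module R P] [AddCommGroup M] [Module R M]
    (f : P →ₗ[R] M) (α : DomIdx f) : Type u := (Fin α.1 → R) ⧸ α.2.1

instance {P M : Type u} [AddCommGroup P] [Module R P] [AddCommGroup M] [Module R M]
    (f : P →ₗ[R] M) (α : DomIdx f) : AddCommGroup (DomQ f α) :=
  inferInstanceAs (AddCommGroup ((Fin α.1 → R) ⧸ α.2.1))

instance {P M : Type u} [AddCommGroup P] [Module R P] [AddCommGroup M] [Module R M]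
    (f : P →ₗ[R] M) (α : DomIdx f) : Module R (DomQ f α) :=
  inferInstanceAs (Module R ((Fin α.1 → R) ⧸ α.2.1))

def domX {P M : Type u} [AddCommGroup P] [Module R P] [AddCommGroup M] [Module R M]
    (f : P →ₗ[R] M) (α : DomIdx f) : P ⊗[R] DomQ f α := α.2.2.1

theorem domX_spec {P M : Type u} [AddCommGroup P] [Module R P] [AddCommGroup M] [Module R M]
    (f : P →ₗ[R] M) (α : DomIdx f) : f.rTensor (DomQ f α) (domX f α) = 0 := α.2.2.2

/-- Mittag-Leffler ⇒ every map from a finitely presented module is mutually dominated by a map to a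
finitely presented module. -/
theorem exists_dominating_of_isML {M : Type u} [AddCommGroup M] [Module R M]
    (hM : CAlg.IsMittagLeffler R M) {P : Type u} [AddCommGroup P] [Module R P]
    [Module.FinitePresentation R P] (f : P →ₗ[R] M) :
    ∃ (Q : Type u) (_ : AddCommGroup Q) (_ : Module R Q) (_ : Module.FinitePresentation R Q) (g : P →ₗ[R] Q),
      ∀ (N : Type u) [AddCommGroup N] [Module R N],
        LinearMap.ker (f.rTensor N) = LinearMap.ker (g.rTensor N) := by
  set ι := DomIdx f
  set Q := DomQ f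
  set xfam := domX f
  obtain ⟨X, hX⟩ := (piRightHom_bijective_of_finitePresentation P Q).2 xfam
  have hfX : f.rTensor (∀ α, Q α) X = 0 := by
    apply hM ι Q
    rw [map_zero]
    funext α
    rw [piRightHom_rTensor, hX]
    exact domX_spec f α
  obtain ⟨P', _, _, hP', f', h, hfac, hf'X⟩ := S6380 R f X hfX
  have hkill : ∀ α : ι, f'.rTensor (Q α) (xfam α) = 0 := by
    intro α
    have := piRightHom_rTensor Q f' X α
    rw [hX, hf'X, map_zero] at this
    exact this.symm
  refine ⟨P', inferInstance, inferInstance, hP', f', ?_⟩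
  have hle1 : ∀ (N : Type u) [AddCommGroup N] [Module R N],
      LinearMap.ker (f'.rTensor N) ≤ LinearMap.ker (f.rTensor N) := by
    intro N _ _ x hx
    rw [LinearMap.mem_ker] at hx ⊢
    rw [hfac, LinearMap.rTensor_comp, LinearMap.comp_apply, hx, map_zero]
  have hle2 : ∀ (N : Type u) [AddCommGroup N] [Module R N],
      LinearMap.ker (f.rTensor N) ≤ LinearMap.ker (f'.rTensor N) := by
    rw [S6360]
    intro N _ _ hN x hx
    obtain ⟨n, K, e, _⟩ := Module.FinitePresentation.exists_fin R N
    rw [LinearMap.mem_ker] at hx ⊢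
    have h1 : f.rTensor ((Fin n → R) ⧸ K) (e.toLinearMap.lTensor P x) = 0 := by
      rw [ker_rTensor_congr_equiv, hx, map_zero]
    have h3 : f'.rTensor ((Fin n → R) ⧸ K) (e.toLinearMap.lTensor P x) = 0 :=
      hkill ⟨n, K, ⟨e.toLinearMap.lTensor P x, h1⟩⟩
    rw [ker_rTensor_congr_equiv] at h3
    have hinj : Function.Injective (e.toLinearMap.lTensor P') :=
      (LinearEquiv.lTensor P' e).injective
    exact hinj (by rw [h3, map_zero])
  intro N _ _
  exact le_antisymm (hle2 N) (hle1 N)

/-- Conversely, domination of maps from finite free modules implies Mittag-Leffler. -/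
theorem isML_of_exists_dominating {M : Type u} [AddCommGroup M] [Module R M]
    (h : ∀ (n : ℕ) (f : (Fin n → R) →ₗ[R] M),
        ∃ (Q : Type u) (_ : AddCommGroup Q) (_ : Module R Q) (_ : Module.FinitePresentation R Q)
          (g : (Fin n → R) →ₗ[R] Q),
          ∀ (N : Type u) [AddCommGroup N] [Module R N],
            LinearMap.ker (f.rTensor N) = LinearMap.ker (g.rTensor N)) :
    CAlg.IsMittagLeffler R M := by
  classical
  intro ι T _ _
  rw [injective_iff_map_eq_zero]
  intro x hx
  obtain ⟨n, m, q, rfl⟩ := exists_fin_sum_tmul x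
  set f : (Fin n → R) →ₗ[R] M := Fintype.linearCombination R m with hf
  set y : (Fin n → R) ⊗[R] (∀ i, T i) := ∑ k, (Pi.single k (1 : R) : Fin n → R) ⊗ₜ[R] q k with hy
  have hfy : f.rTensor (∀ i, T i) y = ∑ k, m k ⊗ₜ[R] q k := by
    rw [hy, map_sum]
    refine Finset.sum_congr rfl fun k _ => ?_
    rw [LinearMap.rTensor_tmul, hf, Fintype.linearCombination_apply_single, one_smul]
  obtain ⟨Q', _, _, hQ', g, hker⟩ := h n f
  have h1 : ∀ i, g.rTensor (T i) (TensorProduct.piRightHom R R (Fin n → R) T y i) = 0 := by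
    intro i
    have : TensorProduct.piRightHom R R (Fin n → R) T y i ∈ LinearMap.ker (f.rTensor (T i)) := by
      rw [LinearMap.mem_ker, ← piRightHom_rTensor, hfy, hx]
      rfl
    rw [hker (T i)] at this
    exact this
  have h2 : TensorProduct.piRightHom R R Q' T (g.rTensor (∀ i, T i) y) = 0 := by
    funext i
    rw [piRightHom_rTensor, h1]
    rfl
  have h3 : g.rTensor (∀ i, T i) y = 0 :=
    (injective_iff_map_eq_zero _).mp (isML_of_finitePresentation Q' ι T) _ h2
  have h4 : y ∈ LinearMap.ker (f.rTensor (∀ i, T i)) := by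
    rw [hker]; exact h3
  rw [← hfy]; exact h4

end Dom

theorem S6356 (R : Type u) [CommRing R] (M : Type u)
    [AddCommGroup M] [Module R M] :
    CAlg.IsMittagLeffler R M ↔
      ∀ (P : Type u) [AddCommGroup P] [Module R P] [Module.FinitePresentation R P] (f : P →ₗ[R] M),
        ∃ (Q : Type u) (_ : AddCommGroup Q) (_ : Module R Q) (_ : Module.FinitePresentation R Q) (g : P →ₗ[R] Q),
          ∀ (N : Type u) [AddCommGroup N] [Module R N],
            LinearMap.ker (f.rTensor N) = LinearMap.ker (g.rTensor N) := by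
  constructor
  · intro hM P _ _ _ f
    exact exists_dominating_of_isML hM f
  · intro h
    exact isML_of_exists_dominating (fun n f => h (Fin n → R) f)

theorem S6358 (R : Type u) [CommRing R] (M : Type u)
    [AddCommGroup M] [Module R M] :
    CAlg.IsMittagLeffler R M ↔
      ∀ (n : ℕ) (f : (Fin n → R) →ₗ[R] M),
        ∃ (Q : Type u) (_ : AddCommGroup Q) (_ : Module R Q) (_ : Module.FinitePresentation R Q)
          (g : (Fin n → R) →ₗ[R] Q),
          ∀ (N : Type u) [AddCommGroup N] [Module R N],
            LinearMap.ker (f.rTensor N) = LinearMap.ker (g.rTensor N) := by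
  constructor
  · intro hM n f
    exact exists_dominating_of_isML hM f
  · exact isML_of_exists_dominating

--START19
theorem rid_rTensor {R : Type u} [CommRing R] {M N : Type u} [AddCommGroup M] [Module R M]
    [AddCommGroup N] [Module R N] (g : M →ₗ[R] N) (z : M ⊗[R] R) :
    TensorProduct.rid R N (g.rTensor R z) = g (TensorProduct.rid R M z) := by
  induction z using TensorProduct.induction_on with
  | zero => simp
  | tmul m r => simp
  | add a b ha hb => simp only [map_add, ha, hb]

theorem flat_pi_of_noetherian (R : Type u) [CommRing R] [IsNoetherianRing R] (A : Type u) :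
    Module.Flat R (A → R) := by
  rw [Module.Flat.iff_rTensor_injective]
  intro I hI
  have : Module.FinitePresentation R I := Module.finitePresentation_of_finite R I
  rw [injective_iff_map_eq_zero]
  intro x hx
  apply isML_of_finitePresentation (R := R) I A (fun _ => R)
  rw [map_zero]
  funext a
  have h1 := piRightHom_rTensor (fun _ : A => R) I.subtype x a
  rw [hx, map_zero] at h1
  have hinj : Function.Injective (I.subtype.rTensor R) :=
    Module.Flat.rTensor_preserves_injective_linearMap I.subtype I.injective_subtype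
  apply hinj
  rw [← h1]
  simp

theorem S6347 (R : Type u) [CommRing R] [IsNoetherianRing R]
    (A : Type u) : Module.Flat R (A → R) ∧ CAlg.IsMittagLeffler R (A → R) := by
  have hflat := flat_pi_of_noetherian R A
  refine ⟨hflat, ?_⟩
  rw [S6346]
  intro n x
  set F := Fin n → R
  set xa : A → F := fun a => TensorProduct.rid R F (TensorProduct.piRightHom R R F (fun _ : A => R) x a) with hxa
  set F' : Submodule R F := Submodule.span R (Set.range xa) with hF'
  have hmem : ∀ a, xa a ∈ F' := fun a => Submodule.subset_span ⟨a, rfl⟩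
  have : Module.Finite R F' := Module.IsNoetherian.finite R F'
  have : Module.FinitePresentation R F' := Module.finitePresentation_of_finite R F'
  refine ⟨F', ?_, ?_⟩
  · obtain ⟨w, hw⟩ := (piRightHom_bijective_of_finitePresentation (R := R) F' (fun _ : A => R)).2
      (fun a => (⟨xa a, hmem a⟩ : F') ⊗ₜ[R] (1 : R))
    refine ⟨w, ?_⟩
    apply isML_of_finitePresentation (R := R) F A (fun _ => R)
    funext a
    rw [piRightHom_rTensor, hw]
    apply (TensorProduct.rid R F).injective
    rw [LinearMap.rTensor_tmul]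
    simp [hxa]
  · rintro F'' ⟨w'', hw''⟩
    rw [hF', Submodule.span_le]
    rintro _ ⟨a, rfl⟩
    show xa a ∈ F''
    rw [hxa]
    simp only
    rw [← hw'', piRightHom_rTensor, rid_rTensor]
    exact Submodule.coe_mem _

--START20
section DirLim

variable {R : Type u} [CommRing R] {ι : Type u} [Preorder ι] [IsDirected ι (· ≤ ·)] [Nonempty ι]
  [DecidableEq ι] {G : ι → Type u} [∀ i, AddCommGroup (G i)] [∀ i, Module R (G i)]
  {f : ∀ i j, i ≤ j → G i →ₗ[R] G j} [DirectedSystem G fun i j h => f i j h]

omit [Nonempty ι] in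
theorem f_comp_f {i j k : ι} (hij : i ≤ j) (hjk : j ≤ k) :
    f j k hjk ∘ₗ f i j hij = f i k (hij.trans hjk) := by
  apply LinearMap.ext
  intro x
  exact DirectedSystem.map_map (f := fun i j h => f i j h) hij hjk x

omit [Nonempty ι] in
theorem of_comp_f {i j : ι} (hij : i ≤ j) :
    Module.DirectLimit.of R ι G f j ∘ₗ f i j hij = Module.DirectLimit.of R ι G f i := by
  apply LinearMap.ext
  intro x
  exact Module.DirectLimit.of_f

/-- two maps from a finite module into a stage agreeing in the colimit agree at a later stage -/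
theorem exists_f_comp_eq_of_finite {P : Type u} [AddCommGroup P] [Module R P] [Module.Finite R P]
    {j : ι} (u v : P →ₗ[R] G j)
    (h : Module.DirectLimit.of R ι G f j ∘ₗ u = Module.DirectLimit.of R ι G f j ∘ₗ v) :
    ∃ (j' : ι) (hj : j ≤ j'), f j j' hj ∘ₗ u = f j j' hj ∘ₗ v := by
  classical
  obtain ⟨n, p, hp⟩ := Module.Finite.exists_fin (R := R) (M := P)
  have h1 : ∀ l : Fin n, ∃ (k : ι) (hk : j ≤ k), f j k hk (u (p l)) = f j k hk (v (p l)) := by
    intro l
    have := congrArg (fun φ => φ (p l)) h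
    exact Module.DirectLimit.exists_eq_of_of_eq this
  choose k hk hkeq using h1
  obtain ⟨j', hj'⟩ := Finset.exists_le (Finset.univ.image k ∪ {j})
  have hjj' : j ≤ j' := hj' j (by simp)
  have hkj' : ∀ l, k l ≤ j' := fun l => hj' (k l) (by simp)
  refine ⟨j', hjj', ?_⟩
  apply LinearMap.ext_on hp
  rintro _ ⟨l, rfl⟩
  have e : f j j' hjj' = f (k l) j' (hkj' l) ∘ₗ f j (k l) (hk l) := (f_comp_f (hk l) (hkj' l)).symm
  rw [LinearMap.comp_apply, LinearMap.comp_apply, e, LinearMap.comp_apply, LinearMap.comp_apply, hkeq l]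

/-- a map from a finitely presented module into the colimit factors through a stage -/
theorem exists_factor_of_finitePresentation {Q : Type u} [AddCommGroup Q] [Module R Q]
    [Module.FinitePresentation R Q] (a : Q →ₗ[R] Module.DirectLimit G f) :
    ∃ (j : ι) (aj : Q →ₗ[R] G j), Module.DirectLimit.of R ι G f j ∘ₗ aj = a := by
  classical
  obtain ⟨n, K, e, hK⟩ := Module.FinitePresentation.exists_fin R Q
  set ψ : (Fin n → R) →ₗ[R] Module.DirectLimit G f := a ∘ₗ e.symm.toLinearMap ∘ₗ K.mkQ with hψ
  have h1 : ∀ i : Fin n, ∃ (ji : ι) (y : G ji), Module.DirectLimit.of R ι G f ji y = ψ (Pi.single i 1) :=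
    fun i => Module.DirectLimit.exists_of _
  choose ji y hy using h1
  obtain ⟨j0, hj0⟩ := Finset.exists_le (Finset.univ.image ji)
  have hji : ∀ i, ji i ≤ j0 := fun i => hj0 (ji i) (by simp)
  set a0 : (Fin n → R) →ₗ[R] G j0 := Fintype.linearCombination R (fun i => f (ji i) j0 (hji i) (y i)) with ha0
  have ha0ψ : Module.DirectLimit.of R ι G f j0 ∘ₗ a0 = ψ := by
    apply LinearMap.pi_ext'
    intro i
    apply LinearMap.ext_ring
    rw [LinearMap.comp_apply, LinearMap.comp_apply, LinearMap.comp_apply, LinearMap.single_apply, ha0,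
      Fintype.linearCombination_apply_single, one_smul, Module.DirectLimit.of_f, hy]
  obtain ⟨s, g, hg⟩ := Submodule.fg_iff_exists_fin_generating_family.mp hK
  have hgK : ∀ l, g l ∈ K := fun l => by rw [← hg]; exact Submodule.subset_span ⟨l, rfl⟩
  have h2 : ∀ l : Fin s, ∃ (k : ι) (hk : j0 ≤ k), f j0 k hk (a0 (g l)) = 0 := by
    intro l
    apply Module.DirectLimit.of.zero_exact
    rw [← LinearMap.comp_apply, ha0ψ, hψ, LinearMap.comp_apply, LinearMap.comp_apply, Submodule.mkQ_apply,
      (Submodule.Quotient.mk_eq_zero K).mpr (hgK l), map_zero, map_zero]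
  choose k hk hkz using h2
  obtain ⟨j1, hj1⟩ := Finset.exists_le (Finset.univ.image k ∪ {j0})
  have hj01 : j0 ≤ j1 := hj1 j0 (by simp)
  have hkj1 : ∀ l, k l ≤ j1 := fun l => hj1 (k l) (by simp)
  set a1 : (Fin n → R) →ₗ[R] G j1 := f j0 j1 hj01 ∘ₗ a0 with ha1
  have hKle : K ≤ LinearMap.ker a1 := by
    rw [← hg, Submodule.span_le]
    rintro _ ⟨l, rfl⟩
    show a1 (g l) = 0
    have e1 : f j0 j1 hj01 = f (k l) j1 (hkj1 l) ∘ₗ f j0 (k l) (hk l) := (f_comp_f (hk l) (hkj1 l)).symm
    rw [ha1, LinearMap.comp_apply, e1, LinearMap.comp_apply, hkz l, map_zero]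
  refine ⟨j1, K.liftQ a1 hKle ∘ₗ e.toLinearMap, ?_⟩
  apply LinearMap.ext
  intro q
  obtain ⟨v, hv⟩ := K.mkQ_surjective (e q)
  rw [LinearMap.comp_apply, LinearMap.comp_apply, LinearEquiv.coe_coe, ← hv, Submodule.mkQ_apply,
    Submodule.liftQ_apply, ha1, LinearMap.comp_apply, Module.DirectLimit.of_f, ← LinearMap.comp_apply,
    ha0ψ, hψ, LinearMap.comp_apply, LinearMap.comp_apply, hv]
  simp

end DirLim

--START21
theorem fp_quotient_range {R : Type u} [CommRing R] {A B : Type u} [AddCommGroup A] [Module R A]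
    [AddCommGroup B] [Module R B] [Module.Finite R A] [Module.FinitePresentation R B]
    (g : A →ₗ[R] B) : Module.FinitePresentation R (B ⧸ LinearMap.range g) := by
  refine Module.finitePresentation_of_surjective (LinearMap.range g).mkQ
    (LinearMap.range g).mkQ_surjective ?_
  rw [Submodule.ker_mkQ, LinearMap.range_eq_map]
  exact Module.Finite.fg_top.map g

theorem S6357 (R : Type u) [CommRing R] {ι : Type u}
    [Preorder ι] [IsDirected ι (· ≤ ·)] [Nonempty ι] [DecidableEq ι] (G : ι → Type u)
    [∀ i, AddCommGroup (G i)] [∀ i, Module R (G i)] [∀ i, Module.FinitePresentation R (G i)]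
    (f : ∀ i j, i ≤ j → G i →ₗ[R] G j) [DirectedSystem G fun i j h => f i j h] :
    CAlg.IsMittagLeffler R (Module.DirectLimit G f) ↔
      ∀ i, ∃ (j : ι) (hij : i ≤ j), ∀ (k : ι) (hik : i ≤ k),
        ∃ h : G k →ₗ[R] G j, f i j hij = h ∘ₗ f i k hik := by
  constructor
  · intro hML i
    set φ := Module.DirectLimit.of R ι G f i with hφ
    obtain ⟨Q, _, _, hQ, g, hker⟩ := exists_dominating_of_isML hML φ
    have : Module.FinitePresentation R (Q ⧸ LinearMap.range g) := fp_quotient_range g
    obtain ⟨a, ha⟩ := (S6359 R g φ).mp (fun N _ _ => (hker N).ge)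
    obtain ⟨j0, a0, ha0⟩ := exists_factor_of_finitePresentation a
    obtain ⟨j1, hij1, hj01⟩ := exists_ge_ge i j0
    -- move to j1
    have e1 : Module.DirectLimit.of R ι G f j1 ∘ₗ (f j0 j1 hj01 ∘ₗ a0 ∘ₗ g) =
        Module.DirectLimit.of R ι G f j1 ∘ₗ f i j1 hij1 := by
      rw [← LinearMap.comp_assoc, of_comp_f, ← LinearMap.comp_assoc, ha0, ← ha, of_comp_f]
    obtain ⟨j, hj1j, e2⟩ := exists_f_comp_eq_of_finite _ _ e1
    have hij : i ≤ j := hij1.trans hj1j
    refine ⟨j, hij, fun k hik => ?_⟩
    have : Module.FinitePresentation R (G k ⧸ LinearMap.range (f i k hik)) := fp_quotient_range _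
    have hdom : ∀ (N : Type u) [AddCommGroup N] [Module R N],
        LinearMap.ker ((f i k hik).rTensor N) ≤ LinearMap.ker (g.rTensor N) := by
      intro N _ _ x hx
      rw [← hker N, LinearMap.mem_ker, hφ, ← of_comp_f hik, LinearMap.rTensor_comp,
        LinearMap.comp_apply, LinearMap.mem_ker.mp hx, map_zero]
    obtain ⟨b, hb⟩ := (S6359 R (f i k hik) g).mp hdom
    refine ⟨f j1 j hj1j ∘ₗ f j0 j1 hj01 ∘ₗ a0 ∘ₗ b, ?_⟩
    have e3 : f i j hij = f j1 j hj1j ∘ₗ f i j1 hij1 := (f_comp_f hij1 hj1j).symm
    rw [e3, ← e2, hb]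
    simp only [LinearMap.comp_assoc]
  · intro h κ T _ _
    rw [injective_iff_map_eq_zero]
    intro x hx
    obtain ⟨i, xi, hxi⟩ := Module.DirectLimit.exists_of (TensorProduct.directLimitLeft f (∀ k, T k) x)
    have hx' : x = (Module.DirectLimit.of R ι G f i).rTensor (∀ k, T k) xi := by
      apply (TensorProduct.directLimitLeft f (∀ k, T k)).injective
      rw [TensorProduct.directLimitLeft_rTensor_of]
      exact hxi.symm
    obtain ⟨j, hij, hj⟩ := h i
    -- each component dies at some stage, hence at stage j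
    have h1 : ∀ α : κ, (f i j hij).rTensor (T α) (TensorProduct.piRightHom R R (G i) T xi α) = 0 := by
      intro α
      have h2 : (Module.DirectLimit.of R ι G f i).rTensor (T α)
          (TensorProduct.piRightHom R R (G i) T xi α) = 0 := by
        rw [← piRightHom_rTensor, ← hx', hx]
        rfl
      have h3 := TensorProduct.directLimitLeft_rTensor_of f (T α) (i := i)
        (TensorProduct.piRightHom R R (G i) T xi α)
      rw [h2, map_zero] at h3
      obtain ⟨k, hik, hk⟩ := Module.DirectLimit.of.zero_exact h3.symm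
      obtain ⟨hh, hhe⟩ := hj k hik
      rw [hhe, LinearMap.rTensor_comp, LinearMap.comp_apply]
      have : (f i k hik).rTensor (T α) (TensorProduct.piRightHom R R (G i) T xi α) = 0 := hk
      rw [this, map_zero]
    have h4 : TensorProduct.piRightHom R R (G j) T ((f i j hij).rTensor (∀ k, T k) xi) = 0 := by
      funext α
      rw [piRightHom_rTensor, h1]
      rfl
    have h5 : (f i j hij).rTensor (∀ k, T k) xi = 0 :=
      (injective_iff_map_eq_zero _).mp (isML_of_finitePresentation (G j) κ T) _ h4
    rw [hx', ← of_comp_f hij, LinearMap.rTensor_comp, LinearMap.comp_apply, h5, map_zero]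

--START22
section MD

variable {R : Type u} [CommRing R]

/-- mutual domination of two maps out of the same module -/
def MD {P A B : Type u} [AddCommGroup P] [Module R P] [AddCommGroup A] [Module R A]
    [AddCommGroup B] [Module R B] (a : P →ₗ[R] A) (b : P →ₗ[R] B) : Prop :=
  ∀ (X : Type u) [AddCommGroup X] [Module R X],
    LinearMap.ker (a.rTensor X) = LinearMap.ker (b.rTensor X)

variable {P A B : Type u} [AddCommGroup P] [Module R P] [AddCommGroup A] [Module R A]
    [AddCommGroup B] [Module R B]

theorem MD.precomp {a : P →ₗ[R] A} {b : P →ₗ[R] B} (h : MD a b) {P' : Type u} [AddCommGroup P']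
    [Module R P'] (w : P' →ₗ[R] P) : MD (a ∘ₗ w) (b ∘ₗ w) := by
  intro X _ _
  ext z
  rw [LinearMap.mem_ker, LinearMap.mem_ker, LinearMap.rTensor_comp, LinearMap.rTensor_comp,
    LinearMap.comp_apply, LinearMap.comp_apply, ← LinearMap.mem_ker, ← LinearMap.mem_ker, h X]

theorem MD.rTensor {a : P →ₗ[R] A} {b : P →ₗ[R] B} (h : MD a b) (Y : Type u) [AddCommGroup Y]
    [Module R Y] : MD (a.rTensor Y) (b.rTensor Y) := by
  intro X _ _
  ext z
  have ha : (a.rTensor Y).rTensor X z = 0 ↔ a.rTensor (Y ⊗[R] X) (TensorProduct.assoc R P Y X z) = 0 := by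
    rw [LinearMap.rTensor_tensor]
    simp
  have hb : (b.rTensor Y).rTensor X z = 0 ↔ b.rTensor (Y ⊗[R] X) (TensorProduct.assoc R P Y X z) = 0 := by
    rw [LinearMap.rTensor_tensor]
    simp
  rw [LinearMap.mem_ker, LinearMap.mem_ker, ha, hb, ← LinearMap.mem_ker, ← LinearMap.mem_ker,
    h (Y ⊗[R] X)]

theorem MD.lTensor {a : P →ₗ[R] A} {b : P →ₗ[R] B} (h : MD a b) (Y : Type u) [AddCommGroup Y]
    [Module R Y] : MD (a.lTensor Y) (b.lTensor Y) := by
  have h1 := (h.rTensor Y).precomp (TensorProduct.comm R Y P).toLinearMap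
  intro X _ _
  ext z
  have e : ∀ {C : Type u} [AddCommGroup C] [Module R C] (c : P →ₗ[R] C),
      (c.lTensor Y).rTensor X z = 0 ↔
        ((c.rTensor Y) ∘ₗ (TensorProduct.comm R Y P).toLinearMap).rTensor X z = 0 := by
    intro C _ _ c
    have : c.lTensor Y = (TensorProduct.comm R C Y).toLinearMap ∘ₗ
        ((c.rTensor Y) ∘ₗ (TensorProduct.comm R Y P).toLinearMap) := by
      rw [← LinearMap.comm_comp_rTensor_comp_comm_eq]
    rw [this, LinearMap.rTensor_comp, LinearMap.comp_apply]
    constructor
    · intro hz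
      have hinj : Function.Injective ((TensorProduct.comm R C Y).toLinearMap.rTensor X) :=
        (LinearEquiv.rTensor X (TensorProduct.comm R C Y)).injective
      exact hinj (by rw [hz, map_zero])
    · intro hz
      rw [hz, map_zero]
  rw [LinearMap.mem_ker, LinearMap.mem_ker, e a, e b, ← LinearMap.mem_ker, ← LinearMap.mem_ker, h1 X]

theorem MD.trans {C : Type u} [AddCommGroup C] [Module R C] {a : P →ₗ[R] A} {b : P →ₗ[R] B}
    {c : P →ₗ[R] C} (h : MD a b) (h' : MD b c) : MD a c :=
  fun X _ _ => (h X).trans (h' X)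

theorem MD.map {P₂ A₂ B₂ : Type u} [AddCommGroup P₂] [Module R P₂] [AddCommGroup A₂] [Module R A₂]
    [AddCommGroup B₂] [Module R B₂] {a : P →ₗ[R] A} {b : P →ₗ[R] B} (h : MD a b)
    {a₂ : P₂ →ₗ[R] A₂} {b₂ : P₂ →ₗ[R] B₂} (h₂ : MD a₂ b₂) :
    MD (TensorProduct.map a a₂) (TensorProduct.map b b₂) := by
  have e1 : TensorProduct.map a a₂ = (a.rTensor A₂) ∘ₗ (a₂.lTensor P) := by
    ext p q; simp
  have e2 : TensorProduct.map b a₂ = (b.rTensor A₂) ∘ₗ (a₂.lTensor P) := by
    ext p q; simp
  have e3 : TensorProduct.map b a₂ = (a₂.lTensor B) ∘ₗ (b.rTensor P₂) := by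
    ext p q; simp
  have e4 : TensorProduct.map b b₂ = (b₂.lTensor B) ∘ₗ (b.rTensor P₂) := by
    ext p q; simp
  have s1 : MD (TensorProduct.map a a₂) (TensorProduct.map b a₂) := by
    rw [e1, e2]; exact (h.rTensor A₂).precomp _
  have s2 : MD (TensorProduct.map b a₂) (TensorProduct.map b b₂) := by
    rw [e3, e4]; exact (h₂.lTensor B).precomp _
  exact s1.trans s2

end MD

--START23
theorem finitePresentation_tensorProduct {R : Type u} [CommRing R] (Q₁ Q₂ : Type u)
    [AddCommGroup Q₁] [Module R Q₁] [AddCommGroup Q₂] [Module R Q₂]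
    [Module.FinitePresentation R Q₁] [Module.FinitePresentation R Q₂] :
    Module.FinitePresentation R (Q₁ ⊗[R] Q₂) := by
  classical
  obtain ⟨n, K, e, hK⟩ := Module.FinitePresentation.exists_fin R Q₁
  set π : (Fin n → R) →ₗ[R] Q₁ := e.symm.toLinearMap ∘ₗ K.mkQ with hπ
  have hπsurj : Function.Surjective π := e.symm.surjective.comp K.mkQ_surjective
  have hex : Function.Exact K.subtype π := by
    intro v
    rw [hπ, LinearMap.comp_apply, LinearEquiv.coe_coe, LinearEquiv.map_eq_zero_iff, Submodule.mkQ_apply,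
      Submodule.Quotient.mk_eq_zero]
    simp
  have hfpF : Module.FinitePresentation R ((Fin n → R) ⊗[R] Q₂) :=
    Module.FinitePresentation.of_equiv
      ((TensorProduct.piScalarRight R R Q₂ (Fin n)).symm ≪≫ₗ TensorProduct.comm R Q₂ (Fin n → R))
  have : Module.Finite R K := Module.Finite.iff_fg.mpr hK
  refine Module.finitePresentation_of_surjective (π.rTensor Q₂)
    (LinearMap.rTensor_surjective Q₂ hπsurj) ?_
  have hker : LinearMap.ker (π.rTensor Q₂) = LinearMap.range (K.subtype.rTensor Q₂) := by
    ext z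
    rw [LinearMap.mem_ker, LinearMap.mem_range]
    exact (rTensor_exact Q₂ hex hπsurj z)
  rw [hker, LinearMap.range_eq_map]
  exact Module.Finite.fg_top.map _

/-- every element of `(M ⊗ N) ⊗ T` comes from finitely presented approximations of `M` and `N` -/
theorem exists_fp_pair {R : Type u} [CommRing R] {M N T : Type u} [AddCommGroup M] [Module R M]
    [AddCommGroup N] [Module R N] [AddCommGroup T] [Module R T] (x : (M ⊗[R] N) ⊗[R] T) :
    ∃ (P₁ P₂ : Type u) (_ : AddCommGroup P₁) (_ : Module R P₁) (_ : Module.FinitePresentation R P₁)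
      (_ : AddCommGroup P₂) (_ : Module R P₂) (_ : Module.FinitePresentation R P₂)
      (u : P₁ →ₗ[R] M) (v : P₂ →ₗ[R] N) (y : (P₁ ⊗[R] P₂) ⊗[R] T),
      (TensorProduct.map u v).rTensor T y = x := by
  have hadd : ∀ x x' : (M ⊗[R] N) ⊗[R] T,
      (∃ (P₁ P₂ : Type u) (_ : AddCommGroup P₁) (_ : Module R P₁) (_ : Module.FinitePresentation R P₁)
      (_ : AddCommGroup P₂) (_ : Module R P₂) (_ : Module.FinitePresentation R P₂)
      (u : P₁ →ₗ[R] M) (v : P₂ →ₗ[R] N) (y : (P₁ ⊗[R] P₂) ⊗[R] T),
      (TensorProduct.map u v).rTensor T y = x) →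
      (∃ (P₁ P₂ : Type u) (_ : AddCommGroup P₁) (_ : Module R P₁) (_ : Module.FinitePresentation R P₁)
      (_ : AddCommGroup P₂) (_ : Module R P₂) (_ : Module.FinitePresentation R P₂)
      (u : P₁ →ₗ[R] M) (v : P₂ →ₗ[R] N) (y : (P₁ ⊗[R] P₂) ⊗[R] T),
      (TensorProduct.map u v).rTensor T y = x') →
      (∃ (P₁ P₂ : Type u) (_ : AddCommGroup P₁) (_ : Module R P₁) (_ : Module.FinitePresentation R P₁)
      (_ : AddCommGroup P₂) (_ : Module R P₂) (_ : Module.FinitePresentation R P₂)
      (u : P₁ →ₗ[R] M) (v : P₂ →ₗ[R] N) (y : (P₁ ⊗[R] P₂) ⊗[R] T),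
      (TensorProduct.map u v).rTensor T y = x + x') := by
    rintro x x' ⟨P₁, P₂, _, _, _, _, _, _, u, v, y, rfl⟩ ⟨P₁', P₂', _, _, _, _, _, _, u', v', y', rfl⟩
    refine ⟨P₁ × P₁', P₂ × P₂', inferInstance, inferInstance, inferInstance, inferInstance,
      inferInstance, inferInstance, u.coprod u', v.coprod v',
      (TensorProduct.map (LinearMap.inl R P₁ P₁') (LinearMap.inl R P₂ P₂')).rTensor T y +
        (TensorProduct.map (LinearMap.inr R P₁ P₁') (LinearMap.inr R P₂ P₂')).rTensor T y', ?_⟩
    rw [map_add, ← LinearMap.comp_apply, ← LinearMap.comp_apply, ← LinearMap.rTensor_comp,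
      ← LinearMap.rTensor_comp, ← TensorProduct.map_comp, ← TensorProduct.map_comp,
      LinearMap.coprod_inl, LinearMap.coprod_inl, LinearMap.coprod_inr, LinearMap.coprod_inr]
  induction x using TensorProduct.induction_on with
  | zero =>
    exact ⟨R, R, inferInstance, inferInstance, inferInstance, inferInstance, inferInstance,
      inferInstance, 0, 0, 0, by simp⟩
  | add a b ha hb => exact hadd a b ha hb
  | tmul w t =>
    induction w using TensorProduct.induction_on with
    | zero =>
      exact ⟨R, R, inferInstance, inferInstance, inferInstance, inferInstance, inferInstance,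
        inferInstance, 0, 0, 0, by simp⟩
    | add a b ha hb =>
      rw [TensorProduct.add_tmul]
      exact hadd _ _ ha hb
    | tmul m n =>
      refine ⟨R, R, inferInstance, inferInstance, inferInstance, inferInstance, inferInstance,
        inferInstance, LinearMap.toSpanSingleton R M m, LinearMap.toSpanSingleton R N n,
        ((1 : R) ⊗ₜ[R] (1 : R)) ⊗ₜ[R] t, ?_⟩
      simp

theorem S6343 (R : Type u) [CommRing R] (M N : Type u) [AddCommGroup M] [Module R M]
    [AddCommGroup N] [Module R N] (hM : CAlg.IsMittagLeffler R M) (hN : CAlg.IsMittagLeffler R N) :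
    CAlg.IsMittagLeffler R (M ⊗[R] N) := by
  intro ι T _ _
  rw [injective_iff_map_eq_zero]
  intro x hx
  obtain ⟨P₁, P₂, _, _, _, _, _, _, u, v, y, rfl⟩ := exists_fp_pair x
  obtain ⟨Q₁, _, _, hQ₁, g₁, h₁⟩ := exists_dominating_of_isML hM u
  obtain ⟨Q₂, _, _, hQ₂, g₂, h₂⟩ := exists_dominating_of_isML hN v
  have hmd : MD (TensorProduct.map u v) (TensorProduct.map g₁ g₂) :=
    MD.map (fun X _ _ => h₁ X) (fun X _ _ => h₂ X)
  have : Module.FinitePresentation R (Q₁ ⊗[R] Q₂) := finitePresentation_tensorProduct Q₁ Q₂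
  have h3 : ∀ α, (TensorProduct.map g₁ g₂).rTensor (T α)
      (TensorProduct.piRightHom R R (P₁ ⊗[R] P₂) T y α) = 0 := by
    intro α
    have : TensorProduct.piRightHom R R (P₁ ⊗[R] P₂) T y α ∈
        LinearMap.ker ((TensorProduct.map u v).rTensor (T α)) := by
      rw [LinearMap.mem_ker, ← piRightHom_rTensor, hx]
      rfl
    rw [hmd (T α)] at this
    exact this
  have h4 : TensorProduct.piRightHom R R (Q₁ ⊗[R] Q₂) T
      ((TensorProduct.map g₁ g₂).rTensor (∀ i, T i) y) = 0 := by
    funext α
    rw [piRightHom_rTensor, h3]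
    rfl
  have h5 : (TensorProduct.map g₁ g₂).rTensor (∀ i, T i) y = 0 :=
    (injective_iff_map_eq_zero _).mp (isML_of_finitePresentation (Q₁ ⊗[R] Q₂) ι T) _ h4
  have h6 : y ∈ LinearMap.ker ((TensorProduct.map u v).rTensor (∀ i, T i)) := by
    rw [hmd]; exact h5
  exact h6

--START24
section Descent

variable {R : Type u} [CommRing R]

theorem universallyInjective_of_fp {A B : Type u} [AddCommGroup A] [Module R A] [AddCommGroup B]
    [Module R B] (f : A →ₗ[R] B)
    (h : ∀ (Q : Type u) [AddCommGroup Q] [Module R Q], Module.FinitePresentation R Q →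
      Function.Injective (f.rTensor Q)) :
    CAlgX.UniversallyInjective R f := by
  have key := (S6360 R f (LinearMap.id : A →ₗ[R] A)).mpr (by
    intro Q _ _ hQ x hx
    rw [LinearMap.mem_ker] at hx ⊢
    have := (injective_iff_map_eq_zero _).mp (h Q hQ) x hx
    rw [this, map_zero])
  intro Q _ _
  rw [injective_iff_map_eq_zero]
  intro x hx
  have := key Q (LinearMap.mem_ker.mpr hx)
  rw [LinearMap.rTensor_id] at this
  simpa using this

theorem piRightHom_lTensor_piMap {ι : Type u} (P : Type u) [AddCommGroup P] [Module R P]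
    (A B : ι → Type u) [∀ i, AddCommGroup (A i)] [∀ i, Module R (A i)] [∀ i, AddCommGroup (B i)]
    [∀ i, Module R (B i)] (f : ∀ i, A i →ₗ[R] B i) (x : P ⊗[R] (∀ i, A i)) (i : ι) :
    TensorProduct.piRightHom R R P B ((LinearMap.piMap f).lTensor P x) i =
      (f i).lTensor P (TensorProduct.piRightHom R R P A x i) := by
  induction x using TensorProduct.induction_on with
  | zero => simp
  | add a b ha hb => simp only [map_add, Pi.add_apply, ha, hb]
  | tmul p a =>
    rw [LinearMap.lTensor_tmul, TensorProduct.piRightHom_tmul, TensorProduct.piRightHom_tmul,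
      LinearMap.lTensor_tmul]
    rfl

/-- a product of universally injective maps is universally injective -/
theorem universallyInjective_piMap {ι : Type u}
    (A B : ι → Type u) [∀ i, AddCommGroup (A i)] [∀ i, Module R (A i)] [∀ i, AddCommGroup (B i)]
    [∀ i, Module R (B i)] (f : ∀ i, A i →ₗ[R] B i) (hf : ∀ i, CAlgX.UniversallyInjective R (f i)) :
    CAlgX.UniversallyInjective R (LinearMap.piMap f) := by
  apply universallyInjective_of_fp
  intro P _ _ hP
  rw [← LinearMap.lTensor_inj_iff_rTensor_inj, injective_iff_map_eq_zero]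
  intro x hx
  apply isML_of_finitePresentation P ι A
  rw [map_zero]
  funext i
  have h1 := piRightHom_lTensor_piMap P A B f x i
  rw [hx, map_zero] at h1
  have h2 : Function.Injective ((f i).lTensor P) :=
    (LinearMap.lTensor_inj_iff_rTensor_inj _ _).mpr (hf i P)
  have h3 : (f i).lTensor P (TensorProduct.piRightHom R R P A x i) = 0 := h1.symm
  exact h2 (h3.trans (map_zero _).symm)

theorem universallyInjective_mk_one (S : Type u) [CommRing S] [Algebra R S] [Module.FaithfullyFlat R S]
    (T : Type u) [AddCommGroup T] [Module R T] :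
    CAlgX.UniversallyInjective R (TensorProduct.mk R S T 1) := by
  intro P _ _
  rw [← LinearMap.lTensor_inj_iff_rTensor_inj, injective_iff_map_eq_zero]
  intro x hx
  have key : ∀ x : P ⊗[R] T, TensorProduct.leftComm R P S T ((TensorProduct.mk R S T 1).lTensor P x) =
      (1 : S) ⊗ₜ[R] x := by
    intro x
    induction x using TensorProduct.induction_on with
    | zero => simp
    | add a b ha hb => simp only [map_add, ha, hb, TensorProduct.tmul_add]
    | tmul p t => simp
  have := key x
  rw [hx, map_zero] at this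
  exact (Module.FaithfullyFlat.one_tmul_eq_zero_iff R (P ⊗[R] T) (A := S) x).mp this.symm

theorem bcPhi_surjective (R S : Type u) [CommRing R] [CommRing S] [Algebra R S]
    (M : Type u) [AddCommGroup M] [Module R M]
    (P : Type u) [AddCommGroup P] [Module R P] [Module S P] [IsScalarTower R S P] :
    Function.Surjective (bcPhi R S M P) := by
  unfold bcPhi
  simp only [AddMonoidHom.coe_comp]
  exact ((TensorProduct.comm R P M).surjective.comp
    (TensorProduct.AlgebraTensorModule.cancelBaseChange R S S P M).surjective).comp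
    (TensorProduct.comm S (S ⊗[R] M) P).surjective

end Descent

theorem S0586 (R : Type u) [CommRing R] (S : Type u)
    [CommRing S] [Algebra R S] [Module.FaithfullyFlat R S] (M : Type u) [AddCommGroup M] [Module R M]
    (h : CAlg.IsMittagLeffler S (TensorProduct R S M)) : CAlg.IsMittagLeffler R M := by
  intro ι T _ _
  rw [injective_iff_map_eq_zero]
  intro x hx
  set j : ∀ i, T i →ₗ[R] S ⊗[R] T i := fun i => TensorProduct.mk R S (T i) 1 with hj
  set J : (∀ i, T i) →ₗ[R] (∀ i, S ⊗[R] T i) := LinearMap.piMap j with hJdef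
  have hJ : CAlgX.UniversallyInjective R J :=
    universallyInjective_piMap T (fun i => S ⊗[R] T i) j (fun i => universallyInjective_mk_one S (T i))
  have hJinj : Function.Injective (J.lTensor M) :=
    (LinearMap.lTensor_inj_iff_rTensor_inj _ _).mpr (hJ M)
  apply hJinj
  rw [map_zero]
  obtain ⟨y, hy⟩ := bcPhi_surjective R S M (∀ i, S ⊗[R] T i) (J.lTensor M x)
  have hy0 : y = 0 := by
    apply h ι (fun i => S ⊗[R] T i)
    rw [map_zero]
    funext i
    apply bcPhi_injective R S M (S ⊗[R] T i)
    rw [bcPhi_piRightHom R S M (fun i => S ⊗[R] T i) y i, hy, piRightHom_lTensor_piMap, hx]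
    simp
  rw [← hy, hy0, map_zero]

--START25
section Countable

/-- a finitely presented module with a map to `M` -/
structure Stage (R : Type u) [CommRing R] (M : Type u) [AddCommGroup M] [Module R M] where
  P : Type u
  [acg : AddCommGroup P]
  [mod : Module R P]
  [fp : Module.FinitePresentation R P]
  f : P →ₗ[R] M

attribute [instance] Stage.acg Stage.mod Stage.fp

variable {R : Type u} [CommRing R] {M : Type u} [AddCommGroup M] [Module R M]

theorem MD.ker_eq {P A B : Type u} [AddCommGroup P] [Module R P] [AddCommGroup A] [Module R A]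
    [AddCommGroup B] [Module R B] {a : P →ₗ[R] A} {b : P →ₗ[R] B} (h : MD a b) :
    LinearMap.ker a = LinearMap.ker b := by
  have key : ∀ {C : Type u} [AddCommGroup C] [Module R C] (c : P →ₗ[R] C) (x : P),
      x ∈ LinearMap.ker c ↔ (x ⊗ₜ[R] (1 : R)) ∈ LinearMap.ker (c.rTensor R) := by
    intro C _ _ c x
    rw [LinearMap.mem_ker, LinearMap.mem_ker, LinearMap.rTensor_tmul]
    constructor
    · intro hx; rw [hx, TensorProduct.zero_tmul]
    · intro hx
      have := congrArg (TensorProduct.rid R C) hx
      simpa using this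
  ext x
  rw [key a, key b, h R]

theorem step_exists (hM : CAlg.IsMittagLeffler R M) (s : Stage R M) (m : M) :
    ∃ (s' : Stage R M) (t : s.P →ₗ[R] s'.P),
      s'.f ∘ₗ t = s.f ∧ m ∈ LinearMap.range s'.f ∧ MD s.f t := by
  obtain ⟨Q, _, _, hQ, g, hker⟩ := exists_dominating_of_isML hM s.f
  have : Module.FinitePresentation R (Q ⧸ LinearMap.range g) := fp_quotient_range g
  obtain ⟨a, ha⟩ := (S6359 R g s.f).mp (fun N _ _ => (hker N).ge)
  refine ⟨⟨Q × R, a.coprod (LinearMap.toSpanSingleton R M m)⟩, LinearMap.inl R Q R ∘ₗ g, ?_, ?_, ?_⟩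
  · rw [← LinearMap.comp_assoc, LinearMap.coprod_inl, ← ha]
  · exact ⟨(0, 1), by simp⟩
  · intro X _ _
    rw [hker X]
    ext z
    rw [LinearMap.mem_ker, LinearMap.mem_ker, LinearMap.rTensor_comp, LinearMap.comp_apply]
    constructor
    · intro hz; rw [hz, map_zero]
    · intro hz
      have := congrArg ((LinearMap.fst R Q R).rTensor X) hz
      rw [← LinearMap.comp_apply, ← LinearMap.rTensor_comp, LinearMap.fst_comp_inl,
        LinearMap.rTensor_id, map_zero] at this
      exact this

noncomputable def nextStage (hM : CAlg.IsMittagLeffler R M) (s : Stage R M) (m : M) : Stage R M :=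
  (step_exists hM s m).choose

noncomputable def nextTr (hM : CAlg.IsMittagLeffler R M) (s : Stage R M) (m : M) :
    s.P →ₗ[R] (nextStage hM s m).P :=
  (step_exists hM s m).choose_spec.choose

theorem nextTr_spec (hM : CAlg.IsMittagLeffler R M) (s : Stage R M) (m : M) :
    (nextStage hM s m).f ∘ₗ nextTr hM s m = s.f ∧ m ∈ LinearMap.range (nextStage hM s m).f ∧
      MD s.f (nextTr hM s m) :=
  (step_exists hM s m).choose_spec.choose_spec

noncomputable def stageSeq (hM : CAlg.IsMittagLeffler R M) (s0 : Stage R M) (gen : ℕ → M) :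
    ℕ → Stage R M
  | 0 => s0
  | n + 1 => nextStage hM (stageSeq hM s0 gen n) (gen n)

noncomputable def stageTr (hM : CAlg.IsMittagLeffler R M) (s0 : Stage R M) (gen : ℕ → M) (n : ℕ) :
    (stageSeq hM s0 gen n).P →ₗ[R] (stageSeq hM s0 gen (n + 1)).P :=
  nextTr hM (stageSeq hM s0 gen n) (gen n)

theorem stageTr_spec (hM : CAlg.IsMittagLeffler R M) (s0 : Stage R M) (gen : ℕ → M) (n : ℕ) :
    (stageSeq hM s0 gen (n + 1)).f ∘ₗ stageTr hM s0 gen n = (stageSeq hM s0 gen n).f ∧
      gen n ∈ LinearMap.range (stageSeq hM s0 gen (n + 1)).f ∧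
      MD (stageSeq hM s0 gen n).f (stageTr hM s0 gen n) :=
  nextTr_spec hM (stageSeq hM s0 gen n) (gen n)

/-- the key retraction statement for a stage sequence -/
theorem exists_retract_of_stageSeq (hM : CAlg.IsMittagLeffler R M) (s0 : Stage R M) (gen : ℕ → M)
    (hgen : Submodule.span R (Set.range gen) = ⊤) :
    ∃ z : M →ₗ[R] (stageSeq hM s0 gen 1).P,
      z ∘ₗ s0.f = stageTr hM s0 gen 0 := by
  set S := stageSeq hM s0 gen with hS
  set t := stageTr hM s0 gen with ht
  have hft : ∀ n, (S (n + 1)).f ∘ₗ t n = (S n).f := fun n => (stageTr_spec hM s0 gen n).1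
  have hgn : ∀ n, gen n ∈ LinearMap.range (S (n + 1)).f := fun n => (stageTr_spec hM s0 gen n).2.1
  have hmd : ∀ n, MD (S n).f (t n) := fun n => (stageTr_spec hM s0 gen n).2.2
  -- the maps h n
  have hex : ∀ n, ∃ h : (S (n + 2)).P →ₗ[R] (S (n + 1)).P, t n = h ∘ₗ (t (n + 1) ∘ₗ t n) := by
    intro n
    have : Module.FinitePresentation R ((S (n + 2)).P ⧸ LinearMap.range (t (n + 1) ∘ₗ t n)) :=
      fp_quotient_range _
    refine (S6359 R (t (n + 1) ∘ₗ t n) (t n)).mp ?_
    intro Q _ _ x hx
    rw [← hmd n Q]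
    rw [LinearMap.mem_ker] at hx ⊢
    rw [← hft n, ← hft (n + 1), LinearMap.comp_assoc, LinearMap.rTensor_comp, LinearMap.comp_apply,
      hx, map_zero]
  choose h hh using hex
  obtain ⟨u, hu0, hu1⟩ : ∃ u : ∀ n, (S (n + 1)).P →ₗ[R] (S 1).P,
      u 0 = LinearMap.id ∧ ∀ n, u (n + 1) = u n ∘ₗ h n :=
    ⟨fun n => Nat.rec (motive := fun n => (S (n + 1)).P →ₗ[R] (S 1).P) LinearMap.id
      (fun n un => un ∘ₗ h n) n, rfl, fun n => rfl⟩
  set w : ∀ n, (S n).P →ₗ[R] (S 1).P := fun n => u n ∘ₗ t n with hw
  have hwt : ∀ n, w (n + 1) ∘ₗ t n = w n := by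
    intro n
    show (u (n + 1) ∘ₗ t (n + 1)) ∘ₗ t n = u n ∘ₗ t n
    rw [hu1]
    simp only [LinearMap.comp_assoc]
    rw [← hh n]
  set F : ∀ n, (S n).P →ₗ[R] M × (S 1).P := fun n => (S n).f.prod (w n) with hF
  have hFt : ∀ n, F (n + 1) ∘ₗ t n = F n := by
    intro n
    apply LinearMap.ext
    intro x
    apply Prod.ext
    · show ((S (n + 1)).f ∘ₗ t n) x = (S n).f x
      rw [hft]
    · show (w (n + 1) ∘ₗ t n) x = w n x
      rw [hwt]
  set Γ : Submodule R (M × (S 1).P) := ⨆ n, LinearMap.range (F n) with hΓ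
  have hmono : Monotone fun n => LinearMap.range (F n) := by
    apply monotone_nat_of_le_succ
    intro n
    rw [← hFt n]
    exact LinearMap.range_comp_le_range _ _
  have hmem : ∀ y, y ∈ Γ ↔ ∃ n, y ∈ LinearMap.range (F n) := by
    intro y
    rw [hΓ]
    exact Submodule.mem_iSup_of_directed _ hmono.directed_le
  set π1 : Γ →ₗ[R] M := LinearMap.fst R M (S 1).P ∘ₗ Γ.subtype with hπ1
  have hinj : Function.Injective π1 := by
    rw [injective_iff_map_eq_zero]
    rintro ⟨y, hy⟩ hy0
    obtain ⟨n, p, rfl⟩ := (hmem y).mp hy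
    have h1 : (S n).f p = 0 := hy0
    have h2 : p ∈ LinearMap.ker (t n) := by
      rw [← (hmd n).ker_eq]; exact h1
    have h3 : w n p = 0 := by
      show u n (t n p) = 0
      rw [LinearMap.mem_ker.mp h2, map_zero]
    apply Subtype.ext
    apply Prod.ext
    · exact h1
    · exact h3
  have hsurj : Function.Surjective π1 := by
    rw [← LinearMap.range_eq_top, eq_top_iff, ← hgen, Submodule.span_le]
    rintro _ ⟨n, rfl⟩
    obtain ⟨p, hp⟩ := hgn n
    exact ⟨⟨F (n + 1) p, (hmem _).mpr ⟨n + 1, p, rfl⟩⟩, hp⟩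
  set e : Γ ≃ₗ[R] M := LinearEquiv.ofBijective π1 ⟨hinj, hsurj⟩ with he
  refine ⟨LinearMap.snd R M (S 1).P ∘ₗ Γ.subtype ∘ₗ e.symm.toLinearMap, ?_⟩
  apply LinearMap.ext
  intro p
  have h0 : F 0 p ∈ Γ := (hmem _).mpr ⟨0, p, rfl⟩
  have h1 : e ⟨F 0 p, h0⟩ = s0.f p := rfl
  have h2 : e.symm (s0.f p) = ⟨F 0 p, h0⟩ := by
    rw [← h1, LinearEquiv.symm_apply_apply]
  show (LinearMap.snd R M (S 1).P) (Γ.subtype (e.symm (s0.f p))) = t 0 p
  rw [h2]
  show u 0 (t 0 p) = t 0 p
  rw [hu0]
  rfl

end Countable

theorem S6361 (R : Type u)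
    [CommRing R] (M : Type u) [AddCommGroup M] [Module R M] (hML : CAlg.IsMittagLeffler R M)
    (hc : CAlg.IsCountablyGenerated R M) {P : Type u} [AddCommGroup P] [Module R P] [Module.Finite R P]
    (f : P →ₗ[R] M) :
    ∃ (Q : Type u) (_ : AddCommGroup Q) (_ : Module R Q) (_ : Module.FinitePresentation R Q)
      (b : M →ₗ[R] Q) (c : Q →ₗ[R] M), (c ∘ₗ b) ∘ₗ f = f := by
  obtain ⟨s, hs, hspan⟩ := hc
  have hs' : (s ∪ {0}).Countable := hs.union (Set.countable_singleton 0)
  obtain ⟨gen, hgen⟩ := hs'.exists_eq_range ⟨0, Or.inr rfl⟩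
  have hgen' : Submodule.span R (Set.range gen) = ⊤ := by
    rw [eq_top_iff, ← hspan, ← hgen]
    exact Submodule.span_mono Set.subset_union_left
  obtain ⟨k, π, hπ⟩ := Module.Finite.exists_fin' R P
  set s0 : Stage R M := ⟨Fin k → R, f ∘ₗ π⟩ with hs0
  obtain ⟨z, hz⟩ := exists_retract_of_stageSeq hML s0 gen hgen'
  refine ⟨(stageSeq hML s0 gen 1).P, inferInstance, inferInstance, inferInstance, z,
    (stageSeq hML s0 gen 1).f, ?_⟩
  apply LinearMap.ext
  intro p
  obtain ⟨q, rfl⟩ := hπ p
  have h1 : z (f (π q)) = stageTr hML s0 gen 0 q := by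
    have := congrArg (fun l => l q) hz
    exact this
  show (stageSeq hML s0 gen 1).f (z (f (π q))) = f (π q)
  rw [h1]
  have h2 := (stageTr_spec hML s0 gen 0).1
  have := congrArg (fun l => l q) h2
  exact this

--START26
theorem S6392 (R : Type u) [CommRing R]
    {ι : Type u} [Preorder ι] [IsDirected ι (· ≤ ·)] [Nonempty ι] [DecidableEq ι] (G : ι → Type u)
    [∀ i, AddCommGroup (G i)] [∀ i, Module R (G i)] [∀ i, Module.FinitePresentation R (G i)]
    (f : ∀ i j, i ≤ j → G i →ₗ[R] G j) [DirectedSystem G fun i j h => f i j h]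
    (hML : CAlg.IsMittagLeffler R (Module.DirectLimit G f))
    (hc : CAlg.IsCountablyGenerated R (Module.DirectLimit G f)) :
    ∃ I' : Set ι, I'.Countable ∧ DirectedOn (· ≤ ·) I' ∧
      Function.Bijective (Module.DirectLimit.lift R I' (fun i : I' => G i.1)
        (fun (i j : I') (h : i ≤ j) => f i.1 j.1 h)
        (fun i : I' => Module.DirectLimit.of R ι G f i.1)
        (fun (i j : I') (h : i ≤ j) (x : G i.1) => Module.DirectLimit.of_f)) := by
  classical
  have hstab := (S6357 R G f).mp hML
  choose c hc1 hc2 using hstab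
  have hub : ∀ a b : ι, ∃ d, a ≤ d ∧ b ≤ d := fun a b => exists_ge_ge a b
  choose ub hub1 hub2 using hub
  obtain ⟨s, hs, hspan⟩ := hc
  have hidx : ∀ x : Module.DirectLimit G f,
      ∃ i, x ∈ LinearMap.range (Module.DirectLimit.of R ι G f i) := fun x => by
    obtain ⟨i, y, hy⟩ := Module.DirectLimit.exists_of x
    exact ⟨i, y, hy⟩
  choose idx hidx using hidx
  set I0 : Set ι := idx '' s ∪ {Classical.arbitrary ι} with hI0
  have hI0c : I0.Countable := (hs.image idx).union (Set.countable_singleton _)
  obtain ⟨Iseq, hseq0, hseq1⟩ : ∃ Iseq : ℕ → Set ι, Iseq 0 = I0 ∧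
      ∀ n, Iseq (n + 1) = Iseq n ∪ c '' Iseq n ∪ Set.image2 ub (Iseq n) (Iseq n) :=
    ⟨fun n => Nat.rec I0 (fun _ A => A ∪ c '' A ∪ Set.image2 ub A A) n, rfl, fun n => rfl⟩
  have hcount : ∀ n, (Iseq n).Countable := by
    intro n
    induction n with
    | zero => rw [hseq0]; exact hI0c
    | succ n ih =>
      rw [hseq1]
      exact (ih.union (ih.image c)).union (ih.image2 ih ub)
  have hmono : Monotone Iseq := by
    apply monotone_nat_of_le_succ
    intro n
    rw [hseq1]
    intro x hx
    exact Or.inl (Or.inl hx)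
  set I' : Set ι := ⋃ n, Iseq n with hI'
  have hI'c : I'.Countable := Set.countable_iUnion hcount
  have hcI' : ∀ i ∈ I', c i ∈ I' := by
    intro i hi
    obtain ⟨n, hn⟩ := Set.mem_iUnion.mp hi
    refine Set.mem_iUnion.mpr ⟨n + 1, ?_⟩
    rw [hseq1]
    exact Or.inl (Or.inr ⟨i, hn, rfl⟩)
  have hubI' : ∀ a ∈ I', ∀ b ∈ I', ub a b ∈ I' := by
    intro a ha b hb
    obtain ⟨n, hn⟩ := Set.mem_iUnion.mp ha
    obtain ⟨m, hm⟩ := Set.mem_iUnion.mp hb
    refine Set.mem_iUnion.mpr ⟨max n m + 1, ?_⟩
    rw [hseq1]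
    exact Or.inr ⟨a, hmono (le_max_left n m) hn, b, hmono (le_max_right n m) hm, rfl⟩
  have hdir : DirectedOn (· ≤ ·) I' := by
    intro a ha b hb
    exact ⟨ub a b, hubI' a ha b hb, hub1 a b, hub2 a b⟩
  have h0I' : Classical.arbitrary ι ∈ I' := by
    refine Set.mem_iUnion.mpr ⟨0, ?_⟩
    rw [hseq0]
    exact Or.inr rfl
  have hidxI' : ∀ x ∈ s, idx x ∈ I' := by
    intro x hx
    refine Set.mem_iUnion.mpr ⟨0, ?_⟩
    rw [hseq0]
    exact Or.inl ⟨x, hx, rfl⟩
  refine ⟨I', hI'c, hdir, ?_⟩
  have : Nonempty I' := ⟨⟨_, h0I'⟩⟩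
  have : IsDirected I' (· ≤ ·) :=
    ⟨fun a b => ⟨⟨ub a.1 b.1, hubI' a.1 a.2 b.1 b.2⟩, hub1 a.1 b.1, hub2 a.1 b.1⟩⟩
  have : DirectedSystem (fun i : I' => G i.1) (fun (i j : I') (h : i ≤ j) => f i.1 j.1 h) :=
    ⟨fun i x => DirectedSystem.map_self (f := fun i j h => f i j h) x,
     fun k j i hij hjk x => DirectedSystem.map_map (f := fun i j h => f i j h) hij hjk x⟩
  set L := Module.DirectLimit.lift R I' (fun i : I' => G i.1)
        (fun (i j : I') (h : i ≤ j) => f i.1 j.1 h)
        (fun i : I' => Module.DirectLimit.of R ι G f i.1)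
        (fun (i j : I') (h : i ≤ j) (x : G i.1) => Module.DirectLimit.of_f) with hL
  constructor
  · rw [injective_iff_map_eq_zero]
    intro x hx
    obtain ⟨i, y, rfl⟩ := Module.DirectLimit.exists_of x
    rw [hL, Module.DirectLimit.lift_of] at hx
    obtain ⟨k, hik, hk⟩ := Module.DirectLimit.of.zero_exact hx
    obtain ⟨h, hh⟩ := hc2 i.1 k hik
    have h1 : f i.1 (c i.1) (hc1 i.1) y = 0 := by
      rw [hh, LinearMap.comp_apply, hk, map_zero]
    have h2 := Module.DirectLimit.of_f (R := R) (ι := I') (G := fun i : I' => G i.1)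
      (f := fun (i j : I') (h : i ≤ j) => f i.1 j.1 h) (i := i) (j := ⟨c i.1, hcI' i.1 i.2⟩)
      (hij := hc1 i.1) (x := y)
    rw [← h2]
    show Module.DirectLimit.of R I' (fun i : I' => G i.1) (fun (i j : I') (h : i ≤ j) => f i.1 j.1 h)
      ⟨c i.1, hcI' i.1 i.2⟩ (f i.1 (c i.1) (hc1 i.1) y) = 0
    rw [h1, map_zero]
  · rw [← LinearMap.range_eq_top, eq_top_iff, ← hspan, Submodule.span_le]
    intro x hx
    obtain ⟨y, hy⟩ := hidx x
    refine ⟨Module.DirectLimit.of R I' (fun i : I' => G i.1)
      (fun (i j : I') (h : i ≤ j) => f i.1 j.1 h) ⟨idx x, hidxI' x hx⟩ y, ?_⟩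
    rw [hL, Module.DirectLimit.lift_of]
    exact hy

end Groth.Agent.LD.ML
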