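import Groth.Prelude.Def_PLie
import Mathlib

universe u v w

namespace Groth.Agent.LD.PL

open PLie

section Basic

variable {R : Type u} [CommRing R]
variable {L : Type v} [LieRing L] [LieAlgebra R L] {L' : Type w} [LieRing L'] [LieAlgebra R L']

theorem map_ad_pow (f : L →ₗ⁅R⁆ L') (x y : L) (n : ℕ) :
    f ((LieAlgebra.ad R L x ^ n) y) = (LieAlgebra.ad R L' (f x) ^ n) (f y) := by
  induction n generalizing y with
  | zero => simp
  | succ n ih =>
    rw [pow_succ, pow_succ, Module.End.mul_apply, Module.End.mul_apply, ih]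
    simp [LieAlgebra.ad_apply]

theorem ad_pow_zero_left (y : L) {n : ℕ} (hn : n ≠ 0) :
    (LieAlgebra.ad R L 0 ^ n) y = 0 := by
  rw [map_zero, zero_pow hn]; rfl

theorem map_bracketWord {ι : Type*} (f : L →ₗ⁅R⁆ L') (x : ι → L) (x₁ : L) (w : List ι) :
    f (bracketWord x x₁ w) = bracketWord (fun i => f (x i)) (f x₁) w := by
  induction w with
  | nil => rfl
  | cons i w ih => simp [ih]

theorem bracketWord_zero {ι : Type*} (x : ι → L) (w : List ι) :
    bracketWord x (0 : L) w = 0 := by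
  induction w with
  | nil => rfl
  | cons i w ih => simp [ih]

variable (p : ℕ) [CharP R p]

theorem map_jacobson (f : L →ₗ⁅R⁆ L') (x₀ x₁ : L) :
    f (jacobson R p x₀ x₁) = jacobson R p (f x₀) (f x₁) := by
  unfold jacobson
  rw [map_sum]
  refine Finset.sum_congr rfl fun t _ => ?_
  rw [map_smul, map_bracketWord]
  congr 2
  funext b
  cases b <;> simp [pair]

theorem jacobson_zero_right (x₀ : L) : jacobson R p x₀ (0 : L) = 0 := by
  unfold jacobson
  refine Finset.sum_eq_zero fun t _ => ?_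
  rw [bracketWord_zero, smul_zero]

variable {p}

theorem PMap.ext' {φ ψ : PMap R p L} (h : ∀ x, φ x = ψ x) : φ = ψ := by
  cases φ; cases ψ
  congr
  funext x
  exact h x

theorem PMap.map_zero [Fact p.Prime] (φ : PMap R p L) : φ 0 = 0 := by
  have := φ.map_smul 0 0
  rw [zero_smul, zero_pow (Fact.out : p.Prime).ne_zero, zero_smul] at this
  exact this

/-- key: if `f x = 0` then `f (φ x)` is central. -/
theorem map_pmap_mem_center [Fact p.Prime] (φ : PMap R p L) (f : L →ₗ⁅R⁆ L')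
    (hf : Function.Surjective f) (x : L) (hx : f x = 0) : f (φ x) ∈ LieAlgebra.center R L' := by
  rw [LieModule.mem_maxTrivSubmodule]
  intro y'
  obtain ⟨y, rfl⟩ := hf y'
  rw [← lie_skew, ← LieHom.map_lie, ← LieAlgebra.ad_apply (R := R), φ.ad_map, map_ad_pow, hx,
    ad_pow_zero_left _ (Fact.out : p.Prime).ne_zero, neg_zero]

end Basic

theorem S14870
    (k : Type u) [Field k] (p : ℕ) [Fact p.Prime] [CharP k p]
    (L : Type v) [LieRing L] [LieAlgebra k L] (L' : Type w) [LieRing L'] [LieAlgebra k L']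
    (φ : PLie.PMap k p L) (f : L →ₗ⁅k⁆ L') (hf : Function.Surjective f)
    (hz : LieAlgebra.center k L' = ⊥) (x : L) (hx : f x = 0) :
    f (φ x) = 0 := by
  have := map_pmap_mem_center φ f hf x hx
  rw [hz] at this
  simpa using this

--START
theorem S13780 (R : Type u) [CommRing R] (p : ℕ) [Fact p.Prime] [CharP R p]
    (L : Type v) [LieRing L] [LieAlgebra R L] (L' : Type w) [LieRing L'] [LieAlgebra R L']
    (γ : PLie.PMap R p L) (γ' : PLie.PMap R p L') (hZ : LieAlgebra.center R L' = ⊥) (φ : L ≃ₗ⁅R⁆ L') :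
    PLie.IsPHom γ γ' φ.toLieHom := by
  intro x
  have hmem : φ.toLieHom (γ x) - γ' (φ.toLieHom x) ∈ LieAlgebra.center R L' := by
    rw [LieModule.mem_maxTrivSubmodule]
    intro y'
    obtain ⟨y, rfl⟩ := φ.surjective y'
    rw [lie_sub]
    have h1 : ⁅φ.toLieHom y, φ.toLieHom (γ x)⁆ = - φ.toLieHom ((LieAlgebra.ad R L x ^ p) y) := by
      rw [← γ.ad_map, LieAlgebra.ad_apply, LieHom.map_lie, ← lie_skew]
    rw [h1, map_ad_pow]
    have h2 : ⁅φ.toLieHom y, (γ' (φ.toLieHom x))⁆ = - (LieAlgebra.ad R L' (φ.toLieHom x) ^ p) (φ.toLieHom y) := by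
      rw [← γ'.ad_map, LieAlgebra.ad_apply, ← lie_skew]
    rw [h2]
    simp
  rw [hZ] at hmem
  exact sub_eq_zero.mp (by simpa using hmem)

theorem S13772 (R : Type u) [CommRing R] (p : ℕ) [Fact p.Prime] [CharP R p]
    (L : Type v) [LieRing L] [LieAlgebra R L] (γ : PLie.PMap R p L) (g : L → L) :
    (∃ γ' : PLie.PMap R p L, ∀ x : L, γ' x = γ x + g x) ↔
      ((∀ x y : L, g (x + y) = g x + g y) ∧ (∀ (c : R) (x : L), g (c • x) = c ^ p • g x) ∧
        ∀ x : L, g x ∈ LieAlgebra.center R L) := by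
  constructor
  · rintro ⟨γ', h⟩
    have hg : ∀ x, g x = γ' x - γ x := fun x => by rw [h x]; abel
    refine ⟨fun x y => ?_, fun c x => ?_, fun x => ?_⟩
    · rw [hg, hg, hg, PMap.map_add, PMap.map_add]; abel
    · rw [hg, hg, PMap.map_smul, PMap.map_smul, smul_sub]
    · rw [LieModule.mem_maxTrivSubmodule]
      intro y
      rw [← lie_skew, hg, sub_lie, ← LieAlgebra.ad_apply (R := R), ← LieAlgebra.ad_apply (R := R),
        γ'.ad_map, γ.ad_map]
      simp
  · rintro ⟨hadd, hsmul, hcen⟩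
    refine ⟨⟨fun x => γ x + g x, fun c x => ?_, fun x => ?_, fun x₀ x₁ => ?_⟩, fun x => rfl⟩
    · rw [PMap.map_smul, hsmul, smul_add]
    · rw [map_add, γ.ad_map]
      have : LieAlgebra.ad R L (g x) = 0 := by
        ext y
        have := hcen x
        rw [LieModule.mem_maxTrivSubmodule] at this
        rw [LieAlgebra.ad_apply, ← lie_skew, this y]; simp
      rw [this, add_zero]
    · rw [PMap.map_add, hadd]; abel

--START
section Range

variable {R : Type u} [CommRing R] {p : ℕ} [Fact p.Prime] [CharP R p]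
  {L₁ : Type v} [LieRing L₁] [LieAlgebra R L₁] {L₂ : Type w} [LieRing L₂] [LieAlgebra R L₂]

theorem map_pmap_eq_of_map_eq (φ : PLie.PMap R p L₁) (f : L₁ →ₗ⁅R⁆ L₂)
    (hker : ∀ x : L₁, f x = 0 → f (φ x) = 0) {x x' : L₁} (h : f x = f x') :
    f (φ x) = f (φ x') := by
  have hn : f (x' - x) = 0 := by rw [map_sub, h, sub_self]
  have : x' = x + (x' - x) := by abel
  rw [this, φ.map_add, map_sub, map_add, hker _ hn, map_jacobson, hn, jacobson_zero_right]
  simp

end Range

theorem S13771 (R : Type u) [CommRing R] (p : ℕ) [Fact p.Prime] [CharP R p]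
    (L₁ : Type v) [LieRing L₁] [LieAlgebra R L₁] (L₂ : Type w) [LieRing L₂] [LieAlgebra R L₂]
    (φ : PLie.PMap R p L₁) (f : L₁ →ₗ⁅R⁆ L₂) (hker : ∀ x : L₁, f x = 0 → f (φ x) = 0) :
    ∃! ψ : PLie.PMap R p f.range, PLie.IsPHom φ ψ f.rangeRestrict := by
  have hch : ∀ y : f.range, ∃ x, f x = y := fun y => by
    obtain ⟨x, hx⟩ := (LieHom.mem_range f y.1).mp y.2
    exact ⟨x, hx⟩
  choose g hg using hch
  let ψf : f.range → f.range := fun y => ⟨f (φ (g y)), (LieHom.mem_range f _).mpr ⟨_, rfl⟩⟩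
  have hψ : ∀ x : L₁, ψf (f.rangeRestrict x) = f.rangeRestrict (φ x) := by
    intro x
    apply Subtype.ext
    change f (φ (g (f.rangeRestrict x))) = f (φ x)
    exact map_pmap_eq_of_map_eq φ f hker (hg _)
  have hsurj : Function.Surjective f.rangeRestrict := f.surjective_rangeRestrict
  have hincl : ∀ x, f.range.incl (f.rangeRestrict x) = f x := fun x => rfl
  have hinj : Function.Injective f.range.incl := Subtype.val_injective
  refine ⟨⟨ψf, ?_, ?_, ?_⟩, ?_, ?_⟩
  · intro c y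
    obtain ⟨x, rfl⟩ := hsurj y
    rw [← map_smul, hψ, hψ, φ.map_smul, map_smul]
  · intro y
    obtain ⟨x, rfl⟩ := hsurj y
    ext z
    obtain ⟨z, rfl⟩ := hsurj z
    rw [hψ, LieAlgebra.ad_apply, ← LieHom.map_lie, ← LieAlgebra.ad_apply (R := R), φ.ad_map,
      map_ad_pow]
  · intro y₀ y₁
    obtain ⟨x₀, rfl⟩ := hsurj y₀
    obtain ⟨x₁, rfl⟩ := hsurj y₁
    rw [← map_add, hψ, hψ, hψ, φ.map_add, map_sub, map_add, map_jacobson]
  · intro x
    exact (hψ x).symm
  · intro ψ' hψ'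
    apply PMap.ext'
    intro y
    obtain ⟨x, rfl⟩ := hsurj y
    rw [← hψ' x]
    exact (hψ x).symm

--START4
theorem basis3_expand {R : Type u} [CommRing R] {L : Type v} [AddCommGroup L] [Module R L]
    (bs : Module.Basis (Fin 3) R L) (u : L) :
    u = bs.repr u 0 • bs 0 + bs.repr u 1 • bs 1 + bs.repr u 2 • bs 2 := by
  conv_lhs => rw [← bs.sum_repr u]
  rw [Fin.sum_univ_three]

theorem basis3_coeff {R : Type u} [CommRing R] {L : Type v} [AddCommGroup L] [Module R L]
    (bs : Module.Basis (Fin 3) R L) {a b c a' b' c' : R}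
    (h : a • bs 0 + b • bs 1 + c • bs 2 = a' • bs 0 + b' • bs 1 + c' • bs 2) :
    a = a' ∧ b = b' ∧ c = c' := by
  have h2 := congrArg bs.repr h
  simp only [map_add, map_smul, Module.Basis.repr_self] at h2
  refine ⟨?_, ?_, ?_⟩
  · simpa using DFunLike.congr_fun h2 0
  · simpa using DFunLike.congr_fun h2 1
  · simpa using DFunLike.congr_fun h2 2

theorem S13775 (R : Type u) [CommRing R] (p : ℕ) [Fact p.Prime] [CharP R p]
    (L : Type v) [LieRing L] [LieAlgebra R L] (bs : Module.Basis (Fin 3) R L)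
    (hxy : ⁅bs 0, bs 1⁆ = bs 1) (hxz : ⁅bs 0, bs 2⁆ = bs 1 + bs 2) (hyz : ⁅bs 1, bs 2⁆ = 0) :
    IsEmpty (PLie.PMap R p L) := by
  refine ⟨fun φ => ?_⟩
  have : Nontrivial R := CharP.nontrivial_of_char_ne_one (R := R) (Fact.out : p.Prime).ne_one
  have hy : ∀ n : ℕ, (LieAlgebra.ad R L (bs 0) ^ n) (bs 1) = bs 1 := by
    intro n
    induction n with
    | zero => simp
    | succ n ih => rw [pow_succ, Module.End.mul_apply, LieAlgebra.ad_apply, hxy, ih]
  have hz : ∀ n : ℕ, (LieAlgebra.ad R L (bs 0) ^ n) (bs 2) = bs 2 + (n : R) • bs 1 := by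
    intro n
    induction n with
    | zero => simp
    | succ n ih =>
      rw [pow_succ, Module.End.mul_apply, LieAlgebra.ad_apply, hxz, map_add, hy, ih]
      push_cast
      rw [add_smul, one_smul]; abel
  have h1 := φ.ad_map (bs 0)
  have h2 := LinearMap.congr_fun h1 (bs 2)
  rw [hz, CharP.cast_eq_zero, zero_smul, add_zero, LieAlgebra.ad_apply] at h2
  rw [basis3_expand bs (φ.toFun (bs 0))] at h2
  simp only [add_lie, smul_lie, hxz, hyz, lie_self, smul_zero, add_zero] at h2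
  set a := bs.repr (φ.toFun (bs 0)) 0
  have h3 : (0:R) • bs 0 + a • bs 1 + a • bs 2 = (0:R) • bs 0 + (0:R) • bs 1 + (1:R) • bs 2 := by
    rw [zero_smul, zero_smul, one_smul, zero_add, zero_add, ← smul_add, h2, zero_add]
  obtain ⟨_, h4, h5⟩ := basis3_coeff bs h3
  rw [h4] at h5
  exact zero_ne_one h5

theorem S13777 (R : Type u) [CommRing R] [CharP R 2]
    (L : Type v) [LieRing L] [LieAlgebra R L] (bs : Module.Basis (Fin 3) R L)
    (hxy : ⁅bs 0, bs 1⁆ = bs 2) (hxz : ⁅bs 0, bs 2⁆ = -bs 0) (hyz : ⁅bs 1, bs 2⁆ = bs 1) :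
    IsEmpty (PLie.PMap R 2 L) := by
  refine ⟨fun φ => ?_⟩
  have : Nontrivial R := CharP.nontrivial_of_char_ne_one (R := R) (v := 2) (by norm_num)
  have h1 := φ.ad_map (bs 0)
  have h2 := LinearMap.congr_fun h1 (bs 1)
  rw [pow_two, Module.End.mul_apply, LieAlgebra.ad_apply, LieAlgebra.ad_apply, LieAlgebra.ad_apply,
    hxy, hxz] at h2
  rw [basis3_expand bs (φ.toFun (bs 0))] at h2
  have hzy : ⁅bs 2, bs 1⁆ = - bs 1 := by rw [← lie_skew, hyz]
  simp only [add_lie, smul_lie, hxy, hzy, lie_self, smul_zero, add_zero, smul_neg] at h2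
  set a := bs.repr (φ.toFun (bs 0)) 0
  set c := bs.repr (φ.toFun (bs 0)) 2
  have h3 : (0:R) • bs 0 + (-c) • bs 1 + a • bs 2 = (-1:R) • bs 0 + (0:R) • bs 1 + (0:R) • bs 2 := by
    rw [zero_smul, zero_smul, zero_smul, neg_smul, neg_smul, one_smul, zero_add, add_zero, add_zero,
      ← h2]; abel
  obtain ⟨h4, _, _⟩ := basis3_coeff bs h3
  have : (1:R) = 0 := by
    have := congrArg Neg.neg h4
    simpa using this.symm
  exact one_ne_zero this

--START5
section Iter

variable {R : Type u} [CommRing R] {p : ℕ} [CharP R p]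
  {L : Type v} [LieRing L] [LieAlgebra R L]

theorem ad_iterate (φ : PMap R p L) (x : L) (n : ℕ) :
    LieAlgebra.ad R L (φ.toFun^[n] x) = LieAlgebra.ad R L x ^ (p ^ n) := by
  induction n with
  | zero => simp
  | succ n ih => rw [Function.iterate_succ_apply', φ.ad_map, ih, ← pow_mul, pow_succ]

theorem isNilpotent_ad_of_isPNilpotent (φ : PMap R p L) {x : L} (h : IsPNilpotent φ x) :
    IsNilpotent (LieAlgebra.ad R L x) := by
  obtain ⟨n, hn⟩ := h
  refine ⟨p ^ n, ?_⟩
  rw [← ad_iterate, hn, map_zero]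

/-- ad-nilpotent in `L` implies ad-nilpotent in an ideal. -/
theorem isNilpotent_ad_ideal (I : LieIdeal R L) (x : I)
    (h : IsNilpotent (LieAlgebra.ad R L (x : L))) : IsNilpotent (LieAlgebra.ad R I x) := by
  obtain ⟨m, hm⟩ := h
  refine ⟨m, ?_⟩
  ext y
  have := map_ad_pow (R := R) I.incl x y m
  have h2 : I.incl x = (x : L) := rfl
  rw [h2, hm] at this
  simpa using this

end Iter

theorem S14873
    (k : Type u) [Field k] (p : ℕ) [Fact p.Prime] [CharP k p]
    (L : Type v) [LieRing L] [LieAlgebra k L] [Module.Finite k L]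
    (φ : PLie.PMap k p L) (I : LieIdeal k L) (hsub : ∀ x ∈ I, φ x ∈ I)
    (hnil : ∀ x ∈ I, PLie.IsPNilpotent φ x) : LieRing.IsNilpotent I := by
  rw [LieAlgebra.isNilpotent_iff_forall (R := k)]
  intro x
  exact isNilpotent_ad_ideal I x (isNilpotent_ad_of_isPNilpotent φ (hnil x x.2))

--START6
section AddElt

variable {R : Type u} [CommRing R] {L : Type v} [LieRing L] [LieAlgebra R L]

/-- The ideal `S + R z` when `⁅L, z⁆ ⊆ S`. -/
def addElt (S : LieIdeal R L) (z : L) (hz : ∀ y : L, ⁅y, z⁆ ∈ S) : LieIdeal R L :=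
  { (S.toSubmodule ⊔ Submodule.span R {z}) with
    lie_mem := by
      intro y m hm
      obtain ⟨s, hs, t, ht, rfl⟩ := Submodule.mem_sup.mp hm
      obtain ⟨c, rfl⟩ := Submodule.mem_span_singleton.mp ht
      refine Submodule.mem_sup_left ?_
      rw [lie_add, lie_smul]
      exact S.add_mem (S.lie_mem hs) (S.smul_mem c (hz y)) }

theorem mem_addElt {S : LieIdeal R L} {z : L} {hz : ∀ y : L, ⁅y, z⁆ ∈ S} {u : L} :
    u ∈ addElt S z hz ↔ ∃ s ∈ S, ∃ c : R, u = s + c • z := by
  change u ∈ (S.toSubmodule ⊔ Submodule.span R {z}) ↔ _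
  rw [Submodule.mem_sup]
  constructor
  · rintro ⟨s, hs, t, ht, rfl⟩
    obtain ⟨c, rfl⟩ := Submodule.mem_span_singleton.mp ht
    exact ⟨s, hs, c, rfl⟩
  · rintro ⟨s, hs, c, rfl⟩
    exact ⟨s, hs, c • z, Submodule.mem_span_singleton.mpr ⟨c, rfl⟩, rfl⟩

theorem self_mem_addElt {S : LieIdeal R L} {z : L} {hz : ∀ y : L, ⁅y, z⁆ ∈ S} :
    z ∈ addElt S z hz :=
  mem_addElt.mpr ⟨0, S.zero_mem, 1, by simp⟩

theorem lie_mem_of_mem_addElt {S : LieIdeal R L} {z : L} {hz : ∀ y : L, ⁅y, z⁆ ∈ S} {u : L}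
    (hu : u ∈ addElt S z hz) (y : L) : ⁅y, u⁆ ∈ S := by
  obtain ⟨s, hs, c, rfl⟩ := mem_addElt.mp hu
  rw [lie_add, lie_smul]
  exact S.add_mem (S.lie_mem hs) (S.smul_mem c (hz y))

theorem isSolvable_addElt {S : LieIdeal R L} {z : L} {hz : ∀ y : L, ⁅y, z⁆ ∈ S}
    (hS : LieAlgebra.IsSolvable S) : LieAlgebra.IsSolvable (addElt S z hz) := by
  obtain ⟨k, hk⟩ := (LieAlgebra.isSolvable_iff R S).mp hS
  rw [LieIdeal.derivedSeries_eq_bot_iff] at hk
  refine (LieAlgebra.isSolvable_iff R _).mpr ⟨k + 1, ?_⟩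
  rw [LieIdeal.derivedSeries_eq_bot_iff, LieAlgebra.derivedSeriesOfIdeal_add, eq_bot_iff, ← hk]
  refine LieAlgebra.derivedSeriesOfIdeal_mono ?_ k
  rw [LieAlgebra.derivedSeriesOfIdeal_succ, LieAlgebra.derivedSeriesOfIdeal_zero,
    LieSubmodule.lie_le_iff]
  intro a _ b hb
  exact lie_mem_of_mem_addElt hb a

end AddElt

section Rad

variable {k : Type u} [Field k] {p : ℕ} [Fact p.Prime] [CharP k p]
  {L : Type v} [LieRing L] [LieAlgebra k L]

theorem ad_pow_mem_ideal (S : LieIdeal k L) {x : L} (hx : x ∈ S) (y : L) {n : ℕ} (hn : n ≠ 0) :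
    (LieAlgebra.ad k L x ^ n) y ∈ S := by
  obtain ⟨m, rfl⟩ := Nat.exists_eq_succ_of_ne_zero hn
  rw [pow_succ', Module.End.mul_apply, LieAlgebra.ad_apply]
  exact lie_mem_left k L S x _ hx

theorem lie_pmap_mem_ideal (φ : PMap k p L) (S : LieIdeal k L) {x : L} (hx : x ∈ S) (y : L) :
    ⁅y, φ x⁆ ∈ S := by
  rw [← lie_skew, ← LieAlgebra.ad_apply (R := k), φ.ad_map]
  exact S.neg_mem (ad_pow_mem_ideal S hx y (Fact.out : p.Prime).ne_zero)

end Rad

theorem S14871
    (k : Type u) [Field k] (p : ℕ) [Fact p.Prime] [CharP k p]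
    (L : Type v) [LieRing L] [LieAlgebra k L] [Module.Finite k L]
    (φ : PLie.PMap k p L) (x : L) (hx : x ∈ LieAlgebra.radical k L) :
    φ x ∈ LieAlgebra.radical k L := by
  have hz : ∀ y : L, ⁅y, φ x⁆ ∈ LieAlgebra.radical k L := lie_pmap_mem_ideal φ _ hx
  have hsol : LieAlgebra.IsSolvable (addElt (LieAlgebra.radical k L) (φ x) hz) :=
    isSolvable_addElt inferInstance
  rw [LieAlgebra.LieIdeal.solvable_iff_le_radical] at hsol
  exact hsol self_mem_addElt

--START7
section Nil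

variable {k : Type u} [Field k] {L : Type v} [LieRing L] [LieAlgebra k L] [Module.Finite k L]

/-- ad-nilpotent in an ideal implies ad-nilpotent in `L`. -/
theorem isNilpotent_ad_of_ideal (I : LieIdeal k L) (x : I)
    (h : IsNilpotent (LieAlgebra.ad k I x)) : IsNilpotent (LieAlgebra.ad k L (x : L)) := by
  obtain ⟨m, hm⟩ := h
  refine ⟨m + 1, ?_⟩
  ext y
  rw [pow_succ, Module.End.mul_apply, LieAlgebra.ad_apply]
  have hmem : ⁅(x : L), y⁆ ∈ I := lie_mem_left k L I _ _ x.2
  have := map_ad_pow (R := k) I.incl x ⟨_, hmem⟩ m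
  rw [hm] at this
  simpa using this.symm

theorem exists_lcs_eq_bot_of_isNilpotent (N : LieIdeal k L) (hN : LieRing.IsNilpotent N) :
    ∃ m : ℕ, N.lcs L m = ⊥ := by
  have h1 : ∀ n : N, IsNilpotent (LieAlgebra.ad k N n) :=
    (LieAlgebra.isNilpotent_iff_forall (R := k)).mp hN
  have h2 : LieModule.IsNilpotent N L := by
    rw [LieModule.isNilpotent_iff_forall' (R := k)]
    intro n
    exact isNilpotent_ad_of_ideal N n (h1 n)
  obtain ⟨m, hm⟩ := (LieModule.isNilpotent_iff k N L).mp h2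
  refine ⟨m, ?_⟩
  rw [← LieSubmodule.toSubmodule_inj, LieIdeal.coe_lcs_eq, hm]
  rfl

theorem lcs_succ_le (N : LieIdeal k L) (j : ℕ) : N.lcs L (j + 1) ≤ N.lcs L j := by
  rw [LieIdeal.lcs_succ]
  exact LieSubmodule.lie_le_right _ _

theorem lie_mem_lcs_succ (N : LieIdeal k L) {n v : L} {j : ℕ} (hn : n ∈ N) (hv : v ∈ N.lcs L j) :
    ⁅n, v⁆ ∈ N.lcs L (j + 1) := by
  rw [LieIdeal.lcs_succ]
  exact LieSubmodule.lie_mem_lie hn hv

theorem ad_pow_mem_lcs_succ (N : LieIdeal k L) {x v : L} {j : ℕ} (hx : x ∈ N)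
    (hv : v ∈ N.lcs L j) {i : ℕ} (hi : i ≠ 0) :
    (LieAlgebra.ad k L x ^ i) v ∈ N.lcs L (j + 1) := by
  obtain ⟨m, rfl⟩ := Nat.exists_eq_succ_of_ne_zero hi
  rw [pow_succ', Module.End.mul_apply, LieAlgebra.ad_apply]
  refine lie_mem_lcs_succ N hx ?_
  clear hi
  induction m with
  | zero => simpa using hv
  | succ m ih =>
    rw [pow_succ', Module.End.mul_apply, LieAlgebra.ad_apply]
    exact (N.lcs L j).lie_mem ih

end Nil

theorem S14872
    (k : Type u) [Field k] (p : ℕ) [Fact p.Prime] [CharP k p]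
    (L : Type v) [LieRing L] [LieAlgebra k L] [Module.Finite k L]
    (φ : PLie.PMap k p L) (N : LieIdeal k L) (hN : LieRing.IsNilpotent N)
    (hmax : ∀ I : LieIdeal k L, LieRing.IsNilpotent I → I ≤ N)
    (x : L) (hx : x ∈ N) : φ x ∈ N := by
  have hz : ∀ y : L, ⁅y, φ x⁆ ∈ N := lie_pmap_mem_ideal φ _ hx
  obtain ⟨m, hm⟩ := exists_lcs_eq_bot_of_isNilpotent N hN
  have h5 : ∀ u ∈ addElt N (φ x) hz, ∀ j, ∀ v ∈ N.lcs L j, ⁅u, v⁆ ∈ N.lcs L (j + 1) := by
    intro u hu j v hv
    obtain ⟨n, hn, c, rfl⟩ := mem_addElt.mp hu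
    rw [add_lie, smul_lie]
    refine (N.lcs L (j+1)).add_mem (lie_mem_lcs_succ N hn hv) ((N.lcs L (j+1)).smul_mem c ?_)
    rw [← LieAlgebra.ad_apply (R := k), φ.ad_map]
    exact ad_pow_mem_lcs_succ N hx hv (Fact.out : p.Prime).ne_zero
  have h6 : ∀ u ∈ addElt N (φ x) hz, ∀ j : ℕ, ∀ y : L, (LieAlgebra.ad k L u ^ j) y ∈ N.lcs L j := by
    intro u hu j
    induction j with
    | zero => intro y; simp
    | succ j ih =>
      intro y
      rw [pow_succ', Module.End.mul_apply, LieAlgebra.ad_apply]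
      exact h5 u hu j _ (ih y)
  have h7 : LieRing.IsNilpotent (addElt N (φ x) hz) := by
    rw [LieAlgebra.isNilpotent_iff_forall (R := k)]
    intro u
    refine isNilpotent_ad_ideal _ u ⟨m, ?_⟩
    ext y
    have := h6 u u.2 m y
    rw [hm] at this
    simpa using this
  exact hmax _ h7 self_mem_addElt

--START8
theorem isPNilpotent_of_iterate {R : Type u} [CommRing R] {p : ℕ} [CharP R p]
    {L : Type v} [LieRing L] [LieAlgebra R L] (φ : PMap R p L) {x : L} (n : ℕ)
    (h : IsPNilpotent φ (φ.toFun^[n] x)) : IsPNilpotent φ x := by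
  obtain ⟨m, hm⟩ := h
  exact ⟨m + n, by rw [Function.iterate_add_apply, hm]⟩

theorem S14874
    (k : Type u) [Field k] (p : ℕ) [Fact p.Prime] [CharP k p]
    (L : Type v) [LieRing L] [LieAlgebra k L] [Module.Finite k L]
    (φ : PLie.PMap k p L)
    (N : LieIdeal k L) (hN : LieRing.IsNilpotent N)
    (hNmax : ∀ I : LieIdeal k L, LieRing.IsNilpotent I → I ≤ N)
    (P : LieIdeal k L) (hPsub : ∀ x ∈ P, φ x ∈ P) (hPnil : ∀ x ∈ P, PLie.IsPNilpotent φ x)
    (hPmax : ∀ J : LieIdeal k L, (∀ x ∈ J, φ x ∈ J) → (∀ x ∈ J, PLie.IsPNilpotent φ x) → J ≤ P) :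
    N = P ↔ LieAlgebra.center k L ≤ P := by
  have hcen : LieAlgebra.center k L ≤ N := by
    apply hNmax
    infer_instance
  constructor
  · rintro rfl
    exact hcen
  · intro hc
    apply le_antisymm
    · apply hPmax N (fun x hx => S14872 k p L φ N hN hNmax x hx)
      intro x hx
      have h1 : IsNilpotent (LieAlgebra.ad k L x) :=
        isNilpotent_ad_of_ideal N ⟨x, hx⟩
          ((LieAlgebra.isNilpotent_iff_forall (R := k)).mp hN ⟨x, hx⟩)
      obtain ⟨m, hm⟩ := h1
      have hp : 1 < p := (Fact.out : p.Prime).one_lt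
      have h2 : LieAlgebra.ad k L x ^ (p ^ m) = 0 :=
        pow_eq_zero_of_le (Nat.lt_pow_self hp).le hm
      rw [← ad_iterate φ x m] at h2
      have h3 : φ.toFun^[m] x ∈ LieAlgebra.center k L := by
        rw [LieModule.mem_maxTrivSubmodule]
        intro y
        rw [← lie_skew, ← LieAlgebra.ad_apply (R := k), h2]
        simp
      exact isPNilpotent_of_iterate φ m (hPnil _ (hc h3))
    · exact hNmax P (S14873 k p L φ P hPsub hPnil)

--START9
section Killing

variable {k : Type u} [Field k] {L : Type v} [LieRing L] [LieAlgebra k L] [Module.Finite k L]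

theorem killing_lie_left (a b c : L) :
    killingForm k L ⁅a, b⁆ c = killingForm k L a ⁅b, c⁆ :=
  LieModule.traceForm_apply_lie_apply k L L a b c

theorem killing_comm (a b : L) : killingForm k L a b = killingForm k L b a :=
  LieModule.traceForm_comm k L L a b

/-- If `U` is a subalgebra of ad-nilpotent elements and `h` normalises `U`, then `κ(h, x) = 0`
for `x ∈ U`. -/
theorem killing_eq_zero_of_normalizes (U : LieSubalgebra k L)
    (hnil : ∀ u ∈ U, IsNilpotent (LieAlgebra.ad k L u)) (h : L) (hh : ∀ u ∈ U, ⁅h, u⁆ ∈ U)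
    (x : L) (hx : x ∈ U) : killingForm k L h x = 0 := by
  have hE : LieModule.IsNilpotent U L := by
    rw [LieModule.isNilpotent_iff_forall' (R := k)]
    intro u
    have : LieModule.toEnd k U L u = LieAlgebra.ad k L (u : L) := by
      ext y; rfl
    rw [this]
    exact hnil u u.2
  obtain ⟨m, hm⟩ := (LieModule.isNilpotent_iff k U L).mp hE
  -- stability
  have hst : ∀ j : ℕ, ∀ v ∈ LieModule.lowerCentralSeries k U L j,
      ⁅h, v⁆ ∈ LieModule.lowerCentralSeries k U L j := by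
    intro j
    induction j with
    | zero => intro v _; simp
    | succ j ih =>
      intro v hv
      rw [LieModule.lowerCentralSeries_succ, ← LieSubmodule.mem_toSubmodule,
        LieSubmodule.lieIdeal_oper_eq_linear_span'] at hv ⊢
      refine Submodule.span_induction ?_ ?_ ?_ ?_ hv
      · rintro _ ⟨u, _, n, hn, rfl⟩
        have h1 : ⁅h, ⁅u, n⁆⁆ = ⁅(⟨⁅h, (u : L)⁆, hh u u.2⟩ : U), n⁆ + ⁅u, ⁅h, n⁆⁆ := by
          change ⁅h, ⁅(u : L), n⁆⁆ = ⁅⁅h, (u : L)⁆, n⁆ + ⁅(u : L), ⁅h, n⁆⁆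
          rw [leibniz_lie]
        rw [h1]
        refine Submodule.add_mem _ (Submodule.subset_span ⟨_, LieSubmodule.mem_top _, n, hn, rfl⟩)
          (Submodule.subset_span ⟨u, LieSubmodule.mem_top _, _, ih n hn, rfl⟩)
      · simp
      · intro a b _ _ ha hb
        rw [lie_add]
        exact Submodule.add_mem _ ha hb
      · intro c a _ ha
        rw [lie_smul]
        exact Submodule.smul_mem _ c ha
  have hstep : ∀ j : ℕ, ∀ v ∈ LieModule.lowerCentralSeries k U L j,
      (LieAlgebra.ad k L h ∘ₗ LieAlgebra.ad k L x) v ∈ LieModule.lowerCentralSeries k U L (j + 1) := by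
    intro j v hv
    rw [LinearMap.comp_apply, LieAlgebra.ad_apply, LieAlgebra.ad_apply]
    apply hst
    rw [LieModule.lowerCentralSeries_succ]
    exact LieSubmodule.lie_mem_lie (LieSubmodule.mem_top (⟨x, hx⟩ : U)) hv
  have hpow : ∀ j : ℕ, ∀ y : L,
      ((LieAlgebra.ad k L h ∘ₗ LieAlgebra.ad k L x) ^ j) y ∈ LieModule.lowerCentralSeries k U L j := by
    intro j
    induction j with
    | zero => intro y; simp
    | succ j ih =>
      intro y
      rw [pow_succ', Module.End.mul_apply]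
      exact hstep j _ (ih y)
  have hnilp : IsNilpotent (LieAlgebra.ad k L h ∘ₗ LieAlgebra.ad k L x) := by
    refine ⟨m, ?_⟩
    ext y
    have := hpow m y
    rw [hm] at this
    simpa using this
  rw [killingForm_apply_apply]
  exact (LinearMap.isNilpotent_trace_of_isNilpotent hnilp).eq_zero

end Killing

theorem S14875
    (k : Type u) [Field k] (p : ℕ) [Fact p.Prime] [CharP k p]
    (L : Type v) [LieRing L] [LieAlgebra k L] [Module.Finite k L]
    (φ : PLie.PMap k p L) (hκ : (killingForm k L).Nondegenerate)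
    (U H : LieSubalgebra k L) (hH : H = U.normalizer)
    (hU : ∀ x : L, x ∈ U ↔ ∃ hx : x ∈ H, (⟨x, hx⟩ : ↥H) ∈ LieAlgebra.radical k ↥H ∧ PLie.IsPNilpotent φ x)
    (hperp : ∀ a b : L, (∀ y ∈ U, killingForm k L a y = 0) → (∀ y ∈ U, killingForm k L b y = 0) →
      ∀ y ∈ U, killingForm k L ⁅a, b⁆ y = 0) :
    ∀ x : L, x ∈ U ↔ ∀ h ∈ H, killingForm k L h x = 0 := by
  intro x
  constructor
  · intro hx h hh
    refine killing_eq_zero_of_normalizes U ?_ h ?_ x hx
    · intro u hu
      obtain ⟨_, _, hu2⟩ := (hU u).mp hu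
      exact isNilpotent_ad_of_isPNilpotent φ hu2
    · intro u hu
      rw [hH, LieSubalgebra.mem_normalizer_iff] at hh
      exact hh u hu
  · intro hx
    have hrefl : (killingForm k L).IsRefl := (LieModule.traceForm_isSymm k L L).isRefl
    have hoo := LinearMap.BilinForm.orthogonal_orthogonal hκ hrefl U.toSubmodule
    have hmemo : ∀ a : L, a ∈ (killingForm k L).orthogonal U.toSubmodule ↔
        ∀ y ∈ U, killingForm k L a y = 0 := by
      intro a
      rw [LinearMap.BilinForm.mem_orthogonal_iff]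
      constructor
      · intro h y hy
        rw [killing_comm]
        exact h y hy
      · intro h y hy
        change killingForm k L y a = 0
        rw [killing_comm]
        exact h y hy
    -- elements of U^⊥ normalise U
    have hnorm : ∀ a ∈ (killingForm k L).orthogonal U.toSubmodule, a ∈ H := by
      intro a ha
      rw [hH, LieSubalgebra.mem_normalizer_iff]
      intro u hu
      have : ⁅a, u⁆ ∈ (killingForm k L).orthogonal ((killingForm k L).orthogonal U.toSubmodule) := by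
        rw [LinearMap.BilinForm.mem_orthogonal_iff]
        intro b hb
        change killingForm k L b ⁅a, u⁆ = 0
        rw [← killing_lie_left]
        exact hperp b a ((hmemo b).mp hb) ((hmemo a).mp ha) u hu
      rw [hoo] at this
      exact this
    have : x ∈ (killingForm k L).orthogonal ((killingForm k L).orthogonal U.toSubmodule) := by
      rw [LinearMap.BilinForm.mem_orthogonal_iff]
      intro a ha
      exact hx a (hnorm a ha)
    rw [hoo] at this
    exact this

end Groth.Agent.LD.PL
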