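import Mathlib
import Groth.Prelude.Def_Flat
import Groth.Agent.Lib.Helper1.DimFormula
import Groth.Agent.Lib.Helper1.FibDimTot
import Groth.Agent.Lib.Helper1.FibGen
import Groth.Agent.Lib.Helper1.ClosureDim
import Groth.Agent.Lib.Helper1.GenPts
import Groth.Agent.Lib.Helper1.FibCompA
import Groth.Agent.Lib.Helper1.RelDim
import Groth.Agent.Lib.Helper1.EGA142
import Groth.Agent.Lib.Helper1.DimLocF

/-!
# Miracle flatness for schemes of finite type over a field (S10882)

Equidimensional source and target and equidimensional fibres of the expected dimension, with a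
regular target and a Cohen–Macaulay source, force flatness.  Everything is assembled from helper1's
dimension theory (`DimFormula`, `FibDimTot`, `FibGen`, `GenPts`, `FibCompA`) and `EGA142.s3440`.
-/

universe u

open AlgebraicGeometry CategoryTheory TopologicalSpace Topology

namespace Groth.Agent.LD.MirFlat

section A

variable {k : Type u} [Field k] {Z : Scheme.{u}} (gk : Z ⟶ Spec (CommRingCat.of k))

/-- on a scheme locally of finite type over a field all of whose irreducible components have
dimension `e`, the local dimension is `e` at every point. -/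
theorem localDim_eq_of_equidim [LocallyOfFiniteType gk] (e : ℕ)
    (hZe : ∀ W ∈ irreducibleComponents (Z : Type u), topologicalKrullDim W = e) (t : Z) :
    FlatMor.localDim Z t = (e : WithBot ℕ∞) := by
  obtain ⟨z, -, hzmax, hloc⟩ := Groth.Agent.H1.FibGen.exists_generic_localDim_eq gk t
  obtain ⟨s, hs, h1⟩ := Groth.Agent.H1.DimFormula.exists_localDim_eq_stalk_add_trdeg gk z
  obtain ⟨s', hs', h2⟩ := Groth.Agent.H1.ClosureDim.exists_trdeg_eq_dim_closure gk z
  have hss : s = s' := by
    have : (s : Cardinal) = s' := hs.symm.trans hs'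
    exact_mod_cast this
  have h0 : ringKrullDim (Z.presheaf.stalk z) = 0 := by
    obtain ⟨ξ, hξ, h0⟩ := Groth.Agent.H1.GenPts.exists_generization_stalk_dim_eq_zero z
    have := hzmax ξ hξ
    subst this
    exact h0
  have hcomp := Groth.Agent.H1.GenPts.closure_singleton_mem_irreducibleComponents z hzmax
  have h3 := hZe _ hcomp
  rw [← hloc, h1, h0, zero_add, hss, ← h2, h3]

end A

section B

variable {X Y : Scheme.{u}}

/-- if all irreducible components of all set-theoretic fibres have dimension `n`, the local fibre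
dimension is `n` everywhere. -/
theorem fibreDimAt_eq_of_equidim (f : X ⟶ Y) [LocallyOfFiniteType f] (n : ℕ)
    (hfib : ∀ y : Y, ∀ W ∈ irreducibleComponents (f.base ⁻¹' {y}), topologicalKrullDim W = (n : ℕ))
    (x : X) : FlatMor.fibreDimAt f x = (n : WithBot ℕ∞) := by
  obtain ⟨z, hfz, -, hmax, hdim⟩ := Groth.Agent.H1.FibGen.exists_fibre_generic_fibreDimAt_eq f x
  rw [← hdim]
  have hmax' : ∀ z' : X, f z' = f z → z' ⤳ z → z' = z :=
    fun z' h1 h2 => hmax z' (h1.trans hfz) h2
  rw [← Groth.Agent.H1.FibComp.dim_closure_inter_fibre' f z hmax']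
  let T : Set X := f.base ⁻¹' {f.base z}
  let ζ : T := ⟨z, rfl⟩
  haveI : QuasiSober T := (f.fiberHomeo (f.base z)).symm.isClosedEmbedding.quasiSober
  have hζ : ∀ w : T, w ⤳ ζ → w = ζ := by
    intro w hw
    have h1 : (w : X) ⤳ z := (subtype_specializes_iff w ζ).mp hw
    exact Subtype.ext (hmax' w.1 w.2 h1)
  have hcomp := Groth.Agent.H1.GenPts.closure_singleton_mem_irreducibleComponents ζ hζ
  have h3 := hfib (f.base z) _ hcomp
  have hcl : closure ({ζ} : Set T) = (Subtype.val : T → X) ⁻¹' closure ({z} : Set X) := by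
    rw [Topology.IsInducing.subtypeVal.closure_eq_preimage_closure_image, Set.image_singleton]
  have h4 := Groth.Agent.H1.RelDim.dim_preimage_eq_of_isEmbedding
    (Topology.IsEmbedding.subtypeVal : IsEmbedding (Subtype.val : T → X)) (closure ({z} : Set X))
  rw [Subtype.range_coe, ← hcl] at h4
  exact h4.symm.trans h3

end B

/-- **S10882**: miracle flatness for schemes locally of finite type over a field. -/
theorem flat_of_equidim (k : Type u) [Field k] {X Y : Scheme.{u}}
    (q : Y ⟶ Spec (CommRingCat.of k)) [LocallyOfFiniteType q] (f : X ⟶ Y)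
    [LocallyOfFiniteType (f ≫ q)]
    (hY : ∀ y : Y, IsRegularLocalRing (Y.presheaf.stalk y))
    (hX : ∀ x : X, LocCoh.IsCohenMacaulayLocalRing (X.presheaf.stalk x))
    (e d : ℕ) (hde : d ≤ e)
    (hXe : ∀ Z ∈ irreducibleComponents (X : Type u), topologicalKrullDim Z = e)
    (hYd : ∀ Z ∈ irreducibleComponents (Y : Type u), topologicalKrullDim Z = d)
    (hfib : ∀ y : Y, ∀ Z ∈ irreducibleComponents (f.base ⁻¹' {y}),
      topologicalKrullDim Z = (e - d : ℕ)) :
    Flat f := by
  haveI : LocallyOfFiniteType f := locallyOfFiniteType_of_comp f q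
  haveI : IsLocallyNoetherian Y := LocallyOfFiniteType.isLocallyNoetherian q
  apply Flat.of_stalkMap f
  intro x
  obtain ⟨t1, ht1, h1⟩ :=
    Groth.Agent.H1.DimFormula.exists_localDim_eq_stalk_add_trdeg (f ≫ q) x
  obtain ⟨t2, ht2, h2⟩ := Groth.Agent.H1.DimFormula.exists_localDim_eq_stalk_add_trdeg q (f x)
  obtain ⟨t3, ht3, h3⟩ := Groth.Agent.H1.DimFormula.exists_fibreDimAt_eq_stalk_add_trdeg f x
  have hadd := Groth.Agent.H1.FibDimTot.trdeg_residueField_add q f x
  rw [ht1, ht2, ht3] at hadd
  have hadd' : t2 + t3 = t1 := by exact_mod_cast hadd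
  rw [localDim_eq_of_equidim (f ≫ q) e hXe x] at h1
  rw [localDim_eq_of_equidim q d hYd (f x)] at h2
  rw [fibreDimAt_eq_of_equidim f (e - d) hfib x] at h3
  have heq : ringKrullDim (X.presheaf.stalk x) =
      ringKrullDim (Y.presheaf.stalk (f.base x)) +
        ringKrullDim ((f.fiber (f.base x)).presheaf.stalk (f.asFiber x)) := by
    apply Groth.Agent.H1.DimLoc.withBot_add_natCast_cancel t1
    rw [← h1, ← hadd', Nat.cast_add, add_add_add_comm]
    erw [← h2, ← h3]
    rw [← Nat.cast_add, Nat.add_sub_of_le hde]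
  exact ((Groth.Agent.H1.EGA142.s3440 f x (hY _) (hX x)).out 4 1).mp heq

end Groth.Agent.LD.MirFlat
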