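import Mathlib

set_option autoImplicit false
universe u

namespace Groth.Agent.LD.Chev

open IsLocalRing

variable (R : Type u) [CommRing R] [IsNoetherianRing R] [IsLocalRing R]

/-- stabilization modulo m^k -/
theorem exists_stab (I : ℕ → Ideal R) (hI : Antitone I) (k : ℕ) :
    ∃ t : ℕ, ∀ s, t ≤ s → I t ≤ I s ⊔ maximalIdeal R ^ k := by
  rcases Nat.eq_zero_or_pos k with rfl | hk
  · exact ⟨0, fun s _ => by simp⟩
  · have hmin : maximalIdeal R ∈ (maximalIdeal R ^ k).minimalPrimes := by
      refine ⟨⟨inferInstance, Ideal.pow_le_self hk.ne'⟩, fun q ⟨hq1, hq2⟩ _ => ?_⟩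
      exact hq1.le_of_pow_le hq2
    have : IsArtinianRing (R ⧸ maximalIdeal R ^ k) :=
      IsLocalRing.quotient_artinian_of_mem_minimalPrimes_of_isLocalRing _ hmin
    let f : ℕ →o (Ideal (R ⧸ maximalIdeal R ^ k))ᵒᵈ :=
      ⟨fun s => OrderDual.toDual ((I s).map (Ideal.Quotient.mk (maximalIdeal R ^ k))),
        fun a b hab => Ideal.map_mono (hI hab)⟩
    obtain ⟨t, ht⟩ := IsArtinian.monotone_stabilizes f
    refine ⟨t, fun s hs => ?_⟩
    have h1 : (I t).map (Ideal.Quotient.mk (maximalIdeal R ^ k)) =
        (I s).map (Ideal.Quotient.mk (maximalIdeal R ^ k)) := by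
      have := ht s hs
      exact congrArg OrderDual.ofDual this
    calc I t ≤ ((I t).map (Ideal.Quotient.mk (maximalIdeal R ^ k))).comap
          (Ideal.Quotient.mk (maximalIdeal R ^ k)) := Ideal.le_comap_map
      _ = ((I s).map (Ideal.Quotient.mk (maximalIdeal R ^ k))).comap
          (Ideal.Quotient.mk (maximalIdeal R ^ k)) := by rw [h1]
      _ = I s ⊔ maximalIdeal R ^ k := by
        rw [Ideal.comap_map_of_surjective _ Ideal.Quotient.mk_surjective]
        congr 1
        rw [← RingHom.ker_eq_comap_bot, Ideal.mk_ker]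

/-- closedness of ideals -/
theorem mem_of_forall_mem_sup (J : Ideal R) (x : R)
    (h : ∀ k, x ∈ J ⊔ maximalIdeal R ^ k) : x ∈ J := by
  have hH : IsHausdorff (maximalIdeal R) (R ⧸ J) := inferInstance
  have : (Ideal.Quotient.mk J x) = 0 := by
    apply hH.haus
    intro k
    rw [SModEq.zero]
    obtain ⟨a, ha, b, hb, rfl⟩ := Submodule.mem_sup.mp (h k)
    rw [map_add, Ideal.Quotient.eq_zero_iff_mem.mpr ha, zero_add]
    have : Ideal.Quotient.mk J b = b • (1 : R ⧸ J) := by
      rw [Algebra.smul_def, mul_one]; rfl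
    rw [this]
    exact Submodule.smul_mem_smul hb Submodule.mem_top
  exact Ideal.Quotient.eq_zero_iff_mem.mp this

theorem chevalley [IsAdicComplete (maximalIdeal R) R] (I : ℕ → Ideal R) (hI : Antitone I)
    (hinf : ⨅ s, I s = ⊥) (n : ℕ) : ∃ s : ℕ, I s ≤ maximalIdeal R ^ n := by
  classical
  -- monotone stabilization indices
  choose t0 ht0 using exists_stab R I hI
  let t : ℕ → ℕ := fun k => (Finset.range (k + 1)).sup t0
  have ht_ge : ∀ k, t0 k ≤ t k := fun k =>
    Finset.le_sup (f := t0) (Finset.mem_range.mpr (Nat.lt_succ_self k))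
  have ht_mono : Monotone t := fun a b hab =>
    Finset.sup_mono (Finset.range_mono (Nat.succ_le_succ hab))
  have ht : ∀ k s, t k ≤ s → I (t k) ≤ I s ⊔ maximalIdeal R ^ k := fun k s hs =>
    (hI (ht_ge k)).trans (ht0 k s ((ht_ge k).trans hs))
  refine ⟨t n, fun x hx => ?_⟩
  -- build the sequence
  have step : ∀ j (y : {y : R // y ∈ I (t (n + j))}),
      ∃ z : {z : R // z ∈ I (t (n + (j + 1)))}, y.1 - z.1 ∈ maximalIdeal R ^ (n + j) := by
    intro j y
    have := ht (n + j) (t (n + (j + 1))) (ht_mono (by omega)) y.2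
    obtain ⟨a, ha, b, hb, hab⟩ := Submodule.mem_sup.mp this
    exact ⟨⟨a, ha⟩, by rw [← hab]; simpa using hb⟩
  choose nxt hnxt using step
  let g : (j : ℕ) → {y : R // y ∈ I (t (n + j))} := fun j =>
    Nat.rec (motive := fun j => {y : R // y ∈ I (t (n + j))}) ⟨x, hx⟩ (fun j y => nxt j y) j
  let gv : ℕ → R := fun j => (g j).1
  have hgv_mem : ∀ j, gv j ∈ I (t (n + j)) := fun j => (g j).2
  have hg0 : gv 0 = x := rfl
  have hgs : ∀ j, gv j - gv (j + 1) ∈ maximalIdeal R ^ (n + j) := fun j => hnxt j (g j)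
  clear_value gv
  let f : ℕ → R := fun i => gv (i - n)
  have hf : ∀ {a b : ℕ}, a ≤ b → f a ≡ f b [SMOD (maximalIdeal R ^ a • ⊤ : Submodule R R)] := by
    intro a b hab
    induction b, hab using Nat.le_induction with
    | base => exact SModEq.refl _
    | succ b hab ih =>
      refine ih.trans ?_
      rw [SModEq.sub_mem, smul_eq_mul, Ideal.mul_top]
      by_cases hbn : b < n
      · have h1 : b - n = 0 := by omega
        have h2 : b + 1 - n = 0 := by omega
        simp only [f, h1, h2, sub_self, Submodule.zero_mem]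
      · have h1 : b + 1 - n = (b - n) + 1 := by omega
        have h3 : n + (b - n) = b := by omega
        have := hgs (b - n)
        rw [h3] at this
        simp only [f, h1]
        exact Ideal.pow_le_pow_right hab this
  obtain ⟨L, hL⟩ := IsPrecomplete.prec (I := maximalIdeal R) (M := R) inferInstance hf
  have hL' : ∀ i, f i - L ∈ maximalIdeal R ^ i := by
    intro i
    have := hL i
    rwa [SModEq.sub_mem, smul_eq_mul, Ideal.mul_top] at this
  -- L lies in every I s
  have hLs : ∀ s, L ∈ I s := by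
    intro s
    apply mem_of_forall_mem_sup R
    intro k
    -- choose i = n + k
    have h1 : f (n + k) ∈ I s ⊔ maximalIdeal R ^ k := by
      have hfi : f (n + k) ∈ I (t (n + k)) := by
        have : n + k - n = k := by omega
        simp only [f, this]
        exact hgv_mem k
      by_cases hts : t (n + k) ≤ s
      · have := ht (n + k) s hts hfi
        have hle : maximalIdeal R ^ (n + k) ≤ maximalIdeal R ^ k :=
          Ideal.pow_le_pow_right (Nat.le_add_left k n)
        exact (sup_le_sup_left hle (I s)) this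
      · exact Ideal.mem_sup_left (hI (le_of_not_ge hts) hfi)
    have h2 : f (n + k) - L ∈ maximalIdeal R ^ k :=
      Ideal.pow_le_pow_right (by omega) (hL' (n + k))
    have : L = f (n + k) - (f (n + k) - L) := by ring
    rw [this]
    exact Submodule.sub_mem _ h1 (Ideal.mem_sup_right h2)
  have hL0 : L = 0 := by
    have : L ∈ ⨅ s, I s := (Submodule.mem_iInf _).mpr hLs
    rw [hinf] at this
    simpa using this
  have := hL' n
  have hfn : f n = x := by simp only [f, Nat.sub_self]; exact hg0
  rw [hfn, hL0, sub_zero] at this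
  exact this

end Groth.Agent.LD.Chev
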