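import Mathlib
import Groth.Prelude.Def_QCohCat
import Groth.Agent.Lib.Lead.QC.Closure
import Groth.Agent.Lib.Lead.SC.SerreCrit
import Groth.Agent.Lib.Lead.FPExt.Compact
import Groth.Agent.Lib.Helper1.SheafOfModulesGrothendieck
import Groth.Agent.Lib.Helper2.Gab2

/-! # `QCoh(X)` for a qcqs scheme `X`: cocomplete, well-powered abelian category with a small
separating family; the special adjoint functor theorem. -/

universe u u'
open CategoryTheory Limits AlgebraicGeometry TopologicalSpace Opposite ZeroObject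

namespace Groth.Agent.LD.QCGroth
open Groth.Agent.LD

variable (X : Scheme.{u})

instance isClosedUnderIsomorphisms : (QCohCat.isQCoh X).IsClosedUnderIsomorphisms where
  of_iso e h := QC.qc_of_iso e h

instance containsZero : (QCohCat.isQCoh X).ContainsZero :=
  ⟨⟨0, isZero_zero _, SC.qc_zero X⟩⟩

instance isClosedUnderKernels : (QCohCat.isQCoh X).IsClosedUnderKernels := by
  refine ⟨?_⟩
  rintro _ ⟨f, k, hk, ⟨h1, h2⟩⟩
  have e : k.pt ≅ kernel f := IsLimit.conePointUniqueUpToIso hk (limit.isLimit _)
  exact (QCohCat.isQCoh X).prop_of_iso e.symm (QC.qc_kernel f h1 h2)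

instance isClosedUnderCokernels : (QCohCat.isQCoh X).IsClosedUnderCokernels := by
  refine ⟨?_⟩
  rintro _ ⟨f, k, hk, ⟨h1, h2⟩⟩
  have e : k.pt ≅ cokernel f := IsColimit.coconePointUniqueUpToIso hk (colimit.isColimit _)
  exact (QCohCat.isQCoh X).prop_of_iso e.symm (QC.qc_cokernel f h1 h2)

lemma isClosedUnderLimitsOfShape_fin (J : Type) [SmallCategory J] [FinCategory J] :
    (QCohCat.isQCoh X).IsClosedUnderLimitsOfShape J where
  limitsOfShape_le := by
    rintro M ⟨h⟩
    have h1 : (limit h.diag).IsQuasicoherent := QC.qc_limit h.diag h.prop_diag_obj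
    exact QC.qc_of_iso (h.isLimit.conePointUniqueUpToIso (limit.isLimit _)).symm h1

lemma isClosedUnderColimitsOfShape (J : Type u) [SmallCategory J] :
    (QCohCat.isQCoh X).IsClosedUnderColimitsOfShape J where
  colimitsOfShape_le := by
    rintro M ⟨h⟩
    have h1 : (colimit h.diag).IsQuasicoherent := QC.qc_colimit h.diag h.prop_diag_obj
    exact QC.qc_of_iso (h.isColimit.coconePointUniqueUpToIso (colimit.isColimit _)).symm h1

instance isClosedUnderFiniteProducts : (QCohCat.isQCoh X).IsClosedUnderFiniteProducts :=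
  ObjectProperty.IsClosedUnderFiniteProducts.of_isClosedUnderLimitsOfShape.{0}
    (fun J _ => by
      classical
      haveI := Fintype.ofFinite J
      exact isClosedUnderLimitsOfShape_fin X (Discrete J))

instance preservesFiniteLimits_ι : PreservesFiniteLimits (QCohCat.isQCoh X).ι where
  preservesFiniteLimits J _ _ := by
    haveI := isClosedUnderLimitsOfShape_fin X J
    infer_instance

instance hasColimits : HasColimitsOfSize.{u, u} (QCohCat.QCoh X) :=
  ⟨fun J _ => by
    haveI := isClosedUnderColimitsOfShape X J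
    infer_instance⟩

noncomputable instance abelian : Abelian (QCohCat.QCoh X) := inferInstance

lemma isGrothendieckAbelian_modules : IsGrothendieckAbelian.{u} X.Modules :=
  Groth.Agent.H1.sheafOfModules_isGrothendieckAbelian
    (Opens.grothendieckTopology X) X.ringCatSheaf

lemma wellPowered_modules : WellPowered.{u} X.Modules :=
  haveI := isGrothendieckAbelian_modules X
  IsGrothendieckAbelian.wellPowered _

lemma wellPowered : WellPowered.{u} (QCohCat.QCoh X) :=
  haveI := wellPowered_modules X
  Groth.Agent.H2.Gab.wellPowered_of_faithful (QCohCat.isQCoh X).ι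

variable {X}

/-- a quasi-coherent module of finite type on a quasi-compact scheme is finitely generated with
respect to any small separating family of `O_X`-modules. -/
lemma fg_of_isFiniteType [CompactSpace X] {ι : Type u} (s : ι → X.Modules)
    (hsep : ∀ ⦃M N : X.Modules⦄ (f g : M ⟶ N),
      (∀ (i : ι) (h : s i ⟶ M), h ≫ f = h ≫ g) → f = g)
    (F : X.Modules) [hFq : F.IsQuasicoherent] (hF : F.IsFiniteType) :
    Groth.Agent.H2.Gab.FG s F := by
  classical
  haveI := isGrothendieckAbelian_modules X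
  obtain ⟨l, hl⟩ := FPExt.exists_generating_list F hF
  have hc := Groth.Agent.H2.Gab.Ycolim s hsep F
  obtain ⟨S, hS⟩ := FPExt.exists_common_stage hc l
  set c := (Over.forget F).mapCocone (Groth.Agent.H2.Gab.Ycocone s F) with hcdef
  haveI hepi : Epi (c.ι.app S) := hl _ _ hS
  haveI hmono : Mono (c.ι.app S) := by
    have : c.ι.app S = ((Groth.Agent.H2.Gab.Yfun s F).obj S).obj.hom := rfl
    rw [this]
    exact ((Groth.Agent.H2.Gab.Yfun s F).obj S).property
  have hfg : Groth.Agent.H2.Gab.FG s (Groth.Agent.H2.Gab.Ysub s F S : X.Modules) :=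
    Groth.Agent.H2.Gab.good_Ysub s (Groth.Agent.H2.Gab.good_fg s) F S
  obtain ⟨n, φ, e, he⟩ := hfg
  let e' : (∐ fun k => s (φ k)) ⟶ F := e ≫ c.ι.app S
  haveI : Epi e' := @epi_comp _ _ _ _ _ e he (c.ι.app S) hepi
  exact ⟨n, φ, e', inferInstance⟩

variable (X)

/-- `QCoh(X)` has a small separating family when `X` is qcqs. -/
theorem exists_small_separating [CompactSpace X] [QuasiSeparatedSpace X] :
    ∃ (𝒢 : ObjectProperty (QCohCat.QCoh X)), ObjectProperty.Small.{u} 𝒢 ∧ 𝒢.IsSeparating := by
  classical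
  haveI := isGrothendieckAbelian_modules X
  haveI := wellPowered_modules X
  let s : PUnit.{u + 1} → X.Modules := fun _ => separator X.Modules
  have hsep : ∀ ⦃M N : X.Modules⦄ (f g : M ⟶ N),
      (∀ (i : PUnit.{u + 1}) (h : s i ⟶ M), h ≫ f = h ≫ g) → f = g :=
    fun M N f g h => (isSeparator_def _).1 (isSeparator_separator X.Modules) f g
      (fun a => h PUnit.unit a)
  haveI hES : ObjectProperty.EssentiallySmall.{u} (Groth.Agent.H2.Gab.FG s) :=
    Groth.Agent.H2.Gab.essentiallySmall_fg s
  obtain ⟨Q, hQs, hQ⟩ := ObjectProperty.EssentiallySmall.exists_small_le'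
    (Groth.Agent.H2.Gab.FG s)
  refine ⟨fun T => Q T.obj, ?_, ?_⟩
  · haveI := hQs
    refine small_of_injective
      (f := fun T : Subtype (fun T : QCohCat.QCoh X => Q T.obj) =>
        (⟨T.1.obj, T.2⟩ : Subtype Q)) ?_
    rintro ⟨⟨a, ha⟩, h1⟩ ⟨⟨b, hb⟩, h2⟩ h
    have hab : a = b := congrArg Subtype.val h
    subst hab
    rfl
  · intro M N f g h
    haveI : M.obj.IsQuasicoherent := M.property
    obtain ⟨I, _, _, D, c, hc, hD, hpt⟩ := FPExt.exists_filtered_colimit_fp M.obj
    have key : ∀ i, c.ι.app i ≫ eqToHom hpt ≫ f.hom = c.ι.app i ≫ eqToHom hpt ≫ g.hom := by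
      intro i
      haveI := hD i
      haveI hq : (D.obj i).IsQuasicoherent := inferInstance
      have hft : (D.obj i).IsFiniteType := inferInstance
      have hfg : Groth.Agent.H2.Gab.FG s (D.obj i) := fg_of_isFiniteType s hsep (D.obj i) hft
      obtain ⟨Y, hY, ⟨e⟩⟩ := hQ _ hfg
      have hYq : Y.IsQuasicoherent := QC.qc_of_iso e hq
      let T : QCohCat.QCoh X := ⟨Y, hYq⟩
      have h1 := h T hY (ObjectProperty.homMk (e.inv ≫ c.ι.app i ≫ eqToHom hpt))
      have h2 := congrArg (fun φ => φ.hom) h1
      simp only [ObjectProperty.FullSubcategory.comp_hom, ObjectProperty.homMk_hom,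
        Category.assoc] at h2
      exact (cancel_epi e.inv).1 h2
    have h3 : eqToHom hpt ≫ f.hom = eqToHom hpt ≫ g.hom := hc.hom_ext key
    exact ObjectProperty.hom_ext _ ((cancel_epi (eqToHom hpt)).1 h3)

/-- **special adjoint functor theorem for `QCoh(X)`**, `X` qcqs. -/
theorem isLeftAdjoint_of_preservesColimits [CompactSpace X] [QuasiSeparatedSpace X]
    {A : Type u'} [Category.{u} A] (F : QCohCat.QCoh X ⥤ A)
    [PreservesColimitsOfSize.{u, u} F] : F.IsLeftAdjoint := by
  haveI : WellPowered.{u} (QCohCat.QCoh X) := wellPowered X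
  haveI : WellPowered.{u} (QCohCat.QCoh X)ᵒᵖ := Abelian.wellPowered_opposite
  obtain ⟨𝒢, h𝒢s, h𝒢⟩ := exists_small_separating X
  haveI := h𝒢s
  exact isLeftAdjoint_of_preservesColimits_of_isSeparating h𝒢 F

end Groth.Agent.LD.QCGroth
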