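import Mathlib

set_option autoImplicit false
universe u

namespace Groth.Agent.LD.Ara

open Ideal

theorem exists_seq (R : Type u) [CommRing R] [IsNoetherianRing R] (I : Ideal R) (r : ℕ) :
    ∃ f : Fin r → R, (∀ i, f i ∈ I) ∧ ∀ (p : Ideal R) [p.IsPrime],
      Ideal.span (Set.range f) ≤ p → ¬ I ≤ p → (r : ℕ∞) ≤ p.height := by
  classical
  induction r with
  | zero => exact ⟨Fin.elim0, fun i => i.elim0, fun p _ _ _ => by simp⟩
  | succ r ih =>
    obtain ⟨f, hfI, hf⟩ := ih
    set J := Ideal.span (Set.range f) with hJ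
    have hfin : (J.minimalPrimes).Finite := Ideal.finite_minimalPrimes_of_isNoetherianRing R J
    set S : Finset (Ideal R) := hfin.toFinset.filter (fun q => ¬ I ≤ q) with hS
    have hSprime : ∀ q ∈ S, q.IsPrime := by
      intro q hq
      have : q ∈ J.minimalPrimes := by
        have := (Finset.mem_filter.mp hq).1
        exact hfin.mem_toFinset.mp this
      exact this.1.1
    have hex : ∃ x ∈ I, ∀ q ∈ S, x ∉ q := by
      by_contra hcon
      push Not at hcon
      have hsub : (I : Set R) ⊆ ⋃ q ∈ (↑S : Set (Ideal R)), (id q : Ideal R) := by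
        intro x hx
        obtain ⟨q, hq, hxq⟩ := hcon x hx
        exact Set.mem_biUnion (show q ∈ (↑S : Set (Ideal R)) from hq) hxq
      obtain ⟨q, hq, hIq⟩ := (Ideal.subset_union_prime (f := id) ⊤ ⊤
        (fun q hq _ _ => hSprime q hq)).mp hsub
      exact (Finset.mem_filter.mp hq).2 hIq
    obtain ⟨x, hxI, hx⟩ := hex
    refine ⟨Fin.snoc f x, ?_, ?_⟩
    · intro i
      refine Fin.lastCases ?_ (fun j => ?_) i
      · simpa using hxI
      · simpa using hfI j
    · intro p hp hle hIp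
      have hJp : J ≤ p := by
        rw [hJ, Ideal.span_le]
        rintro _ ⟨j, rfl⟩
        have : Fin.snoc (α := fun _ => R) f x (Fin.castSucc j) ∈ p :=
          hle (Ideal.subset_span ⟨_, rfl⟩)
        simpa using this
      have hxp : x ∈ p := by
        have : Fin.snoc (α := fun _ => R) f x (Fin.last r) ∈ p :=
          hle (Ideal.subset_span ⟨_, rfl⟩)
        simpa using this
      obtain ⟨q, hqmin, hqp⟩ := Ideal.exists_minimalPrimes_le hJp
      have : q.IsPrime := hqmin.1.1
      have hIq : ¬ I ≤ q := fun h => hIp (h.trans hqp)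
      have hqS : q ∈ S := Finset.mem_filter.mpr ⟨hfin.mem_toFinset.mpr hqmin, hIq⟩
      have hne : q ≠ p := by
        rintro rfl
        exact hx q hqS hxp
      have hlt : q < p := lt_of_le_of_ne hqp hne
      have h1 : (r : ℕ∞) ≤ q.height := hf q hqmin.1.2 hIq
      have h2 := Ideal.height_add_one_le_of_lt_of_isPrime hlt
      calc ((r + 1 : ℕ) : ℕ∞) = (r : ℕ∞) + 1 := by push_cast; rfl
        _ ≤ q.height + 1 := by gcongr
        _ ≤ p.height := h2

theorem exists_seq_iff (R : Type u) [CommRing R] [IsNoetherianRing R] (I : Ideal R) (r : ℕ) :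
    ∃ f : Fin r → R, (∀ i, f i ∈ I) ∧ ∀ (p : Ideal R) [p.IsPrime], p.height < r →
      (I ≤ p ↔ Ideal.span (Set.range f) ≤ p) := by
  obtain ⟨f, hfI, hf⟩ := exists_seq R I r
  refine ⟨f, hfI, fun p _ hp => ⟨fun h => le_trans ?_ h, fun h => ?_⟩⟩
  · rw [Ideal.span_le]; rintro _ ⟨i, rfl⟩; exact hfI i
  · by_contra hcon
    exact absurd (hf p h hcon) (not_le.mpr hp)

theorem radical_eq_of_forall (R : Type u) [CommRing R] (I J : Ideal R)
    (h : ∀ (p : Ideal R) [p.IsPrime], (I ≤ p ↔ J ≤ p)) : I.radical = J.radical := by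
  rw [Ideal.radical_eq_sInf, Ideal.radical_eq_sInf]
  congr 1
  ext p
  constructor
  · rintro ⟨h1, h2⟩; exact ⟨(@h p h2).mp h1, h2⟩
  · rintro ⟨h1, h2⟩; exact ⟨(@h p h2).mpr h1, h2⟩

end Groth.Agent.LD.Ara
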