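import Mathlib
import Groth.Prelude.Def_CAlg
import Groth.Prelude.Def_CohB1
import Groth.Prelude.Def_FlatMod2
import Groth.Agent.Lib.Helper1.AusBuchReg
import Groth.Agent.Lib.Helper1.SmoothDepth
import Groth.Agent.Lib.Helper1.CohLen
import Groth.Agent.Lib.Helper1.StalkGen
import Groth.Agent.Lib.Helper6.DepthKit
import Groth.Agent.Lib.Helper2.StalkSpec
import Groth.Agent.H4.LFP1
import Groth.Agent.Lib.Lead.QC.LocFree
import Groth.Agent.Lib.Lead.QC.Coh

/-! Lead: on a regular scheme, a coherent module is Cohen–Macaulay with full support iff it is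
finite locally free of positive rank near every point (S0828). -/

set_option autoImplicit false
universe u
open CategoryTheory AlgebraicGeometry IsLocalRing

namespace Groth.Agent.LD.CMFree

open Groth.Agent.H1.StalkGen Groth.Agent.H2.StalkSpec

attribute [-instance] Groth.Agent.LD.QC.stalkModule

variable {X : Scheme.{u}}

/-- if the stalks of `F` at all generizations of `x` are nonzero, the support of the stalk at `x`
is the whole spectrum of the local ring. -/
theorem support_stalk_eq_univ (F : X.Modules) [F.IsQuasicoherent] (x : X)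
    (h : ∀ z : X, z ⤳ x → Nontrivial (F.presheaf.stalk z)) :
    Module.support (X.presheaf.stalk x) (F.presheaf.stalk x) = Set.univ := by
  ext q
  simp only [Set.mem_univ, iff_true]
  have hz := fromSpecStalk_specializes x q
  have hq := primeOf_fromSpecStalk x q
  letI := specModule F hz
  haveI := isLocalizedModule_specLinear F hz
  have e := IsLocalizedModule.iso (primeOf hz).asIdeal.primeCompl (specLinear F hz)
  haveI : Nontrivial (F.presheaf.stalk (X.fromSpecStalk x q)) := h _ hz
  have hn : Nontrivial (LocalizedModule (primeOf hz).asIdeal.primeCompl (F.presheaf.stalk x)) :=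
    e.toEquiv.nontrivial
  rw [hq] at hn
  exact hn

theorem supportDim_eq_of_support_eq_univ {R : Type u} [CommRing R] {M : Type u} [AddCommGroup M]
    [Module R M] (h : Module.support R M = Set.univ) :
    Module.supportDim R M = ringKrullDim R := by
  unfold Module.supportDim ringKrullDim
  rw [h]
  exact Order.krullDim_eq_of_orderIso OrderIso.Set.univ

/-- `S0828`. -/
theorem main (X : Scheme.{u}) [IsLocallyNoetherian X]
    (hreg : ∀ x : X, IsRegularLocalRing (X.presheaf.stalk x)) (F : X.Modules) (hF : Coh.IsCoh F) :
    (CohB1.support F = Set.univ ∧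
        ∀ x : X, LocCoh.IsCohenMacaulayModule (X.presheaf.stalk x) ↑(F.presheaf.stalk x)) ↔
      ∀ x : X, ∃ (U : X.Opens) (n : ℕ), x ∈ U ∧ 0 < n ∧
        Nonempty (F.restrict U.ι ≅ FlatMod.freeMod (↑U) n) := by
  haveI : F.IsQuasicoherent := hF.1
  have hfin : ∀ x : X, Module.Finite (X.presheaf.stalk x) (F.presheaf.stalk x) :=
    fun x => Groth.Agent.H1.CohLen.finite_stalk F hF.2 x
  constructor
  · rintro ⟨hsupp, hcm⟩
    have hnt : ∀ z : X, Nontrivial (F.presheaf.stalk z) := by
      intro z
      have hz : z ∈ CohB1.support F := by rw [hsupp]; trivial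
      exact not_subsingleton_iff_nontrivial.mp hz
    have hfree : ∀ x : X, Module.Free (X.presheaf.stalk x) (F.presheaf.stalk x) := by
      intro x
      haveI := hreg x
      haveI := hfin x
      apply Groth.Agent.H1.AB.free_of_depth_eq_dim
      have h1 := supportDim_eq_of_support_eq_univ
        (support_stalk_eq_univ F x (fun z _ => hnt z))
      have h2 : Module.supportDim (X.presheaf.stalk x) (F.presheaf.stalk x) =
          ((LocCoh.depth (X.presheaf.stalk x) (F.presheaf.stalk x) : ℕ∞) : WithBot ℕ∞) := hcm x
      rw [← h2, h1]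
    have hlf := Groth.Agent.LD.QC.isFinLocFree_of_free_stalks F
      (Groth.Agent.LD.QC.isFinitePresentation_of_qc_ft F hF.1 hF.2) hfree
    intro x
    obtain ⟨U, n, hxU, ⟨e⟩⟩ := hlf x
    refine ⟨U, n, hxU, ?_, ⟨e⟩⟩
    have hr := Groth.Agent.H4.LFP1.finrank_stalk_of_restrict_iso_freeMod F U n e x hxU
    haveI := hreg x
    haveI := hfin x
    haveI := hfree x
    haveI := hnt x
    rw [← hr]
    exact (Module.finrank_pos_iff_of_free (X.presheaf.stalk x) (F.presheaf.stalk x)).mpr inferInstance
  · intro h
    have hlf : FlatMod.IsFinLocFree F := by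
      intro x
      obtain ⟨U, n, hxU, -, he⟩ := h x
      exact ⟨U, n, hxU, he⟩
    have hfree : ∀ x : X, Module.Free (X.presheaf.stalk x) (F.presheaf.stalk x) :=
      fun x => Groth.Agent.LD.QC.free_stalk_of_isFinLocFree F hlf x
    have hnt : ∀ z : X, Nontrivial (F.presheaf.stalk z) := by
      intro x
      obtain ⟨U, n, hxU, hn, ⟨e⟩⟩ := h x
      have hr := Groth.Agent.H4.LFP1.finrank_stalk_of_restrict_iso_freeMod F U n e x hxU
      haveI := hreg x
      haveI := hfin x
      haveI := hfree x
      apply (Module.finrank_pos_iff_of_free (X.presheaf.stalk x) (F.presheaf.stalk x)).mp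
      exact lt_of_lt_of_eq hn hr.symm
    refine ⟨?_, ?_⟩
    · ext z
      simp only [Set.mem_univ, iff_true]
      exact not_subsingleton_iff_nontrivial.mpr (hnt z)
    · intro x
      haveI := hreg x
      haveI := hfin x
      haveI := hfree x
      haveI := hnt x
      have hd : ringKrullDim (X.presheaf.stalk x) =
          ((maximalIdeal (X.presheaf.stalk x)).spanFinrank : ℕ) :=
        (IsRegularLocalRing.spanFinrank_maximalIdeal (R := X.presheaf.stalk x)).symm
      set d := (maximalIdeal (X.presheaf.stalk x)).spanFinrank with hdd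
      have h1 : LocCoh.depth (X.presheaf.stalk x) (X.presheaf.stalk x) = d :=
        Groth.Agent.H1.AB.depth_eq_of_isRegularLocalRing d hd
      have h2 : (d : ℕ∞) ≤ LocCoh.depth (X.presheaf.stalk x) (F.presheaf.stalk x) :=
        Groth.Agent.H1.SmoothDepth.depth_stalk_finLocFree_ge F hlf d x (by rw [h1])
      obtain ⟨t, ht, hle⟩ := Groth.Agent.H6.Depth.exists_depth_eq
        (R := X.presheaf.stalk x) (F.presheaf.stalk x)
      have h3 : Module.supportDim (X.presheaf.stalk x) (F.presheaf.stalk x) ≤ (d : WithBot ℕ∞) := by
        rw [← hd]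
        exact Module.supportDim_le_ringKrullDim _ _
      rw [ht] at h2
      have hdt : d ≤ t := by exact_mod_cast h2
      change Module.supportDim (X.presheaf.stalk x) (F.presheaf.stalk x) =
        ((LocCoh.depth (X.presheaf.stalk x) (F.presheaf.stalk x) : ℕ∞) : WithBot ℕ∞)
      rw [ht]
      apply le_antisymm
      · refine h3.trans ?_
        exact_mod_cast hdt
      · exact hle

end Groth.Agent.LD.CMFree
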