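import Mathlib
import Groth.Agent.Lib.Lead.FF.H0Const
import Groth.Agent.Lib.Helper5.HensCouple.H
import Groth.Agent.Lib.Helper9.Misc.CMS1
import Groth.Agent.Lib.Helper1.CMFib
import Groth.Agent.Lib.Helper3.SchDenseDepth
import Groth.Agent.Lib.Helper3.AG.FibreDim
import Groth.Agent.Lib.Helper5.DegC.Tors

/-! # A proper one-dimensional scheme over a field with `H⁰(O) = k` is connected, Cohen–Macaulay
and equidimensional. -/

universe u
open CategoryTheory Limits AlgebraicGeometry TopologicalSpace Opposite IsLocalRing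

namespace Groth.Agent.LD.CurveCM

/-- every nonzero global function is a unit. -/
def UnitsOrZero (X : Scheme.{u}) : Prop := ∀ a : Γ(X, ⊤), a ≠ 0 → IsUnit a

lemma unitsOrZero_of_finrank (k : Type u) [Field k] (X : Scheme.{u})
    [X.Over (Spec (CommRingCat.of k))]
    (h0 : Module.finrank k (Coh.HH X (Coh.structureModule X) 0) = 1) : UnitsOrZero X := by
  letI : Algebra k Γ(X, ⊤) := (Coh.toGlobal (X ↘ Spec (CommRingCat.of k))).toAlgebra
  have h1 : Module.finrank k Γ(X, ⊤) = 1 := (FF.finrank_HH0_eq k X).symm.trans h0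
  haveI : Nontrivial Γ(X, ⊤) := Module.nontrivial_of_finrank_pos (R := k) (by omega)
  have h2 : (⊥ : Subalgebra k Γ(X, ⊤)) = ⊤ := Subalgebra.bot_eq_top_of_finrank_eq_one h1
  intro a ha
  have hmem : a ∈ (⊥ : Subalgebra k Γ(X, ⊤)) := h2 ▸ Algebra.mem_top
  obtain ⟨c, rfl⟩ := Algebra.mem_bot.mp hmem
  have hc : c ≠ 0 := by
    rintro rfl
    exact ha (map_zero _)
  exact (IsUnit.mk0 c hc).map (algebraMap k Γ(X, ⊤))

lemma dim_nonpos_of_subsingleton (T : Type*) [TopologicalSpace T]
    [Subsingleton T] : topologicalKrullDim T ≤ 0 := by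
  haveI : Subsingleton (IrreducibleCloseds T) := by
    refine ⟨fun a b => ?_⟩
    apply IrreducibleCloseds.ext
    ext x
    obtain ⟨y, hy⟩ := a.2.nonempty
    obtain ⟨z, hz⟩ := b.2.nonempty
    constructor
    · intro _; rw [Subsingleton.elim x z]; exact hz
    · intro _; rw [Subsingleton.elim x y]; exact hy
  exact Order.krullDim_nonpos_of_subsingleton

lemma nonempty_of_dim {T : Type*} [TopologicalSpace T] (h : topologicalKrullDim T = 1) :
    Nonempty T := by
  by_contra hne
  rw [not_nonempty_iff] at hne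
  haveI : IsEmpty (IrreducibleCloseds T) :=
    ⟨fun Z => Z.isIrreducible.nonempty.elim (fun x _ => hne.elim x)⟩
  have h1 : topologicalKrullDim T = ⊥ := Order.krullDim_eq_bot
  rw [h] at h1
  exact absurd h1 (by decide)

variable {X : Scheme.{u}}

lemma connectedSpace_of_unitsOrZero [Nonempty X] (hF : UnitsOrZero X) : ConnectedSpace X := by
  rw [connectedSpace_iff_clopen]
  refine ⟨inferInstance, fun s hs => ?_⟩
  obtain ⟨e, -, hes⟩ := Groth.Agent.H5.HensCouple.exists_idem_basicOpen_eq hs
  by_cases h : e = 0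
  · left
    rw [← hes, h, Scheme.basicOpen_zero]
    rfl
  · right
    rw [← hes, Scheme.basicOpen_of_isUnit X (hF e h)]
    rfl

/-- if the maximal ideal at a closed point `x` is associated, the scheme is the point `x`. -/
lemma eq_of_isAssociatedPrime [IsLocallyNoetherian X] (hF : UnitsOrZero X) (x : X)
    (hx : IsClosed ({x} : Set X))
    (hass : IsAssociatedPrime (maximalIdeal (X.presheaf.stalk x)) (X.presheaf.stalk x)) :
    ∀ y : X, y = x := by
  classical
  obtain ⟨hprime, t, ht⟩ := isAssociatedPrime_iff.mp hass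
  have hkill : ∀ a ∈ maximalIdeal (X.presheaf.stalk x), a * t = 0 := by
    intro a ha
    rw [ht, Submodule.mem_colon_singleton] at ha
    simpa using ha
  have ht0 : t ≠ 0 := by
    rintro rfl
    have h1 : (1 : X.presheaf.stalk x) ∈ maximalIdeal (X.presheaf.stalk x) := by
      rw [ht, Submodule.mem_colon_singleton]
      simp
    exact (Ideal.ne_top_iff_one _).mp hprime.ne_top h1
  obtain ⟨U, hxU, b, hb⟩ := X.presheaf.exists_germ_eq t
  obtain ⟨_, ⟨V, hV : IsAffineOpen V, rfl⟩, hxV, hVU⟩ :=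
    X.isBasis_affineOpens.exists_subset_of_mem_open hxU U.2
  have hVU' : V ≤ U := hVU
  let b₀ : Γ(X, V) := X.presheaf.map (homOfLE hVU').op b
  have hb₀ : X.presheaf.germ V x hxV b₀ = t := by
    rw [TopCat.Presheaf.germ_res_apply]
    exact hb
  haveI : IsNoetherianRing Γ(X, V) := IsLocallyNoetherian.component_noetherian ⟨V, hV⟩
  let p : Ideal Γ(X, V) :=
    (maximalIdeal (X.presheaf.stalk x)).comap (X.presheaf.germ V x hxV).hom
  obtain ⟨S, hS⟩ : p.FG := (isNoetherianRing_iff_ideal_fg Γ(X, V)).mp inferInstance p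
  -- each generator kills `b₀` near `x`
  have hW : ∀ g ∈ p, ∃ W : X.Opens, x ∈ W ∧ ∃ hWV : W ≤ V,
      ∀ (y : X) (hy : y ∈ W), X.presheaf.germ V y (hWV hy) (g * b₀) = 0 := by
    intro g hgp
    have h1 : X.presheaf.germ V x hxV (g * b₀) = 0 := by
      rw [map_mul, hb₀]
      exact hkill _ hgp
    obtain ⟨W, hxW, iU, iV, e⟩ := X.presheaf.germ_eq x hxV hxV (g * b₀) 0 (by rw [h1, map_zero])
    refine ⟨W, hxW, iU.le, fun y hy => ?_⟩
    rw [← TopCat.Presheaf.germ_res_apply X.presheaf iU y hy, e, map_zero, map_zero]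
  have key : ∀ S' : Finset Γ(X, V), (∀ g ∈ S', g ∈ p) → ∃ N : X.Opens, x ∈ N ∧ ∃ hNV : N ≤ V,
      ∀ g ∈ S', ∀ (y : X) (hy : y ∈ N), X.presheaf.germ V y (hNV hy) (g * b₀) = 0 := by
    intro S'
    induction S' using Finset.induction_on with
    | empty => exact fun _ => ⟨V, hxV, le_rfl, fun g hg => absurd hg (Finset.notMem_empty g)⟩
    | insert a S' ha ih =>
      intro hmem
      obtain ⟨N, hxN, hNV, hN⟩ := ih (fun g hg => hmem g (Finset.mem_insert_of_mem hg))
      obtain ⟨W, hxW, hWV, hW0⟩ := hW a (hmem a (Finset.mem_insert_self _ _))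
      refine ⟨N ⊓ W, ⟨hxN, hxW⟩, inf_le_left.trans hNV, ?_⟩
      intro g hg y hy
      rcases Finset.mem_insert.mp hg with rfl | hg'
      · exact hW0 y hy.2
      · exact hN g hg' y hy.1
  obtain ⟨N, hxN, hNV, hN⟩ := key S (fun g hg => hS ▸ Ideal.subset_span hg)
  let O : X.Opens := ⟨{x}ᶜ, hx.isOpen_compl⟩
  -- germs of `b₀` vanish at all points of `N` other than `x`
  have hgerm : ∀ (y : X) (hy : y ∈ N), y ≠ x → X.presheaf.germ V y (hNV hy) b₀ = 0 := by
    intro y hy hyx
    have hyV : y ∈ V := hNV hy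
    have hex : ∃ g ∈ S, IsUnit (X.presheaf.germ V y hyV g) := by
      by_contra hcon
      push Not at hcon
      have hle : p ≤ (maximalIdeal (X.presheaf.stalk y)).comap (X.presheaf.germ V y hyV).hom := by
        rw [← hS, Ideal.span_le]
        intro g hg
        exact (mem_maximalIdeal _).mpr (hcon g hg)
      have hyO : y ∈ O := hyx
      obtain ⟨f, hfO, hyf⟩ := hV.exists_basicOpen_le (V := O) ⟨y, hyO⟩ hyV
      have hxf : x ∉ X.basicOpen f := fun h => (hfO h) rfl
      have hfp : f ∈ p := by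
        show X.presheaf.germ V x hxV f ∈ maximalIdeal (X.presheaf.stalk x)
        rw [mem_maximalIdeal]
        exact fun hu => hxf ((X.mem_basicOpen f x hxV).mpr hu)
      have h2 := hle hfp
      have h3 : X.presheaf.germ V y hyV f ∈ maximalIdeal (X.presheaf.stalk y) := h2
      rw [mem_maximalIdeal] at h3
      exact h3 ((X.mem_basicOpen f y hyV).mp hyf)
    obtain ⟨g, hgS, hgu⟩ := hex
    have h4 := hN g hgS y hy
    rw [map_mul] at h4
    exact (hgu.mul_right_eq_zero).mp h4
  -- glue `b₀|N` with `0` on the complement of `x`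
  let t'' : Γ(X, N) := X.presheaf.map (homOfLE hNV).op b₀
  have h12 : X.presheaf.map (homOfLE (inf_le_left : N ⊓ O ≤ N)).op t'' = 0 := by
    refine TopCat.Presheaf.section_ext X.sheaf (N ⊓ O) _ 0 fun y hy => ?_
    have h5 : X.presheaf.germ (N ⊓ O) y hy
        (X.presheaf.map (homOfLE (inf_le_left : N ⊓ O ≤ N)).op t'') = 0 := by
      rw [TopCat.Presheaf.germ_res_apply, TopCat.Presheaf.germ_res_apply]
      exact hgerm y hy.1 hy.2
    exact h5.trans (map_zero (X.presheaf.germ (N ⊓ O) y hy).hom).symm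
  let F : TopCat.Sheaf CommRingCat X.toTopCat := X.sheaf
  let xx : RingHom.eqLocus
      (RingHom.comp (F.obj.map (homOfLE inf_le_left : N ⊓ O ⟶ N).op).hom
        (RingHom.fst (F.obj.obj <| op N) (F.obj.obj <| op O)))
      (RingHom.comp (F.obj.map (homOfLE inf_le_right : N ⊓ O ⟶ O).op).hom
        (RingHom.snd (F.obj.obj <| op N) (F.obj.obj <| op O))) :=
    ⟨(t'', 0), by
      change X.presheaf.map (homOfLE (inf_le_left : N ⊓ O ≤ N)).op t'' =
        X.presheaf.map (homOfLE (inf_le_right : N ⊓ O ≤ O)).op 0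
      rw [h12, map_zero]⟩
  have htop : (⊤ : X.Opens) ≤ N ⊔ O := by
    intro y _
    by_cases hyx : y = x
    · exact Or.inl (hyx ▸ hxN)
    · exact Or.inr hyx
  let s' : X.presheaf.obj (op (N ⊔ O)) := (F.objSupIsoProdEqLocus N O).inv xx
  let s : Γ(X, ⊤) := X.presheaf.map (homOfLE htop).op s'
  have hresN : X.presheaf.map (homOfLE (le_top : N ≤ ⊤)).op s = t'' := by
    have h1 := F.objSupIsoProdEqLocus_inv_fst N O xx
    change X.presheaf.map (homOfLE (le_top : N ≤ ⊤)).op (X.presheaf.map (homOfLE htop).op s') = t''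
    rw [← CommRingCat.comp_apply, ← Functor.map_comp, ← op_comp]
    exact h1
  have hresO : X.presheaf.map (homOfLE (le_top : O ≤ ⊤)).op s = 0 := by
    have h1 := F.objSupIsoProdEqLocus_inv_snd N O xx
    change X.presheaf.map (homOfLE (le_top : O ≤ ⊤)).op (X.presheaf.map (homOfLE htop).op s') = 0
    rw [← CommRingCat.comp_apply, ← Functor.map_comp, ← op_comp]
    exact h1
  have hs0 : s ≠ 0 := by
    intro hs
    have h6 : X.presheaf.germ N x hxN t'' = t := by
      rw [TopCat.Presheaf.germ_res_apply]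
      exact hb₀
    rw [← hresN, hs, map_zero, map_zero] at h6
    exact ht0 h6.symm
  have hsu : IsUnit s := hF s hs0
  intro y
  by_contra hyx
  have hyO : y ∈ O := hyx
  have hu : IsUnit (X.presheaf.map (homOfLE (le_top : O ≤ ⊤)).op s) := hsu.map _
  rw [hresO] at hu
  have hu' := hu.map (X.presheaf.germ O y hyO).hom
  rw [map_zero] at hu'
  exact not_isUnit_zero hu'

theorem cm_of_unitsOrZero [IsLocallyNoetherian X] (hF : UnitsOrZero X)
    (hdim : topologicalKrullDim X = 1) :
    ∀ x : X, LocCoh.IsCohenMacaulayLocalRing (X.presheaf.stalk x) := by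
  rw [Groth.Agent.H9.CMS.cm_iff_closedPoints X]
  intro x hx
  rw [Groth.Agent.H1.CMFib.cm_iff_dim_le_depth]
  have h1 : (1 : ℕ∞) ≤ LocCoh.depth (X.presheaf.stalk x) (X.presheaf.stalk x) := by
    rw [Groth.Agent.H3.SchDenseDepth.one_le_depth_iff]
    intro hass
    have hall := eq_of_isAssociatedPrime hF x hx hass
    haveI : Subsingleton X := ⟨fun a b => (hall a).trans (hall b).symm⟩
    have h2 : topologicalKrullDim X ≤ 0 := dim_nonpos_of_subsingleton X
    rw [hdim] at h2
    exact absurd h2 (by decide)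
  calc ringKrullDim (X.presheaf.stalk x) ≤ topologicalKrullDim X :=
        Groth.Agent.H3.FibreDim.stalk_dim_le X x
    _ = 1 := hdim
    _ ≤ _ := by exact_mod_cast h1

theorem dim_component [NoetherianSpace X] [ConnectedSpace X]
    (hdim : topologicalKrullDim X = 1) (Z : Set X) (hZ : Z ∈ irreducibleComponents (X : Type u)) :
    topologicalKrullDim Z = 1 := by
  by_contra hne
  have hZirr : IsIrreducible Z := hZ.1
  have hZcl : IsClosed Z := isClosed_of_mem_irreducibleComponents Z hZ
  have hle : topologicalKrullDim Z ≤ 1 := (topologicalKrullDim_subspace_le X Z).trans hdim.le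
  obtain ⟨z, hz⟩ := QuasiSober.sober hZirr hZcl
  have hzZ : z ∈ Z := hz.mem
  haveI : Nonempty Z := ⟨⟨z, hzZ⟩⟩
  have hbot : topologicalKrullDim Z ≠ ⊥ := by
    intro h
    have := (Order.krullDim_eq_bot_iff (α := IrreducibleCloseds Z)).mp h
    exact this.elim ⟨closure {⟨z, hzZ⟩}, isIrreducible_singleton.closure, isClosed_closure⟩
  obtain ⟨n, hn⟩ := WithBot.ne_bot_iff_exists.mp hbot
  have h0 : topologicalKrullDim Z ≤ 0 := by
    rw [← hn] at hle hne ⊢
    have h1 : n ≤ 1 := by exact_mod_cast hle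
    have h2 : n ≠ 1 := by
      rintro rfl
      exact hne rfl
    have h3 : n = 0 := ENat.lt_one_iff_eq_zero.mp (lt_of_le_of_ne h1 h2)
    rw [h3]
    rfl
  have hsub : Z = {z} := by
    apply Set.eq_singleton_iff_unique_mem.mpr
    refine ⟨hzZ, fun y hy => ?_⟩
    have hsp : z ⤳ y := hz.specializes hy
    have hsp' : (⟨z, hzZ⟩ : Z) ⤳ ⟨y, hy⟩ := (subtype_specializes_iff _ _).mpr hsp
    have := Groth.Agent.H5.DegC.eq_of_specializes_of_dim_le_zero h0 hsp'
    exact (congrArg Subtype.val this).symm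
  have hfin : (irreducibleComponents (X : Type u)).Finite :=
    NoetherianSpace.finite_irreducibleComponents
  have hcompl : ({z} : Set X)ᶜ = ⋃ Y ∈ (irreducibleComponents (X : Type u) \ {Z}), Y := by
    ext y
    simp only [Set.mem_compl_iff, Set.mem_singleton_iff, Set.mem_iUnion, Set.mem_diff, exists_prop]
    constructor
    · intro hy
      obtain ⟨Y, hY, hyY⟩ := exists_mem_irreducibleComponents_subset_of_isIrreducible {y}
        isIrreducible_singleton
      refine ⟨Y, ⟨hY, ?_⟩, hyY rfl⟩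
      rintro rfl
      rw [hsub] at hyY
      exact hy (hyY rfl)
    · rintro ⟨Y, ⟨hY, hYZ⟩, hyY⟩ rfl
      have hZY : Z ≤ Y := by
        rw [hsub]
        intro w hw
        rw [Set.mem_singleton_iff.mp hw]
        exact hyY
      exact hYZ (le_antisymm (hZ.2 hY.1 hZY) hZY)
  have hopen : IsOpen ({z} : Set X) := by
    rw [← isClosed_compl_iff, hcompl]
    exact (hfin.subset Set.diff_subset).isClosed_biUnion
      (fun Y hY => isClosed_of_mem_irreducibleComponents Y hY.1)
  have hclopen : IsClopen ({z} : Set X) := ⟨hsub ▸ hZcl, hopen⟩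
  have huniv : ({z} : Set X) = Set.univ := by
    rcases isClopen_iff.mp hclopen with h | h
    · exact absurd (h ▸ Set.mem_singleton z) (Set.notMem_empty z)
    · exact h
  have hZuniv : Z = Set.univ := hsub.trans huniv
  subst hZuniv
  apply hne
  rw [← hdim]
  exact (Homeomorph.Set.univ X).isHomeomorph.topologicalKrullDim_eq

theorem main (k : Type u) [Field k] (X : Scheme.{u}) [X.Over (Spec (CommRingCat.of k))]
    [IsProper (X ↘ (Spec (CommRingCat.of k)))] (hdim : topologicalKrullDim X = 1)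
    (h0 : Module.finrank k (Coh.HH X (Coh.structureModule X) 0) = 1) :
    ConnectedSpace X ∧ (∀ x : X, LocCoh.IsCohenMacaulayLocalRing (X.presheaf.stalk x)) ∧
      ∀ Z ∈ irreducibleComponents (X : Type u), topologicalKrullDim Z = 1 := by
  haveI : IsLocallyNoetherian X :=
    LocallyOfFiniteType.isLocallyNoetherian (X ↘ Spec (CommRingCat.of k))
  haveI : CompactSpace X := QuasiCompact.compactSpace_of_compactSpace (X ↘ Spec (CommRingCat.of k))
  haveI : IsNoetherian X := {}
  haveI : NoetherianSpace X := inferInstance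
  haveI : Nonempty X := nonempty_of_dim hdim
  have hF := unitsOrZero_of_finrank k X h0
  haveI hconn : ConnectedSpace X := connectedSpace_of_unitsOrZero hF
  exact ⟨hconn, cm_of_unitsOrZero hF hdim, fun Z hZ => dim_component hdim Z hZ⟩

end Groth.Agent.LD.CurveCM
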