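import Groth.Prelude.Def_W4c5adicflatcomplDec
import Mathlib

universe u v w

namespace Groth.Agent.LD.Dec

open W4c5adicflatcompl

section Basic

variable {A : Type u} [CommRing A] (I : Ideal A) (Z : Type v) (M : Type w) [AddCommGroup M] [Module A M]

/-- evaluation at `z` as a linear map on decaying functions -/
def ev (z : Z) : decaying I Z M →ₗ[A] M :=
  (LinearMap.proj z).comp (decaying I Z M).subtype

@[simp] theorem ev_apply (z : Z) (f : decaying I Z M) : ev I Z M z f = (f : Z → M) z := rfl

variable {I Z M}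

theorem map_mem_smul_top {N : Type*} [AddCommGroup N] [Module A N] (φ : N →ₗ[A] M) (n : ℕ) {x : N}
    (hx : x ∈ (I ^ n • ⊤ : Submodule A N)) : φ x ∈ (I ^ n • ⊤ : Submodule A M) :=
  Submodule.smul_top_le_comap_smul_top (I ^ n) φ hx

theorem S17536 [IsHausdorff I M] : IsHausdorff I (decaying I Z M) := by
  refine ⟨fun x hx => ?_⟩
  apply Subtype.ext
  funext z
  apply IsHausdorff.haus' (I := I)
  intro n
  rw [SModEq.zero]
  have := hx n
  rw [SModEq.zero] at this
  exact map_mem_smul_top (ev I Z M z) n this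

end Basic

--START2
section Sum

variable {A : Type u} [CommRing A] {I : Ideal A} {Z : Type v} {M : Type w} [AddCommGroup M] [Module A M]

open Classical in
/-- the finite set of `z` with `f z ∉ I^n M` -/
noncomputable def decFin (f : Z → M) (hf : f ∈ decaying I Z M) (n : ℕ) : Finset Z :=
  (hf n).toFinset

theorem mem_decFin {f : Z → M} {hf : f ∈ decaying I Z M} {n : ℕ} {z : Z} :
    z ∈ decFin f hf n ↔ f z ∉ (I ^ n • ⊤ : Submodule A M) := by
  simp [decFin]

theorem pow_smul_top_anti {m n : ℕ} (h : m ≤ n) :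
    (I ^ n • ⊤ : Submodule A M) ≤ I ^ m • ⊤ :=
  Submodule.smul_mono_left (Ideal.pow_le_pow_right h)

theorem decFin_mono {f : Z → M} {hf : f ∈ decaying I Z M} {m n : ℕ} (h : m ≤ n) :
    decFin f hf m ⊆ decFin f hf n := by
  intro z hz
  rw [mem_decFin] at hz ⊢
  exact fun h2 => hz (pow_smul_top_anti h h2)

/-- sums over two finite sets containing `decFin n` agree mod `I^n M`. -/
theorem sum_sub_sum_mem {f : Z → M} {n : ℕ} {S T : Finset Z}
    (hS : ∀ z, z ∉ S → f z ∈ (I ^ n • ⊤ : Submodule A M))
    (hT : ∀ z, z ∉ T → f z ∈ (I ^ n • ⊤ : Submodule A M)) :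
    (∑ z ∈ S, f z) - (∑ z ∈ T, f z) ∈ (I ^ n • ⊤ : Submodule A M) := by
  classical
  have h1 : ∑ z ∈ S, f z = ∑ z ∈ S ∩ T, f z + ∑ z ∈ S \ T, f z := by
    rw [← Finset.sum_union (Finset.disjoint_sdiff_inter S T).symm, Finset.inter_comm,
      Finset.union_comm]
    congr 1
    ext z; simp only [Finset.mem_union, Finset.mem_sdiff, Finset.mem_inter]; tauto
  have h2 : ∑ z ∈ T, f z = ∑ z ∈ S ∩ T, f z + ∑ z ∈ T \ S, f z := by
    rw [← Finset.sum_union]
    · congr 1
      ext z; simp only [Finset.mem_union, Finset.mem_sdiff, Finset.mem_inter]; tauto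
    · rw [Finset.disjoint_left]
      intro z hz hz2
      simp only [Finset.mem_sdiff, Finset.mem_inter] at hz hz2
      exact hz2.2 hz.1
  rw [h1, h2, add_sub_add_left_eq_sub]
  refine Submodule.sub_mem _ (Submodule.sum_mem _ fun z hz => ?_) (Submodule.sum_mem _ fun z hz => ?_)
  · exact hT z (Finset.mem_sdiff.mp hz).2
  · exact hS z (Finset.mem_sdiff.mp hz).2

theorem exists_adicSum [IsPrecomplete I M] (f : Z → M) (hf : f ∈ decaying I Z M) :
    ∃ m : M, ∀ n : ℕ, ∀ S : Finset Z, (∀ z, z ∉ S → f z ∈ (I ^ n • ⊤ : Submodule A M)) →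
      m - (∑ z ∈ S, f z) ∈ (I ^ n • ⊤ : Submodule A M) := by
  have hdec : ∀ n z, z ∉ decFin f hf n → f z ∈ (I ^ n • ⊤ : Submodule A M) := by
    intro n z hz
    rw [mem_decFin, not_not] at hz
    exact hz
  obtain ⟨L, hL⟩ := IsPrecomplete.prec' (I := I) (fun n => ∑ z ∈ decFin f hf n, f z) (by
    intro m n hmn
    rw [SModEq.sub_mem]
    refine sum_sub_sum_mem (hdec m) ?_
    intro z hz
    exact pow_smul_top_anti hmn (hdec n z hz))
  refine ⟨L, fun n S hS => ?_⟩
  have h1 := hL n
  rw [SModEq.sub_mem] at h1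
  have h2 := sum_sub_sum_mem (hdec n) hS
  have : L - ∑ z ∈ S, f z = -(∑ z ∈ decFin f hf n, f z - L) + (∑ z ∈ decFin f hf n, f z - ∑ z ∈ S, f z) := by
    abel
  rw [this]
  exact Submodule.add_mem _ (Submodule.neg_mem _ h1) h2

end Sum

theorem S19708 {A : Type u} [CommRing A] (I : Ideal A) (Z : Type v)
    (M : Type w) [AddCommGroup M] [Module A M] [IsAdicComplete I M] (f : Z → M) :
    f ∈ decaying I Z M ↔ ∃ m : M, ∀ n : ℕ, ∃ S : Finset Z,
      (∀ z, z ∉ S → f z ∈ (I ^ n • ⊤ : Submodule A M)) ∧ m - (∑ z ∈ S, f z) ∈ (I ^ n • ⊤ : Submodule A M) := by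
  constructor
  · intro hf
    obtain ⟨m, hm⟩ := exists_adicSum f hf
    refine ⟨m, fun n => ⟨decFin f hf n, ?_, ?_⟩⟩
    · intro z hz
      rw [mem_decFin, not_not] at hz
      exact hz
    · apply hm
      intro z hz
      rw [mem_decFin, not_not] at hz
      exact hz
  · rintro ⟨m, hm⟩ n
    obtain ⟨S, hS, -⟩ := hm n
    refine S.finite_toSet.subset ?_
    intro z hz
    by_contra h
    exact hz (hS z h)

--START3
section AdicSum

variable {A : Type u} [CommRing A] {I : Ideal A} {Z : Type v} {M : Type w} [AddCommGroup M] [Module A M]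

theorem mem_pow_of_mem_smul_top {a : A} {n : ℕ} (h : a ∈ (I ^ n • ⊤ : Submodule A A)) : a ∈ I ^ n := by
  have : (I ^ n • ⊤ : Submodule A A) = I ^ n := by
    rw [smul_eq_mul]
    exact Ideal.mul_top _
  rw [this] at h
  exact h

theorem mem_smul_top_of_mem_pow {a : A} {n : ℕ} (h : a ∈ I ^ n) : a ∈ (I ^ n • ⊤ : Submodule A A) := by
  have : (I ^ n • ⊤ : Submodule A A) = I ^ n := by
    rw [smul_eq_mul]
    exact Ideal.mul_top _
  rw [this]
  exact h

theorem smul_decaying (g : Z → A) (hg : g ∈ decaying I Z A) (f : Z → M) :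
    (fun z => g z • f z) ∈ decaying I Z M := by
  intro n
  refine (hg n).subset ?_
  intro z hz
  by_contra h
  simp only [Set.mem_ofPred_eq, not_not] at h
  exact hz (Submodule.smul_mem_smul (mem_pow_of_mem_smul_top h) Submodule.mem_top)

variable [IsAdicComplete I M]

/-- the `I`-adic sum of a decaying family in a complete module -/
noncomputable def adicSum (f : Z → M) (hf : f ∈ decaying I Z M) : M :=
  Classical.choose (exists_adicSum f hf)

theorem adicSum_spec (f : Z → M) (hf : f ∈ decaying I Z M) (n : ℕ) (S : Finset Z)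
    (hS : ∀ z, z ∉ S → f z ∈ (I ^ n • ⊤ : Submodule A M)) :
    adicSum f hf - (∑ z ∈ S, f z) ∈ (I ^ n • ⊤ : Submodule A M) :=
  Classical.choose_spec (exists_adicSum f hf) n S hS

theorem eq_adicSum (f : Z → M) (hf : f ∈ decaying I Z M) (m : M)
    (hm : ∀ n : ℕ, ∃ S : Finset Z, (∀ z, z ∉ S → f z ∈ (I ^ n • ⊤ : Submodule A M)) ∧
      m - (∑ z ∈ S, f z) ∈ (I ^ n • ⊤ : Submodule A M)) : m = adicSum f hf := by
  rw [IsHausdorff.eq_iff_smodEq (I := I)]
  intro n
  obtain ⟨S, hS, hmS⟩ := hm n
  rw [SModEq.sub_mem]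
  have := Submodule.sub_mem _ hmS (adicSum_spec f hf n S hS)
  simpa using this

theorem not_mem_decFin {f : Z → M} {hf : f ∈ decaying I Z M} {n : ℕ} {z : Z}
    (h : z ∉ decFin f hf n) : f z ∈ (I ^ n • ⊤ : Submodule A M) := by
  rw [mem_decFin, not_not] at h
  exact h

theorem adicSum_add (f g : Z → M) (hf : f ∈ decaying I Z M) (hg : g ∈ decaying I Z M) :
    adicSum (f + g) ((decaying I Z M).add_mem hf hg) = adicSum f hf + adicSum g hg := by
  classical
  symm
  apply eq_adicSum
  intro n
  refine ⟨decFin f hf n ∪ decFin g hg n, ?_, ?_⟩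
  · intro z hz
    rw [Finset.mem_union, not_or] at hz
    exact Submodule.add_mem _ (not_mem_decFin hz.1) (not_mem_decFin hz.2)
  · have h1 := adicSum_spec f hf n (decFin f hf n ∪ decFin g hg n) (fun z hz => by
      rw [Finset.mem_union, not_or] at hz
      exact not_mem_decFin hz.1)
    have h2 := adicSum_spec g hg n (decFin f hf n ∪ decFin g hg n) (fun z hz => by
      rw [Finset.mem_union, not_or] at hz
      exact not_mem_decFin hz.2)
    have := Submodule.add_mem _ h1 h2
    simp only [Pi.add_apply, Finset.sum_add_distrib]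
    convert this using 1
    abel

theorem adicSum_smul (a : A) (f : Z → M) (hf : f ∈ decaying I Z M) :
    adicSum (a • f) ((decaying I Z M).smul_mem a hf) = a • adicSum f hf := by
  symm
  apply eq_adicSum
  intro n
  refine ⟨decFin f hf n, ?_, ?_⟩
  · intro z hz
    exact Submodule.smul_mem _ a (not_mem_decFin hz)
  · have h1 := adicSum_spec f hf n (decFin f hf n) (fun z hz => not_mem_decFin hz)
    have := Submodule.smul_mem _ a h1
    simp only [Pi.smul_apply, ← Finset.smul_sum]
    rw [← smul_sub]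
    exact this

end AdicSum

theorem S17553 {A : Type u} [CommRing A] (I : Ideal A) [IsAdicComplete I A]
    (Z : Type v) (M : Type w) [AddCommGroup M] [Module A M] [IsAdicComplete I M] (f : Z → M) :
    ∃ φ : decaying I Z A →ₗ[A] M, ∀ (g : decaying I Z A) (n : ℕ), ∃ S : Finset Z,
      (∀ z, z ∉ S → (g : Z → A) z • f z ∈ (I ^ n • ⊤ : Submodule A M)) ∧
      φ g - (∑ z ∈ S, (g : Z → A) z • f z) ∈ (I ^ n • ⊤ : Submodule A M) := by
  refine ⟨{ toFun := fun g => adicSum (fun z => (g : Z → A) z • f z) (smul_decaying _ g.2 f)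
            map_add' := ?_
            map_smul' := ?_ }, ?_⟩
  · intro g h
    rw [← adicSum_add]
    congr 1
    funext z
    simp [add_smul]
  · intro a g
    rw [RingHom.id_apply, ← adicSum_smul]
    congr 1
    funext z
    simp [mul_smul]
  · intro g n
    have hd := smul_decaying _ g.2 f
    refine ⟨decFin _ hd n, fun z hz => not_mem_decFin (f := fun z => (g : Z → A) z • f z) hz, ?_⟩
    exact adicSum_spec _ hd n _ (fun z hz => not_mem_decFin (f := fun z => (g : Z → A) z • f z) hz)

--START4
section Gen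

variable {A : Type u} [CommRing A] {I : Ideal A} {Z : Type w} {M : Type v} [AddCommGroup M] [Module A M]

theorem exists_approx (m : Z → M) (h : Submodule.span A (Set.range m) ⊔ I • ⊤ = ⊤) (n : ℕ)
    (y : M) (hy : y ∈ (I ^ n • ⊤ : Submodule A M)) :
    ∃ c : Z →₀ A, (∀ z, c z ∈ I ^ n) ∧
      y - Finsupp.linearCombination A m c ∈ (I ^ (n + 1) • ⊤ : Submodule A M) := by
  refine Submodule.smul_induction_on hy ?_ ?_
  · intro a ha w _
    have hw : w ∈ Submodule.span A (Set.range m) ⊔ I • ⊤ := by rw [h]; trivial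
    obtain ⟨s, hs, u, hu, rfl⟩ := Submodule.mem_sup.mp hw
    rw [← Finsupp.range_linearCombination] at hs
    obtain ⟨c, rfl⟩ := hs
    refine ⟨a • c, fun z => ?_, ?_⟩
    · rw [Finsupp.smul_apply, smul_eq_mul]
      exact Ideal.mul_mem_right _ _ ha
    · rw [map_smul, smul_add, add_sub_cancel_left, pow_succ, Submodule.mul_smul]
      exact Submodule.smul_mem_smul ha hu
  · intro y₁ y₂ h₁ h₂
    obtain ⟨c₁, hc₁, h₁⟩ := h₁
    obtain ⟨c₂, hc₂, h₂⟩ := h₂
    refine ⟨c₁ + c₂, fun z => ?_, ?_⟩
    · rw [Finsupp.add_apply]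
      exact Ideal.add_mem _ (hc₁ z) (hc₂ z)
    · rw [map_add]
      have := Submodule.add_mem _ h₁ h₂
      convert this using 1
      abel

end Gen

section Gen2

variable {A : Type u} [CommRing A] {I : Ideal A} {Z : Type w} {M : Type v} [AddCommGroup M] [Module A M]

/-- successive approximation: a sequence of finitely supported coefficient functions `c k` with values
in `I^k` such that `x - ∑_{k<K} lc (c k) ∈ I^K M`. -/
theorem exists_coeff_seq (m : Z → M) (h : Submodule.span A (Set.range m) ⊔ I • ⊤ = ⊤) (x : M) :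
    ∃ c : ℕ → (Z →₀ A), (∀ k z, c k z ∈ I ^ k) ∧
      ∀ K, x - ∑ k ∈ Finset.range K, Finsupp.linearCombination A m (c k) ∈
        (I ^ K • ⊤ : Submodule A M) := by
  -- state: (y, proof y ∈ I^k M)
  have hstep : ∀ (k : ℕ) (y : {y : M // y ∈ (I ^ k • ⊤ : Submodule A M)}),
      ∃ c : Z →₀ A, (∀ z, c z ∈ I ^ k) ∧
        y.1 - Finsupp.linearCombination A m c ∈ (I ^ (k + 1) • ⊤ : Submodule A M) :=
    fun k y => exists_approx m h k y.1 y.2
  choose cf hcf1 hcf2 using hstep
  let seq : (k : ℕ) → {y : M // y ∈ (I ^ k • ⊤ : Submodule A M)} := fun k =>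
    Nat.rec (motive := fun k => {y : M // y ∈ (I ^ k • ⊤ : Submodule A M)})
      ⟨x, by simp⟩ (fun k y => ⟨y.1 - Finsupp.linearCombination A m (cf k y), hcf2 k y⟩) k
  have hseq0 : (seq 0).1 = x := rfl
  have hseqS : ∀ k, (seq (k + 1)).1 = (seq k).1 - Finsupp.linearCombination A m (cf k (seq k)) :=
    fun k => rfl
  refine ⟨fun k => cf k (seq k), fun k z => hcf1 k (seq k) z, fun K => ?_⟩
  have : x - ∑ k ∈ Finset.range K, Finsupp.linearCombination A m (cf k (seq k)) = (seq K).1 := by
    induction K with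
    | zero => simp [hseq0]
    | succ K ih => rw [Finset.sum_range_succ, hseqS, ← ih]; abel
  rw [this]
  exact (seq K).2

end Gen2

theorem S17540 {A : Type u} [CommRing A] (I : Ideal A) [IsAdicComplete I A]
    (M : Type v) [AddCommGroup M] [Module A M] [IsAdicComplete I M] (Z : Type w) (m : Z → M) :
    Submodule.span A (Set.range m) ⊔ I • ⊤ = ⊤ ↔
      ∀ x : M, ∃ g : Z → A, g ∈ decaying I Z A ∧
        ∀ n : ℕ, ∃ S : Finset Z,
          (∀ z, z ∉ S → g z • m z ∈ (I ^ n • ⊤ : Submodule A M)) ∧
          x - (∑ z ∈ S, g z • m z) ∈ (I ^ n • ⊤ : Submodule A M) := by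
  classical
  constructor
  · intro h x
    obtain ⟨c, hc1, hc2⟩ := exists_coeff_seq m h x
    -- partial sums of coefficients
    let G : ℕ → Z → A := fun K z => ∑ k ∈ Finset.range K, c k z
    have hG : ∀ z, ∀ {a b : ℕ}, a ≤ b → G a z ≡ G b z [SMOD (I ^ a • ⊤ : Submodule A A)] := by
      intro z a b hab
      rw [SModEq.sub_mem]
      have : G a z - G b z = - ∑ k ∈ Finset.Ico a b, c k z := by
        simp only [G]
        rw [Finset.sum_Ico_eq_sub _ hab]; abel
      rw [this]
      refine Submodule.neg_mem _ (Submodule.sum_mem _ fun k hk => ?_)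
      apply mem_smul_top_of_mem_pow
      exact Ideal.pow_le_pow_right (Finset.mem_Ico.mp hk).1 (hc1 k z)
    have hlim : ∀ z, ∃ L : A, ∀ n, G n z ≡ L [SMOD (I ^ n • ⊤ : Submodule A A)] :=
      fun z => IsPrecomplete.prec' (I := I) (fun K => G K z) (hG z)
    choose g hg using hlim
    have hg' : ∀ z n, g z - G n z ∈ I ^ n := by
      intro z n
      have := hg z n
      rw [SModEq.sub_mem] at this
      have h2 := mem_pow_of_mem_smul_top this
      have : g z - G n z = -(G n z - g z) := by ring
      rw [this]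
      exact (I ^ n).neg_mem h2
    let T : ℕ → Finset Z := fun n => (Finset.range n).biUnion fun k => (c k).support
    have hT : ∀ n z, z ∉ T n → G n z = 0 := by
      intro n z hz
      simp only [G]
      refine Finset.sum_eq_zero fun k hk => ?_
      by_contra hne
      exact hz (Finset.mem_biUnion.mpr ⟨k, hk, Finsupp.mem_support_iff.mpr hne⟩)
    have hgT : ∀ n z, z ∉ T n → g z ∈ I ^ n := by
      intro n z hz
      have := hg' z n
      rwa [hT n z hz, sub_zero] at this
    refine ⟨g, ?_, fun n => ⟨T n, ?_, ?_⟩⟩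
    · intro n
      refine (T n).finite_toSet.subset ?_
      intro z hz
      by_contra hzT
      exact hz (mem_smul_top_of_mem_pow (hgT n z hzT))
    · intro z hz
      exact Submodule.smul_mem_smul (hgT n z hz) Submodule.mem_top
    · have h1 : ∑ z ∈ T n, G n z • m z =
          ∑ k ∈ Finset.range n, Finsupp.linearCombination A m (c k) := by
        simp only [G, Finset.sum_smul]
        rw [Finset.sum_comm]
        refine Finset.sum_congr rfl fun k hk => ?_
        rw [Finsupp.linearCombination_apply, Finsupp.sum]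
        symm
        refine Finset.sum_subset ?_ ?_
        · intro z hz
          exact Finset.mem_biUnion.mpr ⟨k, hk, hz⟩
        · intro z _ hz
          rw [Finsupp.notMem_support_iff.mp hz, zero_smul]
      have h2 : x - ∑ z ∈ T n, g z • m z =
          (x - ∑ k ∈ Finset.range n, Finsupp.linearCombination A m (c k)) -
            ∑ z ∈ T n, (g z - G n z) • m z := by
        rw [← h1]
        simp only [sub_smul, Finset.sum_sub_distrib]
        abel
      rw [h2]
      refine Submodule.sub_mem _ (hc2 n) (Submodule.sum_mem _ fun z _ => ?_)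
      exact Submodule.smul_mem_smul (hg' z n) Submodule.mem_top
  · intro h
    rw [eq_top_iff]
    intro x _
    obtain ⟨g, -, hg⟩ := h x
    obtain ⟨S, -, hS⟩ := hg 1
    rw [pow_one] at hS
    have : x = ∑ z ∈ S, g z • m z + (x - ∑ z ∈ S, g z • m z) := by abel
    rw [this]
    refine Submodule.add_mem_sup (Submodule.sum_mem _ fun z _ => ?_) hS
    exact Submodule.smul_mem _ _ (Submodule.subset_span ⟨z, rfl⟩)

--START5
section FG

variable {A : Type u} [CommRing A] {I : Ideal A} {Z : Type v} {N : Type w} [AddCommGroup N] [Module A N]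

theorem exists_sum_of_mem_span_smul {ι : Type*} [Fintype ι] (a : ι → A) (N' : Submodule A N) (x : N)
    (hx : x ∈ Ideal.span (Set.range a) • N') :
    ∃ w : ι → N, (∀ j, w j ∈ N') ∧ x = ∑ j, a j • w j := by
  refine Submodule.smul_induction_on hx ?_ ?_
  · intro b hb n hn
    obtain ⟨c, rfl⟩ := (Ideal.mem_span_range_iff_exists_fun).mp hb
    refine ⟨fun j => c j • n, fun j => N'.smul_mem _ hn, ?_⟩
    rw [Finset.sum_smul]
    refine Finset.sum_congr rfl fun j _ => ?_
    rw [smul_smul, mul_comm]
  · rintro x y ⟨w, hw, rfl⟩ ⟨w', hw', rfl⟩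
    refine ⟨fun j => w j + w' j, fun j => N'.add_mem (hw j) (hw' j), ?_⟩
    simp [smul_add, Finset.sum_add_distrib]

theorem pow_add_smul_top (n k : ℕ) :
    (I ^ (n + k) • ⊤ : Submodule A N) = I ^ n • (I ^ k • ⊤ : Submodule A N) := by
  rw [pow_add, Submodule.mul_smul]

/-- key: for f.g. `I` and Hausdorff `N`, a decaying function with values in `I^n N` lies in `I^n F`. -/
theorem mem_pow_smul_top_decaying (hI : I.FG) [IsHausdorff I N] (n : ℕ) (f : decaying I Z N)
    (hf : ∀ z, (f : Z → N) z ∈ (I ^ n • ⊤ : Submodule A N)) :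
    f ∈ (I ^ n • ⊤ : Submodule A (decaying I Z N)) := by
  classical
  obtain ⟨s, hs⟩ := (Ideal.FG.pow (n := n) hI)
  let a : s → A := fun j => j.1
  have ha : Ideal.span (Set.range a) = I ^ n := by
    rw [← hs]; congr 1; ext x; simp [a]
  -- choose coefficients pointwise
  have hw : ∀ z, ∃ w : s → N, (f : Z → N) z = ∑ j, a j • w j ∧
      ∀ K, (f : Z → N) z ∈ (I ^ (n + K) • ⊤ : Submodule A N) →
        ∀ j, w j ∈ (I ^ K • ⊤ : Submodule A N) := by
    intro z
    by_cases h0 : (f : Z → N) z = 0
    · exact ⟨fun _ => 0, by simp [h0], fun K _ j => Submodule.zero_mem _⟩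
    · have hex : ∃ K, (f : Z → N) z ∉ (I ^ K • ⊤ : Submodule A N) := by
        by_contra hcon
        push Not at hcon
        apply h0
        apply IsHausdorff.haus' (I := I)
        intro K
        rw [SModEq.zero]
        exact hcon K
      have hK0 := Nat.find_spec hex
      have hmin := fun K => Nat.find_min hex (m := K)
      set K0 := Nat.find hex
      have hnK : n < K0 := by
        by_contra hle
        push Not at hle
        exact hK0 (pow_smul_top_anti hle (hf z))
      obtain ⟨k, hk⟩ : ∃ k, K0 = n + k + 1 := ⟨K0 - n - 1, by omega⟩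
      have hmem : (f : Z → N) z ∈ (I ^ (n + k) • ⊤ : Submodule A N) := by
        have := hmin (n + k) (by omega)
        rwa [not_not] at this
      rw [pow_add_smul_top, ← ha] at hmem
      obtain ⟨w, hw1, hw2⟩ := exists_sum_of_mem_span_smul a _ _ hmem
      refine ⟨w, hw2, fun K hK j => ?_⟩
      have hKk : K ≤ k := by
        by_contra hlt
        push Not at hlt
        exact hK0 (pow_smul_top_anti (by omega) hK)
      exact pow_smul_top_anti hKk (hw1 j)
  choose w hw1 hw2 using hw
  have hdec : ∀ j, (fun z => w z j) ∈ decaying I Z N := by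
    intro j K
    refine (f.2 (n + K)).subset ?_
    intro z hz
    by_contra h
    simp only [Set.mem_ofPred_eq, not_not] at h
    exact hz (hw2 z K h j)
  have hfeq : f = ∑ j, a j • (⟨fun z => w z j, hdec j⟩ : decaying I Z N) := by
    apply Subtype.ext
    funext z
    rw [hw1 z]
    simp
  rw [hfeq]
  refine Submodule.sum_mem _ fun j _ => ?_
  refine Submodule.smul_mem_smul ?_ Submodule.mem_top
  rw [← ha]
  exact Ideal.subset_span ⟨j, rfl⟩

theorem mem_pow_smul_top_decaying_iff (hI : I.FG) [IsHausdorff I N] (n : ℕ) (f : decaying I Z N) :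
    f ∈ (I ^ n • ⊤ : Submodule A (decaying I Z N)) ↔
      ∀ z, (f : Z → N) z ∈ (I ^ n • ⊤ : Submodule A N) :=
  ⟨fun h z => map_mem_smul_top (ev I Z N z) n h, mem_pow_smul_top_decaying hI n f⟩

theorem isAdicComplete_decaying (hI : I.FG) [IsAdicComplete I N] :
    IsAdicComplete I (decaying I Z N) := by
  have : IsHausdorff I (decaying I Z N) := S17536
  refine { toIsHausdorff := inferInstance, prec' := ?_ }
  intro f hf
  -- pointwise limits
  have hpt : ∀ z, ∃ L : N, ∀ n, ((f n : decaying I Z N) : Z → N) z ≡ L [SMOD (I ^ n • ⊤ : Submodule A N)] := by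
    intro z
    apply IsPrecomplete.prec' (I := I) (fun n => ((f n : decaying I Z N) : Z → N) z)
    intro m n hmn
    have := hf hmn
    rw [SModEq.sub_mem] at this ⊢
    exact map_mem_smul_top (ev I Z N z) m this
  choose L hL using hpt
  have hLdec : L ∈ decaying I Z N := by
    intro n
    refine ((f n).2 n).subset ?_
    intro z hz
    by_contra h
    simp only [Set.mem_ofPred_eq, not_not] at h
    apply hz
    have h1 := hL z n
    rw [SModEq.sub_mem] at h1
    have : L z = ((f n : decaying I Z N) : Z → N) z - (((f n : decaying I Z N) : Z → N) z - L z) := by abel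
    rw [this]
    exact Submodule.sub_mem _ h h1
  refine ⟨⟨L, hLdec⟩, fun n => ?_⟩
  rw [SModEq.sub_mem, mem_pow_smul_top_decaying_iff hI]
  intro z
  have h1 := hL z n
  rw [SModEq.sub_mem] at h1
  exact h1

end FG

theorem S17546 {A : Type u} [CommRing A] [IsNoetherianRing A]
    (I : Ideal A) [IsAdicComplete I A] (Z : Type v) :
    IsAdicComplete I (decaying I Z A) :=
  isAdicComplete_decaying (IsNoetherian.noetherian I)

theorem S17547 {A : Type u} [CommRing A] [IsNoetherianRing A]
    (I : Ideal A) (Z : Type v) (M : Type w) [AddCommGroup M] [Module A M] :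
    IsAdicComplete I (decaying I Z (AdicCompletion I M)) := by
  have : IsAdicComplete I (AdicCompletion I M) :=
    AdicCompletion.isAdicComplete (IsNoetherian.noetherian I)
  exact isAdicComplete_decaying (IsNoetherian.noetherian I)

theorem S17544 {A : Type u} [CommRing A] [IsNoetherianRing A]
    (I : Ideal A) [IsAdicComplete I A] (Z : Type v) (n : ℕ) :
    (∀ g : Z →₀ A ⧸ I ^ n, ∃ f : decaying I Z A,
        ∀ z, Ideal.Quotient.mk (I ^ n) ((f : Z → A) z) = g z) ∧
      ∀ f : decaying I Z A,
        f ∈ (I ^ n • ⊤ : Submodule A (decaying I Z A)) ↔ ∀ z, (f : Z → A) z ∈ I ^ n := by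
  classical
  constructor
  · intro g
    have hch : ∀ q : A ⧸ I ^ n, ∃ a : A, Ideal.Quotient.mk (I ^ n) a = q ∧ (q = 0 → a = 0) := by
      intro q
      by_cases hq : q = 0
      · exact ⟨0, by simp [hq], fun _ => rfl⟩
      · obtain ⟨a, ha⟩ := Ideal.Quotient.mk_surjective q
        exact ⟨a, ha, fun h => absurd h hq⟩
    choose lift hl1 hl2 using hch
    refine ⟨⟨fun z => lift (g z), ?_⟩, fun z => hl1 _⟩
    intro k
    refine g.support.finite_toSet.subset ?_
    intro z hz
    by_contra h
    apply hz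
    have : g z = 0 := by
      by_contra hne
      exact h (Finsupp.mem_support_iff.mpr hne)
    change lift (g z) ∈ _
    rw [hl2 _ this]
    exact Submodule.zero_mem _
  · intro f
    rw [mem_pow_smul_top_decaying_iff (IsNoetherian.noetherian I)]
    exact forall_congr' fun z => ⟨mem_pow_of_mem_smul_top, mem_smul_top_of_mem_pow⟩

--START6
theorem S17541 {A : Type u} [CommRing A] [IsNoetherianRing A] (I : Ideal A)
    [IsAdicComplete I A] (Z : Type v) (M : Type w) [AddCommGroup M] [Module A M]
    [Module.Finite A M] (N : Submodule A M) (f : Z → N) :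
    f ∈ decaying I Z N ↔ (fun z => (f z : M)) ∈ decaying I Z M := by
  constructor
  · intro hf n
    refine (hf n).subset ?_
    intro z hz
    by_contra h
    simp only [Set.mem_ofPred_eq, not_not] at h
    exact hz (map_mem_smul_top N.subtype n h)
  · intro hf n
    obtain ⟨k, hk⟩ := Ideal.exists_pow_inf_eq_pow_smul I N
    refine (hf (n + k)).subset ?_
    intro z hz
    by_contra h
    simp only [Set.mem_ofPred_eq, not_not] at h
    apply hz
    have h1 : (f z : M) ∈ (I ^ (n + k) • ⊤ ⊓ N : Submodule A M) := ⟨h, (f z).2⟩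
    rw [hk (n + k) (by omega), Nat.add_sub_cancel] at h1
    have h2 : (I ^ n • (I ^ k • ⊤ ⊓ N) : Submodule A M) ≤ I ^ n • N :=
      Submodule.smul_mono le_rfl inf_le_right
    have h3 := h2 h1
    have h4 : (I ^ n • N : Submodule A M) = (I ^ n • ⊤ : Submodule A N).map N.subtype := by
      rw [Submodule.map_smul'', Submodule.map_subtype_top]
    rw [h4] at h3
    obtain ⟨y, hy, hyz⟩ := h3
    have : y = f z := Subtype.ext hyz
    rw [← this]
    exact hy

theorem S17542 {A : Type u} [CommRing A] [IsNoetherianRing A] (I : Ideal A)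
    [IsAdicComplete I A] (Z : Type v) {M : Type w} {M'' : Type w} [AddCommGroup M] [Module A M]
    [Module.Finite A M] [AddCommGroup M''] [Module A M''] (φ : M →ₗ[A] M'')
    (hφ : Function.Surjective φ) (g : Z → M'') (hg : g ∈ decaying I Z M'') :
    ∃ f : Z → M, f ∈ decaying I Z M ∧ ∀ z, φ (f z) = g z := by
  classical
  have : Module.Finite A M'' := Module.Finite.of_surjective φ hφ
  have : IsHausdorff I M'' := IsHausdorff.of_le_jacobson I M'' (IsAdicComplete.le_jacobson_bot I)
  have hmap : ∀ n, (I ^ n • ⊤ : Submodule A M'') = (I ^ n • ⊤ : Submodule A M).map φ := by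
    intro n
    rw [Submodule.map_smul'', Submodule.map_top, LinearMap.range_eq_top.mpr hφ]
  have hw : ∀ z, ∃ x : M, φ x = g z ∧
      ∀ K, g z ∈ (I ^ K • ⊤ : Submodule A M'') → x ∈ (I ^ K • ⊤ : Submodule A M) := by
    intro z
    by_cases h0 : g z = 0
    · exact ⟨0, by simp [h0], fun K _ => Submodule.zero_mem _⟩
    · have hex : ∃ K, g z ∉ (I ^ K • ⊤ : Submodule A M'') := by
        by_contra hcon
        push Not at hcon
        apply h0
        apply IsHausdorff.haus' (I := I)
        intro K
        rw [SModEq.zero]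
        exact hcon K
      have hK0 := Nat.find_spec hex
      have hmin := fun K => Nat.find_min hex (m := K)
      set K0 := Nat.find hex
      have hpos : 0 < K0 := by
        by_contra hle
        push Not at hle
        have : K0 = 0 := by omega
        rw [this] at hK0
        exact hK0 (by simp)
      obtain ⟨k, hk⟩ : ∃ k, K0 = k + 1 := ⟨K0 - 1, by omega⟩
      have hmem : g z ∈ (I ^ k • ⊤ : Submodule A M'') := by
        have := hmin k (by omega)
        rwa [not_not] at this
      rw [hmap] at hmem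
      obtain ⟨x, hx, hxz⟩ := hmem
      refine ⟨x, hxz, fun K hK => ?_⟩
      have hKk : K ≤ k := by
        by_contra hlt
        push Not at hlt
        exact hK0 (pow_smul_top_anti (by omega) hK)
      exact pow_smul_top_anti hKk hx
  choose f hf1 hf2 using hw
  refine ⟨f, fun n => ?_, hf1⟩
  refine (hg n).subset ?_
  intro z hz
  by_contra h
  simp only [Set.mem_ofPred_eq, not_not] at h
  exact hz (hf2 z n h)

end Groth.Agent.LD.Dec
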