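import Groth.Prelude.Def_DiffOp
import Mathlib.RingTheory.Kaehler.Basic
import Mathlib.Algebra.BigOperators.Group.Finset.Powerset
import Mathlib.Tactic

set_option autoImplicit false
universe u v

namespace Groth.Agent.LD

section basics

variable (A B : Type u) [CommRing A] [CommRing B] [Algebra A B]
variable (M N : Type v) [AddCommGroup M] [Module A M] [Module B M] [IsScalarTower A B M]
  [AddCommGroup N] [Module A N] [Module B N] [IsScalarTower A B N]

theorem commutator_apply (D : M →ₗ[A] N) (b : B) (m : M) :
    Diff16.commutator A B M N D b m = D (b • m) - b • D m := by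
  simp [Diff16.commutator]

theorem commutator_zero (b : B) : Diff16.commutator A B M N 0 b = 0 := by
  ext m; simp [commutator_apply]

theorem commutator_add (D D' : M →ₗ[A] N) (b : B) :
    Diff16.commutator A B M N (D + D') b =
      Diff16.commutator A B M N D b + Diff16.commutator A B M N D' b := by
  ext m; simp only [commutator_apply, LinearMap.add_apply, smul_add]; abel

theorem commutator_neg (D : M →ₗ[A] N) (b : B) :
    Diff16.commutator A B M N (-D) b = - Diff16.commutator A B M N D b := by
  ext m; simp only [commutator_apply, LinearMap.neg_apply, smul_neg]; abel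

theorem commutator_sub (D D' : M →ₗ[A] N) (b : B) :
    Diff16.commutator A B M N (D - D') b =
      Diff16.commutator A B M N D b - Diff16.commutator A B M N D' b := by
  ext m; simp only [commutator_apply, LinearMap.sub_apply, smul_sub]; abel

theorem isDiffOpLE_zero_iff (D : M →ₗ[A] N) :
    Diff16.IsDiffOpLE A B M N 0 D ↔ ∀ (b : B) (m : M), D (b • m) = b • D m := Iff.rfl

theorem isDiffOpLE_succ_iff (n : ℕ) (D : M →ₗ[A] N) :
    Diff16.IsDiffOpLE A B M N (n + 1) D ↔
      ∀ b : B, Diff16.IsDiffOpLE A B M N n (Diff16.commutator A B M N D b) :=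
  Iff.rfl

theorem isDiffOpLE_zero_map (n : ℕ) : Diff16.IsDiffOpLE A B M N n (0 : M →ₗ[A] N) := by
  induction n with
  | zero => intro b m; simp
  | succ n ih => intro b; rw [commutator_zero]; exact ih

variable {A B M N}

theorem commutator_eq_zero_of_zero {D : M →ₗ[A] N} (h : Diff16.IsDiffOpLE A B M N 0 D) (b : B) :
    Diff16.commutator A B M N D b = 0 := by
  ext m; rw [commutator_apply, h b m, sub_self]; rfl

theorem isDiffOpLE_add {n : ℕ} {D D' : M →ₗ[A] N} (h : Diff16.IsDiffOpLE A B M N n D)
    (h' : Diff16.IsDiffOpLE A B M N n D') : Diff16.IsDiffOpLE A B M N n (D + D') := by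
  induction n generalizing D D' with
  | zero =>
    intro b m
    rw [LinearMap.add_apply, LinearMap.add_apply, h b m, h' b m, smul_add]
  | succ n ih =>
    intro b
    rw [commutator_add]
    exact ih (h b) (h' b)

theorem isDiffOpLE_neg {n : ℕ} {D : M →ₗ[A] N} (h : Diff16.IsDiffOpLE A B M N n D) :
    Diff16.IsDiffOpLE A B M N n (-D) := by
  induction n generalizing D with
  | zero =>
    intro b m
    rw [LinearMap.neg_apply, LinearMap.neg_apply, h b m, smul_neg]
  | succ n ih =>
    intro b
    rw [commutator_neg]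
    exact ih (h b)

theorem isDiffOpLE_sub {n : ℕ} {D D' : M →ₗ[A] N} (h : Diff16.IsDiffOpLE A B M N n D)
    (h' : Diff16.IsDiffOpLE A B M N n D') : Diff16.IsDiffOpLE A B M N n (D - D') := by
  rw [sub_eq_add_neg]; exact isDiffOpLE_add h (isDiffOpLE_neg h')

theorem isDiffOpLE_succ {n : ℕ} {D : M →ₗ[A] N} (h : Diff16.IsDiffOpLE A B M N n D) :
    Diff16.IsDiffOpLE A B M N (n + 1) D := by
  induction n generalizing D with
  | zero =>
    intro b
    rw [commutator_eq_zero_of_zero h]; exact isDiffOpLE_zero_map A B M N 0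
  | succ n ih =>
    intro b
    exact ih (h b)

theorem isDiffOpLE_mono {n k : ℕ} {D : M →ₗ[A] N} (h : Diff16.IsDiffOpLE A B M N n D)
    (hk : n ≤ k) : Diff16.IsDiffOpLE A B M N k D := by
  induction k, hk using Nat.le_induction with
  | base => exact h
  | succ k _ ih => exact isDiffOpLE_succ ih

end basics

section comp

variable {A B : Type u} [CommRing A] [CommRing B] [Algebra A B]
variable {M N P : Type v} [AddCommGroup M] [Module A M] [Module B M] [IsScalarTower A B M]
  [AddCommGroup N] [Module A N] [Module B N] [IsScalarTower A B N]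
  [AddCommGroup P] [Module A P] [Module B P] [IsScalarTower A B P]

theorem commutator_comp (D : M →ₗ[A] N) (D' : N →ₗ[A] P) (b : B) :
    Diff16.commutator A B M P (D' ∘ₗ D) b =
      D' ∘ₗ Diff16.commutator A B M N D b + Diff16.commutator A B N P D' b ∘ₗ D := by
  ext m
  simp only [commutator_apply, LinearMap.comp_apply, LinearMap.add_apply, map_sub]
  abel

theorem isDiffOpLE_comp_aux (s : ℕ) : ∀ {n n' : ℕ} {D : M →ₗ[A] N} {D' : N →ₗ[A] P},
    Diff16.IsDiffOpLE A B M N n D → Diff16.IsDiffOpLE A B N P n' D' → n + n' = s →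
    Diff16.IsDiffOpLE A B M P s (D' ∘ₗ D) := by
  induction s with
  | zero =>
    intro n n' D D' hD hD' hs
    obtain rfl : n = 0 := by omega
    obtain rfl : n' = 0 := by omega
    intro b m
    rw [LinearMap.comp_apply, LinearMap.comp_apply, hD b m, hD' b (D m)]
  | succ s ih =>
    intro n n' D D' hD hD' hs
    intro b
    rw [commutator_comp]
    refine isDiffOpLE_add ?_ ?_
    · -- D' ∘ [D, b]
      cases n with
      | zero =>
        rw [commutator_eq_zero_of_zero hD, LinearMap.comp_zero]
        exact isDiffOpLE_zero_map A B M P s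
      | succ n => exact ih (hD b) hD' (by omega)
    · cases n' with
      | zero =>
        rw [commutator_eq_zero_of_zero hD', LinearMap.zero_comp]
        exact isDiffOpLE_zero_map A B M P s
      | succ n' => exact ih hD (hD' b) (by omega)

theorem isDiffOpLE_comp {n n' : ℕ} {D : M →ₗ[A] N} {D' : N →ₗ[A] P}
    (hD : Diff16.IsDiffOpLE A B M N n D) (hD' : Diff16.IsDiffOpLE A B N P n' D') :
    Diff16.IsDiffOpLE A B M P (n + n') (D' ∘ₗ D) :=
  isDiffOpLE_comp_aux (n + n') hD hD' rfl

end comp

end Groth.Agent.LD

namespace Groth.Agent.LD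

section generators

variable {A B : Type u} [CommRing A] [CommRing B] [Algebra A B]
variable {M N : Type v} [AddCommGroup M] [Module A M] [Module B M] [IsScalarTower A B M]
  [AddCommGroup N] [Module A N] [Module B N] [IsScalarTower A B N]

theorem isDiffOpLE_zero_lsmul (b : B) :
    Diff16.IsDiffOpLE A B M M 0 ((LinearMap.lsmul B M b).restrictScalars A) := by
  intro c m
  simp only [LinearMap.coe_restrictScalars, LinearMap.lsmul_apply]
  rw [smul_comm]

theorem commutator_algebraMap (D : M →ₗ[A] N) (a : A) :
    Diff16.commutator A B M N D (algebraMap A B a) = 0 := by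
  ext m
  rw [commutator_apply, algebraMap_smul, algebraMap_smul, map_smul, sub_self]; rfl

theorem commutator_add_right (D : M →ₗ[A] N) (b b' : B) :
    Diff16.commutator A B M N D (b + b') =
      Diff16.commutator A B M N D b + Diff16.commutator A B M N D b' := by
  ext m
  simp only [commutator_apply, LinearMap.add_apply, add_smul, map_add]; abel

theorem commutator_mul_right (D : M →ₗ[A] N) (b b' : B) :
    Diff16.commutator A B M N D (b * b') =
      Diff16.commutator A B M N D b ∘ₗ ((LinearMap.lsmul B M b').restrictScalars A) +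
      ((LinearMap.lsmul B N b).restrictScalars A) ∘ₗ Diff16.commutator A B M N D b' := by
  ext m
  simp only [commutator_apply, LinearMap.add_apply, LinearMap.comp_apply,
    LinearMap.coe_restrictScalars, LinearMap.lsmul_apply, mul_smul, smul_sub]
  abel

theorem isDiffOpLE_comp_lsmul_right {n : ℕ} {E : M →ₗ[A] N} (h : Diff16.IsDiffOpLE A B M N n E)
    (b : B) :
    Diff16.IsDiffOpLE A B M N n (E ∘ₗ ((LinearMap.lsmul B M b).restrictScalars A)) :=
  isDiffOpLE_comp_aux n (isDiffOpLE_zero_lsmul b) h (by omega)

theorem isDiffOpLE_comp_lsmul_left {n : ℕ} {E : M →ₗ[A] N} (h : Diff16.IsDiffOpLE A B M N n E)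
    (b : B) :
    Diff16.IsDiffOpLE A B M N n (((LinearMap.lsmul B N b).restrictScalars A) ∘ₗ E) :=
  isDiffOpLE_comp_aux n h (isDiffOpLE_zero_lsmul b) (by omega)

/-- The elements `b` for which `[D, b]` has order at most `n` form a subalgebra. -/
noncomputable def commSubalgebra (n : ℕ) (D : M →ₗ[A] N) : Subalgebra A B where
  carrier := {b | Diff16.IsDiffOpLE A B M N n (Diff16.commutator A B M N D b)}
  mul_mem' := by
    intro b b' hb hb'
    simp only [Set.mem_ofPred_eq] at hb hb' ⊢
    rw [commutator_mul_right]
    exact isDiffOpLE_add (isDiffOpLE_comp_lsmul_right hb b') (isDiffOpLE_comp_lsmul_left hb' b)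
  add_mem' := by
    intro b b' hb hb'
    simp only [Set.mem_ofPred_eq] at hb hb' ⊢
    rw [commutator_add_right]
    exact isDiffOpLE_add hb hb'
  algebraMap_mem' := by
    intro a
    simp only [Set.mem_ofPred_eq]
    rw [commutator_algebraMap]
    exact isDiffOpLE_zero_map A B M N n

theorem isDiffOpLE_succ_of_generators (s : Set B) (hs : Algebra.adjoin A s = ⊤) (n : ℕ)
    (D : M →ₗ[A] N)
    (hD : ∀ g ∈ s, Diff16.IsDiffOpLE A B M N n (Diff16.commutator A B M N D g)) :
    Diff16.IsDiffOpLE A B M N (n + 1) D := by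
  intro b
  have h : Algebra.adjoin A s ≤ commSubalgebra n D := Algebra.adjoin_le (fun g hg => hD g hg)
  rw [hs] at h
  exact h (Algebra.mem_top : b ∈ (⊤ : Subalgebra A B))

end generators

end Groth.Agent.LD
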