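import Mathlib

universe u v w

namespace Groth.Agent.LD.DivP

open Polynomial IntermediateField

--START1
/-- list lemma: if a product of operators `T - c r` kills a nonzero vector, one of them has a
nonzero kernel vector. -/
theorem exists_eigen_of_list_prod {E A : Type*} [Ring E] [AddCommGroup A] [Module E A]
    (l : List E) (u : A) (hu : u ≠ 0) (h : l.prod • u = 0) :
    ∃ r ∈ l, ∃ z : A, z ≠ 0 ∧ r • z = 0 := by
  induction l with
  | nil => simp at h; exact absurd h hu
  | cons r l ih =>
    rw [List.prod_cons, mul_smul] at h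
    by_cases h0 : l.prod • u = 0
    · obtain ⟨r', hr', z, hz, hz'⟩ := ih h0
      exact ⟨r', List.mem_cons_of_mem _ hr', z, hz, hz'⟩
    · exact ⟨r, List.mem_cons_self, l.prod • u, h0, h⟩

/-- a separable element of a domain algebra over a field of characteristic `p` is a polynomial
in its `p`-th power -/
theorem exists_aeval_pow_of_isSeparable (K : Type u) [Field K] (p : ℕ) [Fact p.Prime] [CharP K p]
    (A : Type v) [Ring A] [IsDomain A] [Algebra K A] (y : A) (hint : IsIntegral K y)
    (hy : IsSeparable K y) : ∃ g : K[X], y = aeval (y ^ p) g := by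
  set m := minpoly K y with hm
  have hirr : Irreducible m := minpoly.irreducible hint
  have : Fact (Irreducible m) := ⟨hirr⟩
  set a : AdjoinRoot m := AdjoinRoot.root m with ha
  have hmon : m.Monic := minpoly.monic hint
  have hma : minpoly K a = m := by
    rw [ha, AdjoinRoot.minpoly_root hirr.ne_zero, hmon.leadingCoeff, inv_one, C_1, mul_one]
  have hsep : IsSeparable K a := by
    unfold IsSeparable
    rw [hma]
    exact hy
  have : ExpChar K p := ExpChar.prime (Fact.out)
  have h1 := IntermediateField.adjoin_simple_eq_adjoin_pow_expChar_of_isSeparable K (AdjoinRoot m) hsep p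
  have h2 : a ∈ K⟮a ^ p⟯ := by
    rw [← h1]
    exact IntermediateField.mem_adjoin_simple_self K a
  have halg : IsAlgebraic K (a ^ p) := (hsep.isIntegral.pow p).isAlgebraic
  rw [← IntermediateField.mem_toSubalgebra,
    IntermediateField.adjoin_simple_toSubalgebra_of_isAlgebraic halg,
    Algebra.adjoin_singleton_eq_range_aeval] at h2
  obtain ⟨g, hg⟩ := h2
  refine ⟨g, ?_⟩
  -- a = aeval (a^p) g means m ∣ X - expand p g
  have h3 : aeval a (X - expand K p g) = 0 := by
    have hg' : aeval (a ^ p) g = a := hg
    rw [map_sub, aeval_X, expand_aeval, hg', sub_self]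
  have h4 : m ∣ X - expand K p g := by
    rw [← hma]
    exact minpoly.dvd K a h3
  have h5 : aeval y (X - expand K p g) = 0 := by
    obtain ⟨q, hq⟩ := h4
    rw [hq, map_mul, hm, minpoly.aeval, zero_mul]
  rw [map_sub, aeval_X, expand_aeval, sub_eq_zero] at h5
  exact h5

--START2
theorem mulRight_pow_apply (K : Type u) [Field K] (A : Type v) [Ring A] [Algebra K A] (a : A) (n : ℕ)
    (z : A) : ((LinearMap.mulRight K a) ^ n) z = z * a ^ n := by
  induction n generalizing z with
  | zero => simp
  | succ n ih =>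
    rw [pow_succ, Module.End.mul_apply, ih, LinearMap.mulRight_apply, pow_succ', mul_assoc]

theorem aeval_mulRight_apply (K : Type u) [Field K] (A : Type v) [Ring A] [Algebra K A] (a : A)
    (q : K[X]) (z : A) : (aeval (LinearMap.mulRight K a) q) z = z * aeval a q := by
  induction q using Polynomial.induction_on' with
  | add q1 q2 h1 h2 => rw [map_add, LinearMap.add_apply, h1, h2, map_add, mul_add]
  | monomial n c =>
    rw [aeval_monomial, aeval_monomial, Module.End.mul_apply, mulRight_pow_apply,
      Module.algebraMap_end_apply, Algebra.smul_def, ← mul_assoc z, ← Algebra.commutes c z, mul_assoc]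

theorem semiconj_aeval (K : Type u) [Field K] (A : Type v) [Ring A] [Algebra K A] (a b z : A)
    (h : z * a = b * z) (q : K[X]) : z * aeval a q = aeval b q * z := by
  induction q using Polynomial.induction_on' with
  | add q1 q2 h1 h2 => rw [map_add, map_add, mul_add, add_mul, h1, h2]
  | monomial n c =>
    have hs : SemiconjBy z a b := h
    have hn : z * a ^ n = b ^ n * z := hs.pow_right n
    rw [aeval_monomial, aeval_monomial, ← mul_assoc, ← Algebra.commutes c z, mul_assoc, hn, mul_assoc]

theorem S15171
    (K : Type u) [Field K] (p : ℕ) [Fact p.Prime] [CharP K p]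
    (A : Type v) [DivisionRing A] [Algebra K A] [Algebra.IsCentral K A] [FiniteDimensional K A]
    (hA : Module.finrank K A = p ^ 2) (L : Type w) [Field L] [Algebra K L] [IsGalois K L]
    (hL : Module.finrank K L = p) (ι : L →ₐ[K] A) :
    ∃ v : A, ¬ IsSeparable K v := by
  classical
  have hp : p.Prime := Fact.out
  have : FiniteDimensional K L := Module.finite_of_finrank_pos (by rw [hL]; exact hp.pos)
  obtain ⟨x, hx⟩ := Field.exists_primitive_element K L
  have hιinj : Function.Injective ι := ι.toRingHom.injective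
  set f := minpoly K x with hf
  have hxint : IsIntegral K x := IsIntegral.of_finite K x
  set fL := f.map (algebraMap K L) with hfL
  have hfLmon : fL.Monic := (minpoly.monic hxint).map _
  have hfLsplits : fL.Splits := Normal.splits inferInstance x
  have hfsep : f.Separable := Algebra.IsSeparable.isSeparable K x
  have hfLsep : fL.Separable := hfsep.map
  have hfLprod : fL = (fL.roots.map (fun r => X - C r)).prod :=
    hfLsplits.eq_prod_roots_of_monic hfLmon
  set l := fL.roots.toList with hl
  have hlnodup : l.Nodup := by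
    rw [hl, ← Multiset.coe_nodup, Multiset.coe_toList]
    exact nodup_roots hfLsep
  have hmeml : ∀ r, r ∈ l ↔ aeval r f = 0 := by
    intro r
    rw [hl, Multiset.mem_toList, mem_roots hfLmon.ne_zero, IsRoot.def, hfL, eval_map_algebraMap]
  have hxl : x ∈ l := (hmeml x).mpr (minpoly.aeval K x)
  have hfLlist : fL = (l.map (fun r => X - C r)).prod := by
    have hc : fL.roots = (l : Multiset L) := (Multiset.coe_toList _).symm
    conv_lhs => rw [hfLprod]
    rw [hc, Multiset.map_coe, Multiset.prod_coe]
  -- operators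
  set E := Module.End K A with hE
  set φ : L →+* E := (Algebra.lmul K A).toRingHom.comp ι.toRingHom with hφ
  set T : E := LinearMap.mulRight K (ι x) with hT
  have hφapp : ∀ (a : L) (z : A), φ a z = ι a * z := fun a z => rfl
  have hTapp : ∀ z : A, T z = z * ι x := fun z => rfl
  have hcomm : ∀ a, Commute (φ a) T := by
    intro a
    apply LinearMap.ext
    intro z
    show ι a * (z * ι x) = (ι a * z) * ι x
    rw [mul_assoc]
  set Ψ : L[X] →+* E := Polynomial.eval₂RingHom' φ T hcomm with hΨ
  have hΨapp : ∀ q, Ψ q = eval₂ φ T q := fun q => rfl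
  have hΨX : ∀ r, Ψ (X - C r) = T - φ r := by
    intro r
    rw [hΨapp, eval₂_sub, eval₂_X, eval₂_C]
  have hΨfL : Ψ fL = 0 := by
    rw [hΨapp, hfL, eval₂_map]
    have e : φ.comp (algebraMap K L) = algebraMap K E := by
      ext c z
      show ι (algebraMap K L c) * z = c • z
      rw [AlgHom.commutes, Algebra.smul_def]
    rw [e]
    apply LinearMap.ext
    intro z
    have h1 := aeval_mulRight_apply K A (ι x) f z
    rw [aeval_def] at h1
    rw [h1, aeval_algHom_apply, hf, minpoly.aeval, map_zero, mul_zero]
    rfl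
  have hw : ∃ w : A, (T - φ x) w ≠ 0 := by
    by_contra hcon
    push Not at hcon
    have hcen : ι x ∈ Subalgebra.center K A := by
      rw [Subalgebra.mem_center_iff]
      intro z
      have h' : z * ι x - ι x * z = 0 := hcon z
      exact sub_eq_zero.mp h'
    have hbot := Algebra.IsCentral.out hcen
    obtain ⟨c, hc⟩ := Algebra.mem_bot.mp hbot
    have hxc : x = algebraMap K L c := hιinj (by rw [← hc, AlgHom.commutes])
    have h1 : K⟮x⟯ = ⊥ := IntermediateField.adjoin_simple_eq_bot_iff.mpr (by
      rw [hxc]; exact IntermediateField.algebraMap_mem ⊥ c)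
    rw [hx] at h1
    have h2 := IntermediateField.bot_eq_top_iff_finrank_eq_one.mp h1.symm
    rw [hL] at h2
    exact hp.one_lt.ne' h2
  obtain ⟨w, hw⟩ := hw
  set u := (T - φ x) w with hu
  have hprod : (l.map (fun r => X - C r)).prod =
      (X - C x) * ((l.erase x).map (fun r => X - C r)).prod :=
    (List.prod_map_erase (fun r => X - C r) hxl).symm
  have hkill : (((l.erase x).map (fun r => T - φ r)).prod) • u = 0 := by
    have e1 : Ψ (((l.erase x).map (fun r => X - C r)).prod) =
        ((l.erase x).map (fun r => T - φ r)).prod := by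
      rw [map_list_prod, List.map_map]
      congr 1
      apply List.map_congr_left
      intro r _
      exact hΨX r
    have e2 : Ψ fL = Ψ (((l.erase x).map (fun r => X - C r)).prod) * Ψ (X - C x) := by
      rw [← map_mul, mul_comm, ← hprod, ← hfLlist]
    rw [← e1, hu, ← hΨX x, Module.End.smul_def, ← Module.End.mul_apply, ← e2, hΨfL]
    rfl
  obtain ⟨_, hr, z, hz0, hz⟩ :=
    exists_eigen_of_list_prod ((l.erase x).map (fun r => T - φ r)) u hw hkill
  obtain ⟨r, hr', rfl⟩ := List.mem_map.mp hr
  have hrx : r ≠ x := (hlnodup.mem_erase_iff.mp hr').1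
  have hrl : r ∈ l := (hlnodup.mem_erase_iff.mp hr').2
  have hroot : aeval r f = 0 := (hmeml r).mp hrl
  have hzr : z * ι x = ι r * z := by
    have h' : z * ι x - ι r * z = 0 := hz
    exact sub_eq_zero.mp h'
  refine ⟨z, ?_⟩
  intro hsep
  obtain ⟨σ, hσ⟩ := minpoly.exists_algEquiv_of_root' (x := r) (y := x) hxint.isAlgebraic hroot
  have key : ∀ l' : L, z * ι l' = ι (σ l') * z := by
    intro l'
    have hmem : l' ∈ K⟮x⟯ := by rw [hx]; trivial
    rw [← IntermediateField.mem_toSubalgebra,
      IntermediateField.adjoin_simple_toSubalgebra_of_isAlgebraic hxint.isAlgebraic,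
      Algebra.adjoin_singleton_eq_range_aeval] at hmem
    obtain ⟨q, hq⟩ := hmem
    have hq' : aeval x q = l' := hq
    have h5 : σ (aeval x q) = aeval r q := by
      have h6 := aeval_algHom_apply (σ : L →ₐ[K] L) x q
      rw [← hσ]
      exact h6.symm
    rw [← hq', h5, ← aeval_algHom_apply, ← aeval_algHom_apply]
    exact semiconj_aeval K A (ι x) (ι r) z hzr q
  have keyn : ∀ (n : ℕ) (l' : L), z ^ n * ι l' = ι ((σ ^ n) l') * z ^ n := by
    intro n
    induction n with
    | zero => intro l'; simp
    | succ n ih =>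
      intro l'
      rw [pow_succ, mul_assoc, key, ← mul_assoc, ih, pow_succ σ, AlgEquiv.mul_apply, mul_assoc]
  have hσp : σ ^ p = 1 := by
    rw [← hL, ← IsGalois.card_aut_eq_finrank]
    exact pow_card_eq_one'
  have hzp : z ^ p * ι x = ι x * z ^ p := by
    rw [keyn p x, hσp]
    rfl
  obtain ⟨g, hg⟩ := exists_aeval_pow_of_isSeparable K p A z (IsIntegral.of_finite K z) hsep
  have hcz : ι x * z = z * ι x := by
    have := semiconj_aeval K A (z ^ p) (z ^ p) (ι x) hzp.symm g
    rw [← hg] at this
    exact this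
  rw [hzr] at hcz
  have h3 : (ι x - ι r) * z = 0 := by rw [sub_mul, hcz, sub_self]
  rcases mul_eq_zero.mp h3 with h4 | h4
  · exact hrx (hιinj (sub_eq_zero.mp h4)).symm
  · exact hz0 h4

--START3
theorem S15172
    (L : Type u) [Field L] (p : ℕ) [Fact p.Prime] [CharP L p] (s : Finset L) (h0 : (0 : L) ∈ s)
    (hadd : ∀ a ∈ s, ∀ b ∈ s, a + b ∈ s) (R : Type v) [CommRing R] [Algebra L R] (x y : R) :
    aeval (x + y) (∏ a ∈ s, (X - C a)) = aeval x (∏ a ∈ s, (X - C a)) + aeval y (∏ a ∈ s, (X - C a)) := by
  classical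
  set f : L[X] := ∏ a ∈ s, (X - C a) with hf
  have hfmon : f.Monic := monic_prod_of_monic _ _ (fun a _ => monic_X_sub_C a)
  have hfdeg : f.natDegree = s.card := by
    rw [hf, natDegree_prod_of_monic _ _ (fun a _ => monic_X_sub_C a)]
    simp
  have hspos : 0 < s.card := Finset.card_pos.mpr ⟨0, h0⟩
  -- closure under nsmul and negation
  have hnsmul : ∀ (n : ℕ) (b : L), b ∈ s → n • b ∈ s := by
    intro n b hb
    induction n with
    | zero => simpa using h0
    | succ n ih => rw [succ_nsmul]; exact hadd _ ih _ hb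
  have hneg : ∀ b ∈ s, -b ∈ s := by
    intro b hb
    have hp : p.Prime := Fact.out
    have h1 : (p - 1) • b + b = 0 := by
      rw [← succ_nsmul, Nat.sub_add_cancel hp.one_le, nsmul_eq_mul, CharP.cast_eq_zero, zero_mul]
    have h2 : -b = (p - 1) • b := by
      rw [neg_eq_iff_add_eq_zero, add_comm]; exact h1
    rw [h2]
    exact hnsmul _ b hb
  -- translation invariance
  have htrans : ∀ b ∈ s, f.comp (X + C b) = f := by
    intro b hb
    rw [hf, prod_comp]
    refine Finset.prod_nbij' (fun a => a - b) (fun a => a + b) ?_ ?_ ?_ ?_ ?_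
    · intro a ha
      rw [sub_eq_add_neg]; exact hadd a ha _ (hneg b hb)
    · intro a ha
      exact hadd a ha b hb
    · intro a _; ring
    · intro a _; ring
    · intro a _
      simp only [sub_comp, X_comp, C_comp, map_sub]
      ring
  have hroot : ∀ b ∈ s, f.eval b = 0 := by
    intro b hb
    rw [hf, eval_prod]
    exact Finset.prod_eq_zero hb (by simp)
  -- two-variable polynomial
  set F : L[X][X] := f.map C with hF
  have hFmon : F.Monic := hfmon.map C
  have hFdeg : F.natDegree = s.card := by rw [hF, natDegree_map_eq_of_injective C_injective, hfdeg]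
  set G : L[X][X] := F.comp (X + C X) - F - C f with hG
  have hcompmon : (F.comp (X + C X)).Monic := hFmon.comp_X_add_C X
  have hcompdeg : (F.comp (X + C X)).natDegree = s.card := by
    rw [natDegree_comp, natDegree_X_add_C, mul_one, hFdeg]
  have hGdeg : G.natDegree < s.card := by
    have hdeq : (F.comp (X + C X)).degree = F.degree := by
      rw [degree_eq_natDegree hcompmon.ne_zero, degree_eq_natDegree hFmon.ne_zero, hcompdeg, hFdeg]
    have h1 : (F.comp (X + C X) - F).degree < F.degree := by
      rw [← hdeq]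
      exact degree_sub_lt hdeq hcompmon.ne_zero (by rw [hcompmon.leadingCoeff, hFmon.leadingCoeff])
    have h2 : (C f : L[X][X]).degree < F.degree := by
      rw [degree_eq_natDegree hFmon.ne_zero, hFdeg]
      exact lt_of_le_of_lt degree_C_le (by exact_mod_cast hspos)
    have h3 : G.degree < F.degree := by
      rw [hG]
      exact lt_of_le_of_lt (degree_sub_le _ _) (max_lt h1 h2)
    rw [degree_eq_natDegree hFmon.ne_zero, hFdeg] at h3
    by_cases hG0 : G = 0
    · rw [hG0, natDegree_zero]; exact hspos
    · rw [degree_eq_natDegree hG0] at h3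
      exact_mod_cast h3
  have hG0 : G = 0 := by
    apply eq_zero_of_natDegree_lt_card_of_eval_eq_zero G (f := fun b : s => (C (b : L) : L[X]))
    · intro a b hab
      exact Subtype.ext (C_injective hab)
    · rintro ⟨b, hb⟩
      show G.eval (C b) = 0
      rw [hG, eval_sub, eval_sub, eval_comp, eval_add, eval_X, eval_C, eval_C, hF, eval_map, eval_map]
      have e1 : eval₂ C (C b + X) f = f.comp (X + C b) := by
        rw [add_comm]; rfl
      have e2 : eval₂ C (C b) f = C (f.eval b) := by
        have h9 := hom_eval₂ f (RingHom.id L) (C : L →+* L[X]) b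
        rw [RingHom.comp_id] at h9
        exact h9.symm
      rw [e1, e2, htrans b hb, hroot b hb, C_0, sub_zero, sub_self]
    · rw [Fintype.card_coe]; exact hGdeg
  -- specialize
  have key := congrArg (eval₂ (aeval x : L[X] →ₐ[L] R).toRingHom y) hG0
  rw [hG, eval₂_sub, eval₂_sub, eval₂_comp, eval₂_add, eval₂_X, eval₂_C, eval₂_C, eval₂_zero, hF,
    eval₂_map, eval₂_map] at key
  have e3 : ((aeval x : L[X] →ₐ[L] R).toRingHom).comp C = algebraMap L R := by
    ext c; simp
  rw [e3] at key
  have e4 : (aeval x : L[X] →ₐ[L] R).toRingHom X = x := by simp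
  have e5 : (aeval x : L[X] →ₐ[L] R).toRingHom f = aeval x f := rfl
  rw [e4, e5, ← aeval_def, ← aeval_def, sub_sub, sub_eq_zero] at key
  rw [add_comm x y, key, add_comm]

--START4
/-- lift `AdjoinRoot m → A` for a noncommutative target -/
noncomputable def adjoinRootLift (K : Type u) [Field K] (A : Type v) [Ring A] [Algebra K A] (t : A)
    (m : K[X]) (h : aeval t m = 0) : AdjoinRoot m →ₐ[K] A :=
  Ideal.Quotient.liftₐ (Ideal.span {m}) (aeval t) (by
    intro a ha
    obtain ⟨q, rfl⟩ := Ideal.mem_span_singleton.mp ha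
    rw [map_mul, h, zero_mul])

theorem adjoinRootLift_mk (K : Type u) [Field K] (A : Type v) [Ring A] [Algebra K A] (t : A)
    (m : K[X]) (h : aeval t m = 0) (q : K[X]) :
    adjoinRootLift K A t m h (AdjoinRoot.mk m q) = aeval t q := rfl

/-- `u^n v^n` is the falling factorial of `t = u v` when `v u - u v = 1` -/
theorem pow_mul_pow_eq_aeval (K : Type u) [Field K] (A : Type v) [Ring A] [Algebra K A] (v u : A)
    (hvu : v * u - u * v = 1) (n : ℕ) :
    u ^ n * v ^ n = aeval (u * v) (∏ i ∈ Finset.range n, (X - C (i : K))) := by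
  have hvu' : v * u = u * v + 1 := by rw [← hvu]; abel
  set t := u * v with ht
  have hvt : v * (t - 1) = t * v := by
    rw [ht, mul_sub, mul_one, ← mul_assoc, hvu', add_mul, one_mul, add_sub_cancel_right, mul_assoc]
  induction n with
  | zero => simp
  | succ n ih =>
    have h1 : u ^ (n + 1) * v ^ (n + 1) = u * (u ^ n * v ^ n) * v := by
      rw [pow_succ' u, pow_succ v]; simp only [mul_assoc]
    rw [h1, ih, mul_assoc, ← semiconj_aeval K A (t - 1) t v hvt, ← mul_assoc, ← ht]
    have h2 : (∏ i ∈ Finset.range (n + 1), (X - C ((i : ℕ) : K))) =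
        X * (∏ i ∈ Finset.range n, (X - C ((i : ℕ) : K))).comp (X - C 1) := by
      rw [Finset.prod_range_succ', prod_comp, mul_comm]
      congr 1
      · simp
      · apply Finset.prod_congr rfl
        intro i _
        simp only [sub_comp, X_comp, C_comp, Nat.cast_add, Nat.cast_one, map_add]
        ring
    rw [h2, map_mul, aeval_X, aeval_comp]
    simp

theorem S15170
    (K : Type u) [Field K] (p : ℕ) [Fact p.Prime] [CharP K p]
    (A : Type v) [DivisionRing A] [Algebra K A] [Algebra.IsCentral K A] [FiniteDimensional K A]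
    (hA : Module.finrank K A = p ^ 2) (v u : A) (hv : v ^ p ∈ (algebraMap K A).range)
    (hu : u ^ p ∈ (algebraMap K A).range) (hvu : v * u - u * v = 1) :
    ∃ (L : Type v) (_ : Field L) (_ : Algebra K L), IsGalois K L ∧ Module.finrank K L = p ∧
      Nonempty (L →ₐ[K] A) := by
  classical
  have hp : p.Prime := Fact.out
  obtain ⟨a, ha⟩ := hv
  obtain ⟨b, hb⟩ := hu
  have hv0 : v ≠ 0 := by
    intro h0
    rw [h0, zero_mul, mul_zero, sub_zero] at hvu
    exact zero_ne_one hvu
  set t := u * v with ht
  have hvu' : v * u = t + 1 := by rw [ht, ← hvu]; abel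
  have hvt : v * t = (t + 1) * v := by rw [ht, ← mul_assoc, hvu', ht]
  set h : K[X] := (∏ i ∈ Finset.range p, (X - C ((i : ℕ) : K))) - C (b * a) with hh
  have hht : aeval t h = 0 := by
    rw [hh, map_sub, ← pow_mul_pow_eq_aeval K A v u hvu p, ← ha, ← hb, aeval_C, map_mul, sub_self]
  have hprodmon : (∏ i ∈ Finset.range p, (X - C ((i : ℕ) : K))).Monic :=
    monic_prod_of_monic _ _ (fun i _ => monic_X_sub_C _)
  have hproddeg : (∏ i ∈ Finset.range p, (X - C ((i : ℕ) : K))).natDegree = p := by
    rw [natDegree_prod_of_monic _ _ (fun i _ => monic_X_sub_C _)]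
    simp only [natDegree_X_sub_C, Finset.sum_const, Finset.card_range, smul_eq_mul, mul_one]
  have hhmon : h.Monic := by
    apply Monic.sub_of_left hprodmon
    rw [degree_eq_natDegree hprodmon.ne_zero, hproddeg]
    exact lt_of_le_of_lt degree_C_le (by exact_mod_cast hp.pos)
  have hhdeg : h.natDegree = p := by
    rw [hh, natDegree_sub_C, hproddeg]
  have htint : IsIntegral K t := ⟨h, hhmon, hht⟩
  set m := minpoly K t with hm
  have hmmon : m.Monic := minpoly.monic htint
  have hmirr : Irreducible m := minpoly.irreducible htint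
  have hmle : m.natDegree ≤ p := by
    rw [← hhdeg]
    exact natDegree_le_of_dvd (minpoly.dvd K t hht) hhmon.ne_zero
  have hinv : m.comp (X + C 1) = m := by
    have h1 : aeval (t + 1) m = 0 := by
      have h0 := semiconj_aeval K A t (t + 1) v hvt m
      rw [hm, minpoly.aeval, mul_zero] at h0
      rcases mul_eq_zero.mp h0.symm with h2 | h2
      · exact h2
      · exact absurd h2 hv0
    have h2 : aeval t (m.comp (X + C 1)) = 0 := by
      rw [aeval_comp]; simpa using h1
    have h3 : m ∣ m.comp (X + C 1) := minpoly.dvd K t h2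
    have hcm : (m.comp (X + C 1)).Monic := hmmon.comp_X_add_C 1
    exact eq_of_monic_of_dvd_of_natDegree_le hmmon hcm h3
      (by rw [natDegree_comp, natDegree_X_add_C, mul_one])
  have : Fact (Irreducible m) := ⟨hmirr⟩
  set L := AdjoinRoot m with hLdef
  set α : L := AdjoinRoot.root m with hα
  have hroots : ∀ i : ℕ, aeval (α + (i : L)) m = 0 := by
    intro i
    induction i with
    | zero => rw [Nat.cast_zero, add_zero, hα, AdjoinRoot.aeval_eq, AdjoinRoot.mk_self]
    | succ i ih =>
      have h1 : aeval (α + (i : L)) (m.comp (X + C 1)) = aeval (α + ((i + 1 : ℕ) : L)) m := by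
        rw [aeval_comp]; simp [add_assoc]
      rw [← h1, hinv, ih]
  have : CharP L p := charP_of_injective_algebraMap (algebraMap K L).injective p
  set mL := m.map (algebraMap K L) with hmL
  have hmLne : mL ≠ 0 := (hmmon.map _).ne_zero
  set S : Finset L := (Finset.range p).image (fun i : ℕ => α + (i : L)) with hS
  have hScard : S.card = p := by
    rw [hS, Finset.card_image_of_injOn, Finset.card_range]
    intro i hi j hj hij
    have hij' : (i : L) = (j : L) := add_left_cancel hij
    exact CharP.natCast_injOn_Iio L p (by simpa using hi) (by simpa using hj) hij'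
  have hSsub : S ⊆ mL.roots.toFinset := by
    intro r hr
    obtain ⟨i, _, rfl⟩ := Finset.mem_image.mp hr
    rw [Multiset.mem_toFinset, mem_roots hmLne, IsRoot.def, hmL, eval_map_algebraMap]
    exact hroots i
  have hc1 : p ≤ mL.roots.toFinset.card := hScard ▸ Finset.card_le_card hSsub
  have hc2 : mL.roots.toFinset.card ≤ Multiset.card mL.roots := Multiset.toFinset_card_le _
  have hc3 : Multiset.card mL.roots ≤ mL.natDegree := card_roots' mL
  have hc4 : mL.natDegree = m.natDegree := natDegree_map _
  have hdeg : m.natDegree = p := by omega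
  have hsplits : mL.Splits := splits_iff_card_roots.mpr (by omega)
  have hnodup : mL.roots.Nodup := Multiset.toFinset_card_eq_card_iff_nodup.mp (by omega)
  have hsepL : mL.Separable := (nodup_roots_iff_of_splits hmLne hsplits).mp hnodup
  have hsep : m.Separable := (separable_map (algebraMap K L)).mp hsepL
  have hαroot : aeval α m = 0 := by simpa using hroots 0
  have hsf : m.IsSplittingField K L := by
    refine ⟨hsplits, top_le_iff.mp ?_⟩
    rw [← AdjoinRoot.adjoinRoot_eq_top]
    apply Algebra.adjoin_mono
    intro r hr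
    rw [Set.mem_singleton_iff] at hr
    rw [hr]
    exact mem_rootSet.mpr ⟨hmmon.ne_zero, hαroot⟩
  have hgal : IsGalois K L := IsGalois.of_separable_splitting_field hsep
  have hfin : Module.finrank K L = p := by
    rw [(AdjoinRoot.powerBasis hmmon.ne_zero).finrank, AdjoinRoot.powerBasis_dim, hdeg]
  set φ : L →ₐ[K] A := adjoinRootLift K A t m (minpoly.aeval K t) with hφ
  have : Small.{v} L := small_of_injective φ.toRingHom.injective
  set e := Shrink.algEquiv.{v} K L with he
  refine ⟨Shrink.{v} L, inferInstance, inferInstance, IsGalois.of_algEquiv e.symm, ?_,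
    ⟨φ.comp e.toAlgHom⟩⟩
  rw [← hfin]
  exact e.toLinearEquiv.finrank_eq

--START5
/-- In a finite-dimensional division algebra, the degree of a minimal polynomial divides the
dimension. -/
theorem natDegree_minpoly_dvd_finrank (K : Type u) [Field K] (A : Type v) [DivisionRing A]
    [Algebra K A] [FiniteDimensional K A] (x : A) :
    (minpoly K x).natDegree ∣ Module.finrank K A := by
  have hint : IsIntegral K x := IsIntegral.of_finite K x
  set m := minpoly K x with hm
  have hirr : Irreducible m := minpoly.irreducible hint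
  have : Fact (Irreducible m) := ⟨hirr⟩
  set φ : AdjoinRoot m →ₐ[K] A := adjoinRootLift K A x m (minpoly.aeval K x) with hφ
  let _ : Module (AdjoinRoot m) A := Module.compHom A φ.toRingHom
  have hsmul : ∀ (f : AdjoinRoot m) (a : A), f • a = φ f * a := fun f a => rfl
  have : IsScalarTower K (AdjoinRoot m) A := by
    refine IsScalarTower.of_algebraMap_smul ?_
    intro k a
    rw [hsmul, AlgHom.commutes, Algebra.smul_def]
  have h1 := Module.finrank_mul_finrank K (AdjoinRoot m) A
  have h2 : Module.finrank K (AdjoinRoot m) = m.natDegree := by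
    rw [(AdjoinRoot.powerBasis hirr.ne_zero).finrank, AdjoinRoot.powerBasis_dim]
  rw [h2] at h1
  exact ⟨_, h1.symm⟩

/-- A finite-dimensional central division algebra of dimension `> 1` has no element whose minimal
polynomial has degree equal to the dimension. -/
theorem natDegree_minpoly_ne_finrank (K : Type u) [Field K] (A : Type v) [DivisionRing A]
    [Algebra K A] [Algebra.IsCentral K A] [FiniteDimensional K A] (hA : 1 < Module.finrank K A)
    (x : A) : (minpoly K x).natDegree ≠ Module.finrank K A := by
  intro hdeg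
  have hint : IsIntegral K x := IsIntegral.of_finite K x
  -- powers of x span A, so A is commutative
  have hli := linearIndependent_pow (K := K) x
  have hspan : Submodule.span K (Set.range fun i : Fin (minpoly K x).natDegree => x ^ (i : ℕ)) = ⊤ :=
    hli.span_eq_top_of_card_eq_finrank' (by rw [Fintype.card_fin, hdeg])
  have hadj : Algebra.adjoin K {x} = ⊤ := by
    rw [eq_top_iff]
    intro a _
    have ha : a ∈ Submodule.span K (Set.range fun i : Fin (minpoly K x).natDegree => x ^ (i : ℕ)) := by
      rw [hspan]; trivial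
    have hle : Submodule.span K (Set.range fun i : Fin (minpoly K x).natDegree => x ^ (i : ℕ)) ≤
        Subalgebra.toSubmodule (Algebra.adjoin K {x}) := by
      rw [Submodule.span_le]
      rintro _ ⟨i, rfl⟩
      exact Subalgebra.pow_mem (Algebra.adjoin K {x}) (Algebra.subset_adjoin (Set.mem_singleton x)) _
    exact hle ha
  have hcomm : ∀ a b : A, a * b = b * a := by
    intro a b
    have ha : a ∈ Algebra.adjoin K {x} := by rw [hadj]; trivial
    have hb : b ∈ Algebra.adjoin K {x} := by rw [hadj]; trivial
    rw [Algebra.adjoin_singleton_eq_range_aeval] at ha hb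
    obtain ⟨f, rfl⟩ := ha
    obtain ⟨g, rfl⟩ := hb
    show aeval x f * aeval x g = aeval x g * aeval x f
    rw [← map_mul, ← map_mul, mul_comm]
  have htop : (⊤ : Subalgebra K A) ≤ ⊥ := by
    refine le_trans ?_ (Algebra.IsCentral.out (K := K) (D := A))
    intro a _
    rw [Subalgebra.mem_center_iff]
    intro b
    exact hcomm b a
  have h1 : (⊥ : Subalgebra K A) = ⊤ := le_antisymm bot_le htop
  have h2 := Subalgebra.bot_eq_top_iff_finrank_eq_one.mp h1
  omega

--START6
theorem pow_mem_of_not_isSeparable (K : Type u) [Field K] (p : ℕ) [Fact p.Prime] [CharP K p]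
    (A : Type v) [DivisionRing A] [Algebra K A] [Algebra.IsCentral K A] [FiniteDimensional K A]
    (hA : Module.finrank K A = p ^ 2) (v : A) (hv : ¬ IsSeparable K v) :
    v ^ p ∈ (algebraMap K A).range ∧ (minpoly K v).natDegree = p := by
  have hp : p.Prime := Fact.out
  have hint : IsIntegral K v := IsIntegral.of_finite K v
  set m := minpoly K v with hm
  have hirr : Irreducible m := minpoly.irreducible hint
  have hmon : m.Monic := minpoly.monic hint
  rcases separable_or p hirr with hs | ⟨_, g, hg, hgm⟩
  · exact absurd hs hv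
  have hdeg : m.natDegree = g.natDegree * p := by rw [← hgm, natDegree_expand]
  have hdvd : m.natDegree ∣ p ^ 2 := hA ▸ natDegree_minpoly_dvd_finrank K A v
  have hne : m.natDegree ≠ p ^ 2 := by
    rw [← hA]
    exact natDegree_minpoly_ne_finrank K A (by rw [hA]; exact Nat.one_lt_pow two_ne_zero hp.one_lt) v
  have hgpos : 0 < g.natDegree := hg.natDegree_pos
  have hgdvd : g.natDegree ∣ p := by
    rw [hdeg, pow_two] at hdvd
    exact Nat.dvd_of_mul_dvd_mul_right hp.pos hdvd
  have hg1 : g.natDegree = 1 := by
    rcases (Nat.dvd_prime hp).mp hgdvd with h | h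
    · exact h
    · exfalso; apply hne; rw [hdeg, h, pow_two]
  have hgmon : g.Monic := by
    have : (expand K p g).Monic := hgm ▸ hmon
    exact (monic_expand_iff hp.pos).mp this
  have hgX : g = X + C (g.coeff 0) := hgmon.eq_X_add_C hg1
  refine ⟨⟨-(g.coeff 0), ?_⟩, by rw [hdeg, hg1, one_mul]⟩
  have h0 : aeval v m = 0 := minpoly.aeval K v
  rw [← hgm, hgX, map_add, expand_X, expand_C, map_add, map_pow, aeval_X, aeval_C] at h0
  rw [map_neg, eq_comm, ← add_eq_zero_iff_eq_neg]
  exact h0

--START7
section Deriv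

variable {K : Type u} [Field K] {A : Type v} [Ring A] [Algebra K A]

/-- `v u^(n+1) - u^(n+1) v = (n+1) u^n` when `v u - u v = 1` -/
theorem comm_pow_of_comm_eq_one (v u : A) (hvu : v * u - u * v = 1) (n : ℕ) :
    v * u ^ (n + 1) - u ^ (n + 1) * v = (n + 1) • u ^ n := by
  have hvu' : v * u = u * v + 1 := by rw [← hvu]; abel
  induction n with
  | zero => simpa using hvu
  | succ n ih =>
    have h2 : v * u ^ (n + 1) = u ^ (n + 1) * v + (n + 1) • u ^ n := by rw [← ih]; abel
    have h3 : v * u ^ (n + 1 + 1) = (v * u ^ (n + 1)) * u := by rw [pow_succ u (n + 1), mul_assoc]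
    rw [h3, h2, add_mul, mul_assoc (u ^ (n + 1)), hvu', mul_add, mul_one, ← mul_assoc, ← pow_succ,
      smul_mul_assoc, ← pow_succ, succ_nsmul (u ^ (n + 1)) (n + 1)]
    abel

/-- the key independence lemma -/
theorem coeffs_zero_of_sum_eq_zero (p : ℕ) [Fact p.Prime] [CharP K p] (v u : A)
    (hvu : v * u - u * v = 1) :
    ∀ (n : ℕ), n ≤ p → ∀ (c : ℕ → A), (∀ i, v * c i = c i * v) →
      ∑ i ∈ Finset.range n, c i * u ^ i = 0 → ∀ i < n, c i = 0 := by
  intro n
  induction n with
  | zero => intro _ c _ _ i hi; omega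
  | succ n ih =>
    intro hn c hc hS
    -- apply the commutator with v
    have hδ : ∑ j ∈ Finset.range n, ((j + 1) • c (j + 1)) * u ^ j = 0 := by
      have h1 : v * (∑ i ∈ Finset.range (n + 1), c i * u ^ i) -
          (∑ i ∈ Finset.range (n + 1), c i * u ^ i) * v = 0 := by rw [hS]; simp
      rw [Finset.mul_sum, Finset.sum_mul, ← Finset.sum_sub_distrib, Finset.sum_range_succ'] at h1
      simp only [pow_zero, mul_one] at h1
      rw [hc 0, sub_self, add_zero] at h1
      rw [← h1]
      apply Finset.sum_congr rfl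
      intro j _
      rw [← mul_assoc, hc (j + 1), mul_assoc, mul_assoc, ← mul_sub, comm_pow_of_comm_eq_one v u hvu j,
        mul_smul_comm, smul_mul_assoc]
    have hc' : ∀ j, v * ((j + 1) • c (j + 1)) = ((j + 1) • c (j + 1)) * v := by
      intro j
      rw [mul_smul_comm, smul_mul_assoc, hc]
    have h2 := ih (Nat.le_of_succ_le hn) (fun j => (j + 1) • c (j + 1)) hc' hδ
    have h3 : ∀ j < n, c (j + 1) = 0 := by
      intro j hj
      have h4 := h2 j hj
      rw [← Nat.cast_smul_eq_nsmul K] at h4
      rcases smul_eq_zero.mp h4 with h5 | h5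
      · exfalso
        have h6 : p ∣ j + 1 := (CharP.cast_eq_zero_iff K p (j + 1)).mp h5
        have := Nat.le_of_dvd (Nat.succ_pos j) h6
        omega
      · exact h5
    have h0 : c 0 = 0 := by
      rw [Finset.sum_range_succ'] at hS
      simp only [pow_zero, mul_one] at hS
      rw [Finset.sum_eq_zero (fun j hj => by rw [h3 j (Finset.mem_range.mp hj), zero_mul]),
        zero_add] at hS
      exact hS
    intro i hi
    rcases Nat.eq_zero_or_pos i with rfl | hpos
    · exact h0
    · obtain ⟨j, rfl⟩ := Nat.exists_eq_succ_of_ne_zero hpos.ne'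
      exact h3 j (by omega)

end Deriv

--START8
theorem mulLeft_pow_apply (K : Type u) [Field K] (A : Type v) [Ring A] [Algebra K A] (a : A) (n : ℕ)
    (z : A) : ((LinearMap.mulLeft K a) ^ n) z = a ^ n * z := by
  induction n generalizing z with
  | zero => simp
  | succ n ih =>
    rw [pow_succ, Module.End.mul_apply, ih, LinearMap.mulLeft_apply, pow_succ, mul_assoc]

/-- existence of `u` with `v u - u v = 1` when `v ^ p` is central and `v` is not -/
theorem exists_comm_eq_one (K : Type u) [Field K] (p : ℕ) [Fact p.Prime] [CharP K p]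
    (A : Type v) [DivisionRing A] [Algebra K A] (v : A) (a : K) (ha : algebraMap K A a = v ^ p)
    (hv : ∃ y, v * y ≠ y * v) : ∃ u : A, v * u - u * v = 1 := by
  classical
  set δ : Module.End K A := LinearMap.mulLeft K v - LinearMap.mulRight K v with hδ
  have hδapp : ∀ y, δ y = v * y - y * v := fun y => rfl
  have hδp : δ ^ p = 0 := by
    have : CharP (Module.End K A) p :=
      charP_of_injective_algebraMap (algebraMap K (Module.End K A)).injective p
    have hcomm : Commute (LinearMap.mulLeft K v) (LinearMap.mulRight K v) := by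
      apply LinearMap.ext
      intro y
      show v * (y * v) = (v * y) * v
      rw [mul_assoc]
    rw [hδ, sub_pow_char_of_commute p hcomm]
    apply LinearMap.ext
    intro y
    rw [LinearMap.sub_apply, mulLeft_pow_apply, mulRight_pow_apply, ← ha, LinearMap.zero_apply,
      Algebra.commutes, sub_self]
  obtain ⟨y, hy⟩ := hv
  have hy1 : δ y ≠ 0 := by rw [hδapp]; exact sub_ne_zero.mpr hy
  have hex : ∃ k, (δ ^ k) y = 0 := ⟨p, by rw [hδp]; rfl⟩
  set k := Nat.find hex with hk
  have hk0 : (δ ^ k) y = 0 := Nat.find_spec hex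
  have hk2 : 2 ≤ k := by
    by_contra hlt
    push Not at hlt
    interval_cases k
    · rw [pow_zero] at hk0
      have : y = 0 := hk0
      rw [this, map_zero] at hy1
      exact hy1 rfl
    · rw [pow_one] at hk0
      exact hy1 hk0
  obtain ⟨j, hj⟩ : ∃ j, k = j + 2 := ⟨k - 2, by omega⟩
  have hc0 : (δ ^ (j + 1)) y ≠ 0 := by
    intro h0
    have := Nat.find_min' hex h0
    omega
  set w := (δ ^ j) y with hw
  set c := δ w with hc
  have hcw : c = (δ ^ (j + 1)) y := by rw [hc, hw, pow_succ', Module.End.mul_apply]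
  have hcne : c ≠ 0 := by rw [hcw]; exact hc0
  have hδc : δ c = 0 := by
    rw [hcw, ← Module.End.mul_apply, ← pow_succ', ← hj]
    exact hk0
  have hcv : Commute v c := by
    have : v * c - c * v = 0 := hδc
    exact sub_eq_zero.mp this
  have hcinv : Commute v c⁻¹ := hcv.inv_right₀
  refine ⟨w * c⁻¹, ?_⟩
  have h1 : v * w - w * v = c := rfl
  rw [mul_assoc w, ← hcinv.eq, ← mul_assoc, ← mul_assoc, ← sub_mul, h1, mul_inv_cancel₀ hcne]

theorem S15169
    (K : Type u) [Field K] (p : ℕ) [Fact p.Prime] [CharP K p]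
    (A : Type v) [DivisionRing A] [Algebra K A] [Algebra.IsCentral K A] [FiniteDimensional K A]
    (hA : Module.finrank K A = p ^ 2) (h : ∃ v : A, ¬ IsSeparable K v) :
    ∃ v u : A, v ^ p ∈ (algebraMap K A).range ∧ u ^ p ∈ (algebraMap K A).range ∧ v * u - u * v = 1 ∧
      Algebra.adjoin K {v, u} = ⊤ := by
  classical
  have hp : p.Prime := Fact.out
  obtain ⟨v, hv⟩ := h
  obtain ⟨hvp, hvdeg⟩ := pow_mem_of_not_isSeparable K p A hA v hv
  obtain ⟨a, ha⟩ := hvp
  have ha' : algebraMap K A a = v ^ p := ha
  -- v is not central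
  have hvnc : ∃ y, v * y ≠ y * v := by
    by_contra hcon
    push Not at hcon
    have hcen : v ∈ Subalgebra.center K A := by
      rw [Subalgebra.mem_center_iff]
      intro b
      exact (hcon b).symm
    obtain ⟨c, hc⟩ := Algebra.mem_bot.mp (Algebra.IsCentral.out hcen)
    have h1 : (minpoly K v).natDegree = 1 := by
      rw [← hc, minpoly.eq_X_sub_C_of_algebraMap_inj c (algebraMap K A).injective, natDegree_X_sub_C]
    rw [hvdeg] at h1
    exact hp.one_lt.ne' h1
  obtain ⟨u, hvu⟩ := exists_comm_eq_one K p A v a ha' hvnc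
  -- u^p commutes with v
  have hup : v * u ^ p = u ^ p * v := by
    have h1 := comm_pow_of_comm_eq_one v u hvu (p - 1)
    rw [Nat.sub_add_cancel hp.one_le] at h1
    have h2 : (p : ℕ) • u ^ (p - 1) = 0 := by
      rw [← Nat.cast_smul_eq_nsmul K, CharP.cast_eq_zero, zero_smul]
    rw [h2] at h1
    exact sub_eq_zero.mp h1
  -- linear independence
  have hli : LinearIndependent K (fun ij : Fin p × Fin p => v ^ (ij.2 : ℕ) * u ^ (ij.1 : ℕ)) := by
    rw [Fintype.linearIndependent_iff]
    intro g hg
    set c : ℕ → A := fun i => if h : i < p then ∑ j : Fin p, g (⟨i, h⟩, j) • v ^ (j : ℕ) else 0 with hc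
    have hcv : ∀ i, v * c i = c i * v := by
      intro i
      rw [hc]
      by_cases h : i < p
      · simp only [dif_pos h]
        rw [Finset.mul_sum, Finset.sum_mul]
        apply Finset.sum_congr rfl
        intro j _
        rw [mul_smul_comm, smul_mul_assoc, ← pow_succ', ← pow_succ]
      · simp only [dif_neg h, mul_zero, zero_mul]
    have hsum : ∑ i ∈ Finset.range p, c i * u ^ i = 0 := by
      rw [← Fin.sum_univ_eq_sum_range (fun i => c i * u ^ i) p, ← hg, Fintype.sum_prod_type]
      apply Finset.sum_congr rfl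
      intro i _
      rw [hc]
      simp only [dif_pos i.2, Fin.eta, Finset.sum_mul, smul_mul_assoc]
    have hc0 := coeffs_zero_of_sum_eq_zero (K := K) p v u hvu p le_rfl c hcv hsum
    have hpow := linearIndependent_pow (K := K) v
    rw [hvdeg] at hpow
    rintro ⟨i, j⟩
    have h1 := hc0 i i.2
    rw [hc] at h1
    simp only [dif_pos i.2, Fin.eta] at h1
    exact Fintype.linearIndependent_iff.mp hpow (fun j => g (i, j)) h1 j
  have hspan : Submodule.span K (Set.range fun ij : Fin p × Fin p => v ^ (ij.2 : ℕ) * u ^ (ij.1 : ℕ)) = ⊤ :=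
    hli.span_eq_top_of_card_eq_finrank' (by rw [Fintype.card_prod, Fintype.card_fin, hA, pow_two])
  have hadj : Algebra.adjoin K {v, u} = ⊤ := by
    rw [eq_top_iff]
    intro x _
    have hx : x ∈ Submodule.span K (Set.range fun ij : Fin p × Fin p => v ^ (ij.2 : ℕ) * u ^ (ij.1 : ℕ)) := by
      rw [hspan]; trivial
    have hle : Submodule.span K (Set.range fun ij : Fin p × Fin p => v ^ (ij.2 : ℕ) * u ^ (ij.1 : ℕ)) ≤
        Subalgebra.toSubmodule (Algebra.adjoin K {v, u}) := by
      rw [Submodule.span_le]
      rintro _ ⟨ij, rfl⟩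
      exact Subalgebra.mul_mem _
        (Subalgebra.pow_mem _ (Algebra.subset_adjoin (Set.mem_insert v {u})) _)
        (Subalgebra.pow_mem _ (Algebra.subset_adjoin (Set.mem_insert_of_mem v (Set.mem_singleton u))) _)
    exact hle hx
  -- u^p is central
  have hupK : u ^ p ∈ (algebraMap K A).range := by
    have hcen : u ^ p ∈ Subalgebra.center K A := by
      rw [Subalgebra.mem_center_iff]
      intro b
      have hb : b ∈ Algebra.adjoin K {v, u} := by rw [hadj]; trivial
      have hle : Algebra.adjoin K {v, u} ≤ Subalgebra.centralizer K {u ^ p} := by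
        apply Algebra.adjoin_le
        intro z hz
        rw [SetLike.mem_coe, Subalgebra.mem_centralizer_iff]
        intro g hg
        rw [Set.mem_singleton_iff] at hg
        rw [hg]
        rcases hz with rfl | hz
        · exact hup.symm
        · rw [Set.mem_singleton_iff] at hz
          rw [hz, ← pow_succ, ← pow_succ']
      have := (Subalgebra.mem_centralizer_iff K).mp (hle hb) (u ^ p) rfl
      exact this.symm
    obtain ⟨c, hc⟩ := Algebra.mem_bot.mp (Algebra.IsCentral.out hcen)
    exact ⟨c, hc⟩
  exact ⟨v, u, ⟨a, ha⟩, hupK, hvu, hadj⟩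

--START9
/-- subalgebras of a finite-dimensional division algebra are closed under inverses -/
theorem inv_mem_subalgebra (K : Type u) [Field K] (A : Type v) [DivisionRing A] [Algebra K A]
    [FiniteDimensional K A] (W : Subalgebra K A) {w : A} (hw : w ∈ W) : w⁻¹ ∈ W := by
  by_cases h0 : w = 0
  · rw [h0, inv_zero]; exact W.zero_mem
  set T : W →ₗ[K] W := LinearMap.mulLeft K (⟨w, hw⟩ : W) with hT
  have hinj : Function.Injective T := by
    rw [injective_iff_map_eq_zero]
    intro z hz
    have h1 : (⟨w, hw⟩ : W) * z = 0 := hz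
    have h2 : w * (z : A) = 0 := congrArg Subtype.val h1
    rcases mul_eq_zero.mp h2 with h3 | h3
    · exact absurd h3 h0
    · exact Subtype.ext h3
  obtain ⟨z, hz⟩ := LinearMap.surjective_of_injective hinj (1 : W)
  have h1 : (⟨w, hw⟩ : W) * z = 1 := hz
  have h2 : w * (z : A) = 1 := congrArg Subtype.val h1
  have h3 : w⁻¹ = (z : A) := inv_eq_of_mul_eq_one_right h2
  rw [h3]
  exact z.2

/-- doubling: if `y ∉ V` then `V ⊕ V y` embeds -/
theorem two_mul_finrank_le (K : Type u) [Field K] (A : Type v) [DivisionRing A] [Algebra K A]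
    [FiniteDimensional K A] (V : Subalgebra K A) (y : A) (hy : y ∉ V) (W : Submodule K A)
    (hVW : ∀ v ∈ V, v ∈ W) (hVy : ∀ v ∈ V, v * y ∈ W) :
    2 * Module.finrank K V ≤ Module.finrank K W := by
  set g : (V × V) →ₗ[K] W :=
    { toFun := fun vv => ⟨(vv.1 : A) + (vv.2 : A) * y, W.add_mem (hVW _ vv.1.2) (hVy _ vv.2.2)⟩
      map_add' := by
        intro a b
        apply Subtype.ext
        simp only [Prod.fst_add, Prod.snd_add, Subalgebra.coe_add, Submodule.coe_add, add_mul]
        abel
      map_smul' := by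
        intro c a
        apply Subtype.ext
        simp only [Prod.smul_fst, Prod.smul_snd, Subalgebra.coe_smul, RingHom.id_apply,
          Submodule.coe_smul, smul_add, smul_mul_assoc] } with hg
  have hinj : Function.Injective g := by
    rw [injective_iff_map_eq_zero]
    rintro ⟨v1, v2⟩ h
    have h1 : (v1 : A) + (v2 : A) * y = 0 := congrArg Subtype.val h
    by_cases h2 : (v2 : A) = 0
    · rw [h2, zero_mul, add_zero] at h1
      exact Prod.ext (Subtype.ext h1) (Subtype.ext h2)
    · exfalso
      apply hy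
      have h3 : y = -((v2 : A)⁻¹ * (v1 : A)) := by
        have : (v2 : A) * y = -(v1 : A) := eq_neg_of_add_eq_zero_right h1
        rw [← mul_neg, ← this, ← mul_assoc, inv_mul_cancel₀ h2, one_mul]
      rw [h3]
      exact V.neg_mem (V.mul_mem (inv_mem_subalgebra K A V v2.2) v1.2)
  have h1 := LinearMap.finrank_le_finrank_of_injective hinj
  rw [Module.finrank_prod] at h1
  omega

--START10
theorem natDegree_minpoly_le_finrank_adjoin (K : Type u) [Field K] (A : Type v) [Ring A]
    [Algebra K A] [FiniteDimensional K A] (x : A) :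
    (minpoly K x).natDegree ≤ Module.finrank K (Algebra.adjoin K {x}) := by
  have hli := linearIndependent_pow (K := K) x
  set V := Algebra.adjoin K {x} with hV
  have hx : x ∈ V := Algebra.subset_adjoin (Set.mem_singleton x)
  have hli' : LinearIndependent K (fun i : Fin (minpoly K x).natDegree => (⟨x ^ (i : ℕ), V.pow_mem hx _⟩ : V)) :=
    LinearIndependent.of_comp V.val.toLinearMap hli
  have := hli'.fintype_card_le_finrank
  rwa [Fintype.card_fin] at this

/-- centralizer lemma -/
theorem mem_adjoin_of_commute (K : Type u) [Field K] (A : Type v) [DivisionRing A] [Algebra K A]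
    [Algebra.IsCentral K A] [FiniteDimensional K A] (x y : A) (hxy : x * y = y * x)
    (hA : 1 < Module.finrank K A)
    (hdim : Module.finrank K A < 4 * (minpoly K x).natDegree) : y ∈ Algebra.adjoin K {x} := by
  by_contra hy
  set V := Algebra.adjoin K {x} with hV
  set W := Algebra.adjoin K {x, y} with hW
  have hxW : x ∈ W := Algebra.subset_adjoin (Set.mem_insert x {y})
  have hyW : y ∈ W := Algebra.subset_adjoin (Set.mem_insert_of_mem x (Set.mem_singleton y))
  have hVW : V ≤ W := Algebra.adjoin_mono (by intro z hz; rw [Set.mem_singleton_iff] at hz; rw [hz]; exact Set.mem_insert x {y})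
  have h1 : 2 * Module.finrank K V ≤ Module.finrank K W :=
    two_mul_finrank_le K A V y hy (Subalgebra.toSubmodule W) (fun v hv => hVW hv)
      (fun v hv => W.mul_mem (hVW hv) hyW)
  -- W is commutative
  have hgen : ∀ b ∈ W, Commute x b ∧ Commute y b := by
    intro b hb
    constructor
    · apply Algebra.commute_of_mem_adjoin_of_forall_mem_commute hb
      intro g hg
      rcases hg with rfl | hg
      · exact Commute.refl _
      · rw [Set.mem_singleton_iff] at hg; rw [hg]; exact hxy
    · apply Algebra.commute_of_mem_adjoin_of_forall_mem_commute hb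
      intro g hg
      rcases hg with rfl | hg
      · exact hxy.symm
      · rw [Set.mem_singleton_iff] at hg; rw [hg]
  have hWcomm : ∀ a ∈ W, ∀ b ∈ W, a * b = b * a := by
    intro a ha b hb
    have : Commute b a := by
      apply Algebra.commute_of_mem_adjoin_of_forall_mem_commute ha
      intro g hg
      rcases hg with rfl | hg
      · exact ((hgen b hb).1).symm
      · rw [Set.mem_singleton_iff] at hg; rw [hg]; exact ((hgen b hb).2).symm
    exact this.symm.eq
  have hWne : W ≠ ⊤ := by
    intro htop
    have htop' : (⊤ : Subalgebra K A) ≤ ⊥ := by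
      refine le_trans ?_ (Algebra.IsCentral.out (K := K) (D := A))
      intro a _
      rw [Subalgebra.mem_center_iff]
      intro b
      exact hWcomm b (by rw [htop]; trivial) a (by rw [htop]; trivial)
    have h2 : (⊥ : Subalgebra K A) = ⊤ := le_antisymm bot_le htop'
    have h3 := Subalgebra.bot_eq_top_iff_finrank_eq_one.mp h2
    omega
  obtain ⟨z, hz⟩ : ∃ z, z ∉ W := by
    by_contra hcon
    push Not at hcon
    exact hWne (eq_top_iff.mpr fun a _ => hcon a)
  have h2 : 2 * Module.finrank K W ≤ Module.finrank K (⊤ : Submodule K A) :=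
    two_mul_finrank_le K A W z hz ⊤ (fun _ _ => trivial) (fun _ _ => trivial)
  rw [finrank_top] at h2
  have h3 : (minpoly K x).natDegree ≤ Module.finrank K V :=
    natDegree_minpoly_le_finrank_adjoin K A x
  omega

--START11
theorem splits_of_natDegree_two_of_root {L : Type u} [Field L] (g : L[X]) (hdeg : g.natDegree = 2)
    (α : L) (hα : g.IsRoot α) : g.Splits := by
  have h1 : (X - C α) * (g /ₘ (X - C α)) = g := mul_divByMonic_eq_iff_isRoot.mpr hα
  rw [← h1, splits_X_sub_C_mul_iff]
  apply Splits.of_natDegree_le_one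
  rw [natDegree_divByMonic g (monic_X_sub_C α), hdeg, natDegree_X_sub_C]

theorem splits_of_natDegree_three_of_roots {L : Type u} [Field L] (g : L[X]) (hdeg : g.natDegree = 3)
    (α β : L) (hα : g.IsRoot α) (hβ : g.IsRoot β) (hne : α ≠ β) : g.Splits := by
  have h1 : (X - C α) * (g /ₘ (X - C α)) = g := mul_divByMonic_eq_iff_isRoot.mpr hα
  have h2 : (g /ₘ (X - C α)).natDegree = 2 := by
    rw [natDegree_divByMonic g (monic_X_sub_C α), hdeg, natDegree_X_sub_C]
  have h3 : (g /ₘ (X - C α)).IsRoot β := by
    rw [← h1, IsRoot.def, eval_mul, eval_sub, eval_X, eval_C] at hβ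
    rcases mul_eq_zero.mp hβ with h | h
    · exact absurd (sub_eq_zero.mp h).symm hne
    · exact h
  rw [← h1, splits_X_sub_C_mul_iff]
  exact splits_of_natDegree_two_of_root _ h2 β h3

/-- if the minimal polynomial of `x` has degree `p`, is separable and splits in its own root
field, then `A` has an inseparable element (via `S15171`). -/
theorem exists_inseparable_of_splits (K : Type u) [Field K] (p : ℕ) [Fact p.Prime] [CharP K p]
    (A : Type v) [DivisionRing A] [Algebra K A] [Algebra.IsCentral K A] [FiniteDimensional K A]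
    (hA : Module.finrank K A = p ^ 2) (x : A) (hdeg : (minpoly K x).natDegree = p)
    (hsep : (minpoly K x).Separable)
    (hsplit : ((minpoly K x).map (algebraMap K (AdjoinRoot (minpoly K x)))).Splits) :
    ∃ v : A, ¬ IsSeparable K v := by
  have hint : IsIntegral K x := IsIntegral.of_finite K x
  set f := minpoly K x with hf
  have hirr : Irreducible f := minpoly.irreducible hint
  have : Fact (Irreducible f) := ⟨hirr⟩
  have hmon : f.Monic := minpoly.monic hint
  set L := AdjoinRoot f with hL
  have hαroot : aeval (AdjoinRoot.root f) f = 0 := by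
    rw [AdjoinRoot.aeval_eq, AdjoinRoot.mk_self]
  have hsf : f.IsSplittingField K L := by
    refine ⟨hsplit, top_le_iff.mp ?_⟩
    rw [← AdjoinRoot.adjoinRoot_eq_top]
    apply Algebra.adjoin_mono
    intro r hr
    rw [Set.mem_singleton_iff] at hr
    rw [hr]
    exact mem_rootSet.mpr ⟨hmon.ne_zero, hαroot⟩
  have hgal : IsGalois K L := IsGalois.of_separable_splitting_field hsep
  have hfin : Module.finrank K L = p := by
    rw [(AdjoinRoot.powerBasis hmon.ne_zero).finrank, AdjoinRoot.powerBasis_dim, hdeg]
  exact S15171 K p A hA L hfin (adjoinRootLift K A x f (minpoly.aeval K x))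

--START12
section Wedderburn

variable {K : Type u} [Field K] {A : Type v} [Ring A] [Algebra K A] (a b c : K)

/-- the quotient relation, multiplied by `e` -/
theorem wedd_R1_mul (x₁ x' x₂ e : A) (he : e = x' - x₁)
    (h1 : x₁ ^ 3 = a • x₁ ^ 2 - b • x₁ + c • 1)
    (h' : x' ^ 3 = a • x' ^ 2 - b • x' + c • 1)
    (hc : x₂ * e = e * x') :
    (x₂ ^ 2 + x₁ * x₂ + x₁ ^ 2 - a • (x₁ + x₂) + b • 1) * e = 0 := by
  subst he
  linear_combination (norm := skip) x₂ * hc + hc * x' + (x₁ - a • 1) * hc + h' - h1
  simp only [pow_succ, pow_zero, one_mul, mul_add, add_mul, mul_sub, sub_mul, smul_mul_assoc,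
    mul_smul_comm, mul_assoc, mul_one, smul_add, smul_sub]
  module

theorem wedd_I2 (x₁ x₂ : A)
    (h1 : x₁ ^ 3 = a • x₁ ^ 2 - b • x₁ + c • 1)
    (h2 : x₂ ^ 3 = a • x₂ ^ 2 - b • x₂ + c • 1)
    (hR : x₁ * x₂ = a • (x₁ + x₂) - x₁ ^ 2 - x₂ ^ 2 - b • 1) :
    (x₁ * x₂ - x₂ * x₁) * x₁ = x₂ * (x₁ * x₂ - x₂ * x₁) := by
  linear_combination (norm := skip) hR * x₁ - x₂ * hR - h1 + h2
  simp only [pow_succ, pow_zero, one_mul, mul_add, add_mul, mul_sub, sub_mul, smul_mul_assoc,
    mul_smul_comm, mul_assoc, mul_one, smul_add]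
  module

theorem wedd_I3 (x₁ x₂ : A)
    (hR : x₁ * x₂ = a • (x₁ + x₂) - x₁ ^ 2 - x₂ ^ 2 - b • 1) :
    (x₁ * x₂ - x₂ * x₁) * (a • 1 - x₁ - x₂) = x₁ * (x₁ * x₂ - x₂ * x₁) := by
  linear_combination (norm := skip) -(hR * x₂) + x₂ * hR
  simp only [pow_succ, pow_zero, one_mul, mul_add, add_mul, mul_sub, sub_mul, smul_mul_assoc,
    mul_smul_comm, mul_assoc, mul_one, smul_add, smul_sub, neg_sub]
  module

theorem wedd_I4 (x₁ x₂ θ : A)
    (h2 : θ * x₁ = x₂ * θ) (h3 : θ * (a • 1 - x₁ - x₂) = x₁ * θ) :
    θ * x₂ = (a • 1 - x₁ - x₂) * θ := by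
  linear_combination (norm := skip) -h2 - h3
  simp only [mul_add, add_mul, mul_sub, sub_mul, smul_mul_assoc, mul_smul_comm, mul_one, one_mul]
  module

theorem wedd_I5 (x₁ x₂ x₃ θ : A)
    (h2 : θ * x₁ = x₂ * θ) (h3 : θ * x₃ = x₁ * θ) (h4 : θ * x₂ = x₃ * θ) :
    θ ^ 3 * x₁ = x₁ * θ ^ 3 := by
  calc θ ^ 3 * x₁ = θ * (θ * (θ * x₁)) := by simp only [pow_succ, pow_zero, one_mul, mul_assoc]
    _ = θ * (θ * (x₂ * θ)) := by rw [h2]
    _ = θ * ((θ * x₂) * θ) := by rw [mul_assoc]
    _ = θ * ((x₃ * θ) * θ) := by rw [h4]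
    _ = (θ * x₃) * (θ * θ) := by simp only [mul_assoc]
    _ = (x₁ * θ) * (θ * θ) := by rw [h3]
    _ = x₁ * θ ^ 3 := by simp only [pow_succ, pow_zero, one_mul, mul_assoc]

end Wedderburn

--START13
/-- cubic relation from a monic cubic polynomial -/
theorem cubic_of_aeval_eq_zero {K : Type u} [Field K] {A : Type v} [Ring A] [Algebra K A] (f : K[X])
    (hmon : f.Monic) (hdeg : f.natDegree = 3) (z : A) (hz : aeval z f = 0) :
    z ^ 3 = (-f.coeff 2) • z ^ 2 - (f.coeff 1) • z + (-f.coeff 0) • 1 := by
  rw [aeval_eq_sum_range, hdeg] at hz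
  simp only [Finset.sum_range_succ, Finset.range_zero, Finset.sum_empty, zero_add, pow_zero, pow_one] at hz
  have h3 : f.coeff 3 = 1 := by
    have := hmon.leadingCoeff
    rwa [leadingCoeff, hdeg] at this
  rw [h3, one_smul] at hz
  linear_combination (norm := skip) hz
  module

/-- a non-central element exists in a central algebra of dimension > 1 -/
theorem exists_not_mem_range (K : Type u) [Field K] (A : Type v) [DivisionRing A] [Algebra K A]
    [FiniteDimensional K A] (hA : 1 < Module.finrank K A) :
    ∃ x : A, x ∉ (algebraMap K A).range := by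
  by_contra hcon
  push Not at hcon
  have h1 : (⊥ : Subalgebra K A) = ⊤ := by
    rw [eq_top_iff]
    intro a _
    obtain ⟨k, hk⟩ := hcon a
    exact Algebra.mem_bot.mpr ⟨k, hk⟩
  have h2 := Subalgebra.bot_eq_top_iff_finrank_eq_one.mp h1
  omega

/-- non-central elements do not commute with something -/
theorem exists_not_commute (K : Type u) [Field K] (A : Type v) [DivisionRing A] [Algebra K A]
    [Algebra.IsCentral K A] (x : A) (hx : x ∉ (algebraMap K A).range) : ∃ d : A, d * x ≠ x * d := by
  by_contra hcon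
  push Not at hcon
  apply hx
  have hcen : x ∈ Subalgebra.center K A := by
    rw [Subalgebra.mem_center_iff]
    intro b
    exact hcon b
  obtain ⟨k, hk⟩ := Algebra.mem_bot.mp (Algebra.IsCentral.out hcen)
  exact ⟨k, hk⟩

/-- conjugates satisfy the same polynomials -/
theorem aeval_conj_eq_zero {K : Type u} [Field K] {A : Type v} [DivisionRing A] [Algebra K A]
    (f : K[X]) (x x' d : A) (hd : d ≠ 0) (h : d * x = x' * d) (hx : aeval x f = 0) :
    aeval x' f = 0 := by
  have h1 := semiconj_aeval K A x x' d h f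
  rw [hx, mul_zero] at h1
  rcases mul_eq_zero.mp h1.symm with h2 | h2
  · exact h2
  · exact absurd h2 hd

--START14
/-- degree of non-central elements in a central division algebra of dimension `p^2` -/
theorem natDegree_minpoly_eq_prime (K : Type u) [Field K] (p : ℕ) [Fact p.Prime]
    (A : Type v) [DivisionRing A] [Algebra K A] [Algebra.IsCentral K A] [FiniteDimensional K A]
    (hA : Module.finrank K A = p ^ 2) (x : A) (hx : x ∉ (algebraMap K A).range) :
    (minpoly K x).natDegree = p := by
  have hp : p.Prime := Fact.out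
  have h1 : (minpoly K x).natDegree ∣ p ^ 2 := hA ▸ natDegree_minpoly_dvd_finrank K A x
  have h2 : (minpoly K x).natDegree ≠ p ^ 2 := by
    rw [← hA]
    exact natDegree_minpoly_ne_finrank K A (by rw [hA]; exact Nat.one_lt_pow two_ne_zero hp.one_lt) x
  have h3 : (minpoly K x).natDegree ≠ 1 := fun h => hx (minpoly.natDegree_eq_one_iff.mp h)
  obtain ⟨m, hm, hm'⟩ := (Nat.dvd_prime_pow hp).mp h1
  interval_cases m
  · exact absurd (by simpa using hm') h3
  · simpa using hm'
  · exact absurd hm' h2

theorem S15184_two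
    (K : Type u) [Field K] [CharP K 2]
    (A : Type v) [DivisionRing A] [Algebra K A] [Algebra.IsCentral K A] [FiniteDimensional K A]
    (hA : Module.finrank K A = 2 ^ 2) :
    ∃ v : A, ¬ IsSeparable K v := by
  have : Fact (Nat.Prime 2) := ⟨Nat.prime_two⟩
  by_contra hall
  push Not at hall
  obtain ⟨x, hx⟩ := exists_not_mem_range K A (by rw [hA]; norm_num)
  have hdeg := natDegree_minpoly_eq_prime K 2 A hA x hx
  have hint : IsIntegral K x := IsIntegral.of_finite K x
  have hirr : Irreducible (minpoly K x) := minpoly.irreducible hint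
  have : Fact (Irreducible (minpoly K x)) := ⟨hirr⟩
  have hsplit : ((minpoly K x).map (algebraMap K (AdjoinRoot (minpoly K x)))).Splits := by
    apply splits_of_natDegree_two_of_root _ (by rw [natDegree_map, hdeg]) (AdjoinRoot.root _)
    rw [IsRoot.def, eval_map_algebraMap, AdjoinRoot.aeval_eq, AdjoinRoot.mk_self]
  obtain ⟨v, hv⟩ := exists_inseparable_of_splits K 2 A hA x hdeg (hall x) hsplit
  exact hv (hall v)

--START15
theorem S15184_three
    (K : Type u) [Field K] [CharP K 3]
    (A : Type v) [DivisionRing A] [Algebra K A] [Algebra.IsCentral K A] [FiniteDimensional K A]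
    (hA : Module.finrank K A = 3 ^ 2) :
    ∃ v : A, ¬ IsSeparable K v := by
  have : Fact (Nat.Prime 3) := ⟨Nat.prime_three⟩
  by_contra hall
  push Not at hall
  obtain ⟨x₁, hx⟩ := exists_not_mem_range K A (by rw [hA]; norm_num)
  have hdeg := natDegree_minpoly_eq_prime K 3 A hA x₁ hx
  have hint : IsIntegral K x₁ := IsIntegral.of_finite K x₁
  set f := minpoly K x₁ with hf
  have hirr : Irreducible f := minpoly.irreducible hint
  have hmon : f.Monic := minpoly.monic hint
  have : Fact (Irreducible f) := ⟨hirr⟩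
  have hfx₁ : aeval x₁ f = 0 := minpoly.aeval K x₁
  set a : K := -f.coeff 2 with ha
  set b : K := f.coeff 1 with hb
  set c : K := -f.coeff 0 with hc
  have hcub : ∀ z : A, aeval z f = 0 → z ^ 3 = a • z ^ 2 - b • z + c • 1 :=
    fun z hz => cubic_of_aeval_eq_zero f hmon hdeg z hz
  obtain ⟨d, hd⟩ := exists_not_commute K A x₁ hx
  have hd0 : d ≠ 0 := by
    rintro rfl
    simp at hd
  set x' := d * x₁ * d⁻¹ with hx'
  have hdx : d * x₁ = x' * d := by rw [hx', mul_assoc, inv_mul_cancel₀ hd0, mul_one]
  have hfx' : aeval x' f = 0 := aeval_conj_eq_zero f x₁ x' d hd0 hdx hfx₁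
  set e := x' - x₁ with he
  have he0 : e ≠ 0 := by
    intro h0
    have h1 : x' = x₁ := sub_eq_zero.mp h0
    rw [h1] at hdx
    exact hd hdx
  set x₂ := e * x' * e⁻¹ with hx₂
  have hex : e * x' = x₂ * e := by rw [hx₂, mul_assoc, inv_mul_cancel₀ he0, mul_one]
  have hfx₂ : aeval x₂ f = 0 := aeval_conj_eq_zero f x' x₂ e he0 hex hfx'
  have h1 := hcub x₁ hfx₁
  have h' := hcub x' hfx'
  have h2 := hcub x₂ hfx₂
  have hR0 : x₂ ^ 2 + x₁ * x₂ + x₁ ^ 2 - a • (x₁ + x₂) + b • 1 = 0 := by
    have := wedd_R1_mul a b c x₁ x' x₂ e he h1 h' hex.symm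
    rcases mul_eq_zero.mp this with h | h
    · exact h
    · exact absurd h he0
  have hR : x₁ * x₂ = a • (x₁ + x₂) - x₁ ^ 2 - x₂ ^ 2 - b • 1 := by
    linear_combination (norm := skip) hR0
    module
  set θ := x₁ * x₂ - x₂ * x₁ with hθ
  by_cases hθ0 : θ = 0
  · -- commuting case
    have hcomm : x₁ * x₂ = x₂ * x₁ := sub_eq_zero.mp hθ0
    by_cases h12 : x₂ = x₁
    · -- derivative vanishes
      rw [h12] at hR0
      have hder : aeval x₁ (derivative f) = 0 := by
        have hdd : (derivative f).natDegree < 3 := by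
          have := natDegree_derivative_lt (p := f) (by rw [hdeg]; norm_num)
          rwa [hdeg] at this
        rw [aeval_eq_sum_range' hdd]
        simp only [Finset.sum_range_succ, Finset.range_zero, Finset.sum_empty, zero_add, pow_zero,
          pow_one, coeff_derivative]
        have h3 : f.coeff 3 = 1 := by
          have := hmon.leadingCoeff
          rwa [leadingCoeff, hdeg] at this
        rw [show (2 + 1 : ℕ) = 3 from rfl, h3]
        linear_combination (norm := skip) hR0
        simp only [ha, hb, pow_succ, pow_zero, one_mul]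
        push_cast
        module
      have hdvd : f ∣ derivative f := minpoly.dvd K x₁ hder
      have hd0' : derivative f = 0 := by
        by_contra hne
        have h3 := natDegree_le_of_dvd hdvd hne
        have h4 := natDegree_derivative_lt (p := f) (by rw [hdeg]; norm_num)
        omega
      exact (separable_iff_derivative_ne_zero hirr).mp (hall x₁) hd0'
    · -- Galois case
      have hmem : x₂ ∈ Algebra.adjoin K {x₁} :=
        mem_adjoin_of_commute K A x₁ x₂ hcomm (by rw [hA]; norm_num) (by rw [hA, ← hf, hdeg]; norm_num)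
      rw [Algebra.adjoin_singleton_eq_range_aeval] at hmem
      obtain ⟨g, hg⟩ := hmem
      have hg' : aeval x₁ g = x₂ := hg
      set φ := adjoinRootLift K A x₁ f hfx₁ with hφ
      have hφinj : Function.Injective φ := φ.toRingHom.injective
      set α : AdjoinRoot f := AdjoinRoot.root f with hα
      set β : AdjoinRoot f := AdjoinRoot.mk f g with hβ
      have hφα : φ α = x₁ := by
        have : α = AdjoinRoot.mk f X := (AdjoinRoot.mk_X).symm
        rw [this, hφ, adjoinRootLift_mk, aeval_X]
      have hφβ : φ β = x₂ := by rw [hβ, hφ, adjoinRootLift_mk, hg']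
      have hαβ : α ≠ β := by
        intro h
        apply h12
        rw [← hφβ, ← h, hφα]
      have hrootα : (f.map (algebraMap K (AdjoinRoot f))).IsRoot α := by
        rw [IsRoot.def, eval_map_algebraMap, hα, AdjoinRoot.aeval_eq, AdjoinRoot.mk_self]
      have hrootβ : (f.map (algebraMap K (AdjoinRoot f))).IsRoot β := by
        rw [IsRoot.def, eval_map_algebraMap]
        apply hφinj
        rw [map_zero, ← aeval_algHom_apply, hφβ, hfx₂]
      have hsplit : (f.map (algebraMap K (AdjoinRoot f))).Splits :=
        splits_of_natDegree_three_of_roots _ (by rw [natDegree_map, hdeg]) α β hrootα hrootβ hαβ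
      obtain ⟨v, hv⟩ := exists_inseparable_of_splits K 3 A hA x₁ hdeg (hall x₁) hsplit
      exact hv (hall v)
  · -- Wedderburn's element
    have hI2 : θ * x₁ = x₂ * θ := wedd_I2 a b c x₁ x₂ h1 h2 hR
    have hI3 : θ * (a • 1 - x₁ - x₂) = x₁ * θ := wedd_I3 a b x₁ x₂ hR
    have hI4 : θ * x₂ = (a • 1 - x₁ - x₂) * θ := wedd_I4 a x₁ x₂ θ hI2 hI3
    have hI5 : θ ^ 3 * x₁ = x₁ * θ ^ 3 := wedd_I5 x₁ x₂ (a • 1 - x₁ - x₂) θ hI2 hI3 hI4
    obtain ⟨g, hg⟩ := exists_aeval_pow_of_isSeparable K 3 A θ (IsIntegral.of_finite K θ) (hall θ)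
    have hcz : x₁ * θ = θ * x₁ := by
      have := semiconj_aeval K A (θ ^ 3) (θ ^ 3) x₁ hI5.symm g
      rw [← hg] at this
      exact this
    rw [hI2] at hcz
    have h3 : (x₁ - x₂) * θ = 0 := by rw [sub_mul, hcz, sub_self]
    rcases mul_eq_zero.mp h3 with h4 | h4
    · have h5 : x₁ = x₂ := sub_eq_zero.mp h4
      apply hθ0
      rw [hθ, h5, sub_self]
    · exact hθ0 h4

theorem S15184
    (K : Type u) [Field K] (p : ℕ) [Fact p.Prime] [CharP K p]
    (A : Type v) [DivisionRing A] [Algebra K A] [Algebra.IsCentral K A] [FiniteDimensional K A]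
    (hA : Module.finrank K A = p ^ 2) (hp : p = 2 ∨ p = 3) :
    ∃ v : A, ¬ IsSeparable K v := by
  rcases hp with rfl | rfl
  · exact S15184_two K A hA
  · exact S15184_three K A hA

end Groth.Agent.LD.DivP
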