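import Mathlib
import Groth.Prelude.Def_Coh
import Groth.Prelude.Def_FlatMod2
import Groth.Prelude.Def_DerSch
import Groth.Agent.H4.FlatPull1
import Groth.Agent.Lib.Helper1.RegGlobal
import Groth.Agent.Lib.Helper1.CohLen
import Groth.Agent.Lib.Helper3.AG.FibreDim
import Groth.Agent.Lib.Lead.QC.LocFree
import Groth.Agent.Lib.Lead.QC.Coh
import Groth.Agent.Lib.Lead.QC.BiprodSec
import Groth.Agent.Lib.Lead.QC.SerreSupp
import Groth.Agent.Lib.Lead.Curve.DegMono

/-! Lead: syzygies on regular schemes (S16240). -/

set_option autoImplicit false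
universe u
open CategoryTheory Limits AlgebraicGeometry IsLocalRing

namespace Groth.Agent.LD.Syz

attribute [-instance] Groth.Agent.LD.QC.stalkModule

variable {X : Scheme.{u}}

/-- the stalk functor preserves short exact sequences -/
theorem shortExact_stalk {T : ShortComplex X.Modules} (hT : T.ShortExact) (x : X) :
    (T.map (DerSch.stalkFunctor X x)).ShortExact := by
  haveI := hT.mono_f
  haveI := hT.epi_g
  exact
    { exact := (Groth.Agent.H4.FlatPull1.exact_iff_stalk T).mp hT.exact x
      mono_f := (Groth.Agent.H4.FlatPull1.mono_iff_stalk T.f).mp hT.mono_f x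
      epi_g := (Groth.Agent.H4.FlatPull1.epi_iff_stalk T.g).mp hT.epi_g x }

/-- a coherent module with projective stalks is finite locally free. -/
theorem isFinLocFree_of_projective_stalks [IsLocallyNoetherian X] (G : X.Modules)
    (hG : Coh.IsCoh G) (h : ∀ x, Projective ((DerSch.stalkFunctor X x).obj G)) :
    FlatMod.IsFinLocFree G := by
  haveI : G.IsQuasicoherent := hG.1
  refine Groth.Agent.LD.QC.isFinLocFree_of_free_stalks G
    (Groth.Agent.LD.QC.isFinitePresentation_of_qc_ft G hG.1 hG.2) (fun x => ?_)
  haveI : Module.Finite (X.presheaf.stalk x) (G.presheaf.stalk x) :=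
    Groth.Agent.H1.CohLen.finite_stalk G hG.2 x
  haveI : Module.Projective (X.presheaf.stalk x) (G.presheaf.stalk x) :=
    (IsProjective.iff_projective (R := X.presheaf.stalk x) (G.presheaf.stalk x)).mpr (h x)
  exact Module.free_of_flat_of_isLocalRing

/-- stalks of finite locally free modules are projective. -/
theorem projective_stalk_of_isFinLocFree (E : X.Modules) (hE : FlatMod.IsFinLocFree E) (x : X) :
    Projective ((DerSch.stalkFunctor X x).obj E) := by
  haveI : Module.Free (X.presheaf.stalk x) (E.presheaf.stalk x) :=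
    Groth.Agent.LD.QC.free_stalk_of_isFinLocFree E hE x
  exact (IsProjective.iff_projective (R := X.presheaf.stalk x) (E.presheaf.stalk x)).mp
    inferInstance

/-- `S16240`. -/
theorem main (X : Scheme.{u}) [IsNoetherian X]
    (hreg : ∀ x : X, IsRegularLocalRing (X.presheaf.stalk x)) (m : ℕ)
    (hdim : topologicalKrullDim ↥X ≤ (m : WithBot ℕ∞))
    (S : ComposableArrows X.Modules (m + 1)) (hS : S.Exact)
    (hmono : Mono (S.map' 0 1 (Nat.zero_le 1) (Nat.le_add_left 1 m)))
    (hepi : Epi (S.map' m (m + 1) (Nat.le_succ m) (le_refl (m + 1))))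
    (hE : ∀ i : Fin m, FlatMod.IsFinLocFree (S.obj ⟨i.1 + 1, Nat.succ_lt_succ (Nat.lt_succ_of_lt i.2)⟩))
    (hF : Coh.IsCoh (S.obj (Fin.last (m + 1)))) :
    FlatMod.IsFinLocFree (S.obj 0) := by
  have hpd : ∀ (x : X) (M : ModuleCat.{u} (X.presheaf.stalk x)),
      HasProjectiveDimensionLT M (m + 1) := by
    intro x M
    haveI := hreg x
    have hd : ringKrullDim (X.presheaf.stalk x) =
        ((maximalIdeal (X.presheaf.stalk x)).spanFinrank : ℕ) :=
      (IsRegularLocalRing.spanFinrank_maximalIdeal (R := X.presheaf.stalk x)).symm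
    have hle : (((maximalIdeal (X.presheaf.stalk x)).spanFinrank : ℕ) : WithBot ℕ∞) ≤ m := by
      rw [← hd]; exact (Groth.Agent.H3.FibreDim.stalk_dim_le X x).trans hdim
    have hle' : (maximalIdeal (X.presheaf.stalk x)).spanFinrank ≤ m := by exact_mod_cast hle
    haveI := Groth.Agent.H1.Reg.hasProjectiveDimensionLT_of_isRegularLocalRing
      (X.presheaf.stalk x) _ hd M
    exact hasProjectiveDimensionLT_of_ge M
      ((maximalIdeal (X.presheaf.stalk x)).spanFinrank + 1) (m + 1) (by omega)
  rcases Nat.eq_zero_or_pos m with rfl | hm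
  · -- `m = 0`: `G ≅ F`
    haveI := hmono
    haveI := hepi
    haveI : IsIso (S.map' 0 1 (Nat.zero_le 1) (Nat.le_add_left 1 0)) := isIso_of_mono_of_epi _
    let e : S.obj 0 ≅ S.obj (Fin.last (0 + 1)) :=
      asIso (S.map' 0 1 (Nat.zero_le 1) (Nat.le_add_left 1 0))
    have hG : Coh.IsCoh (S.obj 0) := Groth.Agent.LD.QC.isCoh_of_iso e.symm hF
    refine isFinLocFree_of_projective_stalks _ hG (fun x => ?_)
    haveI := hpd x ((DerSch.stalkFunctor X x).obj (S.obj (Fin.last (0 + 1))))
    haveI : Projective ((DerSch.stalkFunctor X x).obj (S.obj (Fin.last (0 + 1)))) := inferInstance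
    exact Projective.of_iso ((DerSch.stalkFunctor X x).mapIso e.symm) inferInstance
  · obtain ⟨m', rfl⟩ : ∃ m', m = m' + 1 := ⟨m - 1, by omega⟩
    have hlf : ∀ (j : ℕ) (hj : j < m' + 1),
        FlatMod.IsFinLocFree (S.obj' (j + 1) (by omega)) := fun j hj => hE ⟨j, hj⟩
    have hcoh : ∀ (j : ℕ) (hj : j + 1 ≤ m' + 1 + 1), Coh.IsCoh (S.obj' (j + 1) (by omega)) := by
      intro j hj
      rcases Nat.lt_or_ge j (m' + 1) with h | h
      · exact Groth.Agent.LD.Curve.isCoh_of_isFinLocFree (hlf j h)
      · have hjm : j = m' + 1 := by omega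
        subst hjm
        exact hF
    -- the chain of kernels
    have key : ∀ (k j : ℕ) (hkj : j + k = m') (x : X),
        HasProjectiveDimensionLT ((DerSch.stalkFunctor X x).obj
          (kernel (S.map' (j + 1) (j + 1 + 1) (by omega) (by omega)))) (j + 1) := by
      intro k
      induction k with
      | zero =>
        intro j hkj x
        have hjm : j = m' := by omega
        subst hjm
        have hT : (ShortComplex.mk (kernel.ι (S.map' (j + 1) (j + 1 + 1) (by omega) (by omega)))
            (S.map' (j + 1) (j + 1 + 1) (by omega) (by omega)) (kernel.condition _)).ShortExact :=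
          { exact := ShortComplex.exact_kernel _
            mono_f := inferInstanceAs (Mono (kernel.ι _))
            epi_g := hepi }
        have hTx := shortExact_stalk hT x
        haveI : Projective ((DerSch.stalkFunctor X x).obj (S.obj' (j + 1) (by omega))) :=
          projective_stalk_of_isFinLocFree _ (hlf j (by omega)) x
        have h2 : HasProjectiveDimensionLT ((DerSch.stalkFunctor X x).obj
            (S.obj' (j + 1) (by omega))) (j + 1) :=
          hasProjectiveDimensionLT_of_ge _ 1 (j + 1) (by omega)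
        have h3 : HasProjectiveDimensionLT ((DerSch.stalkFunctor X x).obj
            (S.obj' (j + 1 + 1) (by omega))) (j + 1 + 1) := hpd x _
        exact hTx.hasProjectiveDimensionLT_X₁ (j + 1) h2 h3
      | succ k ih =>
        intro j hkj x
        have ih' := ih (j + 1) (by omega) x
        have hex := hS.exact (j + 1) (by omega)
        have hT := Groth.Agent.LD.QC.shortExact_kernel_lift
          (S.map' (j + 1) (j + 1 + 1) (by omega) (by omega))
          (S.map' (j + 1 + 1) (j + 1 + 1 + 1) (by omega) (by omega))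
          (hS.toIsComplex.zero (j + 1) (by omega)) hex
        have hTx := shortExact_stalk hT x
        haveI : Projective ((DerSch.stalkFunctor X x).obj (S.obj' (j + 1) (by omega))) :=
          projective_stalk_of_isFinLocFree _ (hlf j (by omega)) x
        have h2 : HasProjectiveDimensionLT ((DerSch.stalkFunctor X x).obj
            (S.obj' (j + 1) (by omega))) (j + 1) :=
          hasProjectiveDimensionLT_of_ge _ 1 (j + 1) (by omega)
        exact hTx.hasProjectiveDimensionLT_X₁ (j + 1) h2 ih'
    -- the first step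
    let d0 : S.obj' 0 (by omega) ⟶ S.obj' 1 (by omega) := S.map' 0 1 (by omega) (by omega)
    let d1 : S.obj' 1 (by omega) ⟶ S.obj' 2 (by omega) := S.map' 1 2 (by omega) (by omega)
    have w : d0 ≫ d1 = 0 := hS.toIsComplex.zero 0 (by omega)
    have hex0 : (ShortComplex.mk d0 d1 w).Exact := hS.exact 0 (by omega)
    have hT0 := Groth.Agent.LD.QC.shortExact_kernel_lift d0 d1 w hex0
    haveI hm0 : Mono d0 := hmono
    haveI hepi0 : Epi (kernel.lift d1 d0 w) := hT0.epi_g
    haveI hmono0 : Mono (kernel.lift d1 d0 w) := mono_of_mono_fac (kernel.lift_ι d1 d0 w)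
    have hiso : IsIso (kernel.lift d1 d0 w) := isIso_of_mono_of_epi _
    let e : S.obj 0 ≅ kernel d1 := @asIso _ _ _ _ (kernel.lift d1 d0 w) hiso
    have hK : Coh.IsCoh (kernel d1) :=
      Groth.Agent.LD.QC.isCoh_kernel d1 (hcoh 0 (by omega)) (hcoh 1 (by omega))
    have hG : Coh.IsCoh (S.obj 0) := Groth.Agent.LD.QC.isCoh_of_iso e.symm hK
    refine isFinLocFree_of_projective_stalks _ hG (fun x => ?_)
    haveI hk : HasProjectiveDimensionLT ((DerSch.stalkFunctor X x).obj (kernel d1)) 1 :=
      key m' 0 (by omega) x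
    haveI : Projective ((DerSch.stalkFunctor X x).obj (kernel d1)) := inferInstance
    exact Projective.of_iso ((DerSch.stalkFunctor X x).mapIso e.symm) inferInstance

end Groth.Agent.LD.Syz
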