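import Mathlib

namespace Groth.Agent.LD.FlatQuot

open TensorProduct

universe u

theorem flat_of_quot {R : Type u} [CommRing R] {P M : Type u} [AddCommGroup P] [Module R P]
    [AddCommGroup M] [Module R M] [Module.Flat R P] (f : P →ₗ[R] M) (hf : Function.Surjective f)
    (h : ∀ (I : Ideal R) (y : P), f y = 0 → y ∈ (I • ⊤ : Submodule R P) →
      y ∈ I • (LinearMap.ker f)) : Module.Flat R M := by
  rw [Module.Flat.iff_rTensor_injective']
  intro I
  rw [injective_iff_map_eq_zero]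
  intro x hx
  obtain ⟨y, rfl⟩ := LinearMap.lTensor_surjective I hf x
  set g : I ⊗[R] P →ₗ[R] P := (TensorProduct.lid R P).toLinearMap ∘ₗ (LinearMap.rTensor P I.subtype) with hg
  have hginj : Function.Injective g := by
    rw [hg, LinearMap.coe_comp]
    exact (TensorProduct.lid R P).injective.comp
      ((Module.Flat.iff_rTensor_injective'.1 inferInstance) I)
  have hg_tmul : ∀ (i : I) (p : P), g (i ⊗ₜ p) = (i : R) • p := by
    intro i p; simp [hg]
  have hgmem : ∀ w : I ⊗[R] P, g w ∈ (I • ⊤ : Submodule R P) := by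
    intro w
    induction w using TensorProduct.induction_on with
    | zero => simp
    | tmul i p => rw [hg_tmul]; exact Submodule.smul_mem_smul i.2 Submodule.mem_top
    | add a b ha hb => rw [map_add]; exact Submodule.add_mem _ ha hb
  have hfg : f (g y) = 0 := by
    have h1 : ∀ w : I ⊗[R] P, f (g w) = (TensorProduct.lid R M) ((LinearMap.rTensor M I.subtype) ((LinearMap.lTensor I f) w)) := by
      intro w
      induction w using TensorProduct.induction_on with
      | zero => simp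
      | tmul i p => simp [hg]
      | add a b ha hb => simp only [map_add, ha, hb]
    rw [h1, hx, map_zero]
  have hmem := h I (g y) hfg (hgmem y)
  have hz : ∃ z : I ⊗[R] P, g z = g y ∧ (LinearMap.lTensor I f) z = 0 := by
    refine Submodule.smul_induction_on (p := fun w => ∃ z : I ⊗[R] P, g z = w ∧ (LinearMap.lTensor I f) z = 0) hmem ?_ ?_
    · intro i hi n hn
      refine ⟨(⟨i, hi⟩ : I) ⊗ₜ n, ?_, ?_⟩
      · rw [hg_tmul]
      · rw [LinearMap.lTensor_tmul, LinearMap.mem_ker.1 hn, tmul_zero]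
    · rintro a b ⟨za, hza, hza'⟩ ⟨zb, hzb, hzb'⟩
      exact ⟨za + zb, by rw [map_add, hza, hzb], by rw [map_add, hza', hzb', add_zero]⟩
  obtain ⟨z, hz1, hz2⟩ := hz
  rw [← hginj hz1]
  exact hz2


open CategoryTheory MonoidalCategory

theorem main (R : Type u) [CommRing R]
    (d : ℕ) (hd : 1 ≤ d) (K : ChainComplex (ModuleCat.{u} R) ℕ)
    (hflat : ∀ i : ℕ, 1 ≤ i → i ≤ d → Module.Flat R (K.X i))
    (hK : K.Acyclic)
    (hbc : ∀ I : Ideal R,
      (((tensorLeft (ModuleCat.of R (R ⧸ I))).mapHomologicalComplex (ComplexShape.down ℕ)).obj K).Acyclic) :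
    Module.Flat R (K.X 0) := by
  have hfl : Module.Flat R (K.X 1) := hflat 1 le_rfl hd
  have hsurj : Function.Surjective (K.d 1 0).hom := by
    have h0 := hK 0
    rw [HomologicalComplex.exactAt_iff' K 1 0 0 (by simp) (by simp),
      ShortComplex.moduleCat_exact_iff] at h0
    intro x
    obtain ⟨y, hy⟩ := h0 x (by
      change (K.d 0 0).hom x = 0
      rw [K.shape 0 0 (by simp)]; rfl)
    exact ⟨y, hy⟩
  have hex1 : ∀ y : K.X 1, (K.d 1 0).hom y = 0 → ∃ w : K.X 2, (K.d 2 1).hom w = y := by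
    have h1 := hK 1
    rw [HomologicalComplex.exactAt_iff' K 2 1 0 (by simp) (by simp),
      ShortComplex.moduleCat_exact_iff] at h1
    exact h1
  have hex2I : ∀ (I : Ideal R) (v : (R ⧸ I) ⊗[R] K.X 2),
      (LinearMap.lTensor (R ⧸ I) (K.d 2 1).hom) v = 0 →
      ∃ u : (R ⧸ I) ⊗[R] K.X 3, (LinearMap.lTensor (R ⧸ I) (K.d 3 2).hom) u = v := by
    intro I
    have h2 := hbc I 2
    rw [HomologicalComplex.exactAt_iff' _ 3 2 1 (by simp) (by simp),
      ShortComplex.moduleCat_exact_iff] at h2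
    exact h2
  have hdd : ∀ u : K.X 3, (K.d 2 1).hom ((K.d 3 2).hom u) = 0 := by
    intro u
    have := K.d_comp_d 3 2 1
    exact congrArg (fun ψ => (ModuleCat.Hom.hom ψ) u) this
  have hdd1 : ∀ w : K.X 2, (K.d 1 0).hom ((K.d 2 1).hom w) = 0 := by
    intro w
    have := K.d_comp_d 2 1 0
    exact congrArg (fun ψ => (ModuleCat.Hom.hom ψ) w) this
  apply flat_of_quot (K.d 1 0).hom hsurj
  intro I y hy hyI
  obtain ⟨w, rfl⟩ := hex1 y hy
  have h1 : (LinearMap.lTensor (R ⧸ I) (K.d 2 1).hom) ((1 : R ⧸ I) ⊗ₜ w) = 0 := by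
    rw [LinearMap.lTensor_tmul]
    apply (quotTensorEquivQuotSMul (K.X 1) I).injective
    rw [quotTensorEquivQuotSMul_mk_one_tmul, map_zero, Submodule.Quotient.mk_eq_zero]
    exact hyI
  obtain ⟨u, hu⟩ := hex2I I _ h1
  obtain ⟨u0, hu0⟩ := Submodule.Quotient.mk_surjective _ (quotTensorEquivQuotSMul (K.X 3) I u)
  have hu' : u = (1 : R ⧸ I) ⊗ₜ u0 := by
    rw [← quotTensorEquivQuotSMul_symm_mk I u0, hu0, LinearEquiv.symm_apply_apply]
  rw [hu', LinearMap.lTensor_tmul] at hu
  have h2 : w - (K.d 3 2).hom u0 ∈ (I • ⊤ : Submodule R (K.X 2)) := by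
    rw [← Submodule.Quotient.mk_eq_zero, ← quotTensorEquivQuotSMul_mk_one_tmul I, tmul_sub, hu, sub_self,
      map_zero]
  have h3 : (K.d 2 1).hom w = (K.d 2 1).hom (w - (K.d 3 2).hom u0) := by
    rw [map_sub, hdd, sub_zero]
  rw [h3]
  have h4 : Submodule.map (K.d 2 1).hom (I • (⊤ : Submodule R (K.X 2))) ≤ I • LinearMap.ker (K.d 1 0).hom := by
    rw [Submodule.map_smul'']
    apply Submodule.smul_mono le_rfl
    rintro _ ⟨w', -, rfl⟩
    exact LinearMap.mem_ker.2 (hdd1 w')
  exact h4 (Submodule.mem_map_of_mem h2)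

end Groth.Agent.LD.FlatQuot
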