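import Mathlib

/-!
Contractions of acyclic ℕ-indexed chain complexes of projective modules, and chain-map sections of
degreewise split short exact sequences with quasi-isomorphic inclusion.
-/

open CategoryTheory

namespace Groth.Agent.LD.FreeCx

universe v u

variable {R : Type u} [Ring R]

section Elem

variable (Q : ChainComplex (ModuleCat.{v} R) ℕ)

lemma dd (i j k : ℕ) (x : Q.X i) : (Q.d j k).hom ((Q.d i j).hom x) = 0 := by
  have h := Q.d_comp_d i j k
  have := congrArg (fun f => (ModuleCat.Hom.hom f) x) h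
  simp only [ModuleCat.hom_comp, LinearMap.comp_apply, ModuleCat.hom_zero, LinearMap.zero_apply] at this
  exact this

lemma exact_succ (hQ : Q.Acyclic) (q : ℕ) (x : Q.X (q + 1)) (hx : (Q.d (q + 1) q).hom x = 0) :
    ∃ w : Q.X (q + 2), (Q.d (q + 2) (q + 1)).hom w = x := by
  have h := hQ (q + 1)
  rw [HomologicalComplex.exactAt_iff' Q (q + 2) (q + 1) q (by simp) (by simp),
    ShortComplex.moduleCat_exact_iff] at h
  exact h x hx

lemma exact_zero (hQ : Q.Acyclic) (x : Q.X 0) :
    ∃ w : Q.X 1, (Q.d 1 0).hom w = x := by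
  have h := hQ 0
  rw [HomologicalComplex.exactAt_iff' Q 1 0 0 (by simp) (by simp),
    ShortComplex.moduleCat_exact_iff] at h
  refine h x ?_
  have : (HomologicalComplex.sc' Q 1 0 0).g = 0 := Q.shape 0 0 (by simp)
  rw [this]; rfl

variable [∀ q, Module.Projective R (Q.X q)]

/-- one step of the construction of the contraction -/
lemma exists_step (hQ : Q.Acyclic) (q : ℕ) (t : Q.X q →ₗ[R] Q.X (q + 1))
    (ht : ∀ x : Q.X (q + 1), (Q.d (q + 1) q).hom (t ((Q.d (q + 1) q).hom x)) = (Q.d (q + 1) q).hom x) :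
    ∃ s' : Q.X (q + 1) →ₗ[R] Q.X (q + 2),
      ∀ x, (Q.d (q + 2) (q + 1)).hom (s' x) + t ((Q.d (q + 1) q).hom x) = x := by
  let φ : Q.X (q + 1) →ₗ[R] Q.X (q + 1) := LinearMap.id - t ∘ₗ (Q.d (q + 1) q).hom
  have hφ : ∀ x, φ x ∈ LinearMap.range (Q.d (q + 2) (q + 1)).hom := by
    intro x
    obtain ⟨w, hw⟩ := exact_succ Q hQ q (φ x) (by
      simp only [φ, LinearMap.sub_apply, LinearMap.id_apply, LinearMap.comp_apply, map_sub]
      rw [ht x, sub_self])
    exact ⟨w, hw⟩
  obtain ⟨h, hh⟩ := Module.projective_lifting_property (Q.d (q + 2) (q + 1)).hom.rangeRestrict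
    (φ.codRestrict _ hφ) (LinearMap.surjective_rangeRestrict _)
  refine ⟨h, fun x => ?_⟩
  have := congrArg (fun f => ((f x : LinearMap.range (Q.d (q + 2) (q + 1)).hom) : Q.X (q + 1))) hh
  simp only [LinearMap.comp_apply, LinearMap.codRestrict_apply, φ,
    LinearMap.sub_apply, LinearMap.id_apply] at this
  rw [this]; abel

open Classical in
/-- the step function -/
noncomputable def stepFun (q : ℕ) (t : Q.X q →ₗ[R] Q.X (q + 1)) : Q.X (q + 1) →ₗ[R] Q.X (q + 2) :=
  if h : ∃ s' : Q.X (q + 1) →ₗ[R] Q.X (q + 2),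
      ∀ x, (Q.d (q + 2) (q + 1)).hom (s' x) + t ((Q.d (q + 1) q).hom x) = x then h.choose else 0

/-- contraction of an acyclic complex of projectives -/
theorem exists_contraction (hQ : Q.Acyclic) :
    ∃ s : ∀ q : ℕ, Q.X q →ₗ[R] Q.X (q + 1),
      (∀ x : Q.X 0, (Q.d 1 0).hom (s 0 x) = x) ∧
      ∀ (q : ℕ) (x : Q.X (q + 1)),
        (Q.d (q + 2) (q + 1)).hom (s (q + 1) x) + s q ((Q.d (q + 1) q).hom x) = x := by
  obtain ⟨s0, hs0⟩ := Module.projective_lifting_property (Q.d 1 0).hom LinearMap.id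
    (fun x => exact_zero Q hQ x)
  have hs0' : ∀ x : Q.X 0, (Q.d 1 0).hom (s0 x) = x := fun x => by
    have := congrArg (fun f => f x) hs0
    simpa using this
  let S : ∀ q : ℕ, Q.X q →ₗ[R] Q.X (q + 1) := fun q =>
    Nat.rec (motive := fun q => Q.X q →ₗ[R] Q.X (q + 1)) s0 (fun q t => stepFun Q q t) q
  have hS0 : S 0 = s0 := rfl
  have hSs : ∀ q, S (q + 1) = stepFun Q q (S q) := fun q => rfl
  have key : ∀ q, (∀ x : Q.X (q + 1),
        (Q.d (q + 1) q).hom (S q ((Q.d (q + 1) q).hom x)) = (Q.d (q + 1) q).hom x) ∧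
      ∀ x : Q.X (q + 1), (Q.d (q + 2) (q + 1)).hom (S (q + 1) x) + S q ((Q.d (q + 1) q).hom x) = x := by
    intro q
    induction q with
    | zero =>
      have h1 : ∀ x : Q.X 1, (Q.d 1 0).hom (S 0 ((Q.d 1 0).hom x)) = (Q.d 1 0).hom x :=
        fun x => by rw [hS0, hs0']
      refine ⟨h1, ?_⟩
      have hex := exists_step Q hQ 0 (S 0) h1
      rw [hSs 0]
      unfold stepFun
      rw [dif_pos hex]
      exact hex.choose_spec
    | succ q ih =>
      have h1 : ∀ x : Q.X (q + 2), (Q.d (q + 2) (q + 1)).hom (S (q + 1) ((Q.d (q + 2) (q + 1)).hom x))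
          = (Q.d (q + 2) (q + 1)).hom x := by
        intro x
        have := ih.2 ((Q.d (q + 2) (q + 1)).hom x)
        rw [dd, map_zero, add_zero] at this
        exact this
      refine ⟨h1, ?_⟩
      have hex := exists_step Q hQ (q + 1) (S (q + 1)) h1
      rw [hSs (q + 1)]
      unfold stepFun
      rw [dif_pos hex]
      exact hex.choose_spec
  exact ⟨S, fun x => by rw [hS0, hs0'], fun q x => (key q).2 x⟩

end Elem

section Section

variable (A' A A'' : ChainComplex (ModuleCat.{v} R) ℕ) (f : A' ⟶ A) (p : A ⟶ A'')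

lemma comm_elem {C D : ChainComplex (ModuleCat.{v} R) ℕ} (g : C ⟶ D) (i j : ℕ) (x : C.X i) :
    (D.d i j).hom ((g.f i).hom x) = (g.f j).hom ((C.d i j).hom x) := by
  have h := g.comm i j
  have := congrArg (fun φ => (ModuleCat.Hom.hom φ) x) h
  simp only [ModuleCat.hom_comp, LinearMap.comp_apply] at this
  exact this

lemma acyclic_of_quasiIso
    (hf : ∀ q, Function.Injective (f.f q).hom) (hp : ∀ q, Function.Surjective (p.f q).hom)
    (hfp : ∀ q, Function.Exact (f.f q).hom (p.f q).hom) [QuasiIso f] : A''.Acyclic := by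
  have hzero : f ≫ p = 0 := by
    ext q x
    exact (hfp q).apply_apply_eq_zero x
  let S : ShortComplex (ChainComplex (ModuleCat.{v} R) ℕ) := ShortComplex.mk f p hzero
  have hS : S.ShortExact := HomologicalComplex.shortExact_of_degreewise_shortExact S (fun i =>
    ModuleCat.shortComplex_shortExact _ (hfp i) (hf i) (hp i))
  exact hS.acyclic_X₃ (inferInstanceAs (QuasiIso f))

/-- chain-map section of `p` built from a contraction of `A''`. -/
theorem exists_section [∀ q, Module.Projective R (A''.X q)]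
    (hf : ∀ q, Function.Injective (f.f q).hom) (hp : ∀ q, Function.Surjective (p.f q).hom)
    (hfp : ∀ q, Function.Exact (f.f q).hom (p.f q).hom)
    (s : ∀ q : ℕ, A''.X q →ₗ[R] A''.X (q + 1))
    (hs : ∀ (q : ℕ) (x : A''.X (q + 1)),
        (A''.d (q + 2) (q + 1)).hom (s (q + 1) x) + s q ((A''.d (q + 1) q).hom x) = x) :
    ∃ h : A'' ⟶ A, h ≫ p = 𝟙 A'' := by
  classical
  -- degreewise sections
  have hσ : ∀ q, ∃ σ : A''.X q →ₗ[R] A.X q, ∀ x, (p.f q).hom (σ x) = x := fun q => by
    obtain ⟨σ, hσ⟩ := Module.projective_lifting_property (p.f q).hom LinearMap.id (hp q)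
    exact ⟨σ, fun x => by simpa using congrArg (fun g => g x) hσ⟩
  choose σ hσ using hσ
  -- the defect
  let ρ : ∀ q, A''.X (q + 1) →ₗ[R] A.X q := fun q =>
    (A.d (q + 1) q).hom ∘ₗ σ (q + 1) - σ q ∘ₗ (A''.d (q + 1) q).hom
  have hρ : ∀ q x, ∃ y : A'.X q, (f.f q).hom y = ρ q x := by
    intro q x
    have : (p.f q).hom (ρ q x) = 0 := by
      simp only [ρ, LinearMap.sub_apply, LinearMap.comp_apply, map_sub]
      rw [← comm_elem p, hσ, hσ, sub_self]
    exact ((hfp q) _).1 this
  -- κ with f κ = ρ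
  have hκ : ∀ q, ∃ κ : A''.X (q + 1) →ₗ[R] A'.X q, ∀ x, (f.f q).hom (κ x) = ρ q x := by
    intro q
    let e := LinearEquiv.ofInjective (f.f q).hom (hf q)
    refine ⟨e.symm.toLinearMap ∘ₗ (ρ q).codRestrict (LinearMap.range (f.f q).hom) (fun x => ?_), fun x => ?_⟩
    · obtain ⟨y, hy⟩ := hρ q x; exact ⟨y, hy⟩
    · simp only [LinearMap.comp_apply, LinearEquiv.coe_coe]
      have := e.apply_symm_apply ((ρ q).codRestrict (LinearMap.range (f.f q).hom) (fun x => by
        obtain ⟨y, hy⟩ := hρ q x; exact ⟨y, hy⟩) x)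
      have h2 := congrArg Subtype.val this
      simpa [e] using h2
  choose κ hκ using hκ
  have hκd : ∀ q (y : A''.X (q + 2)),
      (A'.d (q + 1) q).hom (κ (q + 1) y) = - κ q ((A''.d (q + 2) (q + 1)).hom y) := by
    intro q y
    apply hf q
    rw [map_neg, ← comm_elem f, hκ, hκ]
    simp only [ρ, LinearMap.sub_apply, LinearMap.comp_apply, map_sub]
    rw [dd, dd, map_zero]
    abel
  let hq : ∀ q, A''.X q →ₗ[R] A.X q := fun q => σ q + (f.f q).hom ∘ₗ κ q ∘ₗ s q
  have hcomm : ∀ q (x : A''.X (q + 1)),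
      (A.d (q + 1) q).hom (hq (q + 1) x) = hq q ((A''.d (q + 1) q).hom x) := by
    intro q x
    simp only [hq, LinearMap.add_apply, LinearMap.comp_apply, map_add]
    rw [comm_elem f, hκd]
    have h1 : (A.d (q + 1) q).hom (σ (q + 1) x) = ρ q x + σ q ((A''.d (q + 1) q).hom x) := by
      simp [ρ]
    rw [h1, ← hκ q x]
    have h2 := hs q x
    have h3 : κ q x = κ q ((A''.d (q + 2) (q + 1)).hom (s (q + 1) x)) + κ q (s q ((A''.d (q + 1) q).hom x)) := by
      rw [← map_add, h2]
    rw [h3]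
    simp only [map_add, map_neg]
    abel
  refine ⟨{ f := fun q => ModuleCat.ofHom (hq q)
            comm' := ?_ }, ?_⟩
  · intro i j hij
    have hij' : j + 1 = i := hij
    subst hij'
    ext x
    simp only [ModuleCat.hom_comp, LinearMap.comp_apply, ModuleCat.hom_ofHom]
    exact hcomm j x
  · ext q x
    simp only [HomologicalComplex.comp_f, ModuleCat.hom_comp, LinearMap.comp_apply, ModuleCat.hom_ofHom,
      HomologicalComplex.id_f, ModuleCat.hom_id, LinearMap.id_apply, hq, LinearMap.add_apply, map_add, hσ]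
    rw [(hfp q).apply_apply_eq_zero, add_zero]

end Section

section Quot

variable (A' A : ChainComplex (ModuleCat.{v} R) ℕ) (f : A' ⟶ A)

/-- the quotient complex `A / f(A')` -/
noncomputable def quotCx : ChainComplex (ModuleCat.{v} R) ℕ :=
  ChainComplex.of (fun q => ModuleCat.of R (A.X q ⧸ LinearMap.range (f.f q).hom))
    (fun q => ModuleCat.ofHom (Submodule.mapQ _ _ (A.d (q + 1) q).hom (by
        rintro _ ⟨y, rfl⟩
        exact ⟨(A'.d (q + 1) q).hom y, (comm_elem f (q + 1) q y).symm⟩)))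
    (fun q => by
      ext x
      simp only [ModuleCat.hom_comp, ModuleCat.hom_ofHom, LinearMap.comp_apply, Submodule.mkQ_apply,
        Submodule.mapQ_apply, ModuleCat.hom_zero, LinearMap.zero_apply]
      rw [dd]; simp)

lemma quotCx_d (q : ℕ) (x : A.X (q + 1)) :
    ((quotCx A' A f).d (q + 1) q).hom (Submodule.Quotient.mk x : A.X (q + 1) ⧸ LinearMap.range (f.f (q + 1)).hom) =
      (Submodule.Quotient.mk ((A.d (q + 1) q).hom x) : A.X q ⧸ LinearMap.range (f.f q).hom) := by
  have h : (quotCx A' A f).d (q + 1) q = ModuleCat.ofHom (Submodule.mapQ _ _ (A.d (q + 1) q).hom (by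
        rintro _ ⟨y, rfl⟩
        exact ⟨(A'.d (q + 1) q).hom y, (comm_elem f (q + 1) q y).symm⟩)) := by
    unfold quotCx
    dsimp only [ChainComplex.of]
    rw [ChainComplex.of_d]
  rw [h]
  rfl

/-- the projection `A ⟶ A / f(A')` -/
noncomputable def quotMap : A ⟶ quotCx A' A f where
  f := fun q => ModuleCat.ofHom (LinearMap.range (f.f q).hom).mkQ
  comm' := by
    intro i j hij
    have hij' : j + 1 = i := hij
    subst hij'
    ext x
    exact (quotCx_d A' A f j x)

lemma quotMap_apply (q : ℕ) (x : A.X q) :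
    ((quotMap A' A f).f q).hom x = (Submodule.Quotient.mk x : A.X q ⧸ LinearMap.range (f.f q).hom) := rfl

lemma quotMap_surjective (q : ℕ) : Function.Surjective ((quotMap A' A f).f q).hom :=
  Submodule.Quotient.mk_surjective _

lemma quotMap_exact (q : ℕ) : Function.Exact (f.f q).hom ((quotMap A' A f).f q).hom := by
  intro x
  rw [quotMap_apply]
  constructor
  · intro hx
    exact (Submodule.Quotient.mk_eq_zero _).1 hx
  · intro hx
    exact (Submodule.Quotient.mk_eq_zero _).2 hx

variable [hproj : ∀ q, Module.Projective R (A.X q ⧸ LinearMap.range (f.f q).hom)]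

instance (q : ℕ) : Module.Projective R ((quotCx A' A f).X q) := hproj q

/-- Package: projection, chain section, contraction. -/
theorem exists_data (hf : ∀ q, Function.Injective (f.f q).hom) [QuasiIso f] :
    ∃ (h : quotCx A' A f ⟶ A) (s : ∀ q : ℕ, (quotCx A' A f).X q →ₗ[R] (quotCx A' A f).X (q + 1)),
      h ≫ quotMap A' A f = 𝟙 _ ∧
      (∀ x : (quotCx A' A f).X 0, ((quotCx A' A f).d 1 0).hom (s 0 x) = x) ∧
      ∀ (q : ℕ) (x : (quotCx A' A f).X (q + 1)),
        ((quotCx A' A f).d (q + 2) (q + 1)).hom (s (q + 1) x) + s q (((quotCx A' A f).d (q + 1) q).hom x) = x := by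
  have hac := acyclic_of_quasiIso A' A (quotCx A' A f) f (quotMap A' A f) hf
    (quotMap_surjective A' A f) (quotMap_exact A' A f)
  obtain ⟨s, hs0, hs⟩ := exists_contraction (quotCx A' A f) hac
  obtain ⟨h, hh⟩ := exists_section A' A (quotCx A' A f) f (quotMap A' A f) hf
    (quotMap_surjective A' A f) (quotMap_exact A' A f) s hs
  exact ⟨h, s, hh, hs0, hs⟩

/-- chain retraction of `f` -/
theorem exists_retraction (hf : ∀ q, Function.Injective (f.f q).hom) [QuasiIso f] :
    ∃ g : A ⟶ A', f ≫ g = 𝟙 A' := by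
  obtain ⟨h, s, hh, -, -⟩ := exists_data A' A f hf
  set π := quotMap A' A f with hπ
  have hph : ∀ q (x : (quotCx A' A f).X q), (π.f q).hom ((h.f q).hom x) = x := by
    intro q x
    have := congrArg (fun φ => (ModuleCat.Hom.hom (φ.f q)) x) hh
    simpa using this
  have hmem : ∀ q (a : A.X q), ∃ a' : A'.X q, (f.f q).hom a' = a - (h.f q).hom ((π.f q).hom a) := by
    intro q a
    have : (π.f q).hom (a - (h.f q).hom ((π.f q).hom a)) = 0 := by
      rw [map_sub, hph, sub_self]
    exact ((quotMap_exact A' A f q) _).1 this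
  have hg : ∀ q, ∃ g : A.X q →ₗ[R] A'.X q, ∀ a, (f.f q).hom (g a) = a - (h.f q).hom ((π.f q).hom a) := by
    intro q
    let e := LinearEquiv.ofInjective (f.f q).hom (hf q)
    let φ : A.X q →ₗ[R] A.X q := LinearMap.id - (h.f q).hom ∘ₗ (π.f q).hom
    have hφ : ∀ a, φ a ∈ LinearMap.range (f.f q).hom := fun a => by
      obtain ⟨a', ha'⟩ := hmem q a; exact ⟨a', by simpa [φ] using ha'⟩
    refine ⟨e.symm.toLinearMap ∘ₗ φ.codRestrict _ hφ, fun a => ?_⟩
    have := e.apply_symm_apply (φ.codRestrict _ hφ a)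
    have h2 := congrArg Subtype.val this
    simpa [e, φ] using h2
  choose g hg using hg
  refine ⟨{ f := fun q => ModuleCat.ofHom (g q), comm' := ?_ }, ?_⟩
  · intro i j hij
    have hij' : j + 1 = i := hij
    subst hij'
    ext a
    simp only [ModuleCat.hom_comp, LinearMap.comp_apply, ModuleCat.hom_ofHom]
    apply hf j
    rw [← comm_elem f, hg, hg, map_sub, comm_elem h, comm_elem π]
  · ext q a
    simp only [HomologicalComplex.comp_f, ModuleCat.hom_comp, LinearMap.comp_apply, ModuleCat.hom_ofHom,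
      HomologicalComplex.id_f, ModuleCat.hom_id, LinearMap.id_apply]
    apply hf q
    rw [hg, (quotMap_exact A' A f q).apply_apply_eq_zero, map_zero, sub_zero]

/-- two retractions of `f` are homotopic by a homotopy vanishing on the image of `f`. -/
theorem exists_homotopy (hf : ∀ q, Function.Injective (f.f q).hom) [QuasiIso f]
    (g₁ g₂ : A ⟶ A') (h₁ : f ≫ g₁ = 𝟙 A') (h₂ : f ≫ g₂ = 𝟙 A') :
    ∃ H : Homotopy g₁ g₂, ∀ i j : ℕ, f.f i ≫ H.hom i j = 0 := by
  classical
  obtain ⟨h, s, hh, hs0, hs⟩ := exists_data A' A f hf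
  have hph : ∀ q (x : (quotCx A' A f).X q), ((quotMap A' A f).f q).hom ((h.f q).hom x) = x := by
    intro q x
    have := congrArg (fun φ => (ModuleCat.Hom.hom (φ.f q)) x) hh
    simpa using this
  have hgf : ∀ q (a' : A'.X q), (g₁.f q).hom ((f.f q).hom a') = (g₂.f q).hom ((f.f q).hom a') := by
    intro q a'
    have e1 := congrArg (fun φ => (ModuleCat.Hom.hom (φ.f q)) a') h₁
    have e2 := congrArg (fun φ => (ModuleCat.Hom.hom (φ.f q)) a') h₂
    simp only [HomologicalComplex.comp_f, ModuleCat.hom_comp, LinearMap.comp_apply] at e1 e2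
    rw [e1, e2]
  -- θ = (g₁ - g₂) ∘ h
  let θ : ∀ q, (quotCx A' A f).X q →ₗ[R] A'.X q := fun q => ((g₁.f q).hom - (g₂.f q).hom) ∘ₗ (h.f q).hom
  have hθπ : ∀ q (a : A.X q), θ q (((quotMap A' A f).f q).hom a) = (g₁.f q).hom a - (g₂.f q).hom a := by
    intro q a
    have : ((quotMap A' A f).f q).hom (a - (h.f q).hom (((quotMap A' A f).f q).hom a)) = 0 := by
      rw [map_sub, hph, sub_self]
    obtain ⟨a', ha'⟩ := ((quotMap_exact A' A f q) _).1 this
    have h3 := hgf q a'
    rw [ha'] at h3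
    simp only [θ, LinearMap.comp_apply, LinearMap.sub_apply]
    simp only [map_sub] at h3
    have : (g₁.f q).hom a - (g₁.f q).hom ((h.f q).hom (((quotMap A' A f).f q).hom a)) = (g₂.f q).hom a - (g₂.f q).hom ((h.f q).hom (((quotMap A' A f).f q).hom a)) := h3
    exact (sub_eq_sub_iff_sub_eq_sub.1 this).symm
  have hθd : ∀ q (x : (quotCx A' A f).X (q + 1)), (A'.d (q + 1) q).hom (θ (q + 1) x) = θ q (((quotCx A' A f).d (q + 1) q).hom x) := by
    intro q x
    simp only [θ, LinearMap.comp_apply, LinearMap.sub_apply, map_sub]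
    rw [comm_elem g₁, comm_elem g₂, comm_elem h]
  let Hq : ∀ q, A.X q →ₗ[R] A'.X (q + 1) := fun q => θ (q + 1) ∘ₗ s q ∘ₗ ((quotMap A' A f).f q).hom
  refine ⟨{ hom := fun i j => if hij : i + 1 = j then ModuleCat.ofHom (Hq i) ≫ (A'.XIsoOfEq hij).hom else 0
            zero := fun i j hij => dif_neg (fun h => hij h)
            comm := ?_ }, ?_⟩
  · intro i
    cases i with
    | zero =>
      rw [Homotopy.dNext_zero_chainComplex, Homotopy.prevD_chainComplex, dif_pos rfl, zero_add]
      ext a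
      simp only [HomologicalComplex.XIsoOfEq_rfl, Iso.refl_hom, Category.comp_id, ModuleCat.hom_add,
        ModuleCat.hom_comp, LinearMap.add_apply, LinearMap.comp_apply, ModuleCat.hom_ofHom, Hq]
      rw [hθd, hs0, hθπ]; abel
    | succ k =>
      rw [Homotopy.dNext_succ_chainComplex, Homotopy.prevD_chainComplex, dif_pos rfl, dif_pos rfl]
      ext a
      simp only [HomologicalComplex.XIsoOfEq_rfl, Iso.refl_hom, Category.comp_id, ModuleCat.hom_add,
        ModuleCat.hom_comp, LinearMap.add_apply, LinearMap.comp_apply, ModuleCat.hom_ofHom, Hq]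
      have e2 := comm_elem (quotMap A' A f) (k + 1) k a
      have e3 := hs k (((quotMap A' A f).f (k + 1)).hom a)
      have e4 : s k (((quotCx A' A f).d (k + 1) k).hom (((quotMap A' A f).f (k + 1)).hom a)) +
          ((quotCx A' A f).d (k + 2) (k + 1)).hom (s (k + 1) (((quotMap A' A f).f (k + 1)).hom a)) =
          ((quotMap A' A f).f (k + 1)).hom a := (add_comm _ _).trans e3
      rw [hθd, ← e2, ← map_add, e4, hθπ]; abel
  · intro i j
    by_cases hij : i + 1 = j
    · subst hij
      dsimp only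
      rw [dif_pos rfl]
      simp only [HomologicalComplex.XIsoOfEq_rfl, Iso.refl_hom, Category.comp_id]
      ext a'
      simp only [ModuleCat.hom_comp, LinearMap.comp_apply, ModuleCat.hom_ofHom, Hq, ModuleCat.hom_zero,
        LinearMap.zero_apply]
      rw [(quotMap_exact A' A f i).apply_apply_eq_zero, map_zero, map_zero]
    · simp only [dif_neg hij, Limits.comp_zero]

end Quot

end Groth.Agent.LD.FreeCx
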