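import Mathlib

/-!
Element-level criteria for `Mono`/`Epi` of maps induced on homology, for (short) complexes of modules.
-/

open CategoryTheory

namespace Groth.Agent.LD.HomElem

universe v u

variable {R : Type u} [Ring R]

section Short

variable {S₁ S₂ : ShortComplex (ModuleCat.{v} R)} (φ : S₁ ⟶ S₂)

private lemma mono_conj {C : Type*} [Category C] {X Y X' Y' : C} (e₁ : X ≅ X') (e₂ : Y ≅ Y')
    (a : X ⟶ Y) (b : X' ⟶ Y') (h : a = e₁.hom ≫ b ≫ e₂.inv) : Mono a ↔ Mono b := by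
  constructor
  · intro _
    have : b = e₁.inv ≫ a ≫ e₂.hom := by rw [h]; simp
    rw [this]; infer_instance
  · intro _
    rw [h]; infer_instance

private lemma epi_conj {C : Type*} [Category C] {X Y X' Y' : C} (e₁ : X ≅ X') (e₂ : Y ≅ Y')
    (a : X ⟶ Y) (b : X' ⟶ Y') (h : a = e₁.hom ≫ b ≫ e₂.inv) : Epi a ↔ Epi b := by
  constructor
  · intro _
    have : b = e₁.inv ≫ a ≫ e₂.hom := by rw [h]; simp
    rw [this]; infer_instance
  · intro _
    rw [h]; infer_instance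

lemma mono_homologyMap_iff :
    Mono (ShortComplex.homologyMap φ) ↔
      ∀ z : S₁.X₂, S₁.g.hom z = 0 → (∃ w : S₂.X₁, S₂.f.hom w = φ.τ₂.hom z) → ∃ x : S₁.X₁, S₁.f.hom x = z := by
  let h₁ := S₁.moduleCatLeftHomologyData
  let h₂ := S₂.moduleCatLeftHomologyData
  let γ : ShortComplex.LeftHomologyMapData φ h₁ h₂ := default
  rw [mono_conj h₁.homologyIso h₂.homologyIso _ γ.φH γ.homologyMap_eq, ModuleCat.mono_iff_injective]
  let φKl : LinearMap.ker S₁.g.hom →ₗ[R] LinearMap.ker S₂.g.hom := γ.φK.hom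
  let φHl : (LinearMap.ker S₁.g.hom ⧸ LinearMap.range S₁.moduleCatToCycles) →ₗ[R]
      (LinearMap.ker S₂.g.hom ⧸ LinearMap.range S₂.moduleCatToCycles) := γ.φH.hom
  have hK : ∀ z' : LinearMap.ker S₁.g.hom, ((φKl z' : LinearMap.ker S₂.g.hom) : S₂.X₂) = φ.τ₂.hom (z' : S₁.X₂) := by
    intro z'
    have := congrArg (fun ψ => (ModuleCat.Hom.hom ψ) z') γ.commi
    exact this
  have hH : ∀ z' : LinearMap.ker S₁.g.hom, φHl (Submodule.Quotient.mk z') = Submodule.Quotient.mk (φKl z') := by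
    intro z'
    have := congrArg (fun ψ => (ModuleCat.Hom.hom ψ) z') γ.commπ
    exact this
  change Function.Injective φHl ↔ _
  constructor
  · intro hinj z hz ⟨w, hw⟩
    let z' : LinearMap.ker S₁.g.hom := ⟨z, hz⟩
    have h0 : φHl (Submodule.Quotient.mk z') = 0 := by
      rw [hH, Submodule.Quotient.mk_eq_zero]
      refine ⟨w, Subtype.ext ?_⟩
      rw [hK]; exact hw
    have h1 : (Submodule.Quotient.mk z' : LinearMap.ker S₁.g.hom ⧸ LinearMap.range S₁.moduleCatToCycles) = 0 :=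
      hinj (by rw [h0, map_zero])
    rw [Submodule.Quotient.mk_eq_zero] at h1
    obtain ⟨x, hx⟩ := h1
    exact ⟨x, congrArg Subtype.val hx⟩
  · intro hel
    rw [← LinearMap.ker_eq_bot, LinearMap.ker_eq_bot']
    intro a ha
    obtain ⟨z', rfl⟩ := Submodule.Quotient.mk_surjective _ a
    rw [hH, Submodule.Quotient.mk_eq_zero] at ha
    obtain ⟨w, hw⟩ := ha
    have hw' : S₂.f.hom w = φ.τ₂.hom (z' : S₁.X₂) := by
      rw [← hK]; exact congrArg Subtype.val hw
    obtain ⟨x, hx⟩ := hel z'.1 z'.2 ⟨w, hw'⟩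
    rw [Submodule.Quotient.mk_eq_zero]
    exact ⟨x, Subtype.ext hx⟩

lemma epi_homologyMap_iff :
    Epi (ShortComplex.homologyMap φ) ↔
      ∀ y : S₂.X₂, S₂.g.hom y = 0 →
        ∃ z : S₁.X₂, S₁.g.hom z = 0 ∧ ∃ w : S₂.X₁, y = φ.τ₂.hom z + S₂.f.hom w := by
  let h₁ := S₁.moduleCatLeftHomologyData
  let h₂ := S₂.moduleCatLeftHomologyData
  let γ : ShortComplex.LeftHomologyMapData φ h₁ h₂ := default
  rw [epi_conj h₁.homologyIso h₂.homologyIso _ γ.φH γ.homologyMap_eq, ModuleCat.epi_iff_surjective]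
  let φKl : LinearMap.ker S₁.g.hom →ₗ[R] LinearMap.ker S₂.g.hom := γ.φK.hom
  let φHl : (LinearMap.ker S₁.g.hom ⧸ LinearMap.range S₁.moduleCatToCycles) →ₗ[R]
      (LinearMap.ker S₂.g.hom ⧸ LinearMap.range S₂.moduleCatToCycles) := γ.φH.hom
  have hK : ∀ z' : LinearMap.ker S₁.g.hom, ((φKl z' : LinearMap.ker S₂.g.hom) : S₂.X₂) = φ.τ₂.hom (z' : S₁.X₂) := by
    intro z'
    have := congrArg (fun ψ => (ModuleCat.Hom.hom ψ) z') γ.commi
    exact this
  have hH : ∀ z' : LinearMap.ker S₁.g.hom, φHl (Submodule.Quotient.mk z') = Submodule.Quotient.mk (φKl z') := by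
    intro z'
    have := congrArg (fun ψ => (ModuleCat.Hom.hom ψ) z') γ.commπ
    exact this
  change Function.Surjective φHl ↔ _
  constructor
  · intro hsurj y hy
    let y' : LinearMap.ker S₂.g.hom := ⟨y, hy⟩
    obtain ⟨a, ha⟩ := hsurj (Submodule.Quotient.mk y' : LinearMap.ker S₂.g.hom ⧸ LinearMap.range S₂.moduleCatToCycles)
    obtain ⟨z', rfl⟩ := Submodule.Quotient.mk_surjective _ a
    rw [hH] at ha
    have h1 := (Submodule.Quotient.eq _).1 ha
    obtain ⟨w, hw⟩ := h1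
    refine ⟨z'.1, z'.2, -w, ?_⟩
    have h2 := congrArg Subtype.val hw
    simp only [Submodule.coe_sub, hK] at h2
    have h3 : S₂.f.hom w = φ.τ₂.hom (z' : S₁.X₂) - y := h2
    rw [map_neg, h3]; abel
  · intro hel a
    obtain ⟨y', rfl⟩ := Submodule.Quotient.mk_surjective _ a
    obtain ⟨z, hz, w, hw⟩ := hel y'.1 y'.2
    refine ⟨Submodule.Quotient.mk (⟨z, hz⟩ : LinearMap.ker S₁.g.hom), ?_⟩
    rw [hH, Submodule.Quotient.eq]
    refine ⟨-w, Subtype.ext ?_⟩
    simp only [Submodule.coe_sub, hK]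
    have : (S₂.moduleCatToCycles (-w) : S₂.X₂) = S₂.f.hom (-w) := rfl
    rw [this, map_neg, hw]; abel

end Short

section Cx

variable {ι : Type*} {c : ComplexShape ι} {K L : HomologicalComplex (ModuleCat.{v} R) c} (φ : K ⟶ L)

lemma mono_homologyMap_iff_elem (i j k : ι) (hi : c.prev j = i) (hk : c.next j = k) :
    Mono (HomologicalComplex.homologyMap φ j) ↔
      ∀ z : K.X j, (K.d j k).hom z = 0 → (∃ w : L.X i, (L.d i j).hom w = (φ.f j).hom z) →
        ∃ x : K.X i, (K.d i j).hom x = z := by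
  subst hi hk
  exact mono_homologyMap_iff ((HomologicalComplex.shortComplexFunctor _ c j).map φ)

lemma epi_homologyMap_iff_elem (i j k : ι) (hi : c.prev j = i) (hk : c.next j = k) :
    Epi (HomologicalComplex.homologyMap φ j) ↔
      ∀ y : L.X j, (L.d j k).hom y = 0 →
        ∃ z : K.X j, (K.d j k).hom z = 0 ∧ ∃ w : L.X i, y = (φ.f j).hom z + (L.d i j).hom w := by
  subst hi hk
  exact epi_homologyMap_iff ((HomologicalComplex.shortComplexFunctor _ c j).map φ)

end Cx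

end Groth.Agent.LD.HomElem
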