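import Mathlib

universe u v w

namespace Groth.Agent.LD.NP

open TensorProduct Polynomial

theorem bezout_smul {G : Type*} [AddCommGroup G] {a b : ℕ} (h : Nat.Coprime a b) :
    ∃ u v : ℤ, ∀ x : G, x = u • (a • x) + v • (b • x) := by
  have hc : IsCoprime (a : ℤ) (b : ℤ) := Nat.isCoprime_iff_coprime.mpr h
  obtain ⟨u, v, huv⟩ := hc
  refine ⟨u, v, fun x => ?_⟩
  rw [← natCast_zsmul x a, ← natCast_zsmul x b, ← mul_smul, ← mul_smul, ← add_smul, huv, one_smul]

--START
theorem S19186 {A B : Type*} [AddCommGroup A] [AddCommGroup B] (f : A →+ B) (p ℓ r n : ℕ) (hp : p.Prime) (hl : ℓ.Prime) (hne : ℓ ≠ p) (hker : ∀ a : A, f a = 0 → p ^ r • a = 0) (hcoker : ∀ b : B, ∃ a : A, f a = p ^ r • b) : (∀ b : B, ℓ ^ n • b = 0 → ∃! a : A, ℓ ^ n • a = 0 ∧ f a = b) ∧ (∀ a : A, (∃ b' : B, f a = ℓ ^ n • b') → ∃ a' : A, a = ℓ ^ n • a') ∧ (∀ b : B, ∃ (a : A) (b' : B), b = f a + ℓ ^ n • b') := by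
  have hcop : Nat.Coprime (p ^ r) (ℓ ^ n) :=
    Nat.Coprime.pow _ _ ((Nat.coprime_primes hp hl).mpr (Ne.symm hne))
  have hcop2 : Nat.Coprime (p ^ r * p ^ r) (ℓ ^ n) := Nat.Coprime.mul_left hcop hcop
  obtain ⟨u, v, hA⟩ := bezout_smul (G := A) hcop
  obtain ⟨u', v', hB⟩ := bezout_smul (G := B) hcop
  refine ⟨fun b hb => ?_, fun a ⟨b', hb'⟩ => ?_, fun b => ?_⟩
  · obtain ⟨a₀, ha₀⟩ := hcoker b
    have hb1 : b = u' • (p ^ r • b) := by
      conv_lhs => rw [hB b, hb, smul_zero, add_zero]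
    -- a₁ = u' • a₀ has f a₁ = b
    have h1 : f (u' • a₀) = b := by rw [map_zsmul, ha₀, ← hb1]
    have h2 : p ^ r • (ℓ ^ n • (u' • a₀)) = 0 := by
      apply hker
      rw [map_nsmul, h1, hb]
    refine ⟨(u' * (p ^ r : ℕ)) • (u' • a₀), ⟨?_, ?_⟩, ?_⟩
    · rw [mul_smul, natCast_zsmul, smul_comm (ℓ ^ n) u', smul_comm (ℓ ^ n) (p ^ r), h2, smul_zero]
    · rw [map_zsmul, h1, mul_smul, natCast_zsmul, ← hb1]
    · rintro a' ⟨ha'1, ha'2⟩
      set a := (u' * (p ^ r : ℕ)) • (u' • a₀) with ha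
      have hfa : f a = b := by rw [ha, map_zsmul, h1, mul_smul, natCast_zsmul, ← hb1]
      have hla : ℓ ^ n • a = 0 := by
        rw [ha, mul_smul, natCast_zsmul, smul_comm (ℓ ^ n) u', smul_comm (ℓ ^ n) (p ^ r), h2, smul_zero]
      have hd1 : p ^ r • (a' - a) = 0 := hker _ (by rw [map_sub, ha'2, hfa, sub_self])
      have hd2 : ℓ ^ n • (a' - a) = 0 := by rw [smul_sub, ha'1, hla, sub_self]
      have := hA (a' - a)
      rw [hd1, hd2, smul_zero, smul_zero, add_zero] at this
      exact sub_eq_zero.mp this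
  · obtain ⟨a₀, ha₀⟩ := hcoker b'
    obtain ⟨u2, v2, hA2⟩ := bezout_smul (G := A) hcop2
    have h1 : p ^ r • (p ^ r • a - ℓ ^ n • a₀) = 0 := by
      apply hker
      rw [map_sub, map_nsmul, map_nsmul, hb', ha₀, smul_comm, sub_self]
    have h2 : (p ^ r * p ^ r) • a = ℓ ^ n • (p ^ r • a₀) := by
      rw [smul_sub, sub_eq_zero] at h1
      rw [mul_smul, h1, smul_comm]
    refine ⟨u2 • (p ^ r • a₀) + v2 • a, ?_⟩
    conv_lhs => rw [hA2 a, h2]
    rw [smul_add, smul_comm (ℓ ^ n) u2, smul_comm (ℓ ^ n) v2]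
  · obtain ⟨a₀, ha₀⟩ := hcoker b
    refine ⟨u' • a₀, v' • b, ?_⟩
    rw [map_zsmul, ha₀, smul_comm (ℓ ^ n) v']
    exact hB b

--START
theorem S19005 (X M : Type*) [AddCommGroup X]
    [AddCommGroup M] (ε : M) (hε : 2 • ε = 0) :
    ∃ R : QuadraticMap ℤ X (TensorProduct ℤ X X × TensorProduct ℤ X M),
      ∀ x : X, R x = (x ⊗ₜ[ℤ] x, -(x ⊗ₜ[ℤ] ε)) := by
  have h2 : ∀ x : X, (2 : ℤ) • (x ⊗ₜ[ℤ] ε) = 0 := by
    intro x
    rw [← TensorProduct.tmul_smul]
    have : (2 : ℤ) • ε = 0 := by
      have := hε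
      rw [← natCast_zsmul] at this
      simpa using this
    rw [this, TensorProduct.tmul_zero]
  have hsq : ∀ (a : ℤ) (x : X), a • (x ⊗ₜ[ℤ] ε) = (a * a) • (x ⊗ₜ[ℤ] ε) := by
    intro a x
    obtain ⟨k, hk⟩ : ∃ k : ℤ, a * a = a + 2 * k := by
      obtain ⟨k, hk⟩ := Int.even_mul_pred_self a
      exact ⟨k, by rw [mul_sub, mul_one] at hk; linarith⟩
    rw [hk, add_smul, mul_comm, mul_smul, h2, smul_zero, add_zero]
  let B : X →ₗ[ℤ] X →ₗ[ℤ] (TensorProduct ℤ X X × TensorProduct ℤ X M) :=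
    LinearMap.mk₂ ℤ (fun x y => (x ⊗ₜ[ℤ] y + y ⊗ₜ[ℤ] x, 0))
      (fun x x' y => by simp [TensorProduct.add_tmul, TensorProduct.tmul_add]; abel)
      (fun c x y => by simp [TensorProduct.smul_tmul', TensorProduct.tmul_smul, smul_add])
      (fun x y y' => by simp [TensorProduct.add_tmul, TensorProduct.tmul_add]; abel)
      (fun c x y => by simp [TensorProduct.smul_tmul', TensorProduct.tmul_smul, smul_add])
  refine ⟨{ toFun := fun x => (x ⊗ₜ[ℤ] x, -(x ⊗ₜ[ℤ] ε))
            toFun_smul := ?_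
            exists_companion' := ⟨B, ?_⟩ }, fun x => rfl⟩
  · intro a x
    ext
    · change (a • x) ⊗ₜ[ℤ] (a • x) = (a * a) • (x ⊗ₜ[ℤ] x)
      rw [TensorProduct.smul_tmul_smul]
    · simp only [Prod.smul_snd, smul_neg]
      rw [← TensorProduct.smul_tmul', hsq]
  · intro x y
    ext
    · simp [B, TensorProduct.add_tmul, TensorProduct.tmul_add]; abel
    · simp [B, TensorProduct.add_tmul]; abel
--START
theorem S19160 (R : Type u) [CommRing R]
    (A B : Type u) [AddCommGroup A] [Module R A] [AddCommGroup B] [Module R B] (i : A →ₗ[R] B)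
    (h : ∀ (R' : Type u) [CommRing R'] [Algebra R R'], Function.Injective (i.baseChange R'))
    (F : Type u) [AddCommGroup F] [Module R F] :
    Function.Injective (i.lTensor F) := by
  let _ : Module Rᵐᵒᵖ F := Module.compHom F ((RingHom.id R).fromOpposite fun _ _ => mul_comm _ _)
  have : IsCentralScalar R F := ⟨fun r m => rfl⟩
  have hinj := h (TrivSqZeroExt R F)
  rw [injective_iff_map_eq_zero]
  intro x hx
  let inr : F →ₗ[R] TrivSqZeroExt R F := TrivSqZeroExt.inrHom R F
  let snd : TrivSqZeroExt R F →ₗ[R] F := TrivSqZeroExt.sndHom R F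
  have hsi : snd ∘ₗ inr = LinearMap.id := by
    ext f; simp [inr, snd]
  have h1 : ∀ x : F ⊗[R] A, (i.baseChange (TrivSqZeroExt R F)) (inr.rTensor A x) =
      inr.rTensor B (i.lTensor F x) := by
    intro x
    induction x using TensorProduct.induction_on with
    | zero => simp
    | tmul f a => simp
    | add x y hx hy => simp only [map_add, hx, hy]
  have h1 := h1 x
  rw [hx, map_zero] at h1
  have h2 : inr.rTensor A x = 0 := by
    apply hinj
    rw [h1, map_zero]
  have h3 : snd.rTensor A (inr.rTensor A x) = x := by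
    rw [← LinearMap.comp_apply, ← LinearMap.rTensor_comp, hsi, LinearMap.rTensor_id, LinearMap.id_apply]
  rw [← h3, h2, map_zero]
--START
theorem mapQ_inclusion_bijective {R : Type u} {F : Type v} [Ring R] [AddCommGroup F] [Module R F]
    (P' P Q : Submodule R F) (hle : P' ≤ P)
    (hinj : ∀ x ∈ P', x ∈ Q → x ∈ Q) 
    (hsurj : ∀ y ∈ P, ∃ m ∈ P', m - y ∈ Q) :
    Function.Bijective
      (Submodule.mapQ (Q.comap P'.subtype) (Q.comap P.subtype) (Submodule.inclusion hle)
        (fun x hx => hx)) := by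
  constructor
  · rw [← LinearMap.ker_eq_bot, eq_bot_iff]
    intro x hx
    induction x using Submodule.Quotient.induction_on with
    | H x =>
      rw [LinearMap.mem_ker] at hx
      change Submodule.Quotient.mk (Submodule.inclusion hle x) = 0 at hx
      rw [Submodule.Quotient.mk_eq_zero] at hx
      rw [Submodule.mem_bot, Submodule.Quotient.mk_eq_zero]
      exact hx
  · intro y
    induction y using Submodule.Quotient.induction_on with
    | H y =>
      obtain ⟨m, hm, hmy⟩ := hsurj y.1 y.2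
      refine ⟨Submodule.Quotient.mk ⟨m, hm⟩, ?_⟩
      change Submodule.Quotient.mk (Submodule.inclusion hle ⟨m, hm⟩) = _
      rw [Submodule.Quotient.eq]
      exact hmy

theorem S19023
    (R : Type u) (F : Type v) [Ring R] [AddCommGroup F] [Module R F]
    (M N : ℕ → Submodule R F) (hM : Antitone M) (hN : Antitone N) (j l : ℕ)
    (h : M l ≤ M (l + 1) ⊔ (N (j + 1) ⊓ M l)) (i : ℕ) (hi : i ≤ j) :
    Function.Bijective
      (Submodule.mapQ ((N (i + 1)).comap (N i ⊓ M (l + 1)).subtype) ((N (i + 1)).comap (N i ⊓ M l).subtype)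
        (Submodule.inclusion (inf_le_inf_left (N i) (hM (Nat.le_succ l))))
        (fun x hx => hx)) := by
  apply mapQ_inclusion_bijective
  · intro x _ hx; exact hx
  · rintro y ⟨hyN, hyM⟩
    obtain ⟨m, hm, n, hn, rfl⟩ := Submodule.mem_sup.mp (h hyM)
    have hnN : n ∈ N (i + 1) := hN (by omega) hn.1
    have hnNi : n ∈ N i := hN (by omega) hn.1
    have hmN : m ∈ N i := by
      have := (N i).sub_mem hyN hnNi
      simpa using this
    refine ⟨m, ⟨hmN, hm⟩, ?_⟩
    have : m - (m + n) = -n := by abel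
    rw [this]
    exact (N (i+1)).neg_mem hnN
--START
theorem S19136 {E : Type u} [AddCommGroup E] [Module ℝ E]
    (p : Seminorm ℝ E) (ℓ : E →ₗ[ℝ] ℝ) (y₀ y₁ : E) (h₀ : 0 < p y₀) (h₁ : 0 < p y₁)
    (hℓ₀ : 0 ≤ ℓ y₀) (hℓ₁ : 0 ≤ ℓ y₁) (t : ℝ) (ht₀ : 0 < t) (ht₁ : t < 1)
    (hy : 0 < p (t • y₀ + (1 - t) • y₁)) :
    min (ℓ y₀ / p y₀) (ℓ y₁ / p y₁) ≤ ℓ (t • y₀ + (1 - t) • y₁) / p (t • y₀ + (1 - t) • y₁) ∧
      (ℓ (t • y₀ + (1 - t) • y₁) / p (t • y₀ + (1 - t) • y₁) = min (ℓ y₀ / p y₀) (ℓ y₁ / p y₁) →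
        ℓ y₀ / p y₀ = ℓ y₁ / p y₁) := by
  set μ := min (ℓ y₀ / p y₀) (ℓ y₁ / p y₁) with hμ
  have hμ0 : 0 ≤ μ := le_min (div_nonneg hℓ₀ h₀.le) (div_nonneg hℓ₁ h₁.le)
  have ha : μ * p y₀ ≤ ℓ y₀ := by
    have : μ ≤ ℓ y₀ / p y₀ := min_le_left _ _
    rwa [le_div_iff₀ h₀] at this
  have hb : μ * p y₁ ≤ ℓ y₁ := by
    have : μ ≤ ℓ y₁ / p y₁ := min_le_right _ _
    rwa [le_div_iff₀ h₁] at this
  have ht1 : 0 < 1 - t := by linarith
  have hconv : p (t • y₀ + (1 - t) • y₁) ≤ t * p y₀ + (1 - t) * p y₁ := by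
    calc p (t • y₀ + (1 - t) • y₁) ≤ p (t • y₀) + p ((1 - t) • y₁) := map_add_le_add p _ _
      _ = t * p y₀ + (1 - t) * p y₁ := by
        rw [map_smul_eq_mul, map_smul_eq_mul, Real.norm_of_nonneg ht₀.le, Real.norm_of_nonneg ht1.le]
  have hℓy : ℓ (t • y₀ + (1 - t) • y₁) = t * ℓ y₀ + (1 - t) * ℓ y₁ := by
    simp [map_add, map_smul]
  have hmain : μ * p (t • y₀ + (1 - t) • y₁) ≤ ℓ (t • y₀ + (1 - t) • y₁) := by
    rw [hℓy]
    nlinarith [mul_le_mul_of_nonneg_left hconv hμ0, mul_le_mul_of_nonneg_left ha ht₀.le,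
      mul_le_mul_of_nonneg_left hb ht1.le]
  refine ⟨by rw [le_div_iff₀ hy]; exact hmain, fun heq => ?_⟩
  rw [div_eq_iff hy.ne'] at heq
  rw [hℓy] at heq
  have e1 : ℓ y₀ = μ * p y₀ := by
    nlinarith [mul_le_mul_of_nonneg_left hconv hμ0, mul_le_mul_of_nonneg_left ha ht₀.le,
      mul_le_mul_of_nonneg_left hb ht1.le, mul_pos ht₀ ht1]
  have e2 : ℓ y₁ = μ * p y₁ := by
    nlinarith [mul_le_mul_of_nonneg_left hconv hμ0, mul_le_mul_of_nonneg_left ha ht₀.le,
      mul_le_mul_of_nonneg_left hb ht1.le, mul_pos ht₀ ht1]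
  rw [e1, e2, mul_div_assoc, mul_div_assoc, div_self h₀.ne', div_self h₁.ne']

theorem S19137 {E : Type u} [AddCommGroup E] [Module ℝ E]
    (p : Seminorm ℝ E)
    (hp : ∀ a b : E, p a ≠ 0 → p b ≠ 0 → (¬ ∃ c : ℝ, 0 < c ∧ b = c • a) → p (a + b) < p a + p b)
    (ℓ : E →ₗ[ℝ] ℝ) (y₀ y₁ : E) (h₀ : 0 < p y₀) (h₁ : 0 < p y₁)
    (hℓ₀ : 0 < ℓ y₀) (hℓ₁ : 0 < ℓ y₁) (hne : ¬ ∃ c : ℝ, 0 < c ∧ y₁ = c • y₀)
    (t : ℝ) (ht₀ : 0 < t) (ht₁ : t < 1) (hy : 0 < p (t • y₀ + (1 - t) • y₁)) :
    min (ℓ y₀ / p y₀) (ℓ y₁ / p y₁) < ℓ (t • y₀ + (1 - t) • y₁) / p (t • y₀ + (1 - t) • y₁) := by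
  set μ := min (ℓ y₀ / p y₀) (ℓ y₁ / p y₁) with hμ
  have hμ0 : 0 < μ := lt_min (div_pos hℓ₀ h₀) (div_pos hℓ₁ h₁)
  have ha : μ * p y₀ ≤ ℓ y₀ := by
    have : μ ≤ ℓ y₀ / p y₀ := min_le_left _ _
    rwa [le_div_iff₀ h₀] at this
  have hb : μ * p y₁ ≤ ℓ y₁ := by
    have : μ ≤ ℓ y₁ / p y₁ := min_le_right _ _
    rwa [le_div_iff₀ h₁] at this
  have ht1 : 0 < 1 - t := by linarith
  have e0 : p (t • y₀) = t * p y₀ := by rw [map_smul_eq_mul, Real.norm_of_nonneg ht₀.le]
  have e1 : p ((1 - t) • y₁) = (1 - t) * p y₁ := by rw [map_smul_eq_mul, Real.norm_of_nonneg ht1.le]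
  have hconv : p (t • y₀ + (1 - t) • y₁) < t * p y₀ + (1 - t) * p y₁ := by
    rw [← e0, ← e1]
    apply hp
    · rw [e0]; exact (mul_pos ht₀ h₀).ne'
    · rw [e1]; exact (mul_pos ht1 h₁).ne'
    · rintro ⟨c, hc, hcc⟩
      apply hne
      refine ⟨c * t / (1 - t), by positivity, ?_⟩
      have : y₁ = (1 - t)⁻¹ • ((1 - t) • y₁) := by
        rw [smul_smul, inv_mul_cancel₀ ht1.ne', one_smul]
      rw [this, hcc, smul_smul, smul_smul]
      congr 1
      field_simp
  have hℓy : ℓ (t • y₀ + (1 - t) • y₁) = t * ℓ y₀ + (1 - t) * ℓ y₁ := by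
    simp [map_add, map_smul]
  rw [lt_div_iff₀ hy, hℓy]
  nlinarith [mul_lt_mul_of_pos_left hconv hμ0, mul_le_mul_of_nonneg_left ha ht₀.le,
      mul_le_mul_of_nonneg_left hb ht1.le]
--START
theorem S19231
    (k : Type u) [Field k] (σ : k →+* k) (V : Type v) [AddCommGroup V] [Module k V]
    (d : ℕ) (e e' : Module.Basis (Fin d) k V) (T : V →ₛₗ[σ] V)
    (P A A' : Matrix (Fin d) (Fin d) k)
    (hP : ∀ j, e' j = ∑ i, P i j • e i)
    (hA : ∀ j, T (e j) = ∑ i, A i j • e i)
    (hA' : ∀ j, T (e' j) = ∑ i, A' i j • e' i) :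
    P * A' = A * P.map ⇑σ := by
  ext m j
  have h1 : T (e' j) = ∑ m, (A * P.map ⇑σ) m j • e m := by
    rw [hP j, map_sum]
    simp only [LinearMap.map_smulₛₗ, hA, Finset.smul_sum, smul_smul]
    rw [Finset.sum_comm]
    refine Finset.sum_congr rfl fun m _ => ?_
    rw [← Finset.sum_smul]
    congr 1
    rw [Matrix.mul_apply]
    refine Finset.sum_congr rfl fun i _ => ?_
    rw [Matrix.map_apply, mul_comm]
  have h2 : T (e' j) = ∑ m, (P * A') m j • e m := by
    rw [hA' j]
    simp only [hP, Finset.smul_sum, smul_smul]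
    rw [Finset.sum_comm]
    refine Finset.sum_congr rfl fun m _ => ?_
    rw [← Finset.sum_smul]
    congr 1
    rw [Matrix.mul_apply]
    refine Finset.sum_congr rfl fun i _ => ?_
    rw [mul_comm]
  have h3 := congrArg (fun v => e.repr v m) (h2.symm.trans h1)
  simp only [Module.Basis.repr_sum_self] at h3
  exact h3
--START
theorem S19440 (k : Type u) [Field k] (n : ℕ)
    (U V : Matrix (Fin n) (Fin n) k) (hUV : U * V = V * U) (e : Fin n → k)
    (he : Submodule.span k (Set.range fun p : ℕ × ℕ => (U ^ p.1 * V ^ p.2).mulVec e) = ⊤)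
    (T : Matrix.GeneralLinearGroup (Fin n) k)
    (hTU : (T : Matrix (Fin n) (Fin n) k) * U = U * T) (hTV : (T : Matrix (Fin n) (Fin n) k) * V = V * T)
    (hTe : (T : Matrix (Fin n) (Fin n) k).mulVec e = e) : T = 1 := by
  set Tm : Matrix (Fin n) (Fin n) k := (T : Matrix (Fin n) (Fin n) k) with hTm
  have hcU : Commute Tm U := hTU
  have hcV : Commute Tm V := hTV
  have hlin : Matrix.toLin' Tm = LinearMap.id := by
    apply LinearMap.ext_on_range he
    rintro ⟨p, q⟩
    simp only [Matrix.toLin'_apply, LinearMap.id_apply, Matrix.mulVec_mulVec]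
    have hc : Commute Tm (U ^ p * V ^ q) := (hcU.pow_right p).mul_right (hcV.pow_right q)
    rw [hc.eq, ← Matrix.mulVec_mulVec, hTe]
  have hT1 : Tm = 1 := by
    apply Matrix.toLin'.injective
    rw [hlin, Matrix.toLin'_one]
  apply Units.ext
  exact hT1
--START
theorem S19443 (k : Type u) [Field k]
    (G : Type u) [Group G] [Finite G] (hG : (Nat.card G : k) ≠ 0)
    (V : Type u) [AddCommGroup V] [Module k V] (ρ : Representation k G V)
    (ω : LinearMap.BilinForm k V) (hω : ω.Nondegenerate)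
    (hinv : ∀ (g : G) (v w : V), ω (ρ g v) (ρ g w) = ω v w) :
    (ω.restrict ρ.invariants).Nondegenerate := by
  classical
  have : Fintype G := Fintype.ofFinite G
  set c : k := (Nat.card G : k) with hc
  have hcard : (Fintype.card G : k) = c := by rw [hc, Nat.card_eq_fintype_card]
  let av : V → V := fun u => c⁻¹ • ∑ g : G, ρ g u
  have hav : ∀ u, av u ∈ ρ.invariants := by
    intro u h
    simp only [av, map_smul, map_sum]
    congr 1
    have : ∀ g : G, ρ h (ρ g u) = ρ (h * g) u := fun g => by rw [map_mul]; rfl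
    simp only [this]
    exact Fintype.sum_bijective (fun g => h * g) (Group.mulLeft_bijective h) _ _ (fun g => rfl)
  have h1 : ∀ v ∈ ρ.invariants, ∀ u, ω v (av u) = ω v u := by
    intro v hv u
    simp only [av, map_smul, map_sum, smul_eq_mul]
    have : ∀ g : G, ω v (ρ g u) = ω v u := by
      intro g
      conv_lhs => rw [← hv g]
      exact hinv g v u
    simp only [this, Finset.sum_const, Finset.card_univ, nsmul_eq_mul, hcard]
    rw [← mul_assoc, inv_mul_cancel₀ hG, one_mul]
  have h2 : ∀ v ∈ ρ.invariants, ∀ u, ω (av u) v = ω u v := by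
    intro v hv u
    simp only [av, map_smul, map_sum, smul_eq_mul, LinearMap.smul_apply, LinearMap.sum_apply]
    have : ∀ g : G, ω (ρ g u) v = ω u v := by
      intro g
      conv_lhs => rw [← hv g]
      exact hinv g u v
    simp only [this, Finset.sum_const, Finset.card_univ, nsmul_eq_mul, hcard]
    rw [← mul_assoc, inv_mul_cancel₀ hG, one_mul]
  constructor
  · intro x hx
    apply Subtype.ext
    apply hω.1
    intro u
    rw [← h1 x.1 x.2 u]
    exact hx ⟨av u, hav u⟩
  · intro y hy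
    apply Subtype.ext
    apply hω.2
    intro u
    rw [← h2 y.1 y.2 u]
    exact hy ⟨av u, hav u⟩
--START
theorem S19436 (k : Type u) [Field k] (R : Type u) [CommRing R]
    [Algebra k R] [IsNoetherianRing R] [IsLocalRing R] (I : Ideal R) [Module.Finite k (R ⧸ I)] (n : ℕ)
    (hn : Module.finrank k (R ⧸ I) = n) : IsLocalRing.maximalIdeal R ^ n ≤ I := by
  set M := IsLocalRing.maximalIdeal R with hM
  set mk := Ideal.Quotient.mk I with hmk
  let W : ℕ → Submodule k (R ⧸ I) := fun j => ((M ^ j).map mk).restrictScalars k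
  have hWanti : ∀ j, W (j + 1) ≤ W j := by
    intro j x hx
    exact Ideal.map_mono (Ideal.pow_le_pow_right (Nat.le_succ j)) hx
  have hjac : M.map mk ≤ Ideal.jacobson (⊥ : Ideal (R ⧸ I)) := by
    rw [Ideal.map_le_iff_le_comap]
    intro x hx
    rw [Ideal.mem_comap, Ideal.mem_jacobson_bot]
    intro y
    obtain ⟨y', rfl⟩ := Ideal.Quotient.mk_surjective y
    have hu : IsUnit (x * y' + 1) := by
      have hmem : x * y' ∈ M := Ideal.mul_mem_right _ _ hx
      by_contra hnu
      have h1 : x * y' + 1 ∈ M := (IsLocalRing.mem_maximalIdeal _).mpr hnu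
      have : (1 : R) ∈ M := by
        have := M.sub_mem h1 hmem
        simpa using this
      exact (IsLocalRing.maximalIdeal.isMaximal R).ne_top ((Ideal.eq_top_iff_one _).mpr this)
    have := hu.map mk
    simpa [hmk] using this
  have hNak : ∀ j, W (j + 1) = W j → W j = ⊥ := by
    intro j hj
    have h1 : (M ^ (j + 1)).map mk = (M ^ j).map mk := by
      have := congrArg (fun S : Submodule k (R ⧸ I) => (S : Set (R ⧸ I))) hj
      exact SetLike.coe_injective this
    have h2 : (M ^ j).map mk ≤ M.map mk • (M ^ j).map mk := by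
      rw [smul_eq_mul, ← Ideal.map_mul, ← pow_succ', h1]
    have h3 : (M ^ j).map mk = ⊥ :=
      Submodule.eq_bot_of_le_smul_of_le_jacobson_bot (M.map mk) _
        (IsNoetherian.noetherian _) h2 hjac
    apply SetLike.coe_injective
    change (((M ^ j).map mk : Ideal (R ⧸ I)) : Set (R ⧸ I)) = _
    rw [h3]
    rfl
  have hind : ∀ j, Module.finrank k (W j) + j ≤ n ∨ W j = ⊥ := by
    intro j
    induction j with
    | zero =>
      left
      rw [add_zero, ← hn]
      exact Submodule.finrank_le _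
    | succ j ih =>
      rcases ih with ih | ih
      · by_cases heq : W (j + 1) = W j
        · right
          rw [heq]
          exact hNak j heq
        · left
          have hlt : W (j + 1) < W j := lt_of_le_of_ne (hWanti j) heq
          have := Submodule.finrank_lt_finrank_of_lt hlt
          omega
      · right
        rw [eq_bot_iff, ← ih]
        exact hWanti j
  have hWn : W n = ⊥ := by
    rcases hind n with h | h
    · have : Module.finrank k (W n) = 0 := by omega
      exact Submodule.finrank_eq_zero.mp this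
    · exact h
  intro x hx
  have h1 : mk x ∈ W n := Ideal.mem_map_of_mem mk hx
  rw [hWn, Submodule.mem_bot] at h1
  exact Ideal.Quotient.eq_zero_iff_mem.mp h1
--START
noncomputable instance divQNat : DivisibleBy ℚ ℕ := AddGroup.divisibleByNatOfDivisibleByInt ℚ

noncomputable instance divQZ : DivisibleBy (ℚ ⧸ AddSubgroup.zmultiples (1 : ℚ)) ℤ :=
  AddGroup.divisibleByIntOfDivisibleByNat _

theorem isOpen_of_le_of_isOpen {B : Type*} [AddCommGroup B] [TopologicalSpace B]
    [IsTopologicalAddGroup B] (U H : AddSubgroup B) (hle : U ≤ H) (hU : IsOpen (U : Set B)) :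
    IsOpen (H : Set B) :=
  AddSubgroup.isOpen_mono hle hU

theorem S19167
    {A : Type u} {B : Type v} [AddCommGroup A] [TopologicalSpace A] [IsTopologicalAddGroup A]
    [AddCommGroup B] [TopologicalSpace B] [IsTopologicalAddGroup B]
    (i : A →+ B) (hi : Continuous i) (hinj : Function.Injective i) (hind : Topology.IsInducing i)
    (hopen : IsOpen (Set.range i))
    (χ : A →+ ℚ ⧸ AddSubgroup.zmultiples (1 : ℚ)) (hχ : IsOpen (χ.ker : Set A)) :
    ∃ ψ : B →+ ℚ ⧸ AddSubgroup.zmultiples (1 : ℚ), IsOpen (ψ.ker : Set B) ∧ ψ.comp i = χ := by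
  obtain ⟨ψ, hψ⟩ := (Module.Baer.of_divisible (ℚ ⧸ AddSubgroup.zmultiples (1 : ℚ))).extension_property_addMonoidHom i hinj χ
  refine ⟨ψ, ?_, hψ⟩
  have hoe : Topology.IsOpenEmbedding i := ⟨⟨hind, hinj⟩, hopen⟩
  have hU : IsOpen ((χ.ker.map i : AddSubgroup B) : Set B) := by
    rw [AddSubgroup.coe_map]
    exact hoe.isOpenMap _ hχ
  refine isOpen_of_le_of_isOpen _ _ ?_ hU
  rintro _ ⟨a, ha, rfl⟩
  rw [AddMonoidHom.mem_ker, ← AddMonoidHom.comp_apply, hψ]
  exact ha

theorem S19168
    {B : Type u} {C : Type v} [AddCommGroup B] [TopologicalSpace B] [IsTopologicalAddGroup B]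
    [AddCommGroup C] [TopologicalSpace C] [IsTopologicalAddGroup C]
    (p : B →+ C) (hp : Continuous p) (hpo : IsOpenMap p) (hps : Function.Surjective p)
    (χ : B →+ ℚ ⧸ AddSubgroup.zmultiples (1 : ℚ)) (hχ : IsOpen (χ.ker : Set B)) (hχp : p.ker ≤ χ.ker) :
    ∃ φ : C →+ ℚ ⧸ AddSubgroup.zmultiples (1 : ℚ), IsOpen (φ.ker : Set C) ∧ φ.comp p = χ := by
  let φ := p.liftOfRightInverse (Function.surjInv hps) (Function.rightInverse_surjInv hps) ⟨χ, hχp⟩
  have hφ : φ.comp p = χ :=
    p.liftOfRightInverse_comp (Function.surjInv hps) (Function.rightInverse_surjInv hps) ⟨χ, hχp⟩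
  refine ⟨φ, ?_, hφ⟩
  have hU : IsOpen ((χ.ker.map p : AddSubgroup C) : Set C) := by
    rw [AddSubgroup.coe_map]
    exact hpo _ hχ
  refine isOpen_of_le_of_isOpen _ _ ?_ hU
  rintro _ ⟨a, ha, rfl⟩
  rw [AddMonoidHom.mem_ker, ← AddMonoidHom.comp_apply, hφ]
  exact ha
--START
theorem isAddTorsion_QmodZ : AddMonoid.IsTorsion (ℚ ⧸ AddSubgroup.zmultiples (1 : ℚ)) := by
  intro x
  obtain ⟨q, rfl⟩ := QuotientAddGroup.mk_surjective x
  rw [isOfFinAddOrder_iff_nsmul_eq_zero]
  refine ⟨q.den, q.den_pos, ?_⟩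
  rw [← QuotientAddGroup.mk_nsmul, QuotientAddGroup.eq_zero_iff, AddSubgroup.mem_zmultiples_iff]
  refine ⟨q.num, ?_⟩
  rw [zsmul_eq_mul, mul_one, nsmul_eq_mul]
  exact (Rat.den_mul_eq_num q).symm

theorem S19170
    {B : Type u} [AddCommGroup B] [TopologicalSpace B] [IsTopologicalAddGroup B]
    (hcg : ∃ K : Set B, IsCompact K ∧ AddSubgroup.closure K = ⊤)
    (χ : B →+ ℚ ⧸ AddSubgroup.zmultiples (1 : ℚ)) (hχ : IsOpen (χ.ker : Set B)) : χ.ker.FiniteIndex := by
  obtain ⟨K, hK, hKgen⟩ := hcg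
  have hfib : ∀ d, IsOpen (χ ⁻¹' {d}) := by
    intro d
    by_cases h : ∃ x₀, χ x₀ = d
    · obtain ⟨x₀, rfl⟩ := h
      have : χ ⁻¹' {χ x₀} = (fun x => x - x₀) ⁻¹' (χ.ker : Set B) := by
        ext x; simp [AddMonoidHom.mem_ker, sub_eq_zero]
      rw [this]
      exact hχ.preimage (continuous_id.sub continuous_const)
    · convert isOpen_empty
      ext x
      simp only [Set.mem_preimage, Set.mem_singleton_iff, Set.mem_empty_iff_false, iff_false]
      intro hx
      exact h ⟨x, hx⟩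
  obtain ⟨t, ht⟩ := hK.elim_finite_subcover (fun d => χ ⁻¹' {d}) hfib (by
    intro x _
    exact Set.mem_iUnion.mpr ⟨χ x, rfl⟩)
  have himg : (χ '' K).Finite := by
    refine t.finite_toSet.subset ?_
    rintro _ ⟨x, hx, rfl⟩
    obtain ⟨d, hd⟩ := Set.mem_iUnion.mp (ht hx)
    obtain ⟨hdt, hxd⟩ := Set.mem_iUnion.mp hd
    rw [Set.mem_preimage, Set.mem_singleton_iff] at hxd
    rw [hxd]
    exact hdt
  have hrange : χ.range = AddSubgroup.closure (χ '' K) := by
    rw [AddMonoidHom.range_eq_map, ← hKgen, AddMonoidHom.map_closure]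
  have hfg : AddGroup.FG χ.range := by
    rw [hrange]
    have : Finite (χ '' K) := himg
    exact AddGroup.closure_finite_fg _
  have htors : AddMonoid.IsTorsion χ.range := by
    intro x
    have := isAddTorsion_QmodZ x.1
    rw [isOfFinAddOrder_iff_nsmul_eq_zero] at this ⊢
    obtain ⟨n, hn, hx⟩ := this
    exact ⟨n, hn, Subtype.ext hx⟩
  have : Finite χ.range := AddCommGroup.finite_of_fg_isAddTorsion _ htors
  exact AddSubgroup.finiteIndex_ker χ
--START
theorem S19183 (A : Type u) [CommRing A] [Nontrivial A]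
    (f : A) (hf : f ∈ nonZeroDivisors A) :
    Module.Free A (Submodule.comap (LinearMap.fst A A A - LinearMap.snd A A A) (Ideal.span ({f} : Set A))) ∧
      Module.finrank A (Submodule.comap (LinearMap.fst A A A - LinearMap.snd A A A) (Ideal.span ({f} : Set A))) = 2 := by
  set P := Submodule.comap (LinearMap.fst A A A - LinearMap.snd A A A) (Ideal.span ({f} : Set A)) with hP
  have hmem : ∀ z : A × A, z ∈ P ↔ ∃ c, z.1 - z.2 = c * f := by
    intro z
    rw [hP, Submodule.mem_comap, Ideal.mem_span_singleton']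
    simp only [LinearMap.sub_apply, LinearMap.fst_apply, LinearMap.snd_apply]
    constructor
    · rintro ⟨c, hc⟩; exact ⟨c, hc.symm⟩
    · rintro ⟨c, hc⟩; exact ⟨c, hc.symm⟩
  let φ : (A × A) →ₗ[A] P :=
    { toFun := fun ac => ⟨(ac.1 + ac.2 * f, ac.1), (hmem _).mpr ⟨ac.2, by ring⟩⟩
      map_add' := by
        intro x y
        apply Subtype.ext
        simp only [Prod.fst_add, Prod.snd_add, Submodule.coe_add, Prod.mk_add_mk, Prod.mk.injEq]
        exact ⟨by ring, trivial⟩
      map_smul' := by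
        intro r x
        apply Subtype.ext
        simp only [Prod.smul_fst, Prod.smul_snd, smul_eq_mul, RingHom.id_apply, Submodule.coe_smul,
          Prod.smul_mk, Prod.mk.injEq]
        exact ⟨by ring, trivial⟩ }
  have hinj : Function.Injective φ := by
    rw [injective_iff_map_eq_zero]
    rintro ⟨a, c⟩ h
    have h1 := congrArg (fun z : P => (z : A × A)) h
    simp only [φ, LinearMap.coe_mk, AddHom.coe_mk, Submodule.coe_zero, Prod.mk_eq_zero] at h1
    obtain ⟨h1, h2⟩ := h1
    subst h2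
    rw [zero_add] at h1
    have : c = 0 := (mem_nonZeroDivisors_iff_right.mp hf) c h1
    rw [this]
    rfl
  have hsurj : Function.Surjective φ := by
    rintro ⟨⟨x, y⟩, hz⟩
    obtain ⟨c, hc⟩ := (hmem _).mp hz
    refine ⟨(y, c), ?_⟩
    apply Subtype.ext
    simp only [φ, LinearMap.coe_mk, AddHom.coe_mk, Prod.mk.injEq, and_true]
    simp only at hc
    rw [← hc]; ring
  let e : (A × A) ≃ₗ[A] P := LinearEquiv.ofBijective φ ⟨hinj, hsurj⟩
  refine ⟨Module.Free.of_equiv e, ?_⟩
  rw [← e.finrank_eq, Module.finrank_prod, Module.finrank_self]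
--START
theorem isLocalization_map_frobenius (p : ℕ) [Fact p.Prime] (A : Type u) [CommRing A] [CharP A p]
    (S : Submonoid A) (B : Type u) [CommRing B] [Algebra A B] [IsLocalization S B] :
    IsLocalization (S.map (frobenius A p)) B := by
  have hp : 0 < p := (Fact.out : p.Prime).pos
  refine ⟨?_, ?_, ?_⟩
  · rintro ⟨_, s, hs, rfl⟩
    simp only [frobenius_def, map_pow]
    exact (IsLocalization.map_units B ⟨s, hs⟩).pow p
  · intro b
    obtain ⟨⟨a, s⟩, h⟩ := IsLocalization.surj S b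
    refine ⟨⟨a * s.1 ^ (p - 1), ⟨s.1 ^ p, s.1, s.2, rfl⟩⟩, ?_⟩
    simp only at h ⊢
    rw [map_mul, ← h, map_pow, map_pow]
    have : p = (p - 1) + 1 := by omega
    conv_lhs => rw [this, pow_succ]
    ring
  · intro x y hxy
    obtain ⟨c, hc⟩ := (IsLocalization.eq_iff_exists S B).mp hxy
    refine ⟨⟨c.1 ^ p, c.1, c.2, rfl⟩, ?_⟩
    simp only
    have : p = (p - 1) + 1 := by omega
    rw [this, pow_succ, mul_assoc, mul_assoc, hc]

theorem S19092 (p : ℕ) [Fact p.Prime]
    (A : Type u) [CommRing A] [CharP A p] (hF : (frobenius A p).Finite) :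
    (∀ (I : Ideal A) [CharP (A ⧸ I) p], (frobenius (A ⧸ I) p).Finite) ∧
      ∀ (S : Submonoid A) (B : Type u) [CommRing B] [Algebra A B] [IsLocalization S B] [CharP B p],
        (frobenius B p).Finite := by
  constructor
  · intro I _
    have h1 : ((frobenius (A ⧸ I) p).comp (Ideal.Quotient.mk I)).Finite := by
      have : (frobenius (A ⧸ I) p).comp (Ideal.Quotient.mk I) =
          (Ideal.Quotient.mk I).comp (frobenius A p) := by
        ext a; simp [frobenius_def]
      rw [this]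
      exact (RingHom.Finite.of_surjective _ Ideal.Quotient.mk_surjective).comp hF
    exact RingHom.Finite.of_comp_finite h1
  · intro S B _ _ _ _
    have := isLocalization_map_frobenius p A S B
    have h1 := RingHom.finite_localizationPreserves (frobenius A p) S B B hF
    have h2 : (IsLocalization.map B (frobenius A p) (Submonoid.le_comap_map S) : B →+* B) =
        frobenius B p := by
      apply IsLocalization.ringHom_ext S
      ext a
      simp [IsLocalization.map_eq, frobenius_def]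
    rw [h2] at h1
    exact h1
--START
theorem mem_span_pow_smul_top_iff {A : Type*} [CommRing A] (x : A) (n : ℕ) (a : A) :
    a ∈ ((Ideal.span {x}) ^ n • ⊤ : Submodule A A) ↔ ∃ c, a = x ^ n * c := by
  rw [smul_eq_mul, Ideal.mul_top, Ideal.span_singleton_pow, Ideal.mem_span_singleton']
  constructor
  · rintro ⟨c, hc⟩; exact ⟨c, by rw [← hc, mul_comm]⟩
  · rintro ⟨c, hc⟩; exact ⟨c, by rw [hc, mul_comm]⟩

theorem S19609 (p : ℕ) [Fact p.Prime]
    {A B : Type u} [CommRing A] [CommRing B]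
    [IsAdicComplete (Ideal.span {(p : A)}) A] [IsAdicComplete (Ideal.span {(p : B)}) B]
    (hA : IsSMulRegular A (p : A)) (hB : IsSMulRegular B (p : B)) (u : A →+* B)
    (hinj : ∀ a : A, u a ∈ Ideal.span {(p : B)} → a ∈ Ideal.span {(p : A)})
    (hsurj : ∀ b : B, ∃ a : A, b - u a ∈ Ideal.span {(p : B)}) :
    Function.Bijective u := by
  have hup : u (p : A) = (p : B) := map_natCast u p
  constructor
  · rw [injective_iff_map_eq_zero]
    intro a ha
    -- a ∈ p^n A for all n
    have hn : ∀ n : ℕ, ∀ a : A, u a = 0 → ∃ c, a = (p : A) ^ n * c := by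
      intro n
      induction n with
      | zero => intro a _; exact ⟨a, by simp⟩
      | succ n ih =>
        intro a ha
        have h1 : a ∈ Ideal.span {(p : A)} := hinj a (by rw [ha]; exact Ideal.zero_mem _)
        obtain ⟨a₁, rfl⟩ := Ideal.mem_span_singleton'.mp h1
        have h2 : u a₁ = 0 := by
          rw [map_mul, hup] at ha
          have : (p : B) • u a₁ = (p : B) • 0 := by rw [smul_eq_mul, smul_zero, mul_comm]; exact ha
          exact hB this
        obtain ⟨c, rfl⟩ := ih a₁ h2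
        exact ⟨c, by ring⟩
    apply IsHausdorff.haus' (I := Ideal.span {(p : A)})
    intro n
    rw [SModEq.zero, mem_span_pow_smul_top_iff]
    exact hn n a ha
  · intro b
    -- sequences a_n, b_n with b_0 = b, b_n = u a_n + p b_{n+1}
    have hstep : ∀ b : B, ∃ a : A, ∃ b' : B, b = u a + (p : B) * b' := by
      intro b
      obtain ⟨a, ha⟩ := hsurj b
      obtain ⟨b', hb'⟩ := Ideal.mem_span_singleton'.mp ha
      exact ⟨a, b', by rw [mul_comm, hb']; ring⟩
    choose fa fb hfab using hstep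
    let bs : ℕ → B := fun n => Nat.rec b (fun _ x => fb x) n
    have hbs : ∀ n, bs n = u (fa (bs n)) + (p : B) * bs (n + 1) := fun n => hfab (bs n)
    let s : ℕ → A := fun n => ∑ i ∈ Finset.range n, (p : A) ^ i * fa (bs i)
    have hsb : ∀ n, b - u (s n) = (p : B) ^ n * bs n := by
      intro n
      induction n with
      | zero => simp [s, bs]
      | succ n ih =>
        have : s (n + 1) = s n + (p : A) ^ n * fa (bs n) := Finset.sum_range_succ _ _
        rw [this, map_add, map_mul, map_pow, hup]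
        have h3 : b - (u (s n) + (p : B) ^ n * u (fa (bs n))) = (b - u (s n)) - (p : B) ^ n * u (fa (bs n)) := by ring
        have h4 : (p : B) ^ n * bs n = (p : B) ^ n * (u (fa (bs n)) + (p : B) * bs (n + 1)) := by
          rw [← hbs n]
        rw [h3, ih, h4]
        ring
    obtain ⟨L, hL⟩ := IsPrecomplete.prec' (I := Ideal.span {(p : A)}) s (by
      intro m n hmn
      rw [SModEq.sub_mem, mem_span_pow_smul_top_iff]
      have : s m - s n = - ∑ i ∈ Finset.Ico m n, (p : A) ^ i * fa (bs i) := by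
        simp only [s]
        rw [Finset.sum_Ico_eq_sub _ hmn]; ring
      rw [this]
      refine ⟨- ∑ i ∈ Finset.Ico m n, (p : A) ^ (i - m) * fa (bs i), ?_⟩
      rw [mul_neg, Finset.mul_sum]
      congr 1
      refine Finset.sum_congr rfl fun i hi => ?_
      rw [← mul_assoc, ← pow_add]
      congr 2
      have := (Finset.mem_Ico.mp hi).1
      omega)
    refine ⟨L, ?_⟩
    symm
    rw [← sub_eq_zero]
    apply IsHausdorff.haus' (I := Ideal.span {(p : B)})
    intro n
    rw [SModEq.zero, mem_span_pow_smul_top_iff]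
    have h1 := hL n
    rw [SModEq.sub_mem, mem_span_pow_smul_top_iff] at h1
    obtain ⟨c, hc⟩ := h1
    refine ⟨bs n + u c, ?_⟩
    have : b - u L = (b - u (s n)) + u (s n - L) := by rw [map_sub]; ring
    rw [this, hsb, hc, map_mul, map_pow, hup]
    ring
--START
section Inv

variable {k : Type u} [Field k] {V : Type v} [AddCommGroup V] [Module k V]
  (B : LinearMap.BilinForm k V) (M : V ≃ₗ[k] V) (hM : ∀ x y : V, B (M x) (M y) = B x y)

include hM in
theorem bil_pow_pow (i : ℕ) (x y : V) :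
    B (((M : V →ₗ[k] V) ^ i) x) (((M : V →ₗ[k] V) ^ i) y) = B x y := by
  induction i generalizing x y with
  | zero => simp
  | succ i ih =>
    rw [pow_succ, Module.End.mul_apply, Module.End.mul_apply, ih]
    exact hM x y

include hM in
theorem bil_aeval_reverse (Q : k[X]) (x y : V) :
    B (Polynomial.aeval (M : V →ₗ[k] V) Q x) (((M : V →ₗ[k] V) ^ Q.natDegree) y) =
      B x (Polynomial.aeval (M : V →ₗ[k] V) Q.reverse y) := by
  set N := Q.natDegree with hN
  have h1 : Polynomial.aeval (M : V →ₗ[k] V) Q =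
      ∑ i ∈ Finset.range (N + 1), Q.coeff i • (M : V →ₗ[k] V) ^ i :=
    Polynomial.aeval_eq_sum_range _
  have h2 : Polynomial.aeval (M : V →ₗ[k] V) Q.reverse =
      ∑ i ∈ Finset.range (N + 1), Q.reverse.coeff i • (M : V →ₗ[k] V) ^ i :=
    Polynomial.aeval_eq_sum_range' (lt_of_le_of_lt (Polynomial.reverse_natDegree_le Q) (Nat.lt_succ_self N)) _
  rw [h1, h2]
  simp only [LinearMap.sum_apply, LinearMap.smul_apply, map_sum, map_smul, LinearMap.sum_apply,
    LinearMap.smul_apply, smul_eq_mul]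
  rw [← Finset.sum_range_reflect]
  refine Finset.sum_congr rfl fun j hj => ?_
  have hjN : j ≤ N := by
    have := Finset.mem_range.mp hj; omega
  have e1 : N + 1 - 1 - j = N - j := by omega
  rw [e1, Polynomial.coeff_reverse, ← hN, Polynomial.revAt_le hjN]
  congr 1
  have e3 : ((M : V →ₗ[k] V) ^ N) y = ((M : V →ₗ[k] V) ^ (N - j)) (((M : V →ₗ[k] V) ^ j) y) := by
    rw [← Module.End.mul_apply, ← pow_add]
    congr 2; omega
  rw [e3, bil_pow_pow B M hM]

include hM in
theorem bil_aeval_reverse_pow (Q : k[X]) (n : ℕ) (x y : V) :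
    B (Polynomial.aeval (M : V →ₗ[k] V) (Q ^ n) x)
        (Polynomial.aeval (M : V →ₗ[k] V) ((X : k[X]) ^ (Q.natDegree * n)) y) =
      B x (Polynomial.aeval (M : V →ₗ[k] V) (Q.reverse ^ n) y) := by
  induction n generalizing x y with
  | zero => simp
  | succ n ih =>
    have h1 : Polynomial.aeval (M : V →ₗ[k] V) (Q ^ (n + 1)) x =
        Polynomial.aeval (M : V →ₗ[k] V) Q (Polynomial.aeval (M : V →ₗ[k] V) (Q ^ n) x) := by
      rw [pow_succ', map_mul, Module.End.mul_apply]
    have h2 : Polynomial.aeval (M : V →ₗ[k] V) ((X : k[X]) ^ (Q.natDegree * (n + 1))) y =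
        ((M : V →ₗ[k] V) ^ Q.natDegree) (Polynomial.aeval (M : V →ₗ[k] V) ((X : k[X]) ^ (Q.natDegree * n)) y) := by
      rw [mul_add, mul_one, pow_add, mul_comm, map_mul, Module.End.mul_apply, map_pow, map_pow,
        Polynomial.aeval_X]
    rw [h1, h2, bil_aeval_reverse B M hM, ← Module.End.mul_apply, ← map_mul, mul_comm, map_mul,
      Module.End.mul_apply, ih, ← Module.End.mul_apply, ← map_mul, ← pow_succ]

end Inv

theorem S19651
    {k : Type u} [Field k] {V : Type v} [AddCommGroup V] [Module k V]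
    (B : LinearMap.BilinForm k V) (M : V ≃ₗ[k] V)
    (hM : ∀ x y : V, B (M x) (M y) = B x y)
    (Q₁ Q₂ : k[X]) (h : IsCoprime Q₁.reverse Q₂)
    (x y : V)
    (hx : ∃ n : ℕ, (Polynomial.aeval (M : V →ₗ[k] V) Q₁ ^ n) x = 0)
    (hy : ∃ n : ℕ, (Polynomial.aeval (M : V →ₗ[k] V) Q₂ ^ n) y = 0) :
    B x y = 0 := by
  obtain ⟨n, hn⟩ := hx
  obtain ⟨m, hm⟩ := hy
  have hcop : IsCoprime (Q₁.reverse ^ n) (Q₂ ^ m) := h.pow
  obtain ⟨a, b, hab⟩ := hcop
  have hy1 : y = Polynomial.aeval (M : V →ₗ[k] V) (Q₁.reverse ^ n)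
      (Polynomial.aeval (M : V →ₗ[k] V) a y) := by
    have h1 := congrArg (fun P => Polynomial.aeval (M : V →ₗ[k] V) P y) hab
    simp only [map_add, map_mul, map_one, LinearMap.add_apply, Module.End.mul_apply,
      Module.End.one_apply] at h1
    rw [map_pow (Polynomial.aeval (M : V →ₗ[k] V)) Q₂ m, hm, map_zero, add_zero] at h1
    have h2 : Polynomial.aeval (M : V →ₗ[k] V) (Q₁.reverse ^ n) (Polynomial.aeval (M : V →ₗ[k] V) a y) =
        Polynomial.aeval (M : V →ₗ[k] V) a (Polynomial.aeval (M : V →ₗ[k] V) (Q₁.reverse ^ n) y) := by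
      rw [← Module.End.mul_apply, ← Module.End.mul_apply, ← map_mul, ← map_mul, mul_comm]
    rw [h2, h1]
  rw [hy1, ← bil_aeval_reverse_pow B M hM, map_pow, hn]
  simp
--START
theorem S19591
    (K : Type u) [Field K] [CharP K 2] [PerfectField K]
    (V : Type v) [AddCommGroup V] [Module K V] [FiniteDimensional K V]
    (hV : 2 < Module.finrank K V) (q : QuadraticForm K V)
    (hq : (QuadraticMap.polarBilin q).Nondegenerate) :
    ∃ v : V, v ≠ 0 ∧ q v = 0 := by
  have : Fact (Nat.Prime 2) := ⟨Nat.prime_two⟩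
  have : Nontrivial V := Module.nontrivial_of_finrank_pos (R := K) (by omega)
  obtain ⟨v, hv⟩ := exists_ne (0 : V)
  by_cases hqv : q v = 0
  · exact ⟨v, hv, hqv⟩
  -- the functional B v
  set φ : V →ₗ[K] K := QuadraticMap.polarBilin q v with hφ
  have hker : 2 ≤ Module.finrank K (LinearMap.ker φ) := by
    have h1 := LinearMap.finrank_range_add_finrank_ker φ
    have h2 : Module.finrank K (LinearMap.range φ) ≤ 1 := by
      have := Submodule.finrank_le (LinearMap.range φ)
      rwa [Module.finrank_self] at this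
    omega
  have hex : ∃ w ∈ LinearMap.ker φ, w ∉ Submodule.span K {v} := by
    by_contra hcon
    push Not at hcon
    have hle : LinearMap.ker φ ≤ Submodule.span K {v} := hcon
    have h1 := Submodule.finrank_mono hle
    have h2 : Module.finrank K (Submodule.span K {v}) ≤ 1 := finrank_span_singleton hv |>.le
    omega
  obtain ⟨w, hwker, hwspan⟩ := hex
  have hBvw : QuadraticMap.polar q v w = 0 := by
    have := LinearMap.mem_ker.mp hwker
    simpa [hφ] using this
  obtain ⟨a, ha⟩ : ∃ a : K, a ^ 2 = q w / q v := by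
    have := surjective_frobenius K 2 (q w / q v)
    simpa [frobenius_def] using this
  refine ⟨a • v + w, ?_, ?_⟩
  · intro h0
    apply hwspan
    rw [Submodule.mem_span_singleton]
    exact ⟨-a, by rw [neg_smul]; exact (eq_neg_of_add_eq_zero_right h0).symm⟩
  · have h2 : (2 : K) = 0 := CharP.cast_eq_zero K 2
    rw [QuadraticMap.map_add (⇑q), QuadraticMap.map_smul, QuadraticMap.polar_smul_left, hBvw, smul_zero,
      add_zero, smul_eq_mul, ← pow_two, ha, div_mul_cancel₀ _ hqv]
    linear_combination (q w) * h2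
--START
section Euler

variable (k : Type u) [Field k]

/-- the Euler operator `T d/dT` on Laurent polynomials as a linear map -/
noncomputable def eulerLin : LaurentPolynomial k →ₗ[k] LaurentPolynomial k :=
  (AddMonoidAlgebra.coeffLinearEquiv k).symm.toLinearMap ∘ₗ
    (Finsupp.lsum k (fun n : ℤ => ((n : k) • Finsupp.lsingle n : k →ₗ[k] (ℤ →₀ k)))) ∘ₗ
    (AddMonoidAlgebra.coeffLinearEquiv k).toLinearMap

theorem eulerLin_single (n : ℤ) (a : k) :
    eulerLin k (AddMonoidAlgebra.single n a) = AddMonoidAlgebra.single n ((n : k) * a) := by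
  apply AddMonoidAlgebra.coeff_injective
  simp only [eulerLin, LinearMap.comp_apply, LinearEquiv.coe_coe, AddMonoidAlgebra.coeffLinearEquiv_apply,
    AddMonoidAlgebra.coeffLinearEquiv_symm_apply, AddMonoidAlgebra.coeff_single, Finsupp.lsum_single,
    AddMonoidAlgebra.coeff_ofCoeff, LinearMap.smul_apply, Finsupp.lsingle_apply, Finsupp.smul_single,
    smul_eq_mul]

theorem eulerLin_C_mul_T (n : ℤ) (a : k) :
    eulerLin k (LaurentPolynomial.C a * LaurentPolynomial.T n) =
      LaurentPolynomial.C ((n : k) * a) * LaurentPolynomial.T n := by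
  rw [← LaurentPolynomial.single_eq_C_mul_T, ← LaurentPolynomial.single_eq_C_mul_T, eulerLin_single]

theorem eulerLin_coeff (f : LaurentPolynomial k) (n : ℤ) :
    (eulerLin k f).coeff n = (n : k) * f.coeff n := by
  induction f using LaurentPolynomial.induction_on' with
  | add p q hp hq =>
    rw [map_add, AddMonoidAlgebra.coeff_add, Finsupp.add_apply, hp, hq, AddMonoidAlgebra.coeff_add,
      Finsupp.add_apply, mul_add]
  | C_mul_T m a =>
    rw [eulerLin_C_mul_T, ← LaurentPolynomial.single_eq_C_mul_T, ← LaurentPolynomial.single_eq_C_mul_T,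
      AddMonoidAlgebra.coeff_single, AddMonoidAlgebra.coeff_single]
    by_cases h : m = n
    · subst h; simp
    · simp [Finsupp.single_apply, h]

theorem eulerLin_leibniz (a b : LaurentPolynomial k) :
    eulerLin k (a * b) = a • eulerLin k b + b • eulerLin k a := by
  induction a using LaurentPolynomial.induction_on' with
  | add p q hp hq => rw [add_mul, map_add, hp, hq, map_add, add_smul, smul_add]; abel
  | C_mul_T m x =>
    induction b using LaurentPolynomial.induction_on' with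
    | add p q hp hq => rw [mul_add, map_add, hp, hq, map_add, add_smul, smul_add]; abel
    | C_mul_T n y =>
      have h1 : LaurentPolynomial.C x * LaurentPolynomial.T m * (LaurentPolynomial.C y * LaurentPolynomial.T n) =
          LaurentPolynomial.C (x * y) * LaurentPolynomial.T (m + n) := by
        rw [LaurentPolynomial.T_add, map_mul]; ring
      rw [h1, eulerLin_C_mul_T, eulerLin_C_mul_T, eulerLin_C_mul_T, smul_eq_mul, smul_eq_mul]
      rw [LaurentPolynomial.T_add]
      simp only [map_mul, Int.cast_add, map_add]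
      ring

noncomputable def eulerDer : Derivation k (LaurentPolynomial k) (LaurentPolynomial k) :=
  Derivation.mk' (eulerLin k) (eulerLin_leibniz k)

end Euler

theorem S19632 (k : Type u) [Field k] [CharZero k]
    (f : LaurentPolynomial k) :
    KaehlerDifferential.D k (LaurentPolynomial k) f = 0 ↔ f ∈ Set.range (algebraMap k (LaurentPolynomial k)) := by
  constructor
  · intro h
    have h1 : eulerDer k f = 0 := by
      rw [← (eulerDer k).liftKaehlerDifferential_comp_D, h, map_zero]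
    have h2 : ∀ n : ℤ, n ≠ 0 → f.coeff n = 0 := by
      intro n hn
      have := congrArg (fun g : LaurentPolynomial k => g.coeff n) h1
      change (eulerLin k f).coeff n = 0 at this
      rw [eulerLin_coeff] at this
      rcases mul_eq_zero.mp this with h | h
      · exact absurd (Int.cast_eq_zero.mp h) hn
      · exact h
    refine ⟨f.coeff 0, ?_⟩
    rw [LaurentPolynomial.algebraMap_apply]
    apply AddMonoidAlgebra.coeff_injective
    ext n
    rw [← LaurentPolynomial.single_eq_C, AddMonoidAlgebra.coeff_single]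
    by_cases hn : n = 0
    · subst hn
      simp
    · rw [h2 n hn, Finsupp.single_apply, if_neg (Ne.symm hn)]
  · rintro ⟨c, rfl⟩
    exact (KaehlerDifferential.D k (LaurentPolynomial k)).map_algebraMap c
--START
theorem S19652
    {k : Type u} [Field k] {V : Type v} [AddCommGroup V] [Module k V] [FiniteDimensional k V]
    (B : LinearMap.BilinForm k V) (hB : B.Nondegenerate) (M : V ≃ₗ[k] V)
    (hM : ∀ x y : V, B (M x) (M y) = B x y)
    (Q : k[X]) (hQ : Associated Q Q.reverse) :
    (B.restrict (⨆ n : ℕ, LinearMap.ker (Polynomial.aeval (M : V →ₗ[k] V) Q ^ n))).Nondegenerate := by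
  set f : Module.End k V := Polynomial.aeval (M : V →ₗ[k] V) Q with hf
  obtain ⟨n, hn⟩ := ((f.eventually_isCompl_ker_pow_range_pow).and
    (f.eventually_iSup_ker_pow_eq)).exists
  obtain ⟨hcompl, hsup⟩ := hn
  -- the unit
  obtain ⟨u, hu⟩ := hQ
  obtain ⟨c, hc, hcu⟩ := Polynomial.isUnit_iff.mp u.isUnit
  have hc0 : c ≠ 0 := hc.ne_zero
  have hrev : Q.reverse ^ n = Q ^ n * C (c ^ n) := by
    rw [← hu, ← hcu, mul_pow, ← C_pow]
  have hrevM : ∀ y : V, Polynomial.aeval (M : V →ₗ[k] V) (Q.reverse ^ n) y = c ^ n • (f ^ n) y := by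
    intro y
    rw [hrev, mul_comm, map_mul, Module.End.mul_apply, Polynomial.aeval_C, ← map_pow,
      Module.algebraMap_end_apply, map_pow]
  -- key orthogonality: ker f^n ⟂ range f^n on both sides
  have hleft : ∀ x ∈ LinearMap.ker (f ^ n), ∀ y : V, B x ((f ^ n) y) = 0 := by
    intro x hx y
    have h1 := bil_aeval_reverse_pow B M hM Q n x y
    rw [map_pow, LinearMap.mem_ker.mp hx, hrevM] at h1
    simp only [map_zero, LinearMap.zero_apply, map_smul, smul_eq_mul] at h1
    have := h1.symm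
    rcases mul_eq_zero.mp this with h | h
    · exact absurd h (pow_ne_zero n hc0)
    · exact h
  have hright : ∀ y ∈ LinearMap.ker (f ^ n), ∀ x : V, B ((f ^ n) x) y = 0 := by
    intro y hy x
    -- y = M^{Nn} y'' with y'' = M^{-Nn} y
    set P := Polynomial.aeval (M : V →ₗ[k] V) ((X : k[X]) ^ (Q.natDegree * n)) with hP
    have hPeq : P = (M : V →ₗ[k] V) ^ (Q.natDegree * n) := by
      rw [hP, map_pow, Polynomial.aeval_X]
    have hPsurj : Function.Surjective P := by
      rw [hPeq]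
      intro z
      refine ⟨((M.symm : V →ₗ[k] V) ^ (Q.natDegree * n)) z, ?_⟩
      have hMM : (M : V →ₗ[k] V) * (M.symm : V →ₗ[k] V) = 1 := by
        ext v; simp
      have hMM' : (M.symm : V →ₗ[k] V) * (M : V →ₗ[k] V) = 1 := by
        ext v; simp
      have hcomm : Commute (M : V →ₗ[k] V) (M.symm : V →ₗ[k] V) := by
        rw [Commute, SemiconjBy, hMM, hMM']
      rw [← Module.End.mul_apply, ← hcomm.mul_pow, hMM, one_pow]; rfl
    have hPinj : Function.Injective P := by
      rw [hPeq]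
      intro a b hab
      have h1 := congrArg ((M.symm : V →ₗ[k] V) ^ (Q.natDegree * n)) hab
      have hMM : (M : V →ₗ[k] V) * (M.symm : V →ₗ[k] V) = 1 := by
        ext v; simp
      have hMM' : (M.symm : V →ₗ[k] V) * (M : V →ₗ[k] V) = 1 := by
        ext v; simp
      have hcomm : Commute (M.symm : V →ₗ[k] V) (M : V →ₗ[k] V) := by
        rw [Commute, SemiconjBy, hMM, hMM']
      rw [← Module.End.mul_apply, ← Module.End.mul_apply, ← hcomm.mul_pow, hMM', one_pow] at h1
      exact h1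
    obtain ⟨y'', hy''⟩ := hPsurj y
    have hfy'' : (f ^ n) y'' = 0 := by
      apply hPinj
      rw [map_zero, hf, ← map_pow, ← Module.End.mul_apply, ← map_mul, mul_comm, map_mul,
        Module.End.mul_apply, hy'', map_pow]
      exact LinearMap.mem_ker.mp hy
    have h1 := bil_aeval_reverse_pow B M hM Q n x y''
    rw [hrevM, hfy'', smul_zero, map_zero, map_pow, ← hP, hy''] at h1
    exact h1
  have hW : (⨆ m : ℕ, LinearMap.ker (f ^ m)) = LinearMap.ker (f ^ n) := hsup
  rw [hW]
  have hdecomp : ∀ v : V, ∃ w ∈ LinearMap.ker (f ^ n), ∃ z : V, v = w + (f ^ n) z := by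
    intro v
    have : v ∈ LinearMap.ker (f ^ n) ⊔ LinearMap.range (f ^ n) := by
      rw [hcompl.sup_eq_top]; trivial
    obtain ⟨w, hw, r, ⟨z, rfl⟩, rfl⟩ := Submodule.mem_sup.mp this
    exact ⟨w, hw, z, rfl⟩
  constructor
  · intro x hx
    apply Subtype.ext
    apply hB.1
    intro v
    obtain ⟨w, hw, z, rfl⟩ := hdecomp v
    rw [map_add, hleft x.1 x.2 z, add_zero]
    exact hx ⟨w, hw⟩
  · intro y hy
    apply Subtype.ext
    apply hB.2
    intro v
    obtain ⟨w, hw, z, rfl⟩ := hdecomp v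
    rw [map_add, LinearMap.add_apply, hright y.1 y.2 z, add_zero]
    exact hy ⟨w, hw⟩
end Groth.Agent.LD.NP
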