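import Groth.Prelude.Def_PP16
import Mathlib

set_option autoImplicit false
universe u
open PP16
open scoped TensorProduct

namespace Groth.Agent.LD.PP

--MARK1
/-- General lemma: for a surjective ring hom `φ : T → T'`, `I' = I.map φ`, the induced map
`T/I^m → T'/I'^m` (given as any ring hom `ψ` compatible with `φ`) is surjective with kernel the image of `ker φ`. -/
theorem quot_pow_map_surj {T T' : Type*} [CommRing T] [CommRing T'] (φ : T →+* T')
    (hφ : Function.Surjective φ) (J : Ideal T) (J' : Ideal T')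
    (ψ : T ⧸ J →+* T' ⧸ J')
    (hψ : ∀ x, ψ (Ideal.Quotient.mk J x) = Ideal.Quotient.mk J' (φ x)) :
    Function.Surjective ψ := by
  intro y
  obtain ⟨y, rfl⟩ := Ideal.Quotient.mk_surjective y
  obtain ⟨x, rfl⟩ := hφ y
  exact ⟨Ideal.Quotient.mk J x, hψ x⟩

theorem quot_pow_map_ker {T T' : Type*} [CommRing T] [CommRing T'] (φ : T →+* T')
    (hφ : Function.Surjective φ) (J : Ideal T) (J' : Ideal T') (hJ : J' = J.map φ)
    (ψ : T ⧸ J →+* T' ⧸ J')
    (hψ : ∀ x, ψ (Ideal.Quotient.mk J x) = Ideal.Quotient.mk J' (φ x)) :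
    RingHom.ker ψ = (RingHom.ker φ).map (Ideal.Quotient.mk J) := by
  ext x
  obtain ⟨x, rfl⟩ := Ideal.Quotient.mk_surjective x
  rw [RingHom.mem_ker, hψ, Ideal.Quotient.eq_zero_iff_mem, hJ,
    Ideal.mem_map_iff_of_surjective _ Ideal.Quotient.mk_surjective,
    Ideal.mem_map_iff_of_surjective _ hφ]
  constructor
  · rintro ⟨y, hy, hyx⟩
    refine ⟨x - y, ?_, ?_⟩
    · rw [RingHom.mem_ker, map_sub, hyx, sub_self]
    · rw [map_sub, sub_eq_self, Ideal.Quotient.eq_zero_iff_mem]
      exact hy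
  · rintro ⟨y, hy, hyx⟩
    rw [Ideal.Quotient.eq] at hyx
    refine ⟨x - y, ?_, ?_⟩
    · have : x - y = -(y - x) := by ring
      rw [this]
      exact J.neg_mem hyx
    · rw [map_sub, (RingHom.mem_ker).1 hy, sub_zero]

--MARK2
section
variable (n : ℕ) (A B A' B' : Type u) [CommRing A] [CommRing B] [Algebra A B]
  [CommRing A'] [CommRing B'] [Algebra A' B'] [Algebra A A'] [Algebra B B'] [Algebra A B']
  [IsScalarTower A A' B'] [IsScalarTower A B B']

theorem ideal_map_tensorMap_eq (h : Function.Surjective (algebraMap B B')) :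
    (KaehlerDifferential.ideal A B).map (tensorMap A B A' B') = KaehlerDifferential.ideal A' B' := by
  apply le_antisymm (ideal_map_tensorMap_le A B A' B')
  rw [← KaehlerDifferential.span_range_eq_ideal, Ideal.span_le]
  rintro _ ⟨s, rfl⟩
  obtain ⟨b, rfl⟩ := h s
  have : (1 : B') ⊗ₜ[A'] algebraMap B B' b - algebraMap B B' b ⊗ₜ[A'] (1 : B') =
      tensorMap A B A' B' ((1 : B) ⊗ₜ[A] b - b ⊗ₜ[A] (1 : B)) := by
    rw [map_sub, tensorMap_tmul, tensorMap_tmul, map_one]
  show (1 : B') ⊗ₜ[A'] algebraMap B B' b - algebraMap B B' b ⊗ₜ[A'] (1 : B') ∈ _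
  rw [this]
  exact Ideal.mem_map_of_mem _ (KaehlerDifferential.one_smul_sub_smul_one_mem_ideal A b)

theorem map_surjective_of_tensorMap (h : Function.Surjective (tensorMap A B A' B')) :
    Function.Surjective (PP16.map n A B A' B') :=
  quot_pow_map_surj (tensorMap A B A' B').toRingHom h _ _ (PP16.map n A B A' B').toRingHom
    (fun x => map_mk n A B A' B' x)

theorem ker_map_of_tensorMap (h : Function.Surjective (tensorMap A B A' B'))
    (h' : Function.Surjective (algebraMap B B')) :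
    RingHom.ker (PP16.map n A B A' B') = (RingHom.ker (tensorMap A B A' B')).map
      (Ideal.Quotient.mk ((KaehlerDifferential.ideal A B) ^ (n + 1))) := by
  refine quot_pow_map_ker (tensorMap A B A' B').toRingHom h _ _ ?_ (PP16.map n A B A' B').toRingHom
    (fun x => map_mk n A B A' B' x)
  rw [← ideal_map_tensorMap_eq A B A' B' h', Ideal.map_pow]
  rfl

end

section
variable (A B B' : Type u) [CommRing A] [CommRing B] [Algebra A B]
  [CommRing B'] [Algebra B B'] [Algebra A B'] [IsScalarTower A B B']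

theorem tensorMap_eq_map : tensorMap A B A B' =
    Algebra.TensorProduct.map (IsScalarTower.toAlgHom A B B') (IsScalarTower.toAlgHom A B B') := by
  apply Algebra.TensorProduct.ext'
  intro a b
  rw [tensorMap_tmul]
  simp

end

theorem S3810 (n : ℕ) (A B : Type u) [CommRing A] [CommRing B] [Algebra A B]
    (K : Ideal B) :
    Function.Surjective (PP16.map n A B A (B ⧸ K)) ∧
      RingHom.ker (PP16.map n A B A (B ⧸ K)) =
        K.map (algebraMap B (PP16.P n A B)) ⊔ K.map (PP16.dn n A B) := by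
  have hsurj : Function.Surjective (algebraMap B (B ⧸ K)) := Ideal.Quotient.mk_surjective
  have hsurj' : Function.Surjective (IsScalarTower.toAlgHom A B (B ⧸ K)) := hsurj
  have hφ : Function.Surjective (tensorMap A B A (B ⧸ K)) := by
    rw [tensorMap_eq_map]
    exact Algebra.TensorProduct.map_surjective _ _ hsurj' hsurj'
  refine ⟨map_surjective_of_tensorMap n A B A (B ⧸ K) hφ, ?_⟩
  rw [ker_map_of_tensorMap n A B A (B ⧸ K) hφ hsurj, tensorMap_eq_map,
    Algebra.TensorProduct.map_ker _ _ hsurj' hsurj', Ideal.map_sup]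
  have hk : RingHom.ker (IsScalarTower.toAlgHom A B (B ⧸ K)) = K := by
    ext x
    rw [RingHom.mem_ker]
    exact Ideal.Quotient.eq_zero_iff_mem
  rw [hk]
  congr 1
  · rw [AlgHom.coe_ideal_map, Ideal.map_map]
    rfl
  · rw [AlgHom.coe_ideal_map, Ideal.map_map]
    rfl

--MARK3
section tower
variable (n : ℕ) (A B C : Type u) [CommRing A] [CommRing B] [CommRing C]
    [Algebra A B] [Algebra B C] [Algebra A C] [IsScalarTower A B C]

theorem tensorMap_tower_surjective : Function.Surjective (tensorMap A C B C) := by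
  intro y
  induction y using TensorProduct.induction_on with
  | zero => exact ⟨0, map_zero _⟩
  | tmul a b => exact ⟨a ⊗ₜ[A] b, by rw [tensorMap_tmul]; simp⟩
  | add a b ha hb =>
    obtain ⟨x, rfl⟩ := ha
    obtain ⟨y, rfl⟩ := hb
    exact ⟨x + y, map_add _ _ _⟩

theorem smul_eq_tmul_one_mul (b : B) (x : C ⊗[A] C) :
    b • x = (algebraMap B C b ⊗ₜ[A] (1 : C)) * x := by
  induction x using TensorProduct.induction_on with
  | zero => simp
  | tmul a c =>
    rw [TensorProduct.smul_tmul', Algebra.TensorProduct.tmul_mul_tmul, one_mul, Algebra.smul_def]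
  | add a c ha hc => rw [smul_add, mul_add, ha, hc]

theorem ker_tensorMap_tower :
    RingHom.ker (tensorMap A C B C) = (KaehlerDifferential.ideal A B).map (tensorMap A B A C) := by
  apply le_antisymm
  · intro x hx
    have hx' : x ∈ LinearMap.ker (TensorProduct.mapOfCompatibleSMul B A B C C) := by
      rw [LinearMap.mem_ker]
      have : ∀ y, TensorProduct.mapOfCompatibleSMul B A B C C y = tensorMap A C B C y := by
        intro y
        induction y using TensorProduct.induction_on with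
        | zero => simp
        | tmul a b => rw [tensorMap_tmul]; simp
        | add a b ha hb => rw [map_add, map_add, ha, hb]
      rw [this]; exact hx
    rw [TensorProduct.AlgebraTensorModule.ker_mapOfCompatibleSMul] at hx'
    refine Submodule.span_induction (p := fun x _ => x ∈ (KaehlerDifferential.ideal A B).map (tensorMap A B A C)) ?_ ?_ ?_ ?_ hx'
    · rintro _ ⟨b, m, n, rfl⟩
      have : (b • m) ⊗ₜ[A] n - m ⊗ₜ[A] (b • n) =
          - ((m ⊗ₜ[A] n) * tensorMap A B A C ((1 : B) ⊗ₜ[A] b - b ⊗ₜ[A] (1 : B))) := by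
        rw [map_sub, tensorMap_tmul, tensorMap_tmul, map_one, mul_sub,
          Algebra.TensorProduct.tmul_mul_tmul, Algebra.TensorProduct.tmul_mul_tmul, mul_one, mul_one,
          Algebra.smul_def, Algebra.smul_def, mul_comm m, mul_comm n]
        ring
      rw [this]
      exact neg_mem (Ideal.mul_mem_left _ _ (Ideal.mem_map_of_mem _
        (KaehlerDifferential.one_smul_sub_smul_one_mem_ideal A b)))
    · exact Ideal.zero_mem _
    · intro x y _ _ hx hy
      exact Ideal.add_mem _ hx hy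
    · intro b x _ hx
      rw [smul_eq_tmul_one_mul]
      exact Ideal.mul_mem_left _ _ hx
  · rw [← KaehlerDifferential.span_range_eq_ideal, Ideal.map_span, Ideal.span_le]
    rintro _ ⟨_, ⟨b, rfl⟩, rfl⟩
    show _ ∈ RingHom.ker _
    rw [RingHom.mem_ker, map_sub, tensorMap_tmul, tensorMap_tmul, map_one, map_sub, tensorMap_tmul,
      tensorMap_tmul, map_one, Algebra.algebraMap_self_apply]
    rw [sub_eq_zero, Algebra.algebraMap_eq_smul_one b, TensorProduct.smul_tmul]
    

theorem S3809 :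
    Function.Surjective (PP16.map n A C B C) ∧
      RingHom.ker (PP16.map n A C B C) = (PP16.augIdeal n A B).map (PP16.map n A B A C) := by
  refine ⟨map_surjective_of_tensorMap n A C B C (tensorMap_tower_surjective A B C), ?_⟩
  rw [ker_map_of_tensorMap n A C B C (tensorMap_tower_surjective A B C) (fun x => ⟨x, rfl⟩),
    ker_tensorMap_tower, augIdeal, AlgHom.coe_ideal_map (tensorMap A B A C), Ideal.map_map,
    AlgHom.coe_ideal_map (PP16.map n A B A C), Ideal.map_map]
  rfl

end tower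

--MARK4
theorem augIdeal_pow (n : ℕ) (A B : Type u) [CommRing A] [CommRing B] [Algebra A B] :
    (augIdeal n A B) ^ (n + 1) = ⊥ := by
  rw [augIdeal, ← Ideal.map_pow, Ideal.map_quotient_self]

section retraction
variable (n : ℕ) (A B : Type u) [CommRing A] [CommRing B] [Algebra A B] (g : B →ₐ[A] A)

/-- `b ⊗ b' ↦ g(b) b'`. -/
def theta : B ⊗[A] B →ₐ[A] B :=
  Algebra.TensorProduct.lift ((Algebra.ofId A B).comp g) (AlgHom.id A B) (fun _ _ => Commute.all _ _)

theorem theta_tmul (b b' : B) : theta A B g (b ⊗ₜ b') = algebraMap A B (g b) * b' := by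
  simp [theta, Algebra.ofId_apply]

theorem sub_algebraMap_mem_ker (b : B) : b - algebraMap A B (g b) ∈ RingHom.ker g := by
  rw [RingHom.mem_ker, map_sub, AlgHom.commutes, Algebra.algebraMap_self_apply, sub_self]

theorem sub_theta_mem (x : B ⊗[A] B) : x - 1 ⊗ₜ theta A B g x ∈
    (RingHom.ker g).map (Algebra.TensorProduct.includeLeft : B →ₐ[A] B ⊗[A] B) := by
  induction x using TensorProduct.induction_on with
  | zero => simp
  | tmul b b' =>
    rw [theta_tmul]
    have : b ⊗ₜ[A] b' - 1 ⊗ₜ[A] (algebraMap A B (g b) * b') =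
        ((Algebra.TensorProduct.includeLeft : B →ₐ[A] B ⊗[A] B) (b - algebraMap A B (g b))) *
          (1 ⊗ₜ b') := by
      rw [Algebra.TensorProduct.includeLeft_apply, Algebra.TensorProduct.tmul_mul_tmul, one_mul,
        mul_one, TensorProduct.sub_tmul, Algebra.algebraMap_eq_smul_one, smul_mul_assoc, one_mul,
        TensorProduct.smul_tmul]
    rw [this]
    exact Ideal.mul_mem_right _ _ (Ideal.mem_map_of_mem _ (sub_algebraMap_mem_ker A B g b))
  | add x y hx hy =>
    have : x + y - 1 ⊗ₜ[A] theta A B g (x + y) =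
        (x - 1 ⊗ₜ theta A B g x) + (y - 1 ⊗ₜ theta A B g y) := by
      rw [map_add, TensorProduct.tmul_add]; ring
    rw [this]
    exact Ideal.add_mem _ hx hy

theorem theta_ideal_le : (KaehlerDifferential.ideal A B).map (theta A B g) ≤ RingHom.ker g := by
  rw [← KaehlerDifferential.span_range_eq_ideal, Ideal.map_span, Ideal.span_le]
  rintro _ ⟨_, ⟨s, rfl⟩, rfl⟩
  rw [map_sub, theta_tmul, theta_tmul, map_one, map_one, one_mul, mul_one]
  exact sub_algebraMap_mem_ker A B g s

/-- The map `P^n → B/K^{n+1}`. -/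
noncomputable def thetaP : P n A B →ₐ[A] B ⧸ (RingHom.ker g) ^ (n + 1) :=
  Ideal.Quotient.liftₐ _ ((Ideal.Quotient.mkₐ A _).comp (theta A B g)) (fun x hx => by
    rw [AlgHom.comp_apply, Ideal.Quotient.mkₐ_eq_mk, Ideal.Quotient.eq_zero_iff_mem]
    have h := Ideal.pow_right_mono (n := n + 1) (theta_ideal_le A B g)
    rw [← Ideal.map_pow] at h
    exact h (Ideal.mem_map_of_mem _ hx))

theorem thetaP_mk (x : B ⊗[A] B) :
    thetaP n A B g (Ideal.Quotient.mk _ x) = Ideal.Quotient.mk _ (theta A B g x) := rfl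

theorem thetaP_dn (t : B) : thetaP n A B g (dn n A B t) = Ideal.Quotient.mk _ t := by
  change thetaP n A B g (Ideal.Quotient.mk _ ((1 : B) ⊗ₜ[A] t)) = _
  rw [thetaP_mk, theta_tmul, map_one, map_one, one_mul]

theorem thetaP_ker_le : (RingHom.ker g).map (algebraMap B (P n A B)) ≤ RingHom.ker (thetaP n A B g) := by
  rw [Ideal.map_le_iff_le_comap]
  intro k hk
  rw [Ideal.mem_comap, RingHom.mem_ker]
  change thetaP n A B g (Ideal.Quotient.mk _ (k ⊗ₜ[A] (1 : B))) = 0
  rw [thetaP_mk, theta_tmul, (RingHom.mem_ker).1 hk, map_zero, zero_mul, map_zero]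

theorem S3811 :
    Function.Surjective ((Ideal.Quotient.mk ((RingHom.ker g).map (algebraMap B (PP16.P n A B)))).comp
        (PP16.dn n A B).toRingHom) ∧
      RingHom.ker ((Ideal.Quotient.mk ((RingHom.ker g).map (algebraMap B (PP16.P n A B)))).comp
        (PP16.dn n A B).toRingHom) = RingHom.ker g ^ (n + 1) := by
  set KP := (RingHom.ker g).map (algebraMap B (PP16.P n A B)) with hKP
  have key : ∀ x : B ⊗[A] B, Ideal.Quotient.mk KP (Ideal.Quotient.mk _ x) =
      Ideal.Quotient.mk KP (dn n A B (theta A B g x)) := by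
    intro x
    rw [Ideal.Quotient.eq]
    change Ideal.Quotient.mk _ x - Ideal.Quotient.mk _ ((1 : B) ⊗ₜ[A] theta A B g x) ∈ KP
    rw [← map_sub]
    have h := sub_theta_mem A B g x
    have h2 := Ideal.mem_map_of_mem (Ideal.Quotient.mk ((KaehlerDifferential.ideal A B) ^ (n + 1))) h
    rw [AlgHom.coe_ideal_map, Ideal.map_map] at h2
    exact h2
  constructor
  · intro y
    obtain ⟨y, rfl⟩ := Ideal.Quotient.mk_surjective y
    obtain ⟨x, rfl⟩ := Ideal.Quotient.mk_surjective y
    exact ⟨theta A B g x, (key x).symm⟩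
  · apply le_antisymm
    · intro t ht
      rw [RingHom.mem_ker, RingHom.comp_apply, Ideal.Quotient.eq_zero_iff_mem] at ht
      have h := thetaP_ker_le n A B g ht
      rw [RingHom.mem_ker] at h
      have h3 := thetaP_dn n A B g t
      rw [← Ideal.Quotient.eq_zero_iff_mem, ← h3]
      exact h
    · rw [RingHom.ker_eq_comap_bot ((Ideal.Quotient.mk KP).comp (dn n A B).toRingHom),
        ← Ideal.map_le_iff_le_comap]
      have hmp := Ideal.map_pow ((Ideal.Quotient.mk KP).comp (dn n A B).toRingHom) (RingHom.ker g) (n + 1)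
      rw [hmp]
      have h1 : Ideal.map ((Ideal.Quotient.mk KP).comp (PP16.dn n A B).toRingHom) (RingHom.ker g) ≤
          (augIdeal n A B).map (Ideal.Quotient.mk KP) := by
        rw [Ideal.map_le_iff_le_comap]
        intro k hk
        rw [Ideal.mem_comap, RingHom.comp_apply]
        have h2 : (PP16.dn n A B).toRingHom k =
            Ideal.Quotient.mk _ ((1 : B) ⊗ₜ[A] k - k ⊗ₜ[A] (1 : B)) + algebraMap B (P n A B) k := by
          change Ideal.Quotient.mk _ ((1 : B) ⊗ₜ[A] k) = Ideal.Quotient.mk _ ((1 : B) ⊗ₜ[A] k - k ⊗ₜ[A] (1 : B)) + Ideal.Quotient.mk _ (k ⊗ₜ[A] (1 : B))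
          rw [← map_add, sub_add_cancel]
        rw [h2, map_add]
        have h3 : Ideal.Quotient.mk KP (algebraMap B (P n A B) k) = 0 := by
          rw [Ideal.Quotient.eq_zero_iff_mem]
          exact Ideal.mem_map_of_mem _ hk
        rw [h3, add_zero]
        apply Ideal.mem_map_of_mem
        exact Ideal.mem_map_of_mem _ (KaehlerDifferential.one_smul_sub_smul_one_mem_ideal A k)
      refine (Ideal.pow_right_mono h1 (n + 1)).trans ?_
      have hmp2 := Ideal.map_pow (Ideal.Quotient.mk KP) (augIdeal n A B) (n + 1)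
      rw [← hmp2, augIdeal_pow, Ideal.map_bot]

end retraction

--MARK7
section sym
variable (n : ℕ) (A : Type u) [CommRing A] (E : Type u) [AddCommGroup E] [Module A E]

local notation "Bs" => SymmetricAlgebra A E

/-- comultiplication `t ↦ t ⊗ 1 + 1 ⊗ t`. -/
noncomputable def symDelta : Bs →ₐ[A] (Bs ⊗[A] Bs) :=
  SymmetricAlgebra.lift
    (((Algebra.TensorProduct.includeLeft : Bs →ₐ[A] Bs ⊗[A] Bs).toLinearMap ∘ₗ SymmetricAlgebra.ι A E) +
      ((Algebra.TensorProduct.includeRight : Bs →ₐ[A] Bs ⊗[A] Bs).toLinearMap ∘ₗ SymmetricAlgebra.ι A E))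

noncomputable def symDelta' : Bs →ₐ[A] (Bs ⊗[A] Bs) :=
  SymmetricAlgebra.lift
    (((Algebra.TensorProduct.includeRight : Bs →ₐ[A] Bs ⊗[A] Bs).toLinearMap ∘ₗ SymmetricAlgebra.ι A E) -
      ((Algebra.TensorProduct.includeLeft : Bs →ₐ[A] Bs ⊗[A] Bs).toLinearMap ∘ₗ SymmetricAlgebra.ι A E))

theorem symDelta_ι (t : E) : symDelta A E (SymmetricAlgebra.ι A E t) =
    SymmetricAlgebra.ι A E t ⊗ₜ 1 + 1 ⊗ₜ SymmetricAlgebra.ι A E t := by
  simp [symDelta]

theorem symDelta'_ι (t : E) : symDelta' A E (SymmetricAlgebra.ι A E t) =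
    1 ⊗ₜ SymmetricAlgebra.ι A E t - SymmetricAlgebra.ι A E t ⊗ₜ 1 := by
  simp [symDelta']

noncomputable def symPhi : (Bs ⊗[A] Bs) →ₐ[Bs] (Bs ⊗[A] Bs) :=
  Algebra.TensorProduct.lift (Algebra.ofId Bs (Bs ⊗[A] Bs)) (symDelta A E) (fun _ _ => Commute.all _ _)

noncomputable def symPsi : (Bs ⊗[A] Bs) →ₐ[Bs] (Bs ⊗[A] Bs) :=
  Algebra.TensorProduct.lift (Algebra.ofId Bs (Bs ⊗[A] Bs)) (symDelta' A E) (fun _ _ => Commute.all _ _)

theorem symPhi_tmul (b c : Bs) : symPhi A E (b ⊗ₜ c) = (b ⊗ₜ 1) * symDelta A E c := by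
  simp [symPhi, Algebra.ofId_apply]

theorem symPsi_tmul (b c : Bs) : symPsi A E (b ⊗ₜ c) = (b ⊗ₜ 1) * symDelta' A E c := by
  simp [symPsi, Algebra.ofId_apply]

theorem symPhi_comp_symPsi : (symPhi A E).comp (symPsi A E) = AlgHom.id _ _ := by
  apply Algebra.TensorProduct.ext
  · ext
  · apply SymmetricAlgebra.algHom_ext
    ext t
    simp [symPsi_tmul, symPhi_tmul, symDelta_ι, symDelta'_ι]
    rw [← Algebra.TensorProduct.one_def]
    ring

theorem symPsi_comp_symPhi : (symPsi A E).comp (symPhi A E) = AlgHom.id _ _ := by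
  apply Algebra.TensorProduct.ext
  · ext
  · apply SymmetricAlgebra.algHom_ext
    ext t
    simp [symPsi_tmul, symPhi_tmul, symDelta_ι, symDelta'_ι]
    rw [← Algebra.TensorProduct.one_def]
    ring

noncomputable def symEquiv : (Bs ⊗[A] Bs) ≃ₐ[Bs] (Bs ⊗[A] Bs) :=
  AlgEquiv.ofAlgHom (symPhi A E) (symPsi A E) (symPhi_comp_symPsi A E) (symPsi_comp_symPhi A E)

theorem symEquiv_apply (x : Bs ⊗[A] Bs) : symEquiv A E x = symPhi A E x := rfl

theorem symPhi_symPsi (x : Bs ⊗[A] Bs) : symPhi A E (symPsi A E x) = x :=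
  AlgHom.congr_fun (symPhi_comp_symPsi A E) x

local notation "Ks" => RingHom.ker (SymmetricAlgebra.lift (0 : E →ₗ[A] A))

theorem sym_ideal_map :
    (KaehlerDifferential.ideal A Bs).map (symPhi A E) =
      Ideal.map (Algebra.TensorProduct.includeRight : Bs →ₐ[A] Bs ⊗[A] Bs) Ks := by
  apply le_antisymm
  · rw [← KaehlerDifferential.span_range_eq_ideal, Ideal.map_span, Ideal.span_le]
    rintro _ ⟨_, ⟨b, rfl⟩, rfl⟩
    set J : Ideal (Bs ⊗[A] Bs) :=
      Ideal.map (Algebra.TensorProduct.includeRight : Bs →ₐ[A] Bs ⊗[A] Bs) Ks with hJ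
    have h : (Ideal.Quotient.mkₐ A J).comp (symDelta A E) =
        (Ideal.Quotient.mkₐ A J).comp
          ((Algebra.TensorProduct.includeLeft : Bs →ₐ[Bs] Bs ⊗[A] Bs).restrictScalars A) := by
      refine SymmetricAlgebra.algHom_ext (A := (Bs ⊗[A] Bs) ⧸ J) ?_
      ext t
      show Ideal.Quotient.mk J (symDelta A E (SymmetricAlgebra.ι A E t)) =
        Ideal.Quotient.mk J (SymmetricAlgebra.ι A E t ⊗ₜ[A] (1 : Bs))
      rw [symDelta_ι, Ideal.Quotient.eq, add_sub_cancel_left]
      apply Ideal.mem_map_of_mem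
      rw [RingHom.mem_ker, SymmetricAlgebra.lift_ι_apply, LinearMap.zero_apply]
    have h2 := AlgHom.congr_fun h b
    simp only [AlgHom.coe_comp, Function.comp_apply, AlgHom.coe_restrictScalars',
        Algebra.TensorProduct.includeLeft_apply, Ideal.Quotient.mkₐ_eq_mk] at h2
    rw [Ideal.Quotient.eq] at h2
    show symPhi A E ((1 : Bs) ⊗ₜ[A] b - b ⊗ₜ[A] (1 : Bs)) ∈ J
    rw [map_sub, symPhi_tmul, symPhi_tmul, map_one, mul_one, ← Algebra.TensorProduct.one_def, one_mul]
    exact h2
  · rw [Ideal.map_le_iff_le_comap]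
    intro k hk
    rw [Ideal.mem_comap]
    set I : Ideal (Bs ⊗[A] Bs) := KaehlerDifferential.ideal A Bs with hI
    have h : (Ideal.Quotient.mkₐ A I).comp (symDelta' A E) =
        (Algebra.ofId A ((Bs ⊗[A] Bs) ⧸ I)).comp (SymmetricAlgebra.lift (0 : E →ₗ[A] A)) := by
      refine SymmetricAlgebra.algHom_ext (A := (Bs ⊗[A] Bs) ⧸ I) ?_
      ext t
      show Ideal.Quotient.mk I (symDelta' A E (SymmetricAlgebra.ι A E t)) =
        Algebra.ofId A ((Bs ⊗[A] Bs) ⧸ I) (SymmetricAlgebra.lift (0 : E →ₗ[A] A) (SymmetricAlgebra.ι A E t))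
      rw [symDelta'_ι, SymmetricAlgebra.lift_ι_apply, LinearMap.zero_apply, map_zero,
        Ideal.Quotient.eq_zero_iff_mem]
      exact KaehlerDifferential.one_smul_sub_smul_one_mem_ideal A _
    have h2 := AlgHom.congr_fun h k
    simp only [AlgHom.coe_comp, Function.comp_apply, Ideal.Quotient.mkₐ_eq_mk] at h2
    rw [(RingHom.mem_ker).1 hk, map_zero, Ideal.Quotient.eq_zero_iff_mem] at h2
    have h3 : (Algebra.TensorProduct.includeRight : Bs →ₐ[A] Bs ⊗[A] Bs) k =
        symPhi A E (symDelta' A E k) := by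
      have := symPhi_symPsi A E ((1 : Bs) ⊗ₜ[A] k)
      rw [symPsi_tmul, ← Algebra.TensorProduct.one_def, one_mul] at this
      rw [this]
      rfl
    rw [h3]
    exact Ideal.mem_map_of_mem _ h2

/-- The surjection `B ⊗ B → B ⊗ (B/K^{n+1})`. -/
noncomputable def symTheta : (Bs ⊗[A] Bs) →ₐ[Bs] (Bs ⊗[A] (Bs ⧸ Ks ^ (n + 1))) :=
  (Algebra.TensorProduct.map (AlgHom.id Bs Bs) (Ideal.Quotient.mkₐ A (Ks ^ (n + 1)))).comp (symPhi A E)

theorem symTheta_surjective : Function.Surjective (symTheta n A E) := by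
  have h1 : Function.Surjective (symPhi A E) := (symEquiv A E).surjective
  have h2 : Function.Surjective (Algebra.TensorProduct.map (AlgHom.id Bs Bs)
      (Ideal.Quotient.mkₐ A (Ks ^ (n + 1)))) :=
    Algebra.TensorProduct.map_surjective _ _ Function.surjective_id (Ideal.Quotient.mkₐ_surjective A _)
  exact h2.comp h1

theorem symTheta_ker : RingHom.ker (symTheta n A E) = (KaehlerDifferential.ideal A Bs) ^ (n + 1) := by
  have h0 : RingHom.ker (symTheta n A E) = Ideal.comap (symPhi A E)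
      (RingHom.ker (Algebra.TensorProduct.map (AlgHom.id A Bs) (Ideal.Quotient.mkₐ A (Ks ^ (n + 1))))) := by
    ext x
    rw [Ideal.mem_comap, RingHom.mem_ker, RingHom.mem_ker]
    rfl
  rw [h0, Algebra.TensorProduct.lTensor_ker _ (Ideal.Quotient.mkₐ_surjective A _)]
  have h1 : RingHom.ker (Ideal.Quotient.mkₐ A (Ks ^ (n + 1))) = Ks ^ (n + 1) := by
    ext x
    rw [RingHom.mem_ker, Ideal.Quotient.mkₐ_eq_mk, Ideal.Quotient.eq_zero_iff_mem]
  rw [h1, Ideal.map_pow, ← sym_ideal_map, ← Ideal.map_pow]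
  exact Ideal.comap_map_of_bijective (symPhi A E) (symEquiv A E).bijective

theorem S3813 :
    ∃ e : PP16.P n A (SymmetricAlgebra A E) ≃ₐ[SymmetricAlgebra A E]
        (SymmetricAlgebra A E ⊗[A] (SymmetricAlgebra A E ⧸
          RingHom.ker (SymmetricAlgebra.lift (0 : E →ₗ[A] A)) ^ (n + 1))),
      ∀ t : E, e (PP16.dn n A (SymmetricAlgebra A E) (SymmetricAlgebra.ι A E t)) =
        SymmetricAlgebra.ι A E t ⊗ₜ 1 + 1 ⊗ₜ Ideal.Quotient.mk _ (SymmetricAlgebra.ι A E t) := by
  refine ⟨(Ideal.quotientEquivAlgOfEq Bs (symTheta_ker n A E).symm).trans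
    (Ideal.quotientKerAlgEquivOfSurjective (symTheta_surjective n A E)), ?_⟩
  intro t
  change Ideal.quotientKerAlgEquivOfSurjective (symTheta_surjective n A E)
    (Ideal.quotientEquivAlgOfEq Bs (symTheta_ker n A E).symm
      (Ideal.Quotient.mk _ ((1 : Bs) ⊗ₜ[A] SymmetricAlgebra.ι A E t))) = _
  rw [Ideal.quotientEquivAlgOfEq_mk, Ideal.quotientKerAlgEquivOfSurjective_mk]
  simp [symTheta, symPhi_tmul, symDelta_ι]
  rw [← Algebra.TensorProduct.one_def, one_mul]

end sym

--MARK8
section aug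
variable (n : ℕ) (A B : Type u) [CommRing A] [CommRing B] [Algebra A B]

/-- The augmentation `P^n → B` (a `B`-algebra map for the first-factor structure). -/
noncomputable def augMap : P n A B →ₐ[B] B :=
  Ideal.Quotient.liftₐ _ (Algebra.TensorProduct.lmul'' A : B ⊗[A] B →ₐ[B] B) (fun a ha => by
    have h : (KaehlerDifferential.ideal A B) ^ (n + 1) ≤ KaehlerDifferential.ideal A B :=
      Ideal.pow_le_self (Nat.succ_ne_zero n)
    exact h ha)

theorem augMap_mk (x : B ⊗[A] B) :
    augMap n A B (Ideal.Quotient.mk _ x) = Algebra.TensorProduct.lmul' A x := rfl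

theorem augMap_dn (b : B) : augMap n A B (dn n A B b) = b := by
  change augMap n A B (Ideal.Quotient.mk _ ((1 : B) ⊗ₜ[A] b)) = b
  rw [augMap_mk, Algebra.TensorProduct.lmul'_apply_tmul, one_mul]

theorem mem_augIdeal_iff (x : P n A B) : x ∈ augIdeal n A B ↔ augMap n A B x = 0 := by
  obtain ⟨y, rfl⟩ := Ideal.Quotient.mk_surjective x
  rw [augIdeal, Ideal.mem_map_iff_of_surjective _ Ideal.Quotient.mk_surjective, augMap_mk]
  constructor
  · rintro ⟨z, hz, hzy⟩
    have : augMap n A B (Ideal.Quotient.mk _ z) = augMap n A B (Ideal.Quotient.mk _ y) := by rw [hzy]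
    rw [augMap_mk, augMap_mk] at this
    rw [← this]
    exact hz
  · intro hy
    exact ⟨y, hy, rfl⟩

theorem dn_sub_mem_augIdeal (b : B) : dn n A B b - algebraMap B (P n A B) b ∈ augIdeal n A B := by
  rw [mem_augIdeal_iff, map_sub, augMap_dn, AlgHom.commutes, Algebra.algebraMap_self_apply, sub_self]

theorem sub_augMap_mem (x : P n A B) : x - algebraMap B (P n A B) (augMap n A B x) ∈ augIdeal n A B := by
  rw [mem_augIdeal_iff, map_sub, AlgHom.commutes, Algebra.algebraMap_self_apply, sub_self]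

/-- `aug` is generated as an ideal by `dn b - b`. -/
theorem augIdeal_eq_span : augIdeal n A B =
    Ideal.span (Set.range fun b : B => dn n A B b - algebraMap B (P n A B) b) := by
  have h := KaehlerDifferential.span_range_eq_ideal A B
  have h2 : augIdeal n A B = Ideal.map (Ideal.Quotient.mk ((KaehlerDifferential.ideal A B) ^ (n + 1)))
      (Ideal.span (Set.range fun s : B => (1 : B) ⊗ₜ[A] s - s ⊗ₜ[A] (1 : B))) := by
    rw [h]; rfl
  rw [h2, Ideal.map_span]
  congr 1
  ext x
  constructor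
  · rintro ⟨_, ⟨b, rfl⟩, rfl⟩
    refine ⟨b, ?_⟩
    show Ideal.Quotient.mk _ ((1 : B) ⊗ₜ[A] b) - Ideal.Quotient.mk _ (b ⊗ₜ[A] (1 : B)) = _
    rw [← map_sub]
  · rintro ⟨b, rfl⟩
    refine ⟨_, ⟨b, rfl⟩, ?_⟩
    show _ = Ideal.Quotient.mk _ ((1 : B) ⊗ₜ[A] b) - Ideal.Quotient.mk _ (b ⊗ₜ[A] (1 : B))
    rw [← map_sub]

end aug

section sec13936
variable (n : ℕ) (R SX : Type u) [CommRing R] [CommRing SX] [Algebra R SX] (σ : SX →ₐ[R] R)

theorem mul_mem_smul_aug (p x : P n R SX)
    (hx : x ∈ RingHom.ker σ • (augIdeal n R SX).restrictScalars SX) :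
    p * x ∈ RingHom.ker σ • (augIdeal n R SX).restrictScalars SX := by
  refine Submodule.smul_induction_on hx ?_ ?_
  · intro i hi a ha
    rw [mul_smul_comm]
    exact Submodule.smul_mem_smul hi ((augIdeal n R SX).mul_mem_left p ha)
  · intro x y hx hy
    rw [mul_add]; exact Submodule.add_mem _ hx hy

theorem thetaP_algebraMap (c : SX) : thetaP n R SX σ (algebraMap SX (P n R SX) c) =
    Ideal.Quotient.mk _ (algebraMap R SX (σ c)) := by
  change thetaP n R SX σ (Ideal.Quotient.mk _ (c ⊗ₜ[R] (1 : SX))) = _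
  rw [thetaP_mk, theta_tmul, mul_one]

theorem thetaP_smul_aug (x : P n R SX)
    (hx : x ∈ RingHom.ker σ • (augIdeal n R SX).restrictScalars SX) : thetaP n R SX σ x = 0 := by
  refine Submodule.smul_induction_on hx ?_ ?_
  · intro i hi a _
    rw [Algebra.smul_def, map_mul, thetaP_algebraMap, (RingHom.mem_ker).1 hi, map_zero, map_zero,
      zero_mul]
  · intro x y hx hy; rw [map_add, hx, hy, add_zero]

theorem sub_augMap_mem_smul (x : P n R SX)
    (hx : x ∈ (RingHom.ker σ • ⊤ : Submodule SX (P n R SX))) :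
    x - algebraMap SX (P n R SX) (augMap n R SX x) ∈
      RingHom.ker σ • (augIdeal n R SX).restrictScalars SX := by
  refine Submodule.smul_induction_on hx ?_ ?_
  · intro i hi p _
    have : i • p - algebraMap SX (P n R SX) (augMap n R SX (i • p)) =
        i • (p - algebraMap SX (P n R SX) (augMap n R SX p)) := by
      rw [map_smul, smul_eq_mul, map_mul, smul_sub, Algebra.smul_def i (algebraMap SX (P n R SX) _)]
    rw [this]
    exact Submodule.smul_mem_smul hi (sub_augMap_mem n R SX p)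
  · intro x y hx hy
    have : x + y - algebraMap SX (P n R SX) (augMap n R SX (x + y)) =
        (x - algebraMap SX (P n R SX) (augMap n R SX x)) +
          (y - algebraMap SX (P n R SX) (augMap n R SX y)) := by
      rw [map_add, map_add]; ring
    rw [this]
    exact Submodule.add_mem _ hx hy

theorem dn_sub_mem_iff (c : SX) :
    dn n R SX c - algebraMap SX (P n R SX) c ∈ RingHom.ker σ • (augIdeal n R SX).restrictScalars SX ↔
      c - algebraMap R SX (σ c) ∈ RingHom.ker σ ^ (n + 1) := by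
  constructor
  · intro h
    have h1 := thetaP_smul_aug n R SX σ _ h
    rw [map_sub, thetaP_dn, thetaP_algebraMap, ← map_sub, Ideal.Quotient.eq_zero_iff_mem] at h1
    exact h1
  · intro h
    set c' := c - algebraMap R SX (σ c) with hc'
    have e1 : dn n R SX c - algebraMap SX (P n R SX) c =
        dn n R SX c' - algebraMap SX (P n R SX) c' := by
      rw [hc', map_sub, map_sub, AlgHom.commutes, ← IsScalarTower.algebraMap_apply R SX (P n R SX)]
      ring
    rw [e1]
    have h2 := (S3811 n R SX σ).2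
    have h3 : c' ∈ RingHom.ker ((Ideal.Quotient.mk ((RingHom.ker σ).map
        (algebraMap SX (PP16.P n R SX)))).comp (PP16.dn n R SX).toRingHom) := by
      rw [h2]; exact h
    rw [RingHom.mem_ker, RingHom.comp_apply, Ideal.Quotient.eq_zero_iff_mem] at h3
    have h4 : algebraMap SX (P n R SX) c' ∈ (RingHom.ker σ).map (algebraMap SX (PP16.P n R SX)) :=
      Ideal.mem_map_of_mem _ (Ideal.pow_le_self (Nat.succ_ne_zero n) h)
    have h5 : dn n R SX c' - algebraMap SX (P n R SX) c' ∈
        (RingHom.ker σ • ⊤ : Submodule SX (P n R SX)) := by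
      rw [Ideal.smul_top_eq_map]
      exact Ideal.sub_mem _ h3 h4
    have h6 := sub_augMap_mem_smul n R SX σ _ h5
    rw [(mem_augIdeal_iff n R SX _).1 (dn_sub_mem_augIdeal n R SX c'), map_zero, sub_zero] at h6
    exact h6

end sec13936

theorem S13936 (R SY SX : Type u)
    [CommRing R] [CommRing SY] [CommRing SX] [Algebra R SY] [Algebra R SX] [Algebra SY SX]
    [IsScalarTower R SY SX] (σ : SX →ₐ[R] R) (e : ℕ) (he : 1 ≤ e) :
    (∀ y ∈ PP16.augIdeal (e - 1) R SY,
        PP16.map (e - 1) R SY R SX y ∈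
          RingHom.ker σ.toRingHom • (PP16.augIdeal (e - 1) R SX).restrictScalars SX) ↔
      (∀ b : SY, algebraMap SY SX b ∈ RingHom.ker σ.toRingHom →
        algebraMap SY SX b ∈ RingHom.ker σ.toRingHom ^ e) := by
  obtain ⟨n, rfl⟩ : ∃ n, e = n + 1 := ⟨e - 1, by omega⟩
  show (∀ y ∈ PP16.augIdeal n R SY,
        PP16.map n R SY R SX y ∈
          RingHom.ker σ • (PP16.augIdeal n R SX).restrictScalars SX) ↔
      (∀ b : SY, algebraMap SY SX b ∈ RingHom.ker σ →
        algebraMap SY SX b ∈ RingHom.ker σ ^ (n + 1))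
  have hmap : ∀ b : SY, PP16.map n R SY R SX (dn n R SY b - algebraMap SY (P n R SY) b) =
      dn n R SX (algebraMap SY SX b) - algebraMap SX (P n R SX) (algebraMap SY SX b) := by
    intro b
    rw [map_sub, map_dn, map_algebraMap]
  constructor
  · intro H b hb
    have h1 := H _ (dn_sub_mem_augIdeal n R SY b)
    rw [hmap, dn_sub_mem_iff, (RingHom.mem_ker).1 hb, map_zero, sub_zero] at h1
    exact h1
  · intro H y hy
    rw [augIdeal_eq_span] at hy
    refine Submodule.span_induction (p := fun y _ => PP16.map n R SY R SX y ∈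
          RingHom.ker σ • (PP16.augIdeal n R SX).restrictScalars SX) ?_ ?_ ?_ ?_ hy
    · rintro _ ⟨b, rfl⟩
      rw [hmap, dn_sub_mem_iff]
      have h1 := H (b - algebraMap R SY (σ (algebraMap SY SX b)))
      rw [map_sub, ← IsScalarTower.algebraMap_apply R SY SX] at h1
      exact h1 (sub_algebraMap_mem_ker R SX σ _)
    · rw [map_zero]; exact Submodule.zero_mem _
    · intro x y _ _ hx hy
      rw [map_add]; exact Submodule.add_mem _ hx hy
    · intro p x _ hx
      rw [smul_eq_mul, map_mul]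
      exact mul_mem_smul_aug n R SX σ _ _ hx

end Groth.Agent.LD.PP
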