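import Groth.Agent.Lib.Lead.PP

set_option autoImplicit false
universe u
open PP16
open scoped TensorProduct

namespace Groth.Agent.LD.PP

theorem tensorMap_bijective_of_isLocalization (A A' B' : Type u) [CommRing A] [CommRing A'] [CommRing B']
    [Algebra A A'] [Algebra A' B'] [Algebra A B'] [IsScalarTower A A' B'] (R : Submonoid A)
    [IsLocalization R A'] : Function.Bijective (tensorMap A B' A' B') := by
  let e : B' ⊗[A'] B' ≃ₐ[A'] B' ⊗[A] B' := IsLocalization.algebraTensorEquiv R A' B' B'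
  have he : ∀ b c : B', e (b ⊗ₜ[A'] c) = b ⊗ₜ[A] c := fun _ _ => rfl
  have h1 : ∀ x, e (tensorMap A B' A' B' x) = x := by
    intro x
    induction x using TensorProduct.induction_on with
    | zero => simp
    | tmul b c =>
      rw [tensorMap_tmul, he]
      simp
    | add x y hx hy => rw [map_add, map_add, hx, hy]
  have h2 : ∀ y, tensorMap A B' A' B' (e y) = y := by
    intro y
    induction y using TensorProduct.induction_on with
    | zero => simp
    | tmul b c =>
      rw [he, tensorMap_tmul]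
      simp
    | add x y hx hy => rw [map_add, map_add, hx, hy]
  exact ⟨Function.LeftInverse.injective h1, Function.RightInverse.surjective h2⟩

theorem S3808 (n : ℕ) (A A' B' : Type u) [CommRing A] [CommRing A'] [CommRing B']
    [Algebra A A'] [Algebra A' B'] [Algebra A B'] [IsScalarTower A A' B'] (R : Submonoid A)
    [IsLocalization R A'] : Function.Bijective (PP16.map n A B' A' B') := by
  have hbij := tensorMap_bijective_of_isLocalization A A' B' R
  refine ⟨?_, map_surjective_of_tensorMap n A B' A' B' hbij.2⟩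
  have hk := ker_map_of_tensorMap n A B' A' B' hbij.2 Function.surjective_id
  have hk0 : RingHom.ker (tensorMap A B' A' B') = ⊥ :=
    (RingHom.injective_iff_ker_eq_bot _).1 hbij.1
  rw [hk0, Ideal.map_bot] at hk
  exact (RingHom.injective_iff_ker_eq_bot _).2 hk

section poly
variable (n : ℕ) (A : Type u) [CommRing A] (σ : Type u)

local notation "Bp" => MvPolynomial σ A
local notation "Cp" => MvPolynomial σ (MvPolynomial σ A)

/-- `c ↦ c(T + U)`. -/
noncomputable def polyDelta : Bp →ₐ[A] Cp :=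
  MvPolynomial.aeval (fun i => MvPolynomial.C (MvPolynomial.X i : Bp) + (MvPolynomial.X i : Cp))

/-- `U_i ↦ 1 ⊗ T_i - T_i ⊗ 1`. -/
noncomputable def polyPsi : Cp →ₐ[Bp] (Bp ⊗[A] Bp) :=
  MvPolynomial.aeval (fun i => (1 : Bp) ⊗ₜ[A] (MvPolynomial.X i : Bp) - (MvPolynomial.X i : Bp) ⊗ₜ[A] (1 : Bp))

noncomputable def polyPhi : (Bp ⊗[A] Bp) →ₐ[Bp] Cp :=
  Algebra.TensorProduct.lift (Algebra.ofId Bp Cp) (polyDelta A σ) (fun _ _ => Commute.all _ _)

theorem polyDelta_X (i : σ) : polyDelta A σ (MvPolynomial.X i) =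
    MvPolynomial.C (MvPolynomial.X i : Bp) + (MvPolynomial.X i : Cp) := by
  simp [polyDelta]

theorem polyPhi_tmul (b c : Bp) : polyPhi A σ (b ⊗ₜ c) = MvPolynomial.C b * polyDelta A σ c := by
  simp [polyPhi, Algebra.ofId_apply, MvPolynomial.algebraMap_eq]

theorem polyPsi_X (i : σ) : polyPsi A σ (MvPolynomial.X i) =
    (1 : Bp) ⊗ₜ[A] (MvPolynomial.X i : Bp) - (MvPolynomial.X i : Bp) ⊗ₜ[A] (1 : Bp) := by
  simp [polyPsi]

theorem polyPhi_comp_polyPsi : (polyPhi A σ).comp (polyPsi A σ) = AlgHom.id _ _ := by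
  apply MvPolynomial.algHom_ext
  intro i
  simp [polyPsi_X, polyPhi_tmul, polyDelta_X]

theorem polyPsi_comp_polyPhi : (polyPsi A σ).comp (polyPhi A σ) = AlgHom.id _ _ := by
  apply Algebra.TensorProduct.ext
  · ext
  · apply MvPolynomial.algHom_ext
    intro i
    simp [polyPsi_X, polyPhi_tmul, polyDelta_X, MvPolynomial.algebraMap_eq]

noncomputable def polyEquiv : (Bp ⊗[A] Bp) ≃ₐ[Bp] Cp :=
  AlgEquiv.ofAlgHom (polyPhi A σ) (polyPsi A σ) (polyPhi_comp_polyPsi A σ) (polyPsi_comp_polyPhi A σ)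

theorem polyEquiv_apply (x : Bp ⊗[A] Bp) : polyEquiv A σ x = polyPhi A σ x := rfl

theorem poly_ideal_map :
    (KaehlerDifferential.ideal A Bp).map (polyEquiv A σ) =
      Ideal.span (Set.range (MvPolynomial.X : σ → Cp)) := by
  apply le_antisymm
  · rw [← KaehlerDifferential.span_range_eq_ideal, Ideal.map_span, Ideal.span_le]
    rintro _ ⟨_, ⟨b, rfl⟩, rfl⟩
    set J : Ideal Cp := Ideal.span (Set.range (MvPolynomial.X : σ → Cp)) with hJ
    have h : (Ideal.Quotient.mkₐ A J).comp (polyDelta A σ) =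
        (Ideal.Quotient.mkₐ A J).comp ((Algebra.ofId Bp Cp).restrictScalars A) := by
      apply MvPolynomial.algHom_ext
      intro i
      show Ideal.Quotient.mk J (polyDelta A σ (MvPolynomial.X i)) =
        Ideal.Quotient.mk J (algebraMap Bp Cp (MvPolynomial.X i))
      rw [polyDelta_X, Ideal.Quotient.eq, MvPolynomial.algebraMap_eq, add_sub_cancel_left]
      exact Ideal.subset_span ⟨i, rfl⟩
    have h2 := AlgHom.congr_fun h b
    simp only [AlgHom.coe_comp, Function.comp_apply, AlgHom.coe_restrictScalars',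
        Ideal.Quotient.mkₐ_eq_mk] at h2
    rw [Ideal.Quotient.eq] at h2
    show polyPhi A σ ((1 : Bp) ⊗ₜ[A] b - b ⊗ₜ[A] (1 : Bp)) ∈ J
    rw [map_sub, polyPhi_tmul, polyPhi_tmul, map_one, one_mul, map_one, mul_one]
    simpa [Algebra.ofId_apply, MvPolynomial.algebraMap_eq] using h2
  · rw [Ideal.span_le]
    rintro _ ⟨i, rfl⟩
    have : (MvPolynomial.X i : Cp) = polyEquiv A σ
        ((1 : Bp) ⊗ₜ[A] (MvPolynomial.X i : Bp) - (MvPolynomial.X i : Bp) ⊗ₜ[A] (1 : Bp)) := by
      rw [polyEquiv_apply, map_sub, polyPhi_tmul, polyPhi_tmul, polyDelta_X]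
      simp
    rw [this]
    exact Ideal.mem_map_of_mem _ (KaehlerDifferential.one_smul_sub_smul_one_mem_ideal A _)

theorem S3812 :
    ∃ e : PP16.P n A (MvPolynomial σ A) ≃ₐ[MvPolynomial σ A]
        (MvPolynomial σ (MvPolynomial σ A) ⧸
          Ideal.span (Set.range (MvPolynomial.X : σ → MvPolynomial σ (MvPolynomial σ A))) ^ (n + 1)),
      ∀ i : σ, e (PP16.dn n A (MvPolynomial σ A) (MvPolynomial.X i)) =
        Ideal.Quotient.mk _ (MvPolynomial.C (MvPolynomial.X i : MvPolynomial σ A) +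
          (MvPolynomial.X i : MvPolynomial σ (MvPolynomial σ A))) := by
  have hIJ : Ideal.span (Set.range (MvPolynomial.X : σ → Cp)) ^ (n + 1) =
      ((KaehlerDifferential.ideal A Bp) ^ (n + 1)).map (polyEquiv A σ) := by
    rw [Ideal.map_pow, poly_ideal_map]
  refine ⟨Ideal.quotientEquivAlg _ _ (polyEquiv A σ) hIJ, ?_⟩
  intro i
  change Ideal.quotientEquivAlg _ _ (polyEquiv A σ) hIJ
    (Ideal.Quotient.mk _ ((1 : Bp) ⊗ₜ[A] (MvPolynomial.X i : Bp))) = _
  rw [Ideal.quotientEquivAlg_mk]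
  congr 1
  rw [polyEquiv_apply, polyPhi_tmul, polyDelta_X, map_one, one_mul]

end poly

end Groth.Agent.LD.PP
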