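import Mathlib

namespace Groth.Agent.LD.PosInv

universe u

open Polynomial

/-- linear algebra core: a rational similitude of a positive definite orthogonal form has eigenvalues of norm² = q -/
theorem eig_norm {n : Type} [Fintype n] [DecidableEq n] (M : Matrix n n ℚ) (dd : n → ℚ) (hd : ∀ i, 0 < dd i) (q : ℚ)
    (hsim : ∀ j k, ∑ i, M i j * dd i * M i k = if j = k then q * dd j else 0)
    (lam : ℂ) (hroot : (M.charpoly.map (algebraMap ℚ ℂ)).eval lam = 0) :
    Complex.normSq lam = (q : ℝ) := by
  set MC : Matrix n n ℂ := M.map (algebraMap ℚ ℂ) with hMC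
  have hdet : (Matrix.scalar n lam - MC).det = 0 := by
    rw [← Matrix.eval_charpoly, hMC, Matrix.charpoly_map]; exact hroot
  obtain ⟨c, hc0, hc⟩ := Matrix.exists_mulVec_eq_zero_iff.2 hdet
  have heig : ∀ i, ∑ k, (M i k : ℂ) * c k = lam * c i := by
    intro i
    have h0 := hc
    rw [Matrix.sub_mulVec, sub_eq_zero] at h0
    have := congrFun h0 i
    rw [Matrix.scalar_apply, Matrix.mulVec_diagonal] at this
    rw [this]
    simp only [Matrix.mulVec, dotProduct, hMC, Matrix.map_apply, eq_ratCast]
  -- W = Σ d_i |c_i|^2 > 0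
  set W : ℝ := ∑ i, (dd i : ℝ) * Complex.normSq (c i) with hW
  have hWpos : 0 < W := by
    obtain ⟨i0, hi0⟩ : ∃ i, c i ≠ 0 := by
      by_contra hcon
      push Not at hcon
      exact hc0 (funext hcon)
    apply Finset.sum_pos'
    · intro i _
      exact mul_nonneg (by exact_mod_cast (hd i).le) (Complex.normSq_nonneg _)
    · exact ⟨i0, Finset.mem_univ _, mul_pos (by exact_mod_cast hd i0) (Complex.normSq_pos.2 hi0)⟩
  -- the double computation, in ℂ
  have h1 : ∑ j, ∑ k, (starRingEnd ℂ) (c j) * c k * ((∑ i, M i j * dd i * M i k : ℚ) : ℂ)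
      = ((q : ℝ) * W : ℝ) := by
    have : ∀ j k, ((∑ i, M i j * dd i * M i k : ℚ) : ℂ) = if j = k then ((q * dd j : ℚ) : ℂ) else 0 := by
      intro j k
      rw [hsim j k]; split_ifs <;> simp
    simp_rw [this]
    simp only [mul_ite, mul_zero, Finset.sum_ite_eq, Finset.mem_univ, if_true]
    rw [hW]
    push_cast
    rw [Finset.mul_sum]
    apply Finset.sum_congr rfl
    intro j _
    rw [Complex.normSq_eq_conj_mul_self]
    ring
  have h2 : ∑ j, ∑ k, (starRingEnd ℂ) (c j) * c k * ((∑ i, M i j * dd i * M i k : ℚ) : ℂ)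
      = ((Complex.normSq lam * W : ℝ) : ℂ) := by
    have hconj : ∀ i, ∑ j, (M i j : ℂ) * (starRingEnd ℂ) (c j) = (starRingEnd ℂ) lam * (starRingEnd ℂ) (c i) := by
      intro i
      have := congrArg (starRingEnd ℂ) (heig i)
      rw [map_sum, map_mul] at this
      rw [← this]
      apply Finset.sum_congr rfl
      intro j _
      rw [map_mul, map_ratCast]
    calc ∑ j, ∑ k, (starRingEnd ℂ) (c j) * c k * ((∑ i, M i j * dd i * M i k : ℚ) : ℂ)
        = ∑ j, ∑ k, ∑ i, (dd i : ℂ) * ((M i j : ℂ) * (starRingEnd ℂ) (c j)) * ((M i k : ℂ) * c k) := by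
          apply Finset.sum_congr rfl; intro j _
          apply Finset.sum_congr rfl; intro k _
          push_cast
          rw [Finset.mul_sum]
          apply Finset.sum_congr rfl; intro i _
          ring
      _ = ∑ i, (dd i : ℂ) * (∑ j, (M i j : ℂ) * (starRingEnd ℂ) (c j)) * (∑ k, (M i k : ℂ) * c k) := by
          rw [Finset.sum_congr rfl (fun j _ => Finset.sum_comm), Finset.sum_comm]
          apply Finset.sum_congr rfl; intro i _
          rw [mul_assoc, Finset.sum_mul_sum, Finset.mul_sum]
          apply Finset.sum_congr rfl; intro j _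
          rw [Finset.mul_sum]
          apply Finset.sum_congr rfl; intro k _
          ring
      _ = ∑ i, (dd i : ℂ) * ((starRingEnd ℂ) lam * (starRingEnd ℂ) (c i)) * (lam * c i) := by
          apply Finset.sum_congr rfl; intro i _
          rw [hconj, heig]
      _ = ((Complex.normSq lam * W : ℝ) : ℂ) := by
          rw [hW]
          push_cast
          rw [Finset.mul_sum]
          apply Finset.sum_congr rfl; intro i _
          rw [Complex.normSq_eq_conj_mul_self, Complex.normSq_eq_conj_mul_self]
          ring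
  have h3 : ((q : ℝ) * W : ℝ) = (Complex.normSq lam * W : ℝ) := by
    have := h1.symm.trans h2
    exact_mod_cast this
  exact (mul_right_cancel₀ hWpos.ne' h3).symm


section Main
variable (R : Type u) [Ring R] [Algebra ℚ R] [StarRing R] [StarModule ℚ R]

/-- the symmetric positive form -/
noncomputable def Bform (σ : R →ₗ[ℚ] ℚ) : LinearMap.BilinForm ℚ R :=
  LinearMap.mk₂ ℚ (fun x y => σ (star x * y) + σ (star y * x))
    (by intro x x' y; simp only [star_add, add_mul, mul_add, map_add]; ring)
    (by intro c x y; simp only [star_smul, star_trivial, smul_mul_assoc, mul_smul_comm, map_smul, smul_eq_mul]; ring)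
    (by intro x y y'; simp only [star_add, add_mul, mul_add, map_add]; ring)
    (by intro c x y; simp only [star_smul, star_trivial, smul_mul_assoc, mul_smul_comm, map_smul, smul_eq_mul]; ring)

theorem Bform_apply (σ : R →ₗ[ℚ] ℚ) (x y : R) : Bform R σ x y = σ (star x * y) + σ (star y * x) := rfl

theorem normSq_of_root [Module.Finite ℚ R] (σ : R →ₗ[ℚ] ℚ) (hpos : ∀ x : R, x ≠ 0 → 0 < σ (x * star x))
    (α : R) (q : ℚ) (hα' : star α * α = algebraMap ℚ R q)
    (lam : ℂ) (hroot : ((Algebra.lmul ℚ R α).charpoly.map (algebraMap ℚ ℂ)).eval lam = 0) :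
    Complex.normSq lam = (q : ℝ) := by
  classical
  set B := Bform R σ with hB
  have hsymm : LinearMap.IsSymm B := by
    refine ⟨fun x y => ?_⟩
    simp only [hB, Bform_apply, RingHom.id_apply]; ring
  obtain ⟨v, hv⟩ := LinearMap.BilinForm.exists_orthogonal_basis hsymm
  rw [LinearMap.isOrthoᵢ_def] at hv
  set T : Module.End ℚ R := Algebra.lmul ℚ R α with hT
  have hTapp : ∀ x, T x = α * x := fun x => rfl
  set M := LinearMap.toMatrix v v T with hM
  set dd : Fin (Module.finrank ℚ R) → ℚ := fun i => B (v i) (v i) with hdd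
  have hdpos : ∀ i, 0 < dd i := by
    intro i
    have hne : star (v i) ≠ 0 := by
      intro h0
      exact v.ne_zero i (by rw [← star_star (v i), h0, star_zero])
    have := hpos (star (v i)) hne
    rw [star_star] at this
    simp only [hdd, hB, Bform_apply]
    linarith
  have hD : LinearMap.BilinForm.toMatrix v B = Matrix.diagonal dd := by
    ext i j
    rw [LinearMap.BilinForm.toMatrix_apply, Matrix.diagonal_apply]
    split_ifs with h
    · subst h; rfl
    · exact hv i j h
  have hcomp : B.comp T T = q • B := by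
    ext x y
    simp only [LinearMap.BilinForm.comp_apply, LinearMap.smul_apply, hB, Bform_apply, hTapp, star_mul,
      smul_eq_mul]
    have e1 : star x * star α * (α * y) = q • (star x * y) := by
      rw [mul_assoc, ← mul_assoc (star α), hα', Algebra.algebraMap_eq_smul_one, smul_mul_assoc, one_mul,
        mul_smul_comm]
    have e2 : star y * star α * (α * x) = q • (star y * x) := by
      rw [mul_assoc, ← mul_assoc (star α), hα', Algebra.algebraMap_eq_smul_one, smul_mul_assoc, one_mul,
        mul_smul_comm]
    rw [e1, e2, map_smul, map_smul, smul_eq_mul, smul_eq_mul]; ring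
  have hmat : M.transpose * Matrix.diagonal dd * M = q • Matrix.diagonal dd := by
    rw [← hD, ← LinearMap.BilinForm.toMatrix_comp v v B T T, hcomp, map_smul]
  have hsim : ∀ j k, ∑ i, M i j * dd i * M i k = if j = k then q * dd j else 0 := by
    intro j k
    have := congrFun (congrFun hmat j) k
    rw [Matrix.mul_apply] at this
    simp only [Matrix.mul_diagonal, Matrix.transpose_apply, Matrix.smul_apply, Matrix.diagonal_apply,
      smul_eq_mul, mul_ite, mul_zero] at this
    exact this
  apply eig_norm M dd hdpos q hsim lam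
  rw [hM, LinearMap.charpoly_toMatrix]
  exact hroot

theorem main [Module.Finite ℚ R] (σ : R →ₗ[ℚ] ℚ) (hpos : ∀ x : R, x ≠ 0 → 0 < σ (x * star x))
    (α : R) (q : ℚ) (hα : α * star α = algebraMap ℚ R q) :
    ∃ hmem : star α ∈ Algebra.adjoin ℚ ({α} : Set R),
      ∀ ρ : Algebra.adjoin ℚ ({α} : Set R) →ₐ[ℚ] ℂ,
        ρ ⟨star α, hmem⟩ = starRingEnd ℂ (ρ ⟨α, Algebra.self_mem_adjoin_singleton ℚ α⟩) ∧
          ‖ρ ⟨α, Algebra.self_mem_adjoin_singleton ℚ α⟩‖ ^ 2 = (q : ℝ) := by
  set A := Algebra.adjoin ℚ ({α} : Set R) with hA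
  by_cases hα0 : α = 0
  · have hmem : star α ∈ A := by rw [hα0, star_zero]; exact A.zero_mem
    refine ⟨hmem, fun ρ => ?_⟩
    have ha : (⟨α, Algebra.self_mem_adjoin_singleton ℚ α⟩ : A) = 0 := Subtype.ext hα0
    have hs : (⟨star α, hmem⟩ : A) = 0 := Subtype.ext (by show star α = 0; rw [hα0, star_zero])
    have hq : q = 0 := by
      have h1 : algebraMap ℚ A q = 0 := by
        apply Subtype.ext
        change algebraMap ℚ R q = 0
        rw [← hα, hα0, zero_mul]
      have h2 := ρ.commutes q
      rw [h1, map_zero] at h2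
      have h3 : (q : ℂ) = 0 := by simpa using h2.symm
      exact_mod_cast h3
    rw [ha, hs, map_zero, map_zero, hq]; simp
  · have hq0 : q ≠ 0 := by
      rintro rfl
      rw [map_zero] at hα
      have := hpos α hα0
      rw [hα, map_zero] at this
      exact lt_irrefl _ this
    set β : R := q⁻¹ • star α with hβ
    have hαβ : α * β = 1 := by
      rw [hβ, mul_smul_comm, hα, Algebra.algebraMap_eq_smul_one, smul_smul, inv_mul_cancel₀ hq0, one_smul]
    have hβα : β * α = 1 := by
      have h1 : (LinearMap.mulLeft ℚ α) ∘ₗ (LinearMap.mulLeft ℚ β) = LinearMap.id := by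
        ext x; simp [← mul_assoc, hαβ]
      have h2 := (LinearMap.comp_eq_id_comm (R := ℚ) (M := R)).1 h1
      have := congrArg (fun f => f 1) h2
      simpa using this
    have hsβ : star α = q • β := by rw [hβ, smul_smul, mul_inv_cancel₀ hq0, one_smul]
    have hα' : star α * α = algebraMap ℚ R q := by
      rw [hsβ, smul_mul_assoc, hβα, Algebra.algebraMap_eq_smul_one]
    let a : A := ⟨α, Algebra.self_mem_adjoin_singleton ℚ α⟩
    have hβmem : β ∈ A := by
      let m : A →ₗ[ℚ] A := LinearMap.mulLeft ℚ a
      have hminj : Function.Injective m := by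
        rw [injective_iff_map_eq_zero]
        intro x hx
        have h1 : α * (x : R) = 0 := congrArg Subtype.val hx
        apply Subtype.ext
        have h2 : (x : R) = β * (α * x) := by rw [← mul_assoc, hβα, one_mul]
        rw [h2, h1, mul_zero]; rfl
      have hmsurj : Function.Surjective m := LinearMap.injective_iff_surjective.1 hminj
      obtain ⟨x, hx⟩ := hmsurj 1
      have h1 : α * (x : R) = 1 := congrArg Subtype.val hx
      have h3 : (x : R) = β := by
        have h2 : (x : R) = β * (α * x) := by rw [← mul_assoc, hβα, one_mul]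
        rw [h2, h1, mul_one]
      rw [← h3]; exact x.2
    have hmem : star α ∈ A := by
      rw [hsβ]; exact A.smul_mem hβmem q
    refine ⟨hmem, fun ρ => ?_⟩
    set lam := ρ a with hlam
    have hP : Polynomial.aeval α (Algebra.lmul ℚ R α).charpoly = 0 := by
      have h1 := LinearMap.aeval_self_charpoly (Algebra.lmul ℚ R α)
      rw [Polynomial.aeval_algHom_apply] at h1
      exact Algebra.lmul_injective (by rw [h1, map_zero])
    have hPa : Polynomial.aeval a (Algebra.lmul ℚ R α).charpoly = 0 := by
      apply Subtype.ext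
      rw [Polynomial.aeval_subalgebra_coe]
      exact hP
    have hroot : ((Algebra.lmul ℚ R α).charpoly.map (algebraMap ℚ ℂ)).eval lam = 0 := by
      rw [Polynomial.eval_map, ← Polynomial.aeval_def, hlam, Polynomial.aeval_algHom_apply, hPa, map_zero]
    have hns := normSq_of_root R σ hpos α q hα' lam hroot
    have hprod : lam * ρ ⟨star α, hmem⟩ = (q : ℂ) := by
      rw [hlam, ← map_mul]
      have h4 : a * ⟨star α, hmem⟩ = algebraMap ℚ A q := Subtype.ext hα
      rw [h4, ρ.commutes]; simp
    have hlam0 : lam ≠ 0 := by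
      intro h0; rw [h0, map_zero] at hns; exact hq0 (by exact_mod_cast hns.symm)
    constructor
    · have h1 : lam * (starRingEnd ℂ) lam = (q : ℂ) := by
        rw [Complex.mul_conj, hns]; push_cast; rfl
      exact mul_left_cancel₀ hlam0 (hprod.trans h1.symm)
    · rw [← Complex.normSq_eq_norm_sq]; exact hns

end Main

end Groth.Agent.LD.PosInv
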