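import Mathlib
import Groth.Prelude.Def_W4sga3xxiRoot

/-!
# Root data (SGA3 XXI): basic library for the `RootD` statements

Root pairings over `ℤ` with finitely many roots, possibly non-reduced.
-/

open Set Function

namespace Groth.Agent.LD.RD

variable {ι M N : Type*} [AddCommGroup M] [AddCommGroup N] (P : RootPairing ι ℤ M N)

/-! ### Torsion-freeness -/

include P in
lemma isAddTorsionFree_left : IsAddTorsionFree M :=
  have : Module.IsReflexive ℤ M := Module.IsReflexive.of_isPerfPair P.toLinearMap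
  .of_isTorsionFree ℤ M

include P in
lemma isAddTorsionFree_right : IsAddTorsionFree N :=
  isAddTorsionFree_left P.flip

lemma pairingIn_eq (i j : ι) : P.pairingIn ℤ i j = P.pairing i j := by
  simpa using P.algebraMap_pairingIn ℤ i j

/-! ### `natSpan` -/

lemma natSpan_mono {S T : Set ι} (h : S ⊆ T) : RootD.natSpan P S ≤ RootD.natSpan P T :=
  AddSubmonoid.closure_mono (image_mono h)

lemma root_mem_natSpan {S : Set ι} {i : ι} (hi : i ∈ S) : P.root i ∈ RootD.natSpan P S :=
  AddSubmonoid.subset_closure (mem_image_of_mem _ hi)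

lemma mem_natSpan_iff {S : Set ι} {x : M} :
    x ∈ RootD.natSpan P S ↔
      ∃ c : ι →₀ ℕ, (↑c.support : Set ι) ⊆ S ∧ Finsupp.linearCombination ℕ P.root c = x := by
  unfold RootD.natSpan
  rw [← Submodule.span_nat_eq_addSubmonoidClosure, Submodule.mem_toAddSubmonoid,
    Finsupp.mem_span_image_iff_linearCombination]
  simp [Finsupp.mem_supported]

/-- Cast a natural-number coefficient vector to an integer one. -/
noncomputable def castZ (c : ι →₀ ℕ) : ι →₀ ℤ := c.mapRange (Nat.cast) (by simp)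

@[simp] lemma castZ_apply (c : ι →₀ ℕ) (i : ι) : castZ c i = (c i : ℤ) := by simp [castZ]

@[simp] lemma support_castZ (c : ι →₀ ℕ) : (castZ c).support = c.support := by
  ext i; simp [castZ]

lemma linearCombination_castZ (c : ι →₀ ℕ) :
    Finsupp.linearCombination ℤ P.root (castZ c) = Finsupp.linearCombination ℕ P.root c := by
  simp only [Finsupp.linearCombination_apply, castZ]
  rw [Finsupp.sum_mapRange_index (by simp)]
  simp [Nat.cast_smul_eq_nsmul]

lemma mem_natSpan_iff_int {S : Set ι} {x : M} :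
    x ∈ RootD.natSpan P S ↔
      ∃ c : ι →₀ ℤ, (↑c.support : Set ι) ⊆ S ∧ (∀ i, 0 ≤ c i) ∧
        Finsupp.linearCombination ℤ P.root c = x := by
  rw [mem_natSpan_iff]
  constructor
  · rintro ⟨c, hc, rfl⟩
    exact ⟨castZ c, by simpa using hc, by simp, linearCombination_castZ P c⟩
  · rintro ⟨c, hc, hpos, rfl⟩
    refine ⟨c.mapRange Int.toNat (by simp), ?_, ?_⟩
    · intro i hi
      apply hc
      simp only [Finset.mem_coe, Finsupp.mem_support_iff, Finsupp.mapRange_apply] at hi ⊢
      intro h; simp [h] at hi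
    · rw [← linearCombination_castZ]
      congr 1
      ext i
      simp [hpos i]

lemma natSpan_le_span (S : Set ι) {x : M} (hx : x ∈ RootD.natSpan P S) :
    x ∈ Submodule.span ℤ (P.root '' S) := by
  obtain ⟨c, hc, -, rfl⟩ := (mem_natSpan_iff_int P).1 hx
  exact (Finsupp.mem_span_image_iff_linearCombination ℤ).2 ⟨c, by simpa [Finsupp.mem_supported] using hc, rfl⟩

/-- An additive map to an ordered group which is nonnegative on the generators is nonnegative on
`natSpan`. -/
lemma map_nonneg_of_mem_natSpan {G : Type*} [AddCommGroup G] [PartialOrder G] [IsOrderedAddMonoid G]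
    (φ : M →+ G) {S : Set ι} (h : ∀ i ∈ S, 0 ≤ φ (P.root i)) {x : M} (hx : x ∈ RootD.natSpan P S) :
    0 ≤ φ x := by
  refine AddSubmonoid.closure_induction ?_ (by simp) (fun a b _ _ ha hb => ?_) hx
  · rintro _ ⟨i, hi, rfl⟩; exact h i hi
  · rw [map_add]; exact add_nonneg ha hb

section finite

variable [Finite ι]

/-- There is a coweight on which no root vanishes. -/
lemma exists_regular : ∃ n : N, ∀ i, P.toLinearMap (P.root i) n ≠ 0 := by
  classical
  have _ : Fintype ι := Fintype.ofFinite ι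
  let g : ι → Module.Dual ℚ (ι → ℚ) := fun i =>
    ∑ j, (P.pairing i j : ℚ) • LinearMap.proj j
  have hg : ∀ i, ∃ x, g i x ≠ 0 := fun i => ⟨Pi.single i 1, by
    simp [g, Pi.single_apply, P.pairing_same]⟩
  obtain ⟨x, hx⟩ := Module.Dual.exists_forall_ne_zero_of_forall_exists g hg
  obtain ⟨b, hb⟩ := IsLocalization.exist_integer_multiples_of_finite (nonZeroDivisors ℤ) x
  choose z hz using hb
  refine ⟨∑ j, z j • P.coroot j, fun i => ?_⟩
  have hb0 : ((b : ℤ) : ℚ) ≠ 0 := by
    have := nonZeroDivisors.coe_ne_zero b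
    exact_mod_cast this
  have key : ((P.toLinearMap (P.root i) (∑ j, z j • P.coroot j) : ℤ) : ℚ) = (b : ℤ) * g i x := by
    simp only [map_sum, map_smul, P.root_coroot_eq_pairing, smul_eq_mul, g, LinearMap.sum_apply,
      LinearMap.smul_apply, LinearMap.proj_apply, Finset.mul_sum]
    push_cast
    refine Finset.sum_congr rfl fun j _ => ?_
    have := hz j
    simp only [Algebra.smul_def, eq_intCast] at this
    rw [this]; ring
  intro h0
  rw [h0] at key
  simp only [Int.cast_zero] at key
  exact hx i (by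
    rcases mul_eq_zero.1 key.symm with h | h
    · exact absurd h hb0
    · exact h)

omit [Finite ι] in
@[simp] lemma root_neg (k : ι) : P.root (P.reflectionPerm k k) = -P.root k := by
  rw [P.root_reflectionPerm, P.reflection_apply_self]

lemma isSimpleSys_baseOf (f : M →ₗ[ℤ] ℤ) (hf : ∀ i, f (P.root i) ≠ 0) :
    RootD.IsSimpleSys P (IsAddIndecomposable.baseOf P.root (f : M →+ ℤ)) := by
  let _ := P.indexNeg
  refine ⟨P.linearIndepOn_root_baseOf' (S := ℤ) f hf, fun i => ?_⟩
  exact IsAddIndecomposable.mem_or_neg_mem_closure_baseOf P.root (f : M →+ ℤ) i (hf i) (by simp)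

lemma exists_isSimpleSys : ∃ Δ : Set ι, RootD.IsSimpleSys P Δ := by
  obtain ⟨n, hn⟩ := exists_regular P
  exact ⟨_, isSimpleSys_baseOf P (P.toLinearMap.flip n) (by simpa using hn)⟩

variable {P} {Δ : Set ι} (hΔ : RootD.IsSimpleSys P Δ)

omit [Finite ι] in
include hΔ in
lemma IsSimpleSys.coeff_unique {c d : ι →₀ ℤ} (hc : (↑c.support : Set ι) ⊆ Δ) (hd : (↑d.support : Set ι) ⊆ Δ)
    (h : Finsupp.linearCombination ℤ P.root c = Finsupp.linearCombination ℤ P.root d) : c = d :=
  linearIndepOn_iffₛ.1 hΔ.linInd c (by simpa [Finsupp.mem_supported] using hc) d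
    (by simpa [Finsupp.mem_supported] using hd) h

omit [Finite ι] in
include hΔ in
lemma IsSimpleSys.exists_coeff (k : ι) : ∃ c : ι →₀ ℤ, (↑c.support : Set ι) ⊆ Δ ∧
    Finsupp.linearCombination ℤ P.root c = P.root k ∧ ((∀ j, 0 ≤ c j) ∨ (∀ j, c j ≤ 0)) := by
  rcases hΔ.mem_or_neg_mem k with h | h
  · obtain ⟨c, hc, hpos, hk⟩ := (mem_natSpan_iff_int P).1 h
    exact ⟨c, hc, hk, Or.inl hpos⟩
  · obtain ⟨c, hc, hpos, hk⟩ := (mem_natSpan_iff_int P).1 h
    refine ⟨-c, by simpa using hc, by rw [map_neg, hk, neg_neg], Or.inr fun j => by simpa using hpos j⟩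

end finite

end Groth.Agent.LD.RD
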