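import Groth.Agent.Lib.Lead.RootD9

/-!
# Root data: extending additive functions on roots to the root lattice
-/

open Set Function

namespace Groth.Agent.LD.RD

variable {ι M N : Type*} [AddCommGroup M] [AddCommGroup N] {P : RootPairing ι ℤ M N}
variable {Δ : Set ι}

lemma root_mem_span_simple (hΔ : RootD.IsSimpleSys P Δ) (k : ι) :
    P.root k ∈ Submodule.span ℤ (range fun d : Δ => P.root d) := by
  have h : range (fun d : Δ => P.root d) = P.root '' Δ := by
    ext x; simp
  rw [h]
  rcases hΔ.mem_or_neg_mem k with h' | h'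
  · exact natSpan_le_span P Δ h'
  · have := natSpan_le_span P Δ h'
    rwa [neg_mem_iff] at this

lemma rootSpan_le_span_simple (hΔ : RootD.IsSimpleSys P Δ) :
    Submodule.span ℤ (range P.root) ≤ Submodule.span ℤ (range fun d : Δ => P.root d) := by
  rw [Submodule.span_le]
  rintro _ ⟨k, rfl⟩
  exact root_mem_span_simple hΔ k

/-- S5465 -/
theorem existsUnique_extension [Finite ι] {G : Type*} [AddCommGroup G] (f : ι → G)
    (hneg : ∀ i : ι, f (P.reflectionPerm i i) = -f i)
    (hadd : ∀ i j k : ι, P.root k = P.root i + P.root j → f k = f i + f j) :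
    ∃! φ : Submodule.span ℤ (Set.range P.root) →+ G,
      ∀ i : ι, φ ⟨P.root i, Submodule.subset_span (Set.mem_range_self i)⟩ = f i := by
  obtain ⟨Δ, hΔ⟩ := exists_isSimpleSys P
  have hli : LinearIndependent ℤ (fun d : Δ => P.root d) := hΔ.linInd
  let ψ : Submodule.span ℤ (Set.range P.root) →ₗ[ℤ] G :=
    (Finsupp.linearCombination ℤ (fun d : Δ => f d)) ∘ₗ hli.repr ∘ₗ
      (Submodule.inclusion (rootSpan_le_span_simple hΔ))
  have hψΔ : ∀ i (hi : i ∈ Δ), ψ ⟨P.root i, Submodule.subset_span (Set.mem_range_self i)⟩ = f i := by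
    intro i hi
    have : hli.repr (Submodule.inclusion (rootSpan_le_span_simple hΔ)
        ⟨P.root i, Submodule.subset_span (Set.mem_range_self i)⟩) = Finsupp.single ⟨i, hi⟩ 1 :=
      hli.repr_eq_single ⟨i, hi⟩ _ rfl
    simp only [ψ, LinearMap.comp_apply, this, Finsupp.linearCombination_single, one_smul]
  have hψadd : ∀ i j k : ι, P.root k = P.root i + P.root j →
      ψ ⟨P.root k, Submodule.subset_span (Set.mem_range_self k)⟩ =
        ψ ⟨P.root i, Submodule.subset_span (Set.mem_range_self i)⟩ +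
        ψ ⟨P.root j, Submodule.subset_span (Set.mem_range_self j)⟩ := by
    intro i j k h
    rw [← map_add]
    congr 1
    exact Subtype.ext h
  have hψpos : ∀ n : ℕ, ∀ k ∈ RootD.posOf P Δ, (ht hΔ k).toNat = n →
      ψ ⟨P.root k, Submodule.subset_span (Set.mem_range_self k)⟩ = f k := by
    intro n
    induction n using Nat.strong_induction_on with
    | _ n ih =>
      intro k hk hn
      by_cases hkΔ : k ∈ Δ
      · exact hψΔ k hkΔ
      · obtain ⟨i, hi, l, hl, hkl, -⟩ := IsSimpleSys.exists_sub_simple hΔ hk hkΔ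
        have h1 := ht_add hΔ hkl
        rw [ht_simple hΔ hi] at h1
        have h2 := ht_pos hΔ hl
        rw [hψadd l i k hkl, ih (ht hΔ l).toNat (by omega) l hl rfl, hψΔ i hi, hadd l i k hkl]
  have hψ : ∀ k : ι, ψ ⟨P.root k, Submodule.subset_span (Set.mem_range_self k)⟩ = f k := by
    intro k
    rcases IsSimpleSys.mem_posOf_or hΔ k with h | h
    · exact hψpos _ k h rfl
    · have h1 := hψpos _ _ h rfl
      have h2 : (⟨P.root k, Submodule.subset_span (Set.mem_range_self k)⟩ :
          Submodule.span ℤ (Set.range P.root)) =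
          -⟨P.root (P.reflectionPerm k k), Submodule.subset_span (Set.mem_range_self _)⟩ := by
        apply Subtype.ext
        simp
      rw [h2, map_neg, h1, hneg, neg_neg]
  refine ⟨ψ.toAddMonoidHom, hψ, ?_⟩
  intro φ hφ
  ext ⟨x, hx⟩
  induction hx using Submodule.span_induction with
  | mem x h =>
    obtain ⟨i, rfl⟩ := h
    rw [hφ i]
    exact (hψ i).symm
  | zero =>
    have : (⟨0, Submodule.zero_mem _⟩ : Submodule.span ℤ (Set.range P.root)) = 0 := rfl
    rw [this, map_zero, map_zero]
  | add x y hx hy ihx ihy =>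
    have : (⟨x + y, Submodule.add_mem _ hx hy⟩ : Submodule.span ℤ (Set.range P.root)) =
        ⟨x, hx⟩ + ⟨y, hy⟩ := rfl
    rw [this, map_add, map_add, ihx, ihy]
  | smul a x hx ih =>
    have : (⟨a • x, Submodule.smul_mem _ a hx⟩ : Submodule.span ℤ (Set.range P.root)) =
        a • ⟨x, hx⟩ := rfl
    rw [this, map_zsmul, map_zsmul, ih]

section long

variable [Fintype ι]

lemma len_dvd_aux {i k : ι} (h : ¬ P.IsOrthogonal i k)
    (hle : P.RootForm (P.root k) (P.root k) ≤ P.RootForm (P.root i) (P.root i)) :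
    P.RootForm (P.root k) (P.root k) ∣ P.RootForm (P.root i) (P.root i) := by
  obtain ⟨h1, h2⟩ := pairing_ne_zero_of_not_orth h
  have e := pairing_mul_len (P := P) i k
  have hset := P.pairingIn_pairingIn_mem_set_of_isCrystallographic i k
  rw [pairingIn_eq, pairingIn_eq] at hset
  simp only [mem_insert_iff, mem_singleton_iff, Prod.mk.injEq] at hset
  have hk := len_pos (P := P) k
  set a := P.RootForm (P.root i) (P.root i)
  set b := P.RootForm (P.root k) (P.root k)
  rcases hset with h | h | h | h | h | h | h | h | h | h | h | h | h | h | h | h | h <;>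
    obtain ⟨ha, hb⟩ := h <;> rw [ha, hb] at e
  · omega
  · exact ⟨1, by omega⟩
  · exact ⟨1, by omega⟩
  · omega
  · exact ⟨2, by omega⟩
  · omega
  · exact ⟨2, by omega⟩
  · omega
  · exact ⟨3, by omega⟩
  · omega
  · exact ⟨3, by omega⟩
  · exact ⟨4, by omega⟩
  · omega
  · exact ⟨4, by omega⟩
  · omega
  · exact ⟨1, by omega⟩
  · exact ⟨1, by omega⟩

lemma len_min_dvd
    (hirr : ∀ R' : Set ι, RootD.IsClosedSub P R' → RootD.IsSymmSub P R' → RootD.IsClosedSub P R'ᶜ →
      RootD.IsSymmSub P R'ᶜ → R' = ∅ ∨ R' = Set.univ)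
    (i₀ : ι) (hmin : ∀ i : ι, P.RootForm (P.root i₀) (P.root i₀) ≤ P.RootForm (P.root i) (P.root i))
    (i : ι) : P.RootForm (P.root i₀) (P.root i₀) ∣ P.RootForm (P.root i) (P.root i) := by
  obtain ⟨w, -, hwo⟩ := exists_weyl_not_orth (chain_of_irr hirr i₀ i)
  have hlen := len_smul w i₀
  have hwo' : ¬ P.IsOrthogonal i (w • i₀) := fun ho => hwo ho.symm
  have := len_dvd_aux hwo' (by rw [hlen]; exact hmin i)
  rwa [hlen] at this

lemma len_smul_coroot_add {i j k : ι} (h : P.root k = P.root i + P.root j) :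
    P.RootForm (P.root k) (P.root k) • P.coroot k =
      P.RootForm (P.root i) (P.root i) • P.coroot i + P.RootForm (P.root j) (P.root j) • P.coroot j := by
  rw [P.rootForm_self_smul_coroot, P.rootForm_self_smul_coroot, P.rootForm_self_smul_coroot, h,
    map_add, smul_add]

/-- S5499 -/
theorem existsUnique_long_coroot
    (hirr : ∀ R' : Set ι, RootD.IsClosedSub P R' → RootD.IsSymmSub P R' → RootD.IsClosedSub P R'ᶜ →
      RootD.IsSymmSub P R'ᶜ → R' = ∅ ∨ R' = Set.univ)
    (i₀ : ι) (hmin : ∀ i : ι, P.RootForm (P.root i₀) (P.root i₀) ≤ P.RootForm (P.root i) (P.root i)) :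
    ∃! u : Submodule.span ℤ (Set.range P.root) →+ N, ∀ i : ι,
      u ⟨P.root i, Submodule.subset_span (Set.mem_range_self i)⟩ =
        (P.RootForm (P.root i) (P.root i) / P.RootForm (P.root i₀) (P.root i₀)) • P.coroot i := by
  have hN := isAddTorsionFree_right P
  have hm := len_pos (P := P) i₀
  have hdvd := len_min_dvd hirr i₀ hmin
  have hmul : ∀ i, P.RootForm (P.root i₀) (P.root i₀) •
      ((P.RootForm (P.root i) (P.root i) / P.RootForm (P.root i₀) (P.root i₀)) • P.coroot i) =
      P.RootForm (P.root i) (P.root i) • P.coroot i := by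
    intro i
    rw [smul_smul, Int.mul_ediv_cancel' (hdvd i)]
  refine existsUnique_extension _ ?_ ?_
  · intro i
    have hl : P.RootForm (P.root (P.reflectionPerm i i)) (P.root (P.reflectionPerm i i)) =
        P.RootForm (P.root i) (P.root i) := by
      rw [root_neg]; simp
    have hc : P.coroot (P.reflectionPerm i i) = -P.coroot i := by
      rw [P.coroot_reflectionPerm, P.coreflection_apply_self]
    rw [hl, hc, smul_neg]
  · intro i j k h
    apply smul_right_injective N hm.ne'
    simp only
    rw [smul_add, hmul, hmul, hmul, len_smul_coroot_add h]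

end long

end Groth.Agent.LD.RD
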