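import Groth.Agent.Lib.Lead.RootD10

/-! RootD11: Cartan matrix facts -/


open Set Function

namespace Groth.Agent.LD.RD

variable {ι M N : Type*} [AddCommGroup M] [AddCommGroup N] {P : RootPairing ι ℤ M N}
variable {Δ : Set ι}

section cartan

/-- S5507 -/
theorem exists_symmetrizer [Finite ι] (Δ : Finset ι) (hΔ : RootD.IsSimpleSys P (↑Δ : Set ι)) :
    ∃ m : ↥Δ → ℤ, (∀ a, 0 < m a) ∧
      (Matrix.of fun (a b : ↥Δ) => m a * P.pairing (b : ι) (a : ι)).IsSymm ∧
      (Matrix.of fun (a b : ↥Δ) => m a * P.pairing (b : ι) (a : ι)).PosDef := by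
  have _ : Fintype ι := Fintype.ofFinite ι
  have hA : ∀ a b : ↥Δ, P.RootForm (P.root a) (P.root a) * P.pairing (b : ι) (a : ι) =
      2 * P.RootForm (P.root b) (P.root a) := by
    intro a b
    rw [two_mul_rootForm, mul_comm]
  have hsymm : ∀ x y : M, P.RootForm x y = P.RootForm y x := fun x y => by
    have := P.rootForm_symmetric.eq x y
    simpa using this
  have hS : (Matrix.of fun (a b : ↥Δ) => P.RootForm (P.root a) (P.root a) * P.pairing (b : ι) (a : ι)).IsSymm := by
    ext a b
    simp only [Matrix.transpose_apply, Matrix.of_apply]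
    rw [hA, hA, hsymm]
  refine ⟨fun a => P.RootForm (P.root a) (P.root a), fun a => len_pos _, hS, ?_, ?_⟩
  · rw [Matrix.IsHermitian, Matrix.conjTranspose_eq_transpose_of_trivial]
    exact hS
  · intro x hx
    set v : M := ∑ a : ↥Δ, x a • P.root a with hv
    have hv0 : v ≠ 0 := by
      intro h0
      apply hx
      have hli : LinearIndependent ℤ (fun d : (↑Δ : Set ι) => P.root d) := hΔ.linInd
      rw [Fintype.linearIndependent_iff] at hli
      ext a
      exact hli (fun a => x a) h0 a
    have hvmem : v ∈ Submodule.span ℤ (range P.root) :=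
      Submodule.sum_mem _ fun a _ => Submodule.smul_mem _ _ (Submodule.subset_span (mem_range_self _))
    have hpos := P.rootForm_pos_of_ne_zero hvmem hv0
    have hexp : P.RootForm v v = ∑ a : ↥Δ, ∑ b : ↥Δ, x a * x b * P.RootForm (P.root a) (P.root b) := by
      rw [hv]
      simp only [map_sum, map_smul, LinearMap.sum_apply, LinearMap.smul_apply, smul_eq_mul,
        Finset.mul_sum]
      rw [Finset.sum_comm]
      refine Finset.sum_congr rfl fun a _ => Finset.sum_congr rfl fun b _ => ?_
      ring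
    rw [Finsupp.sum_fintype _ _ (by simp)]
    have : ∀ a : ↥Δ, (x.sum fun j xj => star (x a) *
        (Matrix.of fun (a b : ↥Δ) => P.RootForm (P.root a) (P.root a) * P.pairing (b : ι) (a : ι)) a j * xj) =
        ∑ b : ↥Δ, 2 * (x a * x b * P.RootForm (P.root a) (P.root b)) := by
      intro a
      rw [Finsupp.sum_fintype _ _ (by simp)]
      refine Finset.sum_congr rfl fun b _ => ?_
      simp only [Matrix.of_apply, star_trivial, hA, hsymm (P.root b)]
      ring
    simp only [this, ← Finset.mul_sum]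
    rw [← hexp]
    linarith

end cartan

section cartan2

open Matrix in
/-- S5484 -/
theorem cartan_minor_pos [Fintype ι] (Δ' : Finset ι) [DecidableEq ↥Δ']
    (hli : LinearIndepOn ℤ P.root (↑Δ' : Set ι)) :
    0 < Matrix.det (Matrix.of fun (a b : ↥Δ') => P.pairing (b : ι) (a : ι)) := by
  -- the matrix `A i a = ⟨a, i^∨⟩`
  set A : Matrix ι ↥Δ' ℤ := Matrix.of fun i a => P.pairing (a : ι) i with hA
  set C : Matrix ↥Δ' ↥Δ' ℤ := Matrix.of fun (a b : ↥Δ') => P.pairing (b : ι) (a : ι) with hC
  have hsymm : ∀ x y : M, P.RootForm x y = P.RootForm y x := fun x y => by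
    have := P.rootForm_symmetric.eq x y
    simpa using this
  have hgram : ∀ a b : ↥Δ', (Aᵀ * A) a b = P.RootForm (P.root a) (P.root b) := by
    intro a b
    rw [Matrix.mul_apply, P.rootForm_apply_apply]
    refine Finset.sum_congr rfl fun i _ => ?_
    simp [hA, P.root_coroot'_eq_pairing]
  -- `D * C = 2 • (Aᵀ A)`
  have hDC : Matrix.diagonal (fun a : ↥Δ' => P.RootForm (P.root a) (P.root a)) * C =
      (2 : ℤ) • (Aᵀ * A) := by
    ext a b
    rw [Matrix.diagonal_mul, Matrix.smul_apply, hgram, smul_eq_mul, hsymm (P.root a) (P.root b),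
      two_mul_rootForm, hC, Matrix.of_apply, mul_comm]
  -- det (AᵀA) ≥ 0
  have hnn : 0 ≤ (Aᵀ * A).det := by
    have h1 : ((Aᵀ * A).det : ℝ) = ((A.map (Int.cast : ℤ → ℝ))ᴴ * (A.map (Int.cast : ℤ → ℝ))).det := by
      rw [show ((Aᵀ * A).det : ℝ) = (Int.castRingHom ℝ) ((Aᵀ * A).det) from rfl, RingHom.map_det]
      congr 1
      ext a b
      simp [Matrix.mul_apply]
    have h2 := (Matrix.posSemidef_conjTranspose_mul_self (A.map (Int.cast : ℤ → ℝ))).det_nonneg
    rw [← h1] at h2
    exact_mod_cast h2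
  have hne : (Aᵀ * A).det ≠ 0 := by
    intro h0
    obtain ⟨v, hv, hmv⟩ := Matrix.exists_mulVec_eq_zero_iff.mpr h0
    apply hv
    set x : M := ∑ a : ↥Δ', v a • P.root a with hx
    have hxx : P.RootForm x x = 0 := by
      have : P.RootForm x x = ∑ a : ↥Δ', v a * ∑ b : ↥Δ', (Aᵀ * A) a b * v b := by
        rw [hx]
        simp only [map_sum, map_smul, LinearMap.sum_apply, LinearMap.smul_apply, smul_eq_mul,
          Finset.mul_sum, hgram]
        rw [Finset.sum_comm]
        refine Finset.sum_congr rfl fun a _ => Finset.sum_congr rfl fun b _ => ?_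
        ring
      rw [this]
      refine Finset.sum_eq_zero fun a _ => ?_
      have := congrFun hmv a
      simp only [Matrix.mulVec, dotProduct, Pi.zero_apply] at this
      rw [this, mul_zero]
    have hx0 : x = 0 := by
      by_contra hne
      have hxmem : x ∈ Submodule.span ℤ (range P.root) :=
        Submodule.sum_mem _ fun a _ => Submodule.smul_mem _ _ (Submodule.subset_span (mem_range_self _))
      have := P.rootForm_pos_of_ne_zero hxmem hne
      omega
    have hli' : LinearIndependent ℤ (fun d : (↑Δ' : Set ι) => P.root d) := hli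
    rw [Fintype.linearIndependent_iff] at hli'
    ext a
    exact hli' (fun a => v a) hx0 a
  have hpos : 0 < (Aᵀ * A).det := lt_of_le_of_ne hnn (Ne.symm hne)
  have hdet := congrArg Matrix.det hDC
  rw [Matrix.det_mul, Matrix.det_diagonal, Matrix.det_smul] at hdet
  have hprod : 0 < ∏ a : ↥Δ', P.RootForm (P.root a) (P.root a) :=
    Finset.prod_pos fun a _ => len_pos _
  have : 0 < (∏ a : ↥Δ', P.RootForm (P.root a) (P.root a)) * C.det := by
    rw [hdet]; positivity
  exact (mul_pos_iff_of_pos_left hprod).mp this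
end cartan2

section autrad

/-- S5477 -/
theorem aut_eq_one_of_rad [Finite ι] (u : P.Aut)
    (hs : ∀ m : M, ∃ n : ℕ, 0 < n ∧ n • (u • m - m) ∈ Submodule.span ℤ (Set.range P.root))
    (hfix : ∀ i : ι, u • i = i) : u = 1 := by
  have hM := isAddTorsionFree_left P
  refine aut_ext fun m => ?_
  rw [one_smul, ← sub_eq_zero]
  obtain ⟨n, hn, hmem⟩ := hs m
  have h0 : n • (u • m - m) = 0 := by
    refine eq_zero_of_mem_rootSpan_of_coroot_eq_zero hmem fun i => ?_
    rw [map_nsmul, map_sub]
    have := coroot'_smul u i m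
    rw [hfix i] at this
    rw [this, sub_self, smul_zero]
  exact (smul_eq_zero_iff_right hn.ne').mp h0

lemma smul_mem_rootSpan (g : P.Aut) {x : M} (hx : x ∈ Submodule.span ℤ (Set.range P.root)) :
    g • x ∈ Submodule.span ℤ (Set.range P.root) := by
  induction hx using Submodule.span_induction with
  | mem x hx =>
    obtain ⟨i, rfl⟩ := hx
    rw [← root_smul]
    exact Submodule.subset_span (mem_range_self _)
  | zero => simp
  | add x y _ _ hx hy => rw [smul_add]; exact add_mem hx hy
  | smul a x _ hx => rw [smul_comm]; exact Submodule.smul_mem _ _ hx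

/-- S5478 -/
theorem finite_aut_rad [Finite ι] :
    Set.Finite {u : P.Aut | ∀ m : M, ∃ n : ℕ, 0 < n ∧
      n • (u • m - m) ∈ Submodule.span ℤ (Set.range P.root)} := by
  set S := {u : P.Aut | ∀ m : M, ∃ n : ℕ, 0 < n ∧
      n • (u • m - m) ∈ Submodule.span ℤ (Set.range P.root)} with hS
  have hinv : ∀ u ∈ S, u⁻¹ ∈ S := by
    intro u hu m
    obtain ⟨n, hn, hmem⟩ := hu (u⁻¹ • m)
    refine ⟨n, hn, ?_⟩
    rw [smul_inv_smul] at hmem
    have : n • (u⁻¹ • m - m) = -(n • (m - u⁻¹ • m)) := by rw [← smul_neg, neg_sub]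
    rw [this]
    exact neg_mem hmem
  have hmul : ∀ u ∈ S, ∀ v ∈ S, u * v ∈ S := by
    intro u hu v hv m
    obtain ⟨n, hn, hmem⟩ := hu (v • m)
    obtain ⟨k, hk, hmem'⟩ := hv m
    refine ⟨n * k, Nat.mul_pos hn hk, ?_⟩
    have : (n * k) • ((u * v) • m - m) = k • (n • (u • v • m - v • m)) + n • (k • (v • m - m)) := by
      rw [mul_smul u v m]
      generalize u • v • m = a
      generalize v • m = b
      module
    rw [this]
    exact add_mem (Submodule.smul_of_tower_mem _ _ hmem) (Submodule.smul_of_tower_mem _ _ hmem')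
  refine Set.Finite.of_injOn (f := fun (u : P.Aut) (i : ι) => u • i) (t := Set.univ)
    (fun _ _ => mem_univ _) ?_ Set.finite_univ
  intro u hu v hv huv
  have h1 : v⁻¹ * u = 1 := by
    refine aut_eq_one_of_rad _ (hmul _ (hinv v hv) _ hu) fun i => ?_
    have := congrFun huv i
    simp only at this
    rw [mul_smul, this, inv_smul_smul]
  have : u = v * (v⁻¹ * u) := by group
  rw [this, h1, mul_one]

end autrad

section cone

lemma coeff_unique_of_linInd (hli : LinearIndepOn ℤ P.root Δ) {c d : ι →₀ ℤ}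
    (hc : (↑c.support : Set ι) ⊆ Δ) (hd : (↑d.support : Set ι) ⊆ Δ)
    (h : Finsupp.linearCombination ℤ P.root c = Finsupp.linearCombination ℤ P.root d) : c = d :=
  linearIndepOn_iffₛ.1 hli c (by simpa [Finsupp.mem_supported] using hc) d
    (by simpa [Finsupp.mem_supported] using hd) h

/-- S5446 -/
theorem isSimpleSys_of_cone [Finite ι] (Δ : Set ι)
    (hind : ∀ i ∈ Δ, RootD.IsIndiv P i) (hli : LinearIndepOn ℤ P.root Δ)
    (hcone : ∀ k : ι, ∃ n : ℕ, 0 < n ∧
      (n • P.root k ∈ RootD.natSpan P Δ ∨ n • (-P.root k) ∈ RootD.natSpan P Δ)) :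
    RootD.IsSimpleSys P Δ := by
  classical
  have hM := isAddTorsionFree_left P
  set S : Set ι := {k | ∃ n : ℕ, 0 < n ∧ n • P.root k ∈ RootD.natSpan P Δ} with hS
  have hkey : ∀ x ∈ RootD.natSpan P S, ∃ N : ℕ, 0 < N ∧ N • x ∈ RootD.natSpan P Δ := by
    intro x hx
    refine AddSubmonoid.closure_induction ?_ ?_ ?_ hx
    · rintro _ ⟨k, hk, rfl⟩; exact hk
    · exact ⟨1, one_pos, by simp⟩
    · rintro a b _ _ ⟨n, hn, ha⟩ ⟨m, hm, hb⟩
      refine ⟨n * m, Nat.mul_pos hn hm, ?_⟩
      have : (n * m) • (a + b) = m • (n • a) + n • (m • b) := by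
        rw [smul_add, mul_comm n m, mul_smul, mul_smul, smul_comm m n b]
      rw [this]
      exact add_mem (nsmul_mem ha m) (nsmul_mem hb n)
  have hzero : ∀ x, x ∈ RootD.natSpan P Δ → -x ∈ RootD.natSpan P Δ → x = 0 := by
    intro x hx hnx
    obtain ⟨c, hc, hcpos, rfl⟩ := (mem_natSpan_iff_int P).1 hx
    obtain ⟨d, hd, hdpos, hdx⟩ := (mem_natSpan_iff_int P).1 hnx
    have h1 : c = -d := coeff_unique_of_linInd hli hc (by simpa using hd)
      (by rw [map_neg, hdx, neg_neg])
    have h2 : c = 0 := by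
      ext j
      have h3 := hcpos j
      have h4 := hdpos j
      rw [h1] at h3 ⊢
      simp only [Finsupp.coe_neg, Pi.neg_apply, Finsupp.coe_zero, Pi.zero_apply] at h3 ⊢
      omega
    simp [h2]
  have hPS : RootD.IsPosSys P S := by
    refine ⟨?_, ?_, ?_⟩
    · rintro i ⟨n, hn, h1⟩ ⟨m, hm, h2⟩
      rw [root_neg] at h2
      have h3 := hzero ((n * m) • P.root i)
        (by rw [mul_comm, mul_smul]; exact nsmul_mem h1 m)
        (by rw [← smul_neg, mul_smul]; exact nsmul_mem h2 n)
      rcases smul_eq_zero.1 h3 with h | h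
      · have := Nat.mul_pos hn hm; omega
      · exact P.ne_zero i h
    · intro i
      obtain ⟨n, hn, h | h⟩ := hcone i
      · exact Or.inl ⟨n, hn, h⟩
      · exact Or.inr ⟨n, hn, by rwa [root_neg]⟩
    · intro k n hn hk
      obtain ⟨N, hN, h⟩ := hkey _ hk
      exact ⟨N * n, Nat.mul_pos hN hn, by rwa [mul_smul]⟩
  obtain ⟨Δ₁, hΔ₁, hSΔ₁⟩ := exists_simple_eq_posOf hPS.disjoint hPS.cover (IsPosSys.closed hPS)
  have hsub : Δ ⊆ Δ₁ := by
    intro i hi
    have hiS : i ∈ S := ⟨1, one_pos, by simpa using root_mem_natSpan P hi⟩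
    rw [IsSimpleSys.mem_iff_indecomposable hΔ₁ (hSΔ₁ ▸ hiS)]
    rintro ⟨a, b, ha, hb, hab⟩
    rw [← hSΔ₁] at ha hb
    have hprop : ∀ a ∈ S, ∀ b ∈ S, P.root i = P.root a + P.root b →
        ∃ m : ℤ, 0 < m ∧ P.root a = m • P.root i := by
      rintro a ⟨n, hn, ha⟩ b ⟨n', hn', hb⟩ hab
      obtain ⟨c, hc, hcpos, hca⟩ := (mem_natSpan_iff_int P).1 ha
      obtain ⟨d, hd, hdpos, hdb⟩ := (mem_natSpan_iff_int P).1 hb
      have h1 : Finsupp.single i ((n : ℤ) * n') = (n' : ℤ) • c + (n : ℤ) • d := by
        refine coeff_unique_of_linInd hli ?_ ?_ ?_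
        · intro l hl
          have := Finsupp.support_single_subset hl
          simp only [Finset.mem_singleton] at this
          exact this ▸ hi
        · intro l hl
          have hl' := Finsupp.support_add hl
          rcases Finset.mem_union.1 hl' with h | h
          · exact hc (Finsupp.support_smul h)
          · exact hd (Finsupp.support_smul h)
        · rw [map_add, map_smul, map_smul, hca, hdb, Finsupp.linearCombination_single, hab]
          simp only [Nat.cast_smul_eq_nsmul, smul_add, mul_smul]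
          rw [smul_comm]
      have h2 : c = Finsupp.single i (c i) := by
        ext e
        by_cases he : e = i
        · subst he; simp
        · rw [Finsupp.single_eq_of_ne he]
          have := DFunLike.congr_fun h1 e
          simp only [Finsupp.single_eq_of_ne he, Finsupp.coe_add, Finsupp.coe_smul, Pi.add_apply,
            Pi.smul_apply, smul_eq_mul] at this
          have h3 := hcpos e
          have h4 := hdpos e
          have h5 : 0 ≤ (n : ℤ) * d e := by positivity
          have h6 : (n' : ℤ) * c e = 0 := by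
            have : 0 ≤ (n' : ℤ) * c e := by positivity
            omega
          rcases mul_eq_zero.1 h6 with h | h
          · omega
          · exact h
      have h3 : (n : ℤ) • P.root a = (c i) • P.root i := by
        rw [Nat.cast_smul_eq_nsmul, ← hca, h2, Finsupp.linearCombination_single]
        simp
      obtain ⟨m, hm⟩ := Groth.Agent.S5495.result P i a (hind i hi) (c i) n (by omega) h3
      have h4 : P.root a = m • P.root i := by
        rw [hm, mul_smul] at h3
        exact smul_right_injective M (show (n : ℤ) ≠ 0 by omega) h3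
      refine ⟨m, ?_, h4⟩
      have h5 := hcpos i
      rw [hm] at h5
      have h6 : 0 ≤ m := by
        by_contra hneg
        push Not at hneg
        have : (n : ℤ) * m < 0 := mul_neg_of_pos_of_neg (by omega) hneg
        omega
      rcases h6.lt_or_eq with h | h
      · exact h
      · exfalso
        rw [← h, zero_smul] at h4
        exact P.ne_zero a h4
    obtain ⟨ma, hma, ha'⟩ := hprop a ha b hb hab
    obtain ⟨mb, hmb, hb'⟩ := hprop b hb a ha (by rw [hab, add_comm])
    have h0 : (ma + mb - 1) • P.root i = 0 := by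
      rw [sub_smul, add_smul, one_smul, ← ha', ← hb', ← hab, sub_self]
    rcases smul_eq_zero.1 h0 with h | h
    · omega
    · exact P.ne_zero i h
  have hsup : Δ₁ ⊆ Δ := by
    intro d hd
    by_contra hdΔ
    have hdS : d ∈ S := hSΔ₁ ▸ IsSimpleSys.subset_posOf hΔ₁ hd
    obtain ⟨n, hn, hmem⟩ := hdS
    obtain ⟨c, hc, -, hcd⟩ := (mem_natSpan_iff_int P).1 hmem
    have h1 : c = Finsupp.single d (n : ℤ) := by
      refine IsSimpleSys.coeff_unique hΔ₁ (hc.trans hsub) ?_ ?_
      · intro l hl
        have := Finsupp.support_single_subset hl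
        simp only [Finset.mem_singleton] at this
        exact this ▸ hd
      · rw [hcd, Finsupp.linearCombination_single, Nat.cast_smul_eq_nsmul]
    have h2 : c d = n := by rw [h1]; simp
    have h3 : c d = 0 := by
      by_contra h
      exact hdΔ (hc (Finsupp.mem_support_iff.2 h))
    omega
  rw [Subset.antisymm hsub hsup]
  exact hΔ₁

end cone

section adj

/-- Every indivisible root belongs to some system of simple roots. -/
lemma exists_simple_mem_of_indiv [Finite ι] {i : ι} (hind : RootD.IsIndiv P i) :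
    ∃ Δ : Set ι, RootD.IsSimpleSys P Δ ∧ i ∈ Δ := by
  obtain ⟨Δ₀, hΔ₀⟩ := exists_isSimpleSys P
  have key : ∀ k ∈ RootD.posOf P Δ₀, RootD.IsIndiv P k → ∃ Δ : Set ι, RootD.IsSimpleSys P Δ ∧ k ∈ Δ := by
    intro k hk hkind
    obtain ⟨g, -, j, hj, hgj⟩ := IsSimpleSys.exists_simple_conj hΔ₀ hk hkind
    exact ⟨gimg g Δ₀, IsSimpleSys.gimg g hΔ₀, hgj ▸ smul_mem_gimg hj⟩
  rcases IsSimpleSys.mem_posOf_or hΔ₀ i with h | h
  · exact key i h hind
  · obtain ⟨Δ, hΔ, hmem⟩ := key _ h (isIndiv_neg hind)
    refine ⟨gimg (RootPairing.Equiv.reflection P i) Δ,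
      IsSimpleSys.gimg _ hΔ, ?_⟩
    have := smul_mem_gimg (g := RootPairing.Equiv.reflection P i) hmem
    rwa [reflection_smul_idx, P.reflectionPerm_self] at this

/-- S5475 -/
theorem indiv_of_adjoint [Finite ι] (had : Submodule.span ℤ (Set.range P.root) = ⊤)
    (i : ι) (hind : RootD.IsIndiv P i) (m : M) (n : ℤ) (h : n • m = P.root i) : n = 1 ∨ n = -1 := by
  classical
  obtain ⟨Δ, hΔ, hi⟩ := exists_simple_mem_of_indiv hind
  have hm : m ∈ Submodule.span ℤ (P.root '' Δ) := by
    have h1 : m ∈ Submodule.span ℤ (Set.range P.root) := by rw [had]; trivial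
    have h2 := rootSpan_le_span_simple hΔ h1
    have h3 : range (fun d : Δ => P.root d) = P.root '' Δ := by
      ext x; simp
    rwa [h3] at h2
  obtain ⟨c, hc, rfl⟩ := (Finsupp.mem_span_image_iff_linearCombination ℤ).1 hm
  have hc' : (↑c.support : Set ι) ⊆ Δ := by simpa [Finsupp.mem_supported] using hc
  have h1 : n • c = Finsupp.single i 1 := by
    refine IsSimpleSys.coeff_unique hΔ ?_ ?_ ?_
    · exact fun l hl => hc' (Finsupp.support_smul hl)
    · intro l hl
      have := Finsupp.support_single_subset hl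
      simp only [Finset.mem_singleton] at this
      exact this ▸ hi
    · rw [map_smul, h, Finsupp.linearCombination_single, one_smul]
  have h2 : n * c i = 1 := by
    have := DFunLike.congr_fun h1 i
    simpa using this
  exact Int.isUnit_iff.1 (IsUnit.of_mul_eq_one _ h2)

end adj

section morph

/-- if `⟨a, b^∨⟩ = 2` then `ℓ(b) ≤ ℓ(a)`, with equality iff `a = b`. -/
lemma len_le_of_pairing_eq_two [Fintype ι] {a b : ι} (h : P.pairing a b = 2) :
    P.RootForm (P.root b) (P.root b) ≤ P.RootForm (P.root a) (P.root a) ∧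
      (P.RootForm (P.root b) (P.root b) = P.RootForm (P.root a) (P.root a) → a = b) := by
  have e := pairing_mul_len (P := P) a b
  rw [h] at e
  have hset := P.pairingIn_pairingIn_mem_set_of_isCrystallographic a b
  rw [pairingIn_eq, pairingIn_eq, h] at hset
  have ha := len_pos (P := P) a
  have hb := len_pos (P := P) b
  simp only [mem_insert_iff, mem_singleton_iff, Prod.mk.injEq] at hset
  have h12 : P.pairing b a = 1 ∨ P.pairing b a = 2 := by omega
  rcases h12 with h1 | h2
  · rw [h1] at e
    constructor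
    · linarith
    · intro heq; exfalso; rw [heq] at e; linarith
  · rw [h2] at e
    constructor
    · linarith
    · intro _
      have : Module.IsReflexive ℤ M := Module.IsReflexive.of_isPerfPair P.toLinearMap
      exact (P.pairing_two_two_iff a b).1 ⟨h, h2⟩

/-- S5473 -/
theorem coroot_corr {ι' M' N' : Type*} [AddCommGroup M'] [AddCommGroup N']
    {P' : RootPairing ι' ℤ M' N'} [Finite ι] [Finite ι']
    (f : M' →ₗ[ℤ] M) (g : N →ₗ[ℤ] N')
    (hfg : ∀ (m' : M') (n : N), P.toLinearMap (f m') n = P'.toLinearMap m' (g n))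
    (e : ι' ≃ ι) (he : ∀ i' : ι', f (P'.root i') = P.root (e i'))
    (e' : ι ≃ ι') (he' : ∀ i : ι, g (P.coroot i) = P'.coroot (e' i)) :
    ∀ i' : ι', g (P.coroot (e i')) = P'.coroot i' := by
  classical
  have _ : Fintype ι' := Fintype.ofFinite ι'
  set σ : ι' ≃ ι' := e.trans e' with hσ
  have h2 : ∀ x : ι', P'.pairing x (σ x) = 2 := by
    intro x
    rw [← P'.root_coroot_eq_pairing, hσ, Equiv.trans_apply, ← he', ← hfg, he,
      P.root_coroot_eq_pairing, P.pairing_same]
  have hle : ∀ x : ι', P'.RootForm (P'.root (σ x)) (P'.root (σ x)) ≤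
      P'.RootForm (P'.root x) (P'.root x) := fun x => (len_le_of_pairing_eq_two (h2 x)).1
  have hsum : ∑ x : ι', P'.RootForm (P'.root (σ x)) (P'.root (σ x)) =
      ∑ x : ι', P'.RootForm (P'.root x) (P'.root x) :=
    Equiv.sum_comp σ (fun x => P'.RootForm (P'.root x) (P'.root x))
  have heq := (Finset.sum_eq_sum_iff_of_le (fun x _ => hle x)).1 hsum
  intro i'
  have : i' = σ i' := (len_le_of_pairing_eq_two (h2 i')).2 (heq i' (Finset.mem_univ _))
  rw [he']
  congr 1
  exact this.symm

end morph

end Groth.Agent.LD.RD
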