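import Groth.Agent.Lib.Lead.RootD11

/-!
# Root data: dominance, fundamental domain for the Weyl group
-/

open Set Function

namespace Groth.Agent.LD.RD

variable {ι M N : Type*} [AddCommGroup M] [AddCommGroup N] {P : RootPairing ι ℤ M N}
variable {Δ : Set ι}

section dom

lemma weightHom_apply (g : P.Aut) (m : M) : RootPairing.Equiv.weightHom P g m = g • m := rfl

/-- dominance: existence part -/
theorem exists_weyl_dominant [Finite ι] (S : Set ι) (hS : RootD.IsPosSys P S)
    {Γ : Type*} [AddCommGroup Γ] [LinearOrder Γ] [IsOrderedAddMonoid Γ] (f : M →+ Γ) :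
    ∃ g : P.Aut, g ∈ P.weylGroup ∧ ∀ i ∈ S, 0 ≤ f (g • P.root i) := by
  obtain ⟨Δ, hΔ, hSΔ⟩ := exists_simple_eq_posOf hS.disjoint hS.cover (IsPosSys.closed hS)
  set P' : Set ι := {i | 0 ≤ f (P.root i)} with hP'
  have hP2 : ∀ i : ι, i ∈ P' ∨ P.reflectionPerm i i ∈ P' := by
    intro i
    rcases le_total 0 (f (P.root i)) with h | h
    · exact Or.inl h
    · right
      show 0 ≤ f (P.root (P.reflectionPerm i i))
      rw [root_neg, map_neg]
      exact neg_nonneg.2 h
  have hcl : RootD.IsClosedSub P P' := by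
    intro i j k hi hj hk
    show 0 ≤ f (P.root k)
    rw [hk, map_add]
    exact add_nonneg hi hj
  obtain ⟨g, hg, hsub⟩ := exists_weyl_posOf_subset hΔ hP2 hcl
  refine ⟨g, hg, fun i hi => ?_⟩
  rw [hSΔ] at hi
  have := hsub (smul_mem_gimg (g := g) hi)
  rw [← root_smul]
  exact this

/-- dominance: uniqueness part -/
theorem dominant_unique [Finite ι] (S : Set ι) (hS : RootD.IsPosSys P S)
    {Γ : Type*} [AddCommGroup Γ] [LinearOrder Γ] [IsOrderedAddMonoid Γ] (f : M →+ Γ)
    (g : P.Aut) (hg : g ∈ P.weylGroup) (hf : ∀ i ∈ S, 0 ≤ f (P.root i))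
    (hfg : ∀ i ∈ S, 0 ≤ f (g • P.root i)) (m : M) : f (g • m) = f m := by
  obtain ⟨Δ, hΔ, hSΔ⟩ := exists_simple_eq_posOf hS.disjoint hS.cover (IsPosSys.closed hS)
  rw [← IsSimpleSys.closure_reflection_eq hΔ] at hg
  obtain ⟨l₀, hl₀, hl₀g⟩ := exists_word_of_mem_closure hg
  have key : ∀ n : ℕ, ∀ l : List ι, l.length = n → (∀ a ∈ l, a ∈ Δ) →
      (∀ i ∈ S, 0 ≤ f (wprod P l • P.root i)) → ∀ m : M, f (wprod P l • m) = f m := by
    intro n
    induction n using Nat.strong_induction_on with
    | _ n ih =>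
      intro l hlen hl hdom m
      obtain ⟨l', hl', hprod, hle, hmin⟩ := exists_minimal_word (P := P) hl
      by_cases hne : l' = []
      · rw [← hprod, hne]; simp
      · have hneg := neg_of_minimal_word hΔ l' hl' hne hmin
        set a := l'.getLast hne with ha
        have haΔ : a ∈ Δ := hl' a (List.getLast_mem hne)
        have haS : a ∈ S := hSΔ ▸ IsSimpleSys.subset_posOf hΔ haΔ
        -- f (w • root a) = 0
        have h1 : 0 ≤ f (wprod P l' • P.root a) := by rw [hprod]; exact hdom a haS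
        have h2 : f (wprod P l' • P.root a) ≤ 0 := by
          have hmem : P.reflectionPerm (wprod P l' • a) (wprod P l' • a) ∈ S := by
            rcases hS.cover (wprod P l' • a) with h | h
            · rw [hSΔ] at h; exact absurd h hneg
            · exact h
          have := hf _ hmem
          rw [root_neg, map_neg, root_smul] at this
          exact neg_nonneg.1 this
        have h0 : f (wprod P l' • P.root a) = 0 := le_antisymm h2 h1
        have hl0 : l' = l'.dropLast ++ [a] := (List.dropLast_append_getLast hne).symm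
        set l'' := l'.dropLast with hl''
        have hl''Δ : ∀ x ∈ l'', x ∈ Δ := fun x hx => hl' x (List.dropLast_subset l' hx)
        have hw : wprod P l' = wprod P l'' * RootPairing.Equiv.reflection P a := by
          conv_lhs => rw [hl0]
          rw [wprod_append]; simp
        have hw' : wprod P l'' = wprod P l' * RootPairing.Equiv.reflection P a := by
          rw [hw, mul_assoc, reflection_mul_self, mul_one]
        have hsame : ∀ x : M, f (wprod P l'' • x) = f (wprod P l' • x) := by
          intro x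
          rw [hw', mul_smul, RootPairing.Equiv.reflection_smul, P.reflection_apply, smul_sub,
            map_sub, smul_comm, map_zsmul, h0, smul_zero, sub_zero]
        have hlen'' : l''.length < n := by
          have : l'.length = l''.length + 1 := by
            conv_lhs => rw [hl0]
            simp
          omega
        have := ih l''.length hlen'' l'' rfl hl''Δ
          (fun i hi => by rw [hsame, hprod]; exact hdom i hi) m
        rw [← hprod, ← hsame, this]
  rw [← hl₀g]
  exact key _ l₀ rfl hl₀ (fun i hi => by rw [hl₀g]; exact hfg i hi) m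

end dom

section dom2

lemma coroot'_neg (k : ι) (m : M) : P.coroot' (P.reflectionPerm k k) m = -(P.coroot' k m) := by
  have : P.coroot (P.reflectionPerm k k) = -P.coroot k := by
    rw [P.coroot_reflectionPerm, P.coreflection_apply_self]
  simp [RootPairing.coroot', this]

lemma len_mul_coroot'_add [Fintype ι] {i j k : ι} (h : P.root k = P.root i + P.root j) (m : M) :
    P.RootForm (P.root k) (P.root k) * P.coroot' k m =
      P.RootForm (P.root i) (P.root i) * P.coroot' i m +
        P.RootForm (P.root j) (P.root j) * P.coroot' j m := by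
  have := congrArg (P.toLinearMap m) (len_smul_coroot_add h)
  simpa [RootPairing.coroot'] using this

/-- every weight is conjugate to a dominant one -/
theorem exists_weyl_dominant_weight [Finite ι] (S : Set ι) (hS : RootD.IsPosSys P S) (m : M) :
    ∃ g : P.Aut, g ∈ P.weylGroup ∧ ∀ i ∈ S, 0 ≤ P.coroot' i (g • m) := by
  have _ : Fintype ι := Fintype.ofFinite ι
  obtain ⟨Δ, hΔ, hSΔ⟩ := exists_simple_eq_posOf hS.disjoint hS.cover (IsPosSys.closed hS)
  set P' : Set ι := {i | 0 ≤ P.coroot' i m} with hP'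
  have hP2 : ∀ i : ι, i ∈ P' ∨ P.reflectionPerm i i ∈ P' := by
    intro i
    rcases le_total 0 (P.coroot' i m) with h | h
    · exact Or.inl h
    · right
      show 0 ≤ P.coroot' (P.reflectionPerm i i) m
      rw [coroot'_neg]
      exact neg_nonneg.2 h
  have hcl : RootD.IsClosedSub P P' := by
    intro i j k hi hj hk
    show 0 ≤ P.coroot' k m
    have h1 := len_mul_coroot'_add hk m
    have hi' : 0 ≤ P.coroot' i m := hi
    have hj' : 0 ≤ P.coroot' j m := hj
    have h2 : 0 ≤ P.RootForm (P.root k) (P.root k) * P.coroot' k m := by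
      rw [h1]
      exact add_nonneg (mul_nonneg (len_pos i).le hi') (mul_nonneg (len_pos j).le hj')
    exact nonneg_of_mul_nonneg_right h2 (len_pos k)
  obtain ⟨g, hg, hsub⟩ := exists_weyl_posOf_subset hΔ hP2 hcl
  refine ⟨g⁻¹, inv_mem hg, fun i hi => ?_⟩
  rw [hSΔ] at hi
  have h1 : 0 ≤ P.coroot' (g • i) m := hsub (smul_mem_gimg (g := g) hi)
  have h2 := coroot'_smul g⁻¹ (g • i) m
  rw [inv_smul_smul] at h2
  rwa [h2]

/-- there is a strictly dominant weight -/
theorem exists_strictly_dominant [Finite ι] (S : Set ι) (hS : RootD.IsPosSys P S) :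
    ∃ m : M, ∀ i ∈ S, 0 < P.coroot' i m := by
  obtain ⟨m₀, hm₀⟩ := exists_regular P.flip
  have hm₀' : ∀ i, P.coroot' i m₀ ≠ 0 := by
    intro i
    have := hm₀ i
    simpa [RootPairing.coroot'] using this
  obtain ⟨g, hg, hdom⟩ := exists_weyl_dominant_weight S hS m₀
  refine ⟨g • m₀, fun i hi => lt_of_le_of_ne (hdom i hi) (Ne.symm ?_)⟩
  have h2 := coroot'_smul g⁻¹ i (g • m₀)
  rw [inv_smul_smul] at h2
  rw [← h2]
  exact hm₀' _

end dom2

section dom3

/-- strong dominance: `f - f ∘ w` is a non-negative combination of positive coroots -/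
theorem strong_dominance [Fintype ι] (S : Set ι) (hS : RootD.IsPosSys P S)
    {Γ : Type*} [AddCommGroup Γ] [LinearOrder Γ] [IsOrderedAddMonoid Γ] (f : M →+ Γ)
    (hf : ∀ i ∈ S, 0 ≤ f (P.root i)) (g : P.Aut) (hg : g ∈ P.weylGroup) :
    ∃ c : ι → Γ, (∀ i, 0 ≤ c i) ∧ (∀ i, i ∉ S → c i = 0) ∧
        ∀ m : M, f m - f (g • m) = ∑ i, (P.coroot' i m) • c i := by
  classical
  obtain ⟨Δ, hΔ, hSΔ⟩ := exists_simple_eq_posOf hS.disjoint hS.cover (IsPosSys.closed hS)
  rw [← IsSimpleSys.closure_reflection_eq hΔ] at hg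
  obtain ⟨l₀, hl₀, hl₀g⟩ := exists_word_of_mem_closure hg
  have key : ∀ n : ℕ, ∀ l : List ι, l.length = n → (∀ a ∈ l, a ∈ Δ) →
      ∃ c : ι → Γ, (∀ i, 0 ≤ c i) ∧ (∀ i, i ∉ S → c i = 0) ∧
        ∀ m : M, f m - f (wprod P l • m) = ∑ i, (P.coroot' i m) • c i := by
    intro n
    induction n using Nat.strong_induction_on with
    | _ n ih =>
      intro l hlen hl
      obtain ⟨l', hl', hprod, hle, hmin⟩ := exists_minimal_word (P := P) hl
      by_cases hne : l' = []
      · refine ⟨fun _ => 0, fun _ => le_rfl, fun _ _ => rfl, fun m => ?_⟩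
        rw [← hprod, hne]; simp
      · have hneg := neg_of_minimal_word hΔ l' hl' hne hmin
        set a := l'.getLast hne with ha
        have haΔ : a ∈ Δ := hl' a (List.getLast_mem hne)
        have haS : a ∈ S := hSΔ ▸ IsSimpleSys.subset_posOf hΔ haΔ
        have hl0 : l' = l'.dropLast ++ [a] := (List.dropLast_append_getLast hne).symm
        set l'' := l'.dropLast with hl''
        have hl''Δ : ∀ x ∈ l'', x ∈ Δ := fun x hx => hl' x (List.dropLast_subset l' hx)
        have hw : wprod P l' = wprod P l'' * RootPairing.Equiv.reflection P a := by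
          conv_lhs => rw [hl0]
          rw [wprod_append]; simp
        have hpos : wprod P l'' • a ∈ S := by
          rcases hS.cover (wprod P l'' • a) with h | h
          · exact h
          · exfalso
            apply hneg
            rw [← hSΔ, hw, mul_smul, reflection_smul_idx, smul_neg_idx]
            exact h
        have hlen'' : l''.length < n := by
          have : l'.length = l''.length + 1 := by
            conv_lhs => rw [hl0]
            simp
          omega
        obtain ⟨c, hc0, hcS, hc⟩ := ih l''.length hlen'' l'' rfl hl''Δ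
        refine ⟨fun i => c i + if i = a then f (wprod P l'' • P.root a) else 0, ?_, ?_, ?_⟩
        · intro i
          refine add_nonneg (hc0 i) ?_
          split_ifs
          · rw [← root_smul]; exact hf _ hpos
          · exact le_rfl
        · intro i hi
          have hia : i ≠ a := fun h => hi (h ▸ haS)
          simp [hcS i hi, hia]
        · intro m
          rw [← hprod, hw, mul_smul, RootPairing.Equiv.reflection_smul, P.reflection_apply, smul_sub,
            map_sub, smul_comm, map_zsmul]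
          simp only [smul_add, Finset.sum_add_distrib, ← hc m]
          simp only [smul_ite, smul_zero, Finset.sum_ite_eq', Finset.mem_univ, if_true]
          abel
  rw [← hl₀g]
  exact key _ l₀ rfl hl₀

end dom3

section dom4

theorem weak_of_strong [Fintype ι] (S : Set ι)
    {Γ : Type*} [AddCommGroup Γ] [LinearOrder Γ] [IsOrderedAddMonoid Γ] (f : M →+ Γ)
    (g : P.Aut) (h : ∃ c : ι → Γ, (∀ i, 0 ≤ c i) ∧ (∀ i, i ∉ S → c i = 0) ∧
        ∀ m : M, f m - f (g • m) = ∑ i, (P.coroot' i m) • c i)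
    (m : M) (hm : ∀ i ∈ S, 0 ≤ P.coroot' i m) : f (g • m) ≤ f m := by
  obtain ⟨c, hc0, hcS, hc⟩ := h
  rw [← sub_nonneg, hc m]
  refine Finset.sum_nonneg fun i _ => ?_
  by_cases hi : i ∈ S
  · exact zsmul_nonneg (hc0 i) (hm i hi)
  · rw [hcS i hi, smul_zero]

theorem dominant_of_weak [Finite ι] (S : Set ι) (hS : RootD.IsPosSys P S)
    {Γ : Type*} [AddCommGroup Γ] [LinearOrder Γ] [IsOrderedAddMonoid Γ] (f : M →+ Γ)
    (h : ∀ g : P.Aut, g ∈ P.weylGroup → ∀ m : M, (∀ i ∈ S, 0 ≤ P.coroot' i m) → f (g • m) ≤ f m) :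
    ∀ i ∈ S, 0 ≤ f (P.root i) := by
  intro i hi
  obtain ⟨m, hm⟩ := exists_strictly_dominant S hS
  have h1 := h (RootPairing.Equiv.reflection P i) (P.reflection_mem_weylGroup i) m
    (fun j hj => (hm j hj).le)
  rw [RootPairing.Equiv.reflection_smul, P.reflection_apply, map_sub, map_zsmul] at h1
  have h2 : 0 ≤ (P.coroot' i m) • f (P.root i) := by
    have := sub_le_self_iff (f m) |>.1 h1
    exact this
  exact (zsmul_le_zsmul_iff_right (hm i hi)).1 (by rwa [smul_zero])

/-- S19156 -/
theorem dominance_iff [Fintype ι] (S : Set ι) (hS : RootD.IsPosSys P S)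
    {Γ : Type*} [AddCommGroup Γ] [LinearOrder Γ] [IsOrderedAddMonoid Γ] (f : M →+ Γ) :
    ((∀ i ∈ S, 0 ≤ f (P.root i)) ↔
      ∀ g : P.Aut, g ∈ P.weylGroup → ∃ c : ι → Γ, (∀ i, 0 ≤ c i) ∧ (∀ i, i ∉ S → c i = 0) ∧
        ∀ m : M, f m - f (RootPairing.Equiv.weightHom P g m) = ∑ i, (P.coroot' i m) • c i) ∧
    ((∀ i ∈ S, 0 ≤ f (P.root i)) ↔
      ∀ g : P.Aut, g ∈ P.weylGroup → ∀ m : M, (∀ i ∈ S, 0 ≤ P.coroot' i m) →
        f (RootPairing.Equiv.weightHom P g m) ≤ f m) := by
  simp only [weightHom_apply]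
  refine ⟨⟨fun hf g hg => strong_dominance S hS f hf g hg, fun hA => ?_⟩,
    ⟨fun hf g hg m hm => weak_of_strong S f g (strong_dominance S hS f hf g hg) m hm,
      fun hB => dominant_of_weak S hS f hB⟩⟩
  exact dominant_of_weak S hS f fun g hg m hm => weak_of_strong S f g (hA g hg) m hm

/-- S19155 -/
theorem fund_domain [Finite ι] (S : Set ι) (hS : RootD.IsPosSys P S)
    {Γ : Type*} [AddCommGroup Γ] [LinearOrder Γ] [IsOrderedAddMonoid Γ] (f : M →+ Γ) :
    (∃ g : P.Aut, g ∈ P.weylGroup ∧ ∀ i ∈ S, 0 ≤ f (RootPairing.Equiv.weightHom P g (P.root i))) ∧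
    (∀ g : P.Aut, g ∈ P.weylGroup → (∀ i ∈ S, 0 ≤ f (P.root i)) →
      (∀ i ∈ S, 0 ≤ f (RootPairing.Equiv.weightHom P g (P.root i))) →
      ∀ m : M, f (RootPairing.Equiv.weightHom P g m) = f m) := by
  simp only [weightHom_apply]
  exact ⟨exists_weyl_dominant S hS f, fun g hg hf hfg m => dominant_unique S hS f g hg hf hfg m⟩

end dom4

section dom5

instance finite_weylGroup [Finite ι] : Finite P.weylGroup := by
  refine Finite.of_injective (fun (w : P.weylGroup) (i : ι) => (w : P.Aut) • i) ?_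
  intro w w' h
  have h1 : (w' : P.Aut)⁻¹ * (w : P.Aut) = 1 := by
    refine eq_one_of_forall_smul_idx_eq (mul_mem (inv_mem w'.2) w.2) fun i => ?_
    have := congrFun h i
    simp only at this
    rw [mul_smul, this, inv_smul_smul]
  have : (w : P.Aut) = (w' : P.Aut) * ((w' : P.Aut)⁻¹ * (w : P.Aut)) := by group
  rw [h1, mul_one] at this
  exact Subtype.ext this

/-- S19161 -/
theorem weak_order_iff [Finite ι] (S : Set ι) (hS : RootD.IsPosSys P S)
    {Γ : Type*} [AddCommGroup Γ] [LinearOrder Γ] [IsOrderedAddMonoid Γ] (f₁ f₂ : M →+ Γ)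
    (hf₁ : ∀ i ∈ S, 0 ≤ f₁ (P.root i)) (hf₂ : ∀ i ∈ S, 0 ≤ f₂ (P.root i)) :
    (∀ m : M, (∀ i ∈ S, 0 ≤ P.coroot' i m) → f₁ m ≤ f₂ m) ↔
    ∀ (X : Finset M) (hX : X.Nonempty), (∀ g : P.Aut, g ∈ P.weylGroup → ∀ m ∈ X,
      RootPairing.Equiv.weightHom P g m ∈ X) → X.sup' hX f₁ ≤ X.sup' hX f₂ := by
  classical
  have _ : Fintype ι := Fintype.ofFinite ι
  simp only [weightHom_apply]
  constructor
  · intro h X hX hstab
    rw [Finset.sup'_le_iff]
    intro m hm
    obtain ⟨g, hg, hdom⟩ := exists_weyl_dominant_weight S hS m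
    have hm' : g • m ∈ X := hstab g hg m hm
    have h1 : f₁ (g⁻¹ • (g • m)) ≤ f₁ (g • m) :=
      weak_of_strong S f₁ g⁻¹ (strong_dominance S hS f₁ hf₁ g⁻¹ (inv_mem hg)) _ hdom
    rw [inv_smul_smul] at h1
    exact h1.trans ((h _ hdom).trans (Finset.le_sup' f₂ hm'))
  · intro h m hm
    have _ : Fintype P.weylGroup := Fintype.ofFinite _
    set X : Finset M := Finset.image (fun w : P.weylGroup => (w : P.Aut) • m) Finset.univ with hXdef
    have hmX : m ∈ X := by
      rw [hXdef, Finset.mem_image]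
      exact ⟨1, Finset.mem_univ _, by simp⟩
    have hX : X.Nonempty := ⟨m, hmX⟩
    have hstab : ∀ g : P.Aut, g ∈ P.weylGroup → ∀ x ∈ X, g • x ∈ X := by
      intro g hg x hx
      rw [hXdef, Finset.mem_image] at hx ⊢
      obtain ⟨w, -, rfl⟩ := hx
      refine ⟨⟨g, hg⟩ * w, Finset.mem_univ _, ?_⟩
      show (g * (w : P.Aut)) • m = _
      exact mul_smul _ _ _
    have h1 := h X hX hstab
    have h2 : X.sup' hX f₂ ≤ f₂ m := by
      rw [Finset.sup'_le_iff]
      intro x hx
      rw [hXdef, Finset.mem_image] at hx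
      obtain ⟨w, -, rfl⟩ := hx
      show f₂ ((w : P.Aut) • m) ≤ f₂ m
      exact weak_of_strong S f₂ (w : P.Aut) (strong_dominance S hS f₂ hf₂ (w : P.Aut) w.2) m hm
    exact (Finset.le_sup' f₁ hmX).trans (h1.trans h2)

end dom5

end Groth.Agent.LD.RD
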