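import Groth.Agent.Lib.Lead.RootD12

/-!
# Root data: more characterisations of simple systems
-/

open Set Function

namespace Groth.Agent.LD.RD

variable {ι M N : Type*} [AddCommGroup M] [AddCommGroup N] {P : RootPairing ι ℤ M N}
variable {Δ : Set ι}

section uniq

lemma single_support_subset {i : ι} (hi : i ∈ Δ) (a : ℤ) :
    (↑(Finsupp.single i a).support : Set ι) ⊆ Δ := by
  intro l hl
  have := Finsupp.support_single_subset hl
  simp only [Finset.mem_singleton] at this
  exact this ▸ hi

/-- S5447 -/
theorem simple_of_unique [Finite ι] (Δ : Set ι)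
    (h : ∀ k : ι, ∃! c : ι →₀ ℤ, (↑c.support ⊆ Δ ∧ ((∀ j, 0 ≤ c j) ∨ (∀ j, c j ≤ 0)) ∧
      Finsupp.linearCombination ℤ P.root c = P.root k)) :
    RootD.IsSimpleSys P Δ ∧ ∀ i ∈ Δ, RootD.IsIndiv P i := by
  classical
  have _ : Fintype ι := Fintype.ofFinite ι
  have hM := isAddTorsionFree_left P
  have huniq : ∀ (k : ι) (c d : ι →₀ ℤ), (↑c.support : Set ι) ⊆ Δ →
      ((∀ j, 0 ≤ c j) ∨ (∀ j, c j ≤ 0)) → Finsupp.linearCombination ℤ P.root c = P.root k →
      (↑d.support : Set ι) ⊆ Δ → ((∀ j, 0 ≤ d j) ∨ (∀ j, d j ≤ 0)) →
      Finsupp.linearCombination ℤ P.root d = P.root k → c = d := by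
    intro k c d hc hcs hck hd hds hdk
    exact (h k).unique ⟨hc, hcs, hck⟩ ⟨hd, hds, hdk⟩
  have hsingle_nonneg : ∀ i : ι, ∀ j, 0 ≤ (Finsupp.single i (1 : ℤ)) j := by
    intro i j
    rw [Finsupp.single_apply]; split_ifs <;> simp
  -- (1) a non-negative relation is trivial
  have hpos0 : ∀ c : ι →₀ ℤ, (↑c.support : Set ι) ⊆ Δ → (∀ j, 0 ≤ c j) →
      Finsupp.linearCombination ℤ P.root c = 0 → c = 0 := by
    intro c hc hc0 hlc
    by_contra hne
    obtain ⟨i₀, hi₀⟩ : ∃ i, c i ≠ 0 := by
      by_contra hh
      push Not at hh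
      exact hne (Finsupp.ext hh)
    have hi₀Δ : i₀ ∈ Δ := hc (Finsupp.mem_support_iff.2 hi₀)
    have hpos : 0 < c i₀ := lt_of_le_of_ne (hc0 i₀) (Ne.symm hi₀)
    have e := huniq (P.reflectionPerm i₀ i₀) (-Finsupp.single i₀ 1) (c - Finsupp.single i₀ 1)
      (by rw [Finsupp.support_neg]; exact single_support_subset hi₀Δ 1)
      (Or.inr fun j => by
        have := hsingle_nonneg i₀ j
        simpa using this)
      (by rw [map_neg, Finsupp.linearCombination_single, one_smul, root_neg])
      (support_sub_single_subset hc hi₀Δ 1)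
      (Or.inl fun j => by
        simp only [Finsupp.coe_sub, Pi.sub_apply, Finsupp.single_apply]
        split_ifs with hj
        · subst hj; omega
        · have := hc0 j; omega)
      (by rw [map_sub, hlc, Finsupp.linearCombination_single, one_smul, root_neg, zero_sub])
    have := DFunLike.congr_fun e i₀
    simp only [Finsupp.coe_neg, Pi.neg_apply, Finsupp.single_eq_same, Finsupp.coe_sub,
      Pi.sub_apply] at this
    omega
  -- (2) pairings of distinct elements are non-positive
  have hpair : ∀ i ∈ Δ, ∀ j ∈ Δ, i ≠ j → P.pairing i j ≤ 0 := by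
    intro i hi j hj hij
    by_contra hp
    push Not at hp
    obtain ⟨k, hk⟩ := root_sub_root_mem hp hij
    obtain ⟨c, ⟨hc, hcs, hck⟩, -⟩ := h k
    rcases hcs with hc0 | hc0
    · have e := huniq i (Finsupp.single i 1) (Finsupp.single j 1 + c)
        (single_support_subset hi 1) (Or.inl (hsingle_nonneg i))
        (by rw [Finsupp.linearCombination_single, one_smul])
        (by
          intro l hl
          rcases Finset.mem_union.1 (Finsupp.support_add hl) with h' | h'
          · exact single_support_subset hj 1 h'
          · exact hc h')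
        (Or.inl fun l => by
          simp only [Finsupp.coe_add, Pi.add_apply]
          exact add_nonneg (hsingle_nonneg j l) (hc0 l))
        (by rw [map_add, hck, hk, Finsupp.linearCombination_single, one_smul]; abel)
      have := DFunLike.congr_fun e j
      simp only [Finsupp.coe_add, Pi.add_apply, Finsupp.single_eq_same,
        Finsupp.single_eq_of_ne (Ne.symm hij)] at this
      have := hc0 j
      omega
    · have e := huniq j (Finsupp.single j 1) (Finsupp.single i 1 - c)
        (single_support_subset hj 1) (Or.inl (hsingle_nonneg j))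
        (by rw [Finsupp.linearCombination_single, one_smul])
        (by
          intro l hl
          rcases Finset.mem_union.1 (Finsupp.support_sub hl) with h' | h'
          · exact single_support_subset hi 1 h'
          · exact hc h')
        (Or.inl fun l => by
          simp only [Finsupp.coe_sub, Pi.sub_apply]
          have h1 := hsingle_nonneg i l
          have h2 := hc0 l
          omega)
        (by rw [map_sub, hck, hk, Finsupp.linearCombination_single, one_smul]; abel)
      have := DFunLike.congr_fun e i
      simp only [Finsupp.coe_sub, Pi.sub_apply, Finsupp.single_eq_same,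
        Finsupp.single_eq_of_ne hij] at this
      have := hc0 i
      omega
  have hB : ∀ i ∈ Δ, ∀ j ∈ Δ, i ≠ j → P.RootForm (P.root i) (P.root j) ≤ 0 := by
    intro i hi j hj hij
    have h1 := two_mul_rootForm (P := P) i j
    have h2 := hpair i hi j hj hij
    have h3 := len_pos (P := P) j
    nlinarith
  refine ⟨⟨?_, ?_⟩, ?_⟩
  · -- linear independence
    rw [linearIndepOn_iff]
    intro l hl hlc
    have hlΔ : (↑l.support : Set ι) ⊆ Δ := by simpa [Finsupp.mem_supported] using hl
    set lp : ι →₀ ℤ := l.mapRange (fun a => max a 0) (by simp) with hlp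
    set ln : ι →₀ ℤ := l.mapRange (fun a => max (-a) 0) (by simp) with hln
    have hlpn : l = lp - ln := by
      ext j
      simp only [hlp, hln, Finsupp.coe_sub, Pi.sub_apply, Finsupp.mapRange_apply]
      omega
    have hlpΔ : (↑lp.support : Set ι) ⊆ Δ := fun j hj => hlΔ (Finsupp.support_mapRange hj)
    have hlnΔ : (↑ln.support : Set ι) ⊆ Δ := fun j hj => hlΔ (Finsupp.support_mapRange hj)
    have hlp0 : ∀ j, 0 ≤ lp j := fun j => by simp [hlp]
    have hln0 : ∀ j, 0 ≤ ln j := fun j => by simp [hln]
    have hv : Finsupp.linearCombination ℤ P.root lp = Finsupp.linearCombination ℤ P.root ln := by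
      have := hlc
      rw [hlpn, map_sub, sub_eq_zero] at this
      exact this
    set v := Finsupp.linearCombination ℤ P.root lp with hvdef
    have hvv : P.RootForm v v ≤ 0 := by
      have e1 : v = ∑ i, lp i • P.root i := by
        rw [hvdef, Finsupp.linearCombination_apply, Finsupp.sum_fintype _ _ (by simp)]
      have e2 : v = ∑ j, ln j • P.root j := by
        rw [hv, Finsupp.linearCombination_apply, Finsupp.sum_fintype _ _ (by simp)]
      have : P.RootForm v v = ∑ i, ∑ j, lp i * ln j * P.RootForm (P.root i) (P.root j) := by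
        have e3 : P.RootForm v v = P.RootForm (∑ i, lp i • P.root i) (∑ j, ln j • P.root j) := by
          rw [← e1, ← e2]
        rw [e3]
        simp only [map_sum, map_smul, LinearMap.sum_apply, LinearMap.smul_apply, smul_eq_mul,
          Finset.mul_sum]
        rw [Finset.sum_comm]
        refine Finset.sum_congr rfl fun a _ => Finset.sum_congr rfl fun b _ => ?_
        ring
      rw [this]
      refine Finset.sum_nonpos fun i _ => Finset.sum_nonpos fun j _ => ?_
      by_cases hi0 : lp i = 0
      · rw [hi0]; simp
      by_cases hj0 : ln j = 0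
      · rw [hj0]; simp
      have hiΔ : i ∈ Δ := hlpΔ (Finsupp.mem_support_iff.2 hi0)
      have hjΔ : j ∈ Δ := hlnΔ (Finsupp.mem_support_iff.2 hj0)
      have hij : i ≠ j := by
        rintro rfl
        simp only [hlp, hln, Finsupp.mapRange_apply] at hi0 hj0
        omega
      have := hB i hiΔ j hjΔ hij
      have h1 := hlp0 i
      have h2 := hln0 j
      have : 0 ≤ lp i * ln j := mul_nonneg h1 h2
      nlinarith
    have hv0 : v = 0 := by
      by_contra hne
      have hmem : v ∈ Submodule.span ℤ (range P.root) := by
        rw [hvdef, Finsupp.linearCombination_apply]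
        exact Submodule.sum_mem _ fun i _ =>
          Submodule.smul_mem _ _ (Submodule.subset_span (mem_range_self i))
      have := P.rootForm_pos_of_ne_zero hmem hne
      omega
    have h1 := hpos0 lp hlpΔ hlp0 hv0
    have h2 := hpos0 ln hlnΔ hln0 (hv ▸ hv0)
    rw [hlpn, h1, h2, sub_zero]
  · intro k
    obtain ⟨c, ⟨hc, hcs, hck⟩, -⟩ := h k
    rcases hcs with hc0 | hc0
    · exact Or.inl ((mem_natSpan_iff_int P).2 ⟨c, hc, hc0, hck⟩)
    · refine Or.inr ((mem_natSpan_iff_int P).2 ⟨-c, by rwa [Finsupp.support_neg], fun j => ?_, ?_⟩)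
      · have := hc0 j
        simpa using this
      · rw [map_neg, hck]
  · intro i hi j hj
    obtain ⟨c, ⟨hc, hcs, hck⟩, -⟩ := h j
    have e := huniq i ((2 : ℤ) • c) (Finsupp.single i 1)
      (fun l hl => hc (Finsupp.support_smul hl))
      (by
        rcases hcs with hc0 | hc0
        · exact Or.inl fun l => by
            have := hc0 l
            simp only [Finsupp.coe_smul, Pi.smul_apply, smul_eq_mul]; omega
        · exact Or.inr fun l => by
            have := hc0 l
            simp only [Finsupp.coe_smul, Pi.smul_apply, smul_eq_mul]; omega)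
      (by rw [map_smul, hck, hj])
      (single_support_subset hi 1) (Or.inl (hsingle_nonneg i))
      (by rw [Finsupp.linearCombination_single, one_smul])
    have := DFunLike.congr_fun e i
    simp only [Finsupp.coe_smul, Pi.smul_apply, smul_eq_mul, Finsupp.single_eq_same] at this
    omega

end uniq

section dual

lemma colen_smul_root [Fintype ι] (i : ι) :
    P.flip.RootForm (P.coroot i) (P.coroot i) • P.root i = 2 • P.flip.Polarization (P.coroot i) :=
  P.flip.rootForm_self_smul_coroot i

lemma linInd_coroot [Finite ι] (hli : LinearIndepOn ℤ P.root Δ) : LinearIndepOn ℤ P.coroot Δ := by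
  have _ : Fintype ι := Fintype.ofFinite ι
  have _ : Fintype Δ := Fintype.ofFinite Δ
  have hli' : LinearIndependent ℤ (fun d : Δ => P.root d) := hli
  show LinearIndependent ℤ (fun d : Δ => P.coroot d)
  rw [Fintype.linearIndependent_iff] at hli' ⊢
  intro g hg d
  have h1 := congrArg (P.flip.Polarization) hg
  rw [map_sum, map_zero] at h1
  have h2 : ∑ d : Δ, (g d * P.flip.RootForm (P.coroot d) (P.coroot d)) • P.root d = 0 := by
    have := congrArg (fun x => (2 : ℕ) • x) h1
    simp only [Finset.smul_sum, map_smul, smul_zero] at this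
    rw [← this]
    refine Finset.sum_congr rfl fun d _ => ?_
    rw [smul_comm, ← colen_smul_root, mul_smul]
  have := hli' (fun d => g d * P.flip.RootForm (P.coroot d) (P.coroot d)) h2 d
  exact (mul_eq_zero.1 this).resolve_right (len_pos (P := P.flip) d).ne'

end dual

section dual2

lemma pairing_abs_le_four [Finite ι] (i j : ι) : P.pairing i j ≤ 4 ∧ -4 ≤ P.pairing i j := by
  have hset := P.pairingIn_pairingIn_mem_set_of_isCrystallographic i j
  rw [pairingIn_eq, pairingIn_eq] at hset
  simp only [mem_insert_iff, mem_singleton_iff, Prod.mk.injEq] at hset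
  omega

/-- S5485 -/
theorem isSimpleSys_ind_coroots [Finite ι] (Δ : Set ι) (hΔ : RootD.IsSimpleSys P Δ) :
    RootD.IsSimpleSys P.flip {j : ι | ∃ i ∈ Δ, (j = i ∧ RootD.IsIndiv P.flip i) ∨
      (2 : ℤ) • P.coroot j = P.coroot i} := by
  classical
  have _ : Fintype ι := Fintype.ofFinite ι
  have hN := isAddTorsionFree_right P
  set D : Set ι := {j : ι | ∃ i ∈ Δ, (j = i ∧ RootD.IsIndiv P.flip i) ∨
      (2 : ℤ) • P.coroot j = P.coroot i} with hD
  -- each simple coroot is a non-negative combination of `D`
  have hgen : ∀ i ∈ Δ, P.coroot i ∈ RootD.natSpan P.flip D := by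
    intro i hi
    by_cases hind : RootD.IsIndiv P.flip i
    · exact root_mem_natSpan P.flip (S := D) ⟨i, hi, Or.inl ⟨rfl, hind⟩⟩
    · unfold RootD.IsIndiv at hind
      push Not at hind
      obtain ⟨j, hj⟩ := hind
      have hjD : j ∈ D := ⟨i, hi, Or.inr hj⟩
      change (2 : ℤ) • P.coroot j = P.coroot i at hj
      have h1 : P.coroot i = 2 • P.coroot j := by
        rw [← hj, two_smul, two_smul]
      rw [h1]
      exact nsmul_mem (root_mem_natSpan P.flip (S := D) hjD) 2
  refine isSimpleSys_of_cone (P := P.flip) D ?_ ?_ ?_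
  · -- indivisibility
    rintro j ⟨i, hi, ⟨rfl, hind⟩ | hj⟩
    · exact hind
    · intro l hl
      change (2 : ℤ) • P.coroot l = P.coroot j at hl
      have h4 : P.coroot i = (4 : ℤ) • P.coroot l := by
        rw [← hj, ← hl, smul_smul]; norm_num
      have h8 : P.pairing l i = 8 := by
        rw [← P.root_coroot_eq_pairing, h4, map_smul, P.root_coroot_eq_pairing, P.pairing_same]
        norm_num
      have := (pairing_abs_le_four (P := P) l i).1
      omega
  · -- linear independence
    have hco := linInd_coroot hΔ.linInd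
    -- the map `D → Δ`
    have hφ : ∀ j : D, ∃ i : Δ, ((j : ι) = i ∧ RootD.IsIndiv P.flip (i : ι)) ∨
        (2 : ℤ) • P.coroot j = P.coroot i := by
      rintro ⟨j, i, hi, h⟩
      exact ⟨⟨i, hi⟩, h⟩
    choose φ hφ using hφ
    have hφinj : Injective φ := by
      intro j j' hjj'
      have h1 := hφ j
      have h2 := hφ j'
      rw [hjj'] at h1
      apply Subtype.ext
      rcases h1 with ⟨e1, hind⟩ | e1 <;> rcases h2 with ⟨e2, hind2⟩ | e2
      · rw [e1, e2]
      · exact absurd e2 (hind _)
      · exact absurd e1 (hind2 _)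
      · apply P.coroot.injective
        exact smul_right_injective N (two_ne_zero' ℤ) (e1.trans e2.symm)
    have _ : Fintype D := Fintype.ofFinite D
    have _ : Fintype Δ := Fintype.ofFinite Δ
    show LinearIndependent ℤ (fun d : D => P.flip.root d)
    have hco' : LinearIndependent ℤ (fun d : Δ => P.coroot d) := hco
    rw [Fintype.linearIndependent_iff] at hco' ⊢
    intro g hg j
    -- ε j
    set ε : D → ℤ := fun j => if (j : ι) = φ j then 2 else 1 with hε
    have hεeq : ∀ j : D, (2 : ℤ) • P.coroot j = ε j • P.coroot (φ j) := by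
      intro j
      rcases hφ j with ⟨e1, -⟩ | e1
      · simp only [hε, e1, if_true]
      · by_cases hjj : (j : ι) = φ j
        · exfalso
          rw [← hjj] at e1
          have : P.coroot (j : ι) = 0 := by
            have h3 : (2 : ℤ) • P.coroot (j : ι) = (1 : ℤ) • P.coroot (j : ι) := by rw [e1, one_smul]
            have h4 : ((2 : ℤ) - 1) • P.coroot (j : ι) = 0 := by rw [sub_smul, h3, sub_self]
            simpa using h4
          exact P.flip.ne_zero j this
        · simp only [hε, hjj, if_false, one_smul]; exact e1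
    have h2 : ∑ i : Δ, (∑ j : D, if φ j = i then g j * ε j else 0) • P.coroot i = 0 := by
      have h3 : ∑ j : D, (g j * ε j) • P.coroot (φ j) = 0 := by
        have := congrArg (fun x => (2 : ℤ) • x) hg
        simp only [Finset.smul_sum, smul_zero] at this
        rw [← this]
        refine Finset.sum_congr rfl fun j _ => ?_
        change _ = (2 : ℤ) • g j • P.coroot j
        rw [smul_comm, hεeq, mul_smul]
      rw [← h3]
      simp only [Finset.sum_smul]
      rw [Finset.sum_comm]
      refine Finset.sum_congr rfl fun j _ => ?_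
      simp only [ite_smul, zero_smul, Finset.sum_ite_eq, Finset.mem_univ, if_true]
    have h3 := hco' _ h2 (φ j)
    have h4 : (∑ j' : D, if φ j' = φ j then g j' * ε j' else 0) = g j * ε j := by
      rw [Finset.sum_eq_single j]
      · simp
      · intro b _ hb
        rw [if_neg (fun h => hb (hφinj h))]
      · intro h; exact absurd (Finset.mem_univ j) h
    rw [h4] at h3
    have hεne : ε j ≠ 0 := by simp only [hε]; split_ifs <;> norm_num
    exact (mul_eq_zero.1 h3).resolve_right hεne
  · -- cone
    have hpol : ∀ x ∈ RootD.natSpan P Δ, 2 • P.Polarization x ∈ RootD.natSpan P.flip D := by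
      intro x hx
      refine AddSubmonoid.closure_induction ?_ ?_ ?_ hx
      · rintro _ ⟨i, hi, rfl⟩
        rw [← P.rootForm_self_smul_coroot]
        have hlen := len_pos (P := P) i
        have : P.RootForm (P.root i) (P.root i) • P.coroot i =
            (P.RootForm (P.root i) (P.root i)).toNat • P.coroot i := by
          rw [← Nat.cast_smul_eq_nsmul ℤ, Int.toNat_of_nonneg hlen.le]
        rw [this]
        exact nsmul_mem (hgen i hi) _
      · simp
      · intro a b _ _ ha hb
        rw [map_add, smul_add]
        exact add_mem ha hb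
    intro k
    have hlen := len_pos (P := P) k
    refine ⟨(P.RootForm (P.root k) (P.root k)).toNat, by omega, ?_⟩
    have e1 : (P.RootForm (P.root k) (P.root k)).toNat • P.coroot k = 2 • P.Polarization (P.root k) := by
      rw [← P.rootForm_self_smul_coroot, ← Nat.cast_smul_eq_nsmul ℤ, Int.toNat_of_nonneg hlen.le]
    rcases hΔ.mem_or_neg_mem k with h | h
    · left
      change _ • P.coroot k ∈ _
      rw [e1]
      exact hpol _ h
    · right
      change _ • (-P.coroot k) ∈ _
      rw [smul_neg, e1, ← smul_neg, ← map_neg]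
      exact hpol _ h

end dual2

section dual3

/-- S5502 -/
theorem len_dvd_coeff [Fintype ι] (Δ : Set ι) (hΔ : RootD.IsSimpleSys P Δ)
    (k : ι) (c : ι →₀ ℤ) (hc : ↑c.support ⊆ Δ) (hck : Finsupp.linearCombination ℤ P.root c = P.root k)
    (i : ι) (hi : i ∈ Δ) :
    P.RootForm (P.root k) (P.root k) ∣ 2 * c i * P.RootForm (P.root i) (P.root i) ∧
      (RootD.IsIndiv P.flip i → 2 * P.RootForm (P.root k) (P.root k) ∣
        2 * c i * P.RootForm (P.root i) (P.root i)) := by
  classical
  have hM := isAddTorsionFree_left P
  have hN := isAddTorsionFree_right P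
  set D : Set ι := {j : ι | ∃ i ∈ Δ, (j = i ∧ RootD.IsIndiv P.flip i) ∨
      (2 : ℤ) • P.coroot j = P.coroot i} with hDdef
  have hD : RootD.IsSimpleSys P.flip D := isSimpleSys_ind_coroots Δ hΔ
  -- the data ψ, e
  have hex : ∀ i : ι, ∃ (j : ι) (e : ℤ), (i ∈ Δ → j ∈ D) ∧ (e = 1 ∨ e = 2) ∧
      P.coroot i = e • P.coroot j ∧ (RootD.IsIndiv P.flip i → e = 1) := by
    intro i
    by_cases hind : RootD.IsIndiv P.flip i
    · exact ⟨i, 1, fun hi => ⟨i, hi, Or.inl ⟨rfl, hind⟩⟩, Or.inl rfl, by simp, fun _ => rfl⟩
    · have hind' := hind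
      unfold RootD.IsIndiv at hind'
      push Not at hind'
      obtain ⟨j, hj⟩ := hind'
      change (2 : ℤ) • P.coroot j = P.coroot i at hj
      exact ⟨j, 2, fun hi => ⟨i, hi, Or.inr hj⟩, Or.inr rfl, hj.symm, fun h => absurd h hind⟩
  choose ψ e hψD he12 hψ heind using hex
  have hψinj : ∀ i ∈ Δ, ∀ i' ∈ Δ, ψ i = ψ i' → i = i' := by
    intro i hi i' hi' hii'
    have h1 := hψ i
    have h2 := hψ i'
    rw [hii'] at h1
    have hnd : ∀ a ∈ Δ, ∀ b : ι, P.coroot b = (2 : ℤ) • P.coroot a → False := by
      intro a ha b hab
      have := (P.coroot_eq_smul_coroot_iff).1 hab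
      exact Groth.Agent.S5448.result P Δ hΔ a ha b this.symm
    rcases he12 i with e1 | e1 <;> rcases he12 i' with e2 | e2
    · rw [e1] at h1; rw [e2] at h2
      exact P.coroot.injective (h1.trans h2.symm)
    · rw [e1, one_smul] at h1; rw [e2, ← h1] at h2
      exact (hnd i hi i' h2).elim
    · rw [e2, one_smul] at h2; rw [e1, ← h2] at h1
      exact (hnd i' hi' i h1).elim
    · rw [e1] at h1; rw [e2] at h2
      exact P.coroot.injective (h1.trans h2.symm)
  -- the two coefficient vectors
  set b : ι →₀ ℤ := coeff (P := P.flip) hD k with hb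
  set c' : ι →₀ ℤ := ∑ i' ∈ c.support,
    Finsupp.single (ψ i') (c i' * P.RootForm (P.root i') (P.root i') * e i') with hc'
  have hkey : P.RootForm (P.root k) (P.root k) • b = c' := by
    refine IsSimpleSys.coeff_unique hD ?_ ?_ ?_
    · exact fun l hl => support_coeff (P := P.flip) hD k (Finsupp.support_smul hl)
    · intro l hl
      rw [hc'] at hl
      have := Finsupp.support_finsetSum hl
      simp only [Finset.mem_biUnion] at this
      obtain ⟨i', hi', hl'⟩ := this
      have := Finsupp.support_single_subset hl'
      simp only [Finset.mem_singleton] at this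
      rw [this]
      exact hψD i' (hc hi')
    · rw [map_smul, lc_coeff (P := P.flip) hD k, hc', map_sum]
      simp only [Finsupp.linearCombination_single]
      change P.RootForm (P.root k) (P.root k) • P.coroot k =
        ∑ x ∈ c.support, (c x * P.RootForm (P.root x) (P.root x) * e x) • P.coroot (ψ x)
      have h1 : ∀ x ∈ c.support, (c x * P.RootForm (P.root x) (P.root x) * e x) • P.coroot (ψ x) =
          c x • (2 • P.Polarization (P.root x)) := by
        intro x _
        rw [mul_smul, ← hψ x, mul_smul, P.rootForm_self_smul_coroot]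
      rw [Finset.sum_congr rfl h1, P.rootForm_self_smul_coroot, ← hck,
        Finsupp.linearCombination_apply, Finsupp.sum, map_sum, Finset.smul_sum]
      refine Finset.sum_congr rfl fun x _ => ?_
      rw [map_smul, smul_comm]
  have hval : P.RootForm (P.root k) (P.root k) * b (ψ i) =
      c i * P.RootForm (P.root i) (P.root i) * e i := by
    have h1 := DFunLike.congr_fun hkey (ψ i)
    rw [Finsupp.smul_apply, smul_eq_mul, hc', Finsupp.finsetSum_apply] at h1
    rw [h1]
    by_cases hic : i ∈ c.support
    · rw [Finset.sum_eq_single_of_mem i hic]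
      · simp
      · intro x hx hxi
        rw [Finsupp.single_apply, if_neg]
        intro h
        exact hxi (hψinj x (hc hx) i hi h)
    · rw [Finsupp.notMem_support_iff.1 hic]
      simp only [zero_mul]
      refine Finset.sum_eq_zero fun x hx => ?_
      rw [Finsupp.single_apply, if_neg]
      intro h
      have := hψinj x (hc hx) i hi h
      exact hic (this ▸ hx)
  constructor
  · rcases he12 i with h1 | h1
    · rw [h1, mul_one] at hval
      exact ⟨2 * b (ψ i), by linarith⟩
    · rw [h1] at hval
      exact ⟨b (ψ i), by linarith⟩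
  · intro hind
    rw [heind i hind, mul_one] at hval
    exact ⟨b (ψ i), by linarith⟩

end dual3

end Groth.Agent.LD.RD
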