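import Groth.Agent.Lib.Lead.RootD13

/-!
# Root data: saturated subsets of roots and parabolic subsystems
-/

open Set Function

namespace Groth.Agent.LD.RD

variable {ι M N : Type*} [AddCommGroup M] [AddCommGroup N] {P : RootPairing ι ℤ M N}
variable {Δ : Set ι}

section sep

/-- A coweight vanishing exactly on the roots of a saturated set of roots. -/
lemma exists_sep [Finite ι] (R' : Set ι)
    (hsat : ∀ k : ι, (∃ n : ℕ, 0 < n ∧ n • P.root k ∈ Submodule.span ℤ (P.root '' R')) → k ∈ R') :
    ∃ n₀ : N, (∀ r ∈ R', P.toLinearMap (P.root r) n₀ = 0) ∧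
      ∀ k, k ∉ R' → P.toLinearMap (P.root k) n₀ ≠ 0 := by
  classical
  have _ : Fintype ι := Fintype.ofFinite ι
  have hM := isAddTorsionFree_left P
  let g : ι → Module.Dual ℚ (ι → ℚ) := fun i =>
    ∑ j, (P.pairing i j : ℚ) • LinearMap.proj j
  have hg_apply : ∀ i x, g i x = ∑ j, (P.pairing i j : ℚ) * x j := by
    intro i x
    simp [g]
  set A : Submodule ℚ (Module.Dual ℚ (ι → ℚ)) := Submodule.span ℚ (g '' R') with hA
  set W : Submodule ℚ (ι → ℚ) := A.dualCoannihilator with hW
  have hkey : ∀ k : {k // k ∉ R'}, ∃ x ∈ W, g k x ≠ 0 := by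
    rintro ⟨k, hk⟩
    by_contra hcon
    push Not at hcon
    apply hk
    have h1 : g k ∈ W.dualAnnihilator := (Submodule.mem_dualAnnihilator _).2 hcon
    rw [hW, Subspace.dualCoannihilator_dualAnnihilator_eq] at h1
    obtain ⟨c, hc, hck⟩ := (Finsupp.mem_span_image_iff_linearCombination ℚ).1 h1
    have hc' : ∀ i, i ∉ R' → c i = 0 := by
      intro i hi
      by_contra h
      exact hi (hc (Finsupp.mem_support_iff.2 h))
    obtain ⟨b, hb⟩ := IsLocalization.exist_integer_multiples_of_finite (nonZeroDivisors ℤ) (c : ι → ℚ)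
    choose z hz using hb
    have hb0 : (b : ℤ) ≠ 0 := nonZeroDivisors.coe_ne_zero b
    have hz' : ∀ i, (z i : ℚ) = (b : ℤ) * c i := by
      intro i
      have := hz i
      simp only [Algebra.smul_def, eq_intCast] at this
      exact this
    have hz0 : ∀ i, i ∉ R' → z i = 0 := by
      intro i hi
      have := hz' i
      rw [hc' i hi, mul_zero] at this
      exact_mod_cast this
    -- the relation
    have hrel : ∀ j, ∑ i, z i * P.pairing i j = (b : ℤ) * P.pairing k j := by
      intro j
      have h2 := LinearMap.congr_fun hck (Pi.single j 1)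
      rw [hg_apply, Finsupp.linearCombination_apply, Finsupp.sum_fintype _ _ (by simp),
        LinearMap.sum_apply] at h2
      simp only [LinearMap.smul_apply, hg_apply, Pi.single_apply, mul_ite, mul_one, mul_zero,
        Finset.sum_ite_eq', Finset.mem_univ, if_true, smul_eq_mul] at h2
      have : ((∑ i, z i * P.pairing i j : ℤ) : ℚ) = (((b : ℤ) * P.pairing k j : ℤ) : ℚ) := by
        push_cast
        rw [← h2, Finset.mul_sum]
        refine Finset.sum_congr rfl fun i _ => ?_
        rw [hz' i]; ring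
      exact_mod_cast this
    have hx0 : (b : ℤ) • P.root k - ∑ i, z i • P.root i = 0 := by
      refine eq_zero_of_mem_rootSpan_of_coroot_eq_zero (P := P) ?_ fun j => ?_
      · refine sub_mem (Submodule.smul_mem _ _ (Submodule.subset_span (mem_range_self k))) ?_
        exact Submodule.sum_mem _ fun i _ =>
          Submodule.smul_mem _ _ (Submodule.subset_span (mem_range_self i))
      · rw [map_sub, map_smul, map_sum, P.root_coroot'_eq_pairing, smul_eq_mul, ← hrel j, sub_eq_zero]
        refine Finset.sum_congr rfl fun i _ => ?_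
        rw [map_smul, P.root_coroot'_eq_pairing, smul_eq_mul]
    have hmem : (b : ℤ) • P.root k ∈ Submodule.span ℤ (P.root '' R') := by
      rw [sub_eq_zero.1 hx0]
      refine Submodule.sum_mem _ fun i _ => ?_
      by_cases hi : i ∈ R'
      · exact Submodule.smul_mem _ _ (Submodule.subset_span ⟨i, hi, rfl⟩)
      · rw [hz0 i hi, zero_smul]; exact zero_mem _
    refine hsat k ⟨(b : ℤ).natAbs, Int.natAbs_pos.2 hb0, ?_⟩
    rcases Int.natAbs_eq (b : ℤ) with h | h
    · rw [← Nat.cast_smul_eq_nsmul ℤ, ← h]; exact hmem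
    · have : ((b : ℤ).natAbs : ℤ) = -(b : ℤ) := by omega
      rw [← Nat.cast_smul_eq_nsmul ℤ, this, neg_smul]
      exact neg_mem hmem
  obtain ⟨y, hyW, hy⟩ := Module.Dual.exists_forall_mem_ne_zero_of_forall_exists W
    (fun k : {k // k ∉ R'} => g k) hkey
  obtain ⟨b, hb⟩ := IsLocalization.exist_integer_multiples_of_finite (nonZeroDivisors ℤ) y
  choose z hz using hb
  have hb0 : ((b : ℤ) : ℚ) ≠ 0 := by
    have := nonZeroDivisors.coe_ne_zero b
    exact_mod_cast this
  have key : ∀ i, ((P.toLinearMap (P.root i) (∑ j, z j • P.coroot j) : ℤ) : ℚ) = (b : ℤ) * g i y := by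
    intro i
    simp only [map_sum, map_smul, P.root_coroot_eq_pairing, smul_eq_mul, hg_apply, Finset.mul_sum]
    push_cast
    refine Finset.sum_congr rfl fun j _ => ?_
    have := hz j
    simp only [Algebra.smul_def, eq_intCast] at this
    rw [this]; ring
  refine ⟨∑ j, z j • P.coroot j, fun r hr => ?_, fun k hk => ?_⟩
  · have h1 : g r y = 0 := by
      rw [hW, Submodule.mem_dualCoannihilator] at hyW
      exact hyW (g r) (Submodule.subset_span ⟨r, hr, rfl⟩)
    have := key r
    rw [h1, mul_zero] at this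
    exact_mod_cast this
  · intro h0
    have := key k
    rw [h0, Int.cast_zero] at this
    rcases mul_eq_zero.1 this.symm with h | h
    · exact hb0 h
    · exact hy ⟨k, hk⟩ h

end sep

section sep2

lemma eq_zero_of_mem_natSpan_of_neg_mem (hli : LinearIndepOn ℤ P.root Δ) {x : M}
    (hx : x ∈ RootD.natSpan P Δ) (hnx : -x ∈ RootD.natSpan P Δ) : x = 0 := by
  obtain ⟨c, hc, hcpos, rfl⟩ := (mem_natSpan_iff_int P).1 hx
  obtain ⟨d, hd, hdpos, hdx⟩ := (mem_natSpan_iff_int P).1 hnx
  have h1 : c = -d := coeff_unique_of_linInd hli hc (by simpa using hd)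
    (by rw [map_neg, hdx, neg_neg])
  have h2 : c = 0 := by
    ext j
    have h3 := hcpos j
    have h4 := hdpos j
    rw [h1] at h3 ⊢
    simp only [Finsupp.coe_neg, Pi.neg_apply, Finsupp.coe_zero, Pi.zero_apply] at h3 ⊢
    omega
  simp [h2]

/-- S5461 -/
theorem exists_simple_extending [Finite ι] (R' : Set ι)
    (hsat : ∀ k : ι, (∃ n : ℕ, 0 < n ∧ n • P.root k ∈ Submodule.span ℤ (P.root '' R')) → k ∈ R')
    (Δ' : Set ι) (hΔ'R : Δ' ⊆ R') (hli : LinearIndepOn ℤ P.root Δ')
    (hgen : ∀ k ∈ R', P.root k ∈ RootD.natSpan P Δ' ∨ -P.root k ∈ RootD.natSpan P Δ') :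
    ∃ Δ : Set ι, RootD.IsSimpleSys P Δ ∧ Δ' ⊆ Δ ∧ R' = RootD.inSpan P Δ' := by
  classical
  obtain ⟨n₀, h0, hne⟩ := exists_sep R' hsat
  set φ : ι → ℤ := fun k => P.toLinearMap (P.root k) n₀ with hφ
  have hφneg : ∀ k, φ (P.reflectionPerm k k) = -φ k := by
    intro k; simp only [hφ, root_neg, map_neg, LinearMap.neg_apply]
  have hφadd : ∀ {i j k : ι}, P.root k = P.root i + P.root j → φ k = φ i + φ j := by
    intro i j k h; simp only [hφ, h, map_add, LinearMap.add_apply]
  have hφ0 : ∀ k, φ k = 0 ↔ k ∈ R' := by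
    intro k
    constructor
    · intro h; by_contra hk; exact hne k hk h
    · exact h0 k
  set S : Set ι := {k | 0 < φ k ∨ (k ∈ R' ∧ P.root k ∈ RootD.natSpan P Δ')} with hS
  have hSnonneg : ∀ k ∈ S, 0 ≤ φ k := by
    rintro k (h | ⟨h, -⟩)
    · exact h.le
    · exact ((hφ0 k).2 h).ge
  have hSzero : ∀ k ∈ S, φ k = 0 → P.root k ∈ RootD.natSpan P Δ' := by
    rintro k (h | ⟨-, h⟩) hk
    · omega
    · exact h
  have hdis : ∀ ⦃i : ι⦄, i ∈ S → P.reflectionPerm i i ∉ S := by
    intro i hi hi'
    have h1 := hSnonneg i hi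
    have h2 := hSnonneg _ hi'
    rw [hφneg] at h2
    have h3 : φ i = 0 := by omega
    have h4 := hSzero i hi h3
    have h5 := hSzero _ hi' (by rw [hφneg, h3, neg_zero])
    rw [root_neg] at h5
    exact P.ne_zero i (eq_zero_of_mem_natSpan_of_neg_mem hli h4 h5)
  have hcov : ∀ i : ι, i ∈ S ∨ P.reflectionPerm i i ∈ S := by
    intro i
    rcases lt_trichotomy (φ i) 0 with h | h | h
    · right; left; rw [hφneg]; omega
    · have hi : i ∈ R' := (hφ0 i).1 h
      rcases hgen i hi with h' | h'
      · left; right; exact ⟨hi, h'⟩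
      · right; right
        refine ⟨(hφ0 _).1 (by rw [hφneg, h, neg_zero]), ?_⟩
        rw [root_neg]; exact h'
    · left; left; exact h
  have hcl : RootD.IsClosedSub P S := by
    intro i j k hi hj hk
    have h1 := hSnonneg i hi
    have h2 := hSnonneg j hj
    have h3 := hφadd hk
    by_cases hpos : 0 < φ k
    · left; exact hpos
    · right
      have hi0 : φ i = 0 := by omega
      have hj0 : φ j = 0 := by omega
      refine ⟨(hφ0 k).1 (by omega), ?_⟩
      rw [hk]
      exact add_mem (hSzero i hi hi0) (hSzero j hj hj0)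
  obtain ⟨Δ, hΔ, hSΔ⟩ := exists_simple_eq_posOf hdis hcov hcl
  refine ⟨Δ, hΔ, ?_, ?_⟩
  · intro d hd
    have hdR : d ∈ R' := hΔ'R hd
    have hdS : d ∈ S := Or.inr ⟨hdR, root_mem_natSpan P hd⟩
    rw [IsSimpleSys.mem_iff_indecomposable hΔ (hSΔ ▸ hdS)]
    rintro ⟨a, b, ha, hb, hab⟩
    rw [← hSΔ] at ha hb
    have h1 := hSnonneg a ha
    have h2 := hSnonneg b hb
    have h3 := hφadd hab
    have h4 : φ d = 0 := (hφ0 d).2 hdR
    have ha' := hSzero a ha (by omega)
    have hb' := hSzero b hb (by omega)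
    obtain ⟨ca, hca, hca0, hcaa⟩ := (mem_natSpan_iff_int P).1 ha'
    obtain ⟨cb, hcb, hcb0, hcbb⟩ := (mem_natSpan_iff_int P).1 hb'
    have e : Finsupp.single d 1 = ca + cb := by
      refine coeff_unique_of_linInd hli (single_support_subset hd 1) ?_ ?_
      · intro l hl
        rcases Finset.mem_union.1 (Finsupp.support_add hl) with h' | h'
        · exact hca h'
        · exact hcb h'
      · rw [map_add, hcaa, hcbb, Finsupp.linearCombination_single, one_smul, hab]
    have hz : ca = 0 ∨ cb = 0 := by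
      have hd1 := DFunLike.congr_fun e d
      simp only [Finsupp.single_eq_same, Finsupp.coe_add, Pi.add_apply] at hd1
      have h5 := hca0 d
      have h6 := hcb0 d
      have hother : ∀ l, l ≠ d → ca l = 0 ∧ cb l = 0 := by
        intro l hl
        have := DFunLike.congr_fun e l
        simp only [Finsupp.single_eq_of_ne hl, Finsupp.coe_add, Pi.add_apply] at this
        have := hca0 l
        have := hcb0 l
        omega
      by_cases hcad : ca d = 0
      · left
        ext l
        by_cases hl : l = d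
        · rw [hl, hcad]; rfl
        · exact (hother l hl).1
      · right
        ext l
        by_cases hl : l = d
        · rw [hl]; simp only [Finsupp.coe_zero, Pi.zero_apply]; omega
        · exact (hother l hl).2
    rcases hz with h | h
    · rw [h, map_zero] at hcaa; exact P.ne_zero a hcaa.symm
    · rw [h, map_zero] at hcbb; exact P.ne_zero b hcbb.symm
  · ext k
    constructor
    · intro hk
      rcases hgen k hk with h | h
      · exact natSpan_le_span P Δ' h
      · have := natSpan_le_span P Δ' h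
        rwa [neg_mem_iff] at this
    · intro hk
      refine hsat k ⟨1, one_pos, ?_⟩
      rw [one_smul]
      exact Submodule.span_mono (image_mono hΔ'R) hk

end sep2

section sep3

lemma sat_inSpan [Finite ι] {Δ Δ' : Set ι} (hΔ : RootD.IsSimpleSys P Δ) (hsub : Δ' ⊆ Δ) (k : ι)
    (h : ∃ n : ℕ, 0 < n ∧ n • P.root k ∈ Submodule.span ℤ (P.root '' RootD.inSpan P Δ')) :
    k ∈ RootD.inSpan P Δ' := by
  classical
  obtain ⟨n, hn, hmem⟩ := h
  have h1 : Submodule.span ℤ (P.root '' RootD.inSpan P Δ') ≤ Submodule.span ℤ (P.root '' Δ') := by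
    rw [Submodule.span_le]
    rintro _ ⟨l, hl, rfl⟩
    exact hl
  obtain ⟨l, hl, hlk⟩ := (Finsupp.mem_span_image_iff_linearCombination ℤ).1 (h1 hmem)
  have hl' : (↑l.support : Set ι) ⊆ Δ' := by simpa [Finsupp.mem_supported] using hl
  have e : (n : ℤ) • coeff hΔ k = l := by
    refine IsSimpleSys.coeff_unique hΔ ?_ (hl'.trans hsub) ?_
    · exact fun j hj => support_coeff hΔ k (Finsupp.support_smul hj)
    · rw [map_smul, lc_coeff, hlk, Nat.cast_smul_eq_nsmul]
  show P.root k ∈ Submodule.span ℤ (P.root '' Δ')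
  rw [Finsupp.mem_span_image_iff_linearCombination]
  refine ⟨coeff hΔ k, ?_, lc_coeff hΔ k⟩
  rw [Finsupp.mem_supported]
  intro j hj
  by_contra hjΔ'
  have h2 : l j = 0 := by
    by_contra h
    exact hjΔ' (hl' (Finsupp.mem_support_iff.2 h))
  have h3 := DFunLike.congr_fun e j
  simp only [Finsupp.coe_smul, Pi.smul_apply, smul_eq_mul] at h3
  rw [h2] at h3
  have h4 : coeff hΔ k j ≠ 0 := Finsupp.mem_support_iff.1 hj
  rcases mul_eq_zero.1 h3 with h | h
  · omega
  · exact h4 h

/-- S5460 -/
theorem sat_iff [Finite ι] (R' : Set ι) :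
    (∀ k : ι, (∃ n : ℕ, 0 < n ∧ n • P.root k ∈ Submodule.span ℤ (P.root '' R')) → k ∈ R') ↔
      ∃ Δ Δ' : Set ι, RootD.IsSimpleSys P Δ ∧ Δ' ⊆ Δ ∧ R' = RootD.inSpan P Δ' := by
  classical
  have _ : Fintype ι := Fintype.ofFinite ι
  constructor
  · intro hsat
    obtain ⟨n₀, h0, hne⟩ := exists_sep R' hsat
    obtain ⟨n₁, hreg⟩ := exists_regular P
    set φ : ι → ℤ := fun k => P.toLinearMap (P.root k) n₀ with hφ
    set ψ : ι → ℤ := fun k => P.toLinearMap (P.root k) n₁ with hψ
    have hφneg : ∀ k, φ (P.reflectionPerm k k) = -φ k := by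
      intro k; simp only [hφ, root_neg, map_neg, LinearMap.neg_apply]
    have hψneg : ∀ k, ψ (P.reflectionPerm k k) = -ψ k := by
      intro k; simp only [hψ, root_neg, map_neg, LinearMap.neg_apply]
    have hφadd : ∀ {i j k : ι}, P.root k = P.root i + P.root j → φ k = φ i + φ j := by
      intro i j k h; simp only [hφ, h, map_add, LinearMap.add_apply]
    have hψadd : ∀ {i j k : ι}, P.root k = P.root i + P.root j → ψ k = ψ i + ψ j := by
      intro i j k h; simp only [hψ, h, map_add, LinearMap.add_apply]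
    have hφ0 : ∀ k, φ k = 0 ↔ k ∈ R' := by
      intro k
      constructor
      · intro h; by_contra hk; exact hne k hk h
      · exact h0 k
    set S : Set ι := {k | 0 < φ k ∨ (φ k = 0 ∧ 0 < ψ k)} with hS
    have hdis : ∀ ⦃i : ι⦄, i ∈ S → P.reflectionPerm i i ∉ S := by
      rintro i (h | ⟨h, h'⟩) (g | ⟨g, g'⟩) <;> rw [hφneg] at g <;> try rw [hψneg] at g'
      all_goals omega
    have hcov : ∀ i : ι, i ∈ S ∨ P.reflectionPerm i i ∈ S := by
      intro i
      have := hreg i
      change ψ i ≠ 0 at this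
      rcases lt_trichotomy (φ i) 0 with h | h | h
      · right; left; rw [hφneg]; omega
      · rcases lt_trichotomy (ψ i) 0 with h' | h' | h'
        · right; right; rw [hφneg, hψneg]; omega
        · exact absurd h' this
        · left; right; exact ⟨h, h'⟩
      · left; left; exact h
    have hcl : RootD.IsClosedSub P S := by
      intro i j k hi hj hk
      have h3 := hφadd hk
      have h4 := hψadd hk
      show 0 < φ k ∨ (φ k = 0 ∧ 0 < ψ k)
      rcases hi with h | ⟨h, h'⟩ <;> rcases hj with g | ⟨g, g'⟩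
      · left; omega
      · left; omega
      · left; omega
      · right; omega
    obtain ⟨Δ, hΔ, hSΔ⟩ := exists_simple_eq_posOf hdis hcov hcl
    refine ⟨Δ, Δ ∩ R', hΔ, inter_subset_left, ?_⟩
    have hΔnonneg : ∀ d ∈ Δ, 0 ≤ φ d := by
      intro d hd
      have : d ∈ S := hSΔ ▸ IsSimpleSys.subset_posOf hΔ hd
      rcases this with h | ⟨h, -⟩ <;> omega
    ext k
    constructor
    · intro hk
      show P.root k ∈ Submodule.span ℤ (P.root '' (Δ ∩ R'))
      rw [Finsupp.mem_span_image_iff_linearCombination]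
      refine ⟨coeff hΔ k, ?_, lc_coeff hΔ k⟩
      rw [Finsupp.mem_supported]
      have hsum : φ k = ∑ d, coeff hΔ k d * φ d := by
        have := congrArg (fun x => P.toLinearMap x n₀) (lc_coeff hΔ k)
        rw [Finsupp.linearCombination_apply, Finsupp.sum_fintype _ _ (by simp)] at this
        simp only [map_sum, map_smul, LinearMap.sum_apply, LinearMap.smul_apply, smul_eq_mul] at this
        exact this.symm
      have hk0 : φ k = 0 := (hφ0 k).2 hk
      have hsupp : ∀ d, d ∈ (coeff hΔ k).support → d ∈ Δ := fun d hd => support_coeff hΔ k hd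
      have hterm : ∀ d, coeff hΔ k d * φ d = 0 := by
        rcases coeff_sign hΔ k with hs | hs
        · have hnn : ∀ d ∈ Finset.univ, 0 ≤ coeff hΔ k d * φ d := by
            intro d _
            by_cases hd : coeff hΔ k d = 0
            · rw [hd, zero_mul]
            · exact mul_nonneg (hs d) (hΔnonneg d (hsupp d (Finsupp.mem_support_iff.2 hd)))
          have := (Finset.sum_eq_zero_iff_of_nonneg hnn).1 (hsum ▸ hk0)
          exact fun d => this d (Finset.mem_univ d)
        · have hnn : ∀ d ∈ Finset.univ, coeff hΔ k d * φ d ≤ 0 := by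
            intro d _
            by_cases hd : coeff hΔ k d = 0
            · rw [hd, zero_mul]
            · exact mul_nonpos_of_nonpos_of_nonneg (hs d)
                (hΔnonneg d (hsupp d (Finsupp.mem_support_iff.2 hd)))
          have := (Finset.sum_eq_zero_iff_of_nonpos hnn).1 (hsum ▸ hk0)
          exact fun d => this d (Finset.mem_univ d)
      intro d hd
      refine ⟨hsupp d hd, (hφ0 d).1 ?_⟩
      rcases mul_eq_zero.1 (hterm d) with h | h
      · exact absurd h (Finsupp.mem_support_iff.1 hd)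
      · exact h
    · intro hk
      refine hsat k ⟨1, one_pos, ?_⟩
      rw [one_smul]
      exact Submodule.span_mono (image_mono inter_subset_right) hk
  · rintro ⟨Δ, Δ', hΔ, hsub, rfl⟩ k hk
    exact sat_inSpan hΔ hsub k hk

end sep3

section rank2

lemma coxeter_lt_four [Finite ι] {i k : ι} (hli : LinearIndependent ℤ ![P.root i, P.root k]) :
    P.pairing i k * P.pairing k i < 4 := by
  have hM := isAddTorsionFree_left P
  have hne := P.coxeterWeight_ne_four_of_linearIndependent hli
  have hset := P.pairingIn_pairingIn_mem_set_of_isCrystallographic i k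
  rw [pairingIn_eq, pairingIn_eq] at hset
  simp only [mem_insert_iff, mem_singleton_iff, Prod.mk.injEq] at hset
  unfold RootPairing.coxeterWeight at hne
  rcases hset with h | h | h | h | h | h | h | h | h | h | h | h | h | h | h | h | h <;>
    obtain ⟨h1, h2⟩ := h <;> rw [h1, h2] at hne ⊢ <;>
    first | (exfalso; norm_num at hne; done) | norm_num

/-- If a functional `φ = ⟨·, n₀⟩` is non-negative on a simple system and vanishes on a root `k`,
it vanishes on the support of `k`. -/
lemma apply_eq_zero_of_mem_support_coeff [Finite ι] (hΔ : RootD.IsSimpleSys P Δ) (n₀ : N)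
    (hnn : ∀ d ∈ Δ, 0 ≤ P.toLinearMap (P.root d) n₀) {k : ι}
    (hk : P.toLinearMap (P.root k) n₀ = 0) {d : ι} (hd : d ∈ (coeff hΔ k).support) :
    P.toLinearMap (P.root d) n₀ = 0 := by
  classical
  have _ : Fintype ι := Fintype.ofFinite ι
  have hsum : P.toLinearMap (P.root k) n₀ = ∑ d, coeff hΔ k d * P.toLinearMap (P.root d) n₀ := by
    have := congrArg (fun x => P.toLinearMap x n₀) (lc_coeff hΔ k)
    rw [Finsupp.linearCombination_apply, Finsupp.sum_fintype _ _ (by simp)] at this
    simp only [map_sum, map_smul, LinearMap.sum_apply, LinearMap.smul_apply, smul_eq_mul] at this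
    exact this.symm
  have hsupp : ∀ d, d ∈ (coeff hΔ k).support → d ∈ Δ := fun d hd => support_coeff hΔ k hd
  have hterm : ∀ d, coeff hΔ k d * P.toLinearMap (P.root d) n₀ = 0 := by
    rcases coeff_sign hΔ k with hs | hs
    · have hnn' : ∀ d ∈ Finset.univ, 0 ≤ coeff hΔ k d * P.toLinearMap (P.root d) n₀ := by
        intro d _
        by_cases hd : coeff hΔ k d = 0
        · rw [hd, zero_mul]
        · exact mul_nonneg (hs d) (hnn d (hsupp d (Finsupp.mem_support_iff.2 hd)))
      have := (Finset.sum_eq_zero_iff_of_nonneg hnn').1 (hsum ▸ hk)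
      exact fun d => this d (Finset.mem_univ d)
    · have hnn' : ∀ d ∈ Finset.univ, coeff hΔ k d * P.toLinearMap (P.root d) n₀ ≤ 0 := by
        intro d _
        by_cases hd : coeff hΔ k d = 0
        · rw [hd, zero_mul]
        · exact mul_nonpos_of_nonpos_of_nonneg (hs d)
            (hnn d (hsupp d (Finsupp.mem_support_iff.2 hd)))
      have := (Finset.sum_eq_zero_iff_of_nonpos hnn').1 (hsum ▸ hk)
      exact fun d => this d (Finset.mem_univ d)
  rcases mul_eq_zero.1 (hterm d) with h | h
  · exact absurd h (Finsupp.mem_support_iff.1 hd)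
  · exact h

end rank2

section rank2b

/-- S5464 -/
theorem exists_simple_rank2 [Finite ι] (i k : ι) (hα : RootD.IsIndiv P i)
    (hli : LinearIndependent ℤ ![P.root i, P.root k]) :
    ∃ Δ : Set ι, RootD.IsSimpleSys P Δ ∧ i ∈ Δ ∧
      ∃ j ∈ Δ, ∃ a b : ℕ, P.root k = a • P.root i + b • P.root j := by
  classical
  have hM := isAddTorsionFree_left P
  set V : Submodule ℤ M := Submodule.span ℤ {P.root i, P.root k} with hV
  set R' : Set ι := {l | ∃ n : ℕ, 0 < n ∧ n • P.root l ∈ V} with hR'
  have hiR : i ∈ R' := ⟨1, one_pos, by rw [one_smul]; exact Submodule.subset_span (by simp)⟩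
  have hkR : k ∈ R' := ⟨1, one_pos, by rw [one_smul]; exact Submodule.subset_span (by simp)⟩
  have hspan : ∀ x ∈ Submodule.span ℤ (P.root '' R'), ∃ m : ℕ, 0 < m ∧ m • x ∈ V := by
    intro x hx
    induction hx using Submodule.span_induction with
    | mem x hx => obtain ⟨r, hr, rfl⟩ := hx; exact hr
    | zero => exact ⟨1, one_pos, by simp⟩
    | add x y _ _ hx hy =>
      obtain ⟨m, hm, hmx⟩ := hx
      obtain ⟨m', hm', hmy⟩ := hy
      refine ⟨m * m', Nat.mul_pos hm hm', ?_⟩
      have : (m * m') • (x + y) = m' • (m • x) + m • (m' • y) := by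
        rw [smul_add, mul_comm m m', mul_smul, mul_smul, smul_comm m' m y]
      rw [this]
      exact add_mem (nsmul_mem hmx m') (nsmul_mem hmy m)
    | smul a x _ hx =>
      obtain ⟨m, hm, hmx⟩ := hx
      exact ⟨m, hm, by rw [smul_comm]; exact V.smul_mem a hmx⟩
  have hsat : ∀ l : ι, (∃ n : ℕ, 0 < n ∧ n • P.root l ∈ Submodule.span ℤ (P.root '' R')) →
      l ∈ R' := by
    rintro l ⟨n, hn, hmem⟩
    obtain ⟨m, hm, hmx⟩ := hspan _ hmem
    exact ⟨m * n, Nat.mul_pos hm hn, by rwa [mul_smul]⟩
  obtain ⟨n₀, h0, hne⟩ := exists_sep R' hsat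
  set n₁ : N := (-P.pairing i k) • P.coroot i + (2 : ℤ) • P.coroot k with hn₁
  have hneg : ∀ (n : N) (l : ι), P.toLinearMap (P.root (P.reflectionPerm l l)) n =
      -P.toLinearMap (P.root l) n := by
    intro n l; rw [root_neg, map_neg, LinearMap.neg_apply]
  have hadd : ∀ (n : N) {a b c : ι}, P.root c = P.root a + P.root b →
      P.toLinearMap (P.root c) n = P.toLinearMap (P.root a) n + P.toLinearMap (P.root b) n := by
    intro n a b c h; rw [h, map_add, LinearMap.add_apply]
  set φ : ι → ℤ := fun l => P.toLinearMap (P.root l) n₀ with hφ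
  set ψ₁ : ι → ℤ := fun l => P.toLinearMap (P.root l) n₁ with hψ₁
  set ψ₂ : ι → ℤ := fun l => P.toLinearMap (P.root l) (P.coroot i) with hψ₂
  have hφ0 : ∀ l, φ l = 0 ↔ l ∈ R' := by
    intro l
    constructor
    · intro h; by_contra hl; exact hne l hl h
    · exact h0 l
  have hψ₁i : ψ₁ i = 0 := by
    simp only [hψ₁, hn₁, map_add, map_smul, P.root_coroot_eq_pairing, P.pairing_same, smul_eq_mul]
    ring
  have hψ₁k : 0 < ψ₁ k := by
    have := coxeter_lt_four hli
    simp only [hψ₁, hn₁, map_add, map_smul, P.root_coroot_eq_pairing, P.pairing_same, smul_eq_mul]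
    linarith
  have hψ₂i : ψ₂ i = 2 := by
    simp only [hψ₂, P.root_coroot_eq_pairing, P.pairing_same]
  have hprop : ∀ l, φ l = 0 → ψ₁ l = 0 →
      ∃ (n : ℕ) (a : ℤ), 0 < n ∧ (n : ℤ) • P.root l = a • P.root i := by
    intro l hl0 hl1
    obtain ⟨n, hn, hmem⟩ := (hφ0 l).1 hl0
    obtain ⟨a, b, hab⟩ := Submodule.mem_span_pair.1 hmem
    have h1 : a * ψ₁ i + b * ψ₁ k = n * ψ₁ l := by
      have := congrArg (fun x => P.toLinearMap x n₁) hab
      simp only [map_add, map_smul, LinearMap.add_apply, LinearMap.smul_apply, smul_eq_mul,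
        map_nsmul, nsmul_eq_mul] at this
      exact this
    rw [hl1, hψ₁i] at h1
    have hb : b = 0 := by
      have : b * ψ₁ k = 0 := by linarith
      rcases mul_eq_zero.1 this with h | h
      · exact h
      · omega
    refine ⟨n, a, hn, ?_⟩
    rw [Nat.cast_smul_eq_nsmul, ← hab, hb, zero_smul, add_zero]
  have hψ₂ne : ∀ l, φ l = 0 → ψ₁ l = 0 → ψ₂ l ≠ 0 := by
    intro l hl0 hl1 h2
    obtain ⟨n, a, hn, hna⟩ := hprop l hl0 hl1
    have h3 : (n : ℤ) * ψ₂ l = a * ψ₂ i := by
      have := congrArg (fun x => P.toLinearMap x (P.coroot i)) hna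
      simp only [map_smul, LinearMap.smul_apply, smul_eq_mul] at this
      exact this
    rw [h2, hψ₂i] at h3
    have ha : a = 0 := by omega
    rw [ha, zero_smul] at hna
    rcases smul_eq_zero.1 hna with h | h
    · omega
    · exact P.ne_zero l h
  set S : Set ι := {l | 0 < φ l ∨ (φ l = 0 ∧ 0 < ψ₁ l) ∨ (φ l = 0 ∧ ψ₁ l = 0 ∧ 0 < ψ₂ l)} with hS
  have hSmem : ∀ l, l ∈ S ↔ (0 < φ l ∨ (φ l = 0 ∧ 0 < ψ₁ l) ∨ (φ l = 0 ∧ ψ₁ l = 0 ∧ 0 < ψ₂ l)) :=
    fun l => Iff.rfl
  have hφn : ∀ l, φ (P.reflectionPerm l l) = -φ l := fun l => hneg n₀ l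
  have hψ₁n : ∀ l, ψ₁ (P.reflectionPerm l l) = -ψ₁ l := fun l => hneg n₁ l
  have hψ₂n : ∀ l, ψ₂ (P.reflectionPerm l l) = -ψ₂ l := fun l => hneg _ l
  have hdis : ∀ ⦃l : ι⦄, l ∈ S → P.reflectionPerm l l ∉ S := by
    intro l hl hl'
    rw [hSmem] at hl hl'
    rw [hφn, hψ₁n, hψ₂n] at hl'
    omega
  have hcov : ∀ l : ι, l ∈ S ∨ P.reflectionPerm l l ∈ S := by
    intro l
    rw [hSmem, hSmem, hφn, hψ₁n, hψ₂n]
    by_cases h1 : φ l = 0
    · by_cases h2 : ψ₁ l = 0
      · have := hψ₂ne l h1 h2
        omega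
      · omega
    · omega
  have hcl : RootD.IsClosedSub P S := by
    intro a b c ha hb hc
    rw [hSmem] at ha hb ⊢
    have e1 : φ c = φ a + φ b := hadd n₀ hc
    have e2 : ψ₁ c = ψ₁ a + ψ₁ b := hadd n₁ hc
    have e3 : ψ₂ c = ψ₂ a + ψ₂ b := hadd _ hc
    omega
  obtain ⟨Δ, hΔ, hSΔ⟩ := exists_simple_eq_posOf hdis hcov hcl
  have hiS : i ∈ S := by
    rw [hSmem]; right; right
    exact ⟨(hφ0 i).2 hiR, hψ₁i, by omega⟩
  have hiΔ : i ∈ Δ := by
    rw [IsSimpleSys.mem_iff_indecomposable hΔ (hSΔ ▸ hiS)]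
    rintro ⟨a, b, ha, hb, hab⟩
    rw [← hSΔ, hSmem] at ha hb
    have e1 : φ i = φ a + φ b := hadd n₀ hab
    have e2 : ψ₁ i = ψ₁ a + ψ₁ b := hadd n₁ hab
    have e0 : φ i = 0 := (hφ0 i).2 hiR
    have hmult : ∀ a, φ a = 0 → ψ₁ a = 0 → 0 < ψ₂ a → ∃ m : ℤ, 0 < m ∧ P.root a = m • P.root i := by
      intro a h1 h2 h3
      obtain ⟨n, α, hn, hna⟩ := hprop a h1 h2
      have h4 : (n : ℤ) * ψ₂ a = α * ψ₂ i := by
        have := congrArg (fun x => P.toLinearMap x (P.coroot i)) hna
        simp only [map_smul, LinearMap.smul_apply, smul_eq_mul] at this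
        exact this
      rw [hψ₂i] at h4
      have hαpos : 0 < α := by
        have : 0 < (n : ℤ) * ψ₂ a := mul_pos (by omega) h3
        omega
      obtain ⟨m, hm⟩ := Groth.Agent.S5495.result P i a hα α n (by omega) hna
      have h5 : P.root a = m • P.root i := by
        rw [hm, mul_smul] at hna
        exact smul_right_injective M (show (n : ℤ) ≠ 0 by omega) hna
      refine ⟨m, ?_, h5⟩
      by_contra hm0
      push Not at hm0
      have : (n : ℤ) * m ≤ 0 := mul_nonpos_of_nonneg_of_nonpos (by omega) hm0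
      omega
    obtain ⟨ma, hma, ha'⟩ := hmult a (by omega) (by omega) (by omega)
    obtain ⟨mb, hmb, hb'⟩ := hmult b (by omega) (by omega) (by omega)
    have h0' : (ma + mb - 1) • P.root i = 0 := by
      rw [sub_smul, add_smul, one_smul, ← ha', ← hb', ← hab, sub_self]
    rcases smul_eq_zero.1 h0' with h | h
    · omega
    · exact P.ne_zero i h
  have hΔnn : ∀ d ∈ Δ, 0 ≤ P.toLinearMap (P.root d) n₀ := by
    intro d hd
    have : d ∈ S := hSΔ ▸ IsSimpleSys.subset_posOf hΔ hd
    rw [hSmem] at this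
    show 0 ≤ φ d
    omega
  -- at most one element of `Δ ∩ R'` besides `i`
  have hT : ∀ d ∈ Δ, d ∈ R' → d ≠ i → ∀ d' ∈ Δ, d' ∈ R' → d' ≠ i → d = d' := by
    intro d hd hdR hdi d' hd' hd'R hd'i
    by_contra hdd'
    obtain ⟨n, hn, hmem⟩ := hdR
    obtain ⟨n', hn', hmem'⟩ := hd'R
    obtain ⟨a, b, hab⟩ := Submodule.mem_span_pair.1 hmem
    obtain ⟨a', b', hab'⟩ := Submodule.mem_span_pair.1 hmem'
    have hrel : Finsupp.single d (b' * n) - Finsupp.single d' (b * n') =
        Finsupp.single i (a * b' - a' * b) := by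
      refine IsSimpleSys.coeff_unique hΔ ?_ (single_support_subset hiΔ _) ?_
      · intro l hl
        rcases Finset.mem_union.1 (Finsupp.support_sub hl) with h | h
        · exact single_support_subset hd _ h
        · exact single_support_subset hd' _ h
      · rw [map_sub, Finsupp.linearCombination_single, Finsupp.linearCombination_single,
          Finsupp.linearCombination_single, mul_smul, mul_smul, Nat.cast_smul_eq_nsmul,
          Nat.cast_smul_eq_nsmul, ← hab, ← hab']
        module
    have h1 := DFunLike.congr_fun hrel d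
    have h2 := DFunLike.congr_fun hrel d'
    simp only [Finsupp.coe_sub, Pi.sub_apply, Finsupp.single_eq_same,
      Finsupp.single_eq_of_ne hdd', Finsupp.single_eq_of_ne hdi, sub_zero] at h1
    simp only [Finsupp.coe_sub, Pi.sub_apply, Finsupp.single_eq_same,
      Finsupp.single_eq_of_ne (Ne.symm hdd'), Finsupp.single_eq_of_ne hd'i, zero_sub] at h2
    have hb' : b' = 0 := by
      rcases mul_eq_zero.1 h1 with h | h
      · exact h
      · omega
    rw [hb', zero_smul, add_zero] at hab'
    have hrel2 : Finsupp.single d' (n' : ℤ) = Finsupp.single i a' := by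
      refine IsSimpleSys.coeff_unique hΔ (single_support_subset hd' _) (single_support_subset hiΔ _) ?_
      rw [Finsupp.linearCombination_single, Finsupp.linearCombination_single, hab',
        Nat.cast_smul_eq_nsmul]
    have h3 := DFunLike.congr_fun hrel2 d'
    simp only [Finsupp.single_eq_same, Finsupp.single_eq_of_ne hd'i] at h3
    omega
  have hkS : k ∈ S := by
    rw [hSmem]; right; left
    exact ⟨(hφ0 k).2 hkR, hψ₁k⟩
  have hkpos : ∀ l, 0 ≤ coeff hΔ k l := (mem_posOf_iff hΔ).1 (hSΔ ▸ hkS)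
  have hsuppR : ∀ d ∈ (coeff hΔ k).support, d ∈ Δ ∧ d ∈ R' := by
    intro d hd
    refine ⟨support_coeff hΔ k hd, (hφ0 d).1 ?_⟩
    exact apply_eq_zero_of_mem_support_coeff hΔ n₀ hΔnn ((hφ0 k).2 hkR) hd
  refine ⟨Δ, hΔ, hiΔ, ?_⟩
  by_cases hex : ∃ d ∈ (coeff hΔ k).support, d ≠ i
  · obtain ⟨j, hj, hji⟩ := hex
    obtain ⟨hjΔ, hjR⟩ := hsuppR j hj
    refine ⟨j, hjΔ, (coeff hΔ k i).toNat, (coeff hΔ k j).toNat, ?_⟩
    have hc : coeff hΔ k = Finsupp.single i (coeff hΔ k i) + Finsupp.single j (coeff hΔ k j) := by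
      ext l
      simp only [Finsupp.coe_add, Pi.add_apply]
      by_cases hli' : l = i
      · rw [hli', Finsupp.single_eq_same, Finsupp.single_eq_of_ne (Ne.symm hji), add_zero]
      · by_cases hlj : l = j
        · rw [hlj, Finsupp.single_eq_same, Finsupp.single_eq_of_ne hji, zero_add]
        · rw [Finsupp.single_eq_of_ne hli', Finsupp.single_eq_of_ne hlj, add_zero]
          by_contra hl0
          have hl := Finsupp.mem_support_iff.2 hl0
          obtain ⟨hlΔ, hlR⟩ := hsuppR l hl
          exact hlj (hT l hlΔ hlR hli' j hjΔ hjR hji)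
    have := lc_coeff hΔ k
    rw [hc, map_add, Finsupp.linearCombination_single, Finsupp.linearCombination_single] at this
    rw [← this, ← Nat.cast_smul_eq_nsmul ℤ, ← Nat.cast_smul_eq_nsmul ℤ,
      Int.toNat_of_nonneg (hkpos i), Int.toNat_of_nonneg (hkpos j)]
  · push Not at hex
    refine ⟨i, hiΔ, (coeff hΔ k i).toNat, 0, ?_⟩
    have hc : coeff hΔ k = Finsupp.single i (coeff hΔ k i) := by
      ext l
      by_cases hli' : l = i
      · rw [hli', Finsupp.single_eq_same]
      · rw [Finsupp.single_eq_of_ne hli']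
        by_contra hl0
        exact hli' (hex l (Finsupp.mem_support_iff.2 hl0))
    have := lc_coeff hΔ k
    rw [hc, Finsupp.linearCombination_single] at this
    rw [← this, zero_smul, add_zero, ← Nat.cast_smul_eq_nsmul ℤ, Int.toNat_of_nonneg (hkpos i)]

end rank2b

end Groth.Agent.LD.RD
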