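import Groth.Agent.Lib.Lead.RootD14
import Mathlib.LinearAlgebra.FreeModule.Finite.Matrix
import Mathlib.LinearAlgebra.FreeModule.Finite.Quotient

/-!
# Root data: ranks, semisimple data, isogenies
-/

open Set Function Module

namespace Groth.Agent.LD.RD

variable {ι M N : Type*} [AddCommGroup M] [AddCommGroup N] {P : RootPairing ι ℤ M N}
variable {Δ : Set ι}

section isog

lemma hom_pairing {ι' M' N' : Type*} [AddCommGroup M'] [AddCommGroup N']
    {P' : RootPairing ι' ℤ M' N'} (f : RootPairing.Hom P' P) (m' : M') (n : N) :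
    P.toLinearMap (f.weightMap m') n = P'.toLinearMap m' (f.coweightMap n) := by
  have := RootPairing.Hom.weight_coweight_transpose_apply P' P n f
  have := LinearMap.congr_fun this m'
  simpa using this

/-- a full-rank submodule of a finite free ℤ-module contains a positive multiple of every element -/
lemma exists_nsmul_mem_of_finrank_eq [Module.Finite ℤ M] [Module.Free ℤ M] (S : Submodule ℤ M)
    (h : Module.finrank ℤ S = Module.finrank ℤ M) (m : M) : ∃ n : ℕ, 0 < n ∧ n • m ∈ S := by
  have hfin : Finite (M ⧸ S) := Submodule.finiteQuotientOfFreeOfRankEq S h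
  refine ⟨Nat.card (M ⧸ S), Nat.card_pos, ?_⟩
  rw [← Submodule.Quotient.mk_eq_zero, Submodule.Quotient.mk_smul]
  exact card_nsmul_eq_zero'

lemma free_left [Module.Finite ℤ M] (P : RootPairing ι ℤ M N) : Module.Free ℤ M := by
  have : Module.IsReflexive ℤ M := Module.IsReflexive.of_isPerfPair P.toLinearMap
  infer_instance

/-- semisimple ⇒ the coradical vanishes -/
lemma eq_zero_of_coroot'_eq_zero_of_ss [Finite ι] [Module.Finite ℤ M]
    (hss : Module.finrank ℤ (Submodule.span ℤ (Set.range P.root)) = Module.finrank ℤ M)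
    {m : M} (h : ∀ i, P.coroot' i m = 0) : m = 0 := by
  have hM := isAddTorsionFree_left P
  have := free_left P
  obtain ⟨n, hn, hmem⟩ := exists_nsmul_mem_of_finrank_eq _ hss m
  have h0 : n • m = 0 := by
    refine eq_zero_of_mem_rootSpan_of_coroot_eq_zero hmem fun i => ?_
    rw [map_nsmul, h i, smul_zero]
  exact (smul_eq_zero_iff_right hn.ne').mp h0

/-- S5474 -/
theorem isogeny_of_ss {ι' M' N' : Type*} [AddCommGroup M'] [AddCommGroup N']
    {P' : RootPairing ι' ℤ M' N'} [Finite ι] [Finite ι']
    [Module.Finite ℤ M] [Module.Finite ℤ N] [Module.Finite ℤ M'] [Module.Finite ℤ N']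
    (hss : Module.finrank ℤ (Submodule.span ℤ (Set.range P.root)) = Module.finrank ℤ M)
    (hss' : Module.finrank ℤ (Submodule.span ℤ (Set.range P'.root)) = Module.finrank ℤ M')
    (f : RootPairing.Hom P' P) :
    Function.Injective f.weightMap ∧ Finite (M ⧸ LinearMap.range f.weightMap) := by
  constructor
  · rw [injective_iff_map_eq_zero]
    intro m' hm'
    refine eq_zero_of_coroot'_eq_zero_of_ss hss' fun i' => ?_
    have h1 := RootPairing.Hom.coroot_coweightMap_apply P' P (f.indexEquiv i') f
    rw [Equiv.symm_apply_apply] at h1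
    show P'.toLinearMap m' (P'.coroot i') = 0
    rw [← h1, ← hom_pairing, hm', map_zero, LinearMap.zero_apply]
  · have := free_left P
    have hle : Submodule.span ℤ (Set.range P.root) ≤ LinearMap.range f.weightMap := by
      rw [Submodule.span_le]
      rintro _ ⟨i, rfl⟩
      refine ⟨P'.root (f.indexEquiv.symm i), ?_⟩
      rw [RootPairing.Hom.root_weightMap_apply, Equiv.apply_symm_apply]
    refine Submodule.finiteQuotientOfFreeOfRankEq _ (le_antisymm (Submodule.finrank_le _) ?_)
    rw [← hss]
    exact Submodule.finrank_mono hle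

end isog

section ranks

lemma ker_pol_eq [Fintype ι] :
    LinearMap.ker P.Polarization = ⨅ i, LinearMap.ker (P.coroot' i) := by
  ext m
  simp only [LinearMap.mem_ker, Submodule.mem_iInf]
  constructor
  · intro h
    have h1 : P.RootForm m m = 0 := by
      rw [(P.polarization_apply_eq_zero_iff m).1 h]; rfl
    rw [P.rootForm_apply_apply] at h1
    have := (Finset.sum_eq_zero_iff_of_nonneg (fun i _ => mul_self_nonneg _)).1 h1
    intro i
    exact mul_self_eq_zero.1 (this i (Finset.mem_univ i))
  · intro h
    rw [P.Polarization_apply]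
    exact Finset.sum_eq_zero fun i _ => by rw [h i, zero_smul]

lemma finrank_range_pol [Fintype ι] [Module.Finite ℤ N] :
    finrank ℤ (LinearMap.range P.Polarization) = finrank ℤ (Submodule.span ℤ (Set.range P.root)) := by
  have hle : LinearMap.range P.Polarization ≤ P.corootSpan ℤ := by
    rintro _ ⟨m, rfl⟩
    rw [P.Polarization_apply]
    exact Submodule.sum_mem _ fun i _ =>
      Submodule.smul_mem _ _ (Submodule.subset_span (mem_range_self i))
  apply le_antisymm
  · calc finrank ℤ (LinearMap.range P.Polarization) ≤ finrank ℤ (P.corootSpan ℤ) :=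
        Submodule.finrank_mono hle
      _ = finrank ℤ (P.rootSpan ℤ) := P.finrank_corootSpan_eq'
  · calc finrank ℤ (P.rootSpan ℤ) = finrank ℤ (P.corootSpan ℤ) := P.finrank_corootSpan_eq'.symm
      _ = finrank ℤ ((P.rootSpan ℤ).map P.Polarization) :=
        P.finrank_rootSpan_map_polarization_eq_finrank_corootSpan.symm
      _ ≤ finrank ℤ (LinearMap.range P.Polarization) :=
        Submodule.finrank_mono LinearMap.map_le_range

lemma finrank_coradical [Fintype ι] [Module.Finite ℤ M] [Module.Finite ℤ N] :
    finrank ℤ (⨅ i : ι, LinearMap.ker (P.coroot' i) : Submodule ℤ M) +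
        finrank ℤ (Submodule.span ℤ (Set.range P.root)) = finrank ℤ M := by
  rw [← ker_pol_eq, ← finrank_range_pol, ← P.Polarization.quotKerEquivRange.finrank_eq, add_comm]
  exact Submodule.finrank_quotient_add_finrank _

lemma finrank_right_eq [Module.Finite ℤ M] [Module.Finite ℤ N] (P : RootPairing ι ℤ M N) :
    finrank ℤ N = finrank ℤ M := by
  have := free_left P
  rw [P.flip.toPerfPair.finrank_eq]
  exact Module.finrank_linearMap_self ℤ ℤ M

/-- S5476 -/
theorem rank_radical [Finite ι] [Module.Finite ℤ M] [Module.Finite ℤ N] :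
    (finrank ℤ (⨅ i : ι, LinearMap.ker (P.coroot' i) : Submodule ℤ M) +
        finrank ℤ (Submodule.span ℤ (Set.range P.root)) = finrank ℤ M) ∧
      (finrank ℤ (⨅ i : ι, LinearMap.ker (P.root' i) : Submodule ℤ N) +
        finrank ℤ (Submodule.span ℤ (Set.range P.root)) = finrank ℤ M) ∧
      (finrank ℤ (Submodule.span ℤ (Set.range P.root)) = finrank ℤ M ↔
        (⨅ i : ι, LinearMap.ker (P.coroot' i) : Submodule ℤ M) = ⊥) ∧
      (finrank ℤ (Submodule.span ℤ (Set.range P.root)) = finrank ℤ M ↔
        (⨅ i : ι, LinearMap.ker (P.root' i) : Submodule ℤ N) = ⊥) := by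
  have _ : Fintype ι := Fintype.ofFinite ι
  have : Module.IsReflexive ℤ M := Module.IsReflexive.of_isPerfPair P.toLinearMap
  have : Module.IsReflexive ℤ N := Module.IsReflexive.of_isPerfPair P.flip.toLinearMap
  have h1 := finrank_coradical (P := P)
  have h2 : finrank ℤ (⨅ i : ι, LinearMap.ker (P.root' i) : Submodule ℤ N) +
      finrank ℤ (Submodule.span ℤ (Set.range P.root)) = finrank ℤ M := by
    have := finrank_coradical (P := P.flip)
    rw [finrank_right_eq P] at this
    have e : finrank ℤ (Submodule.span ℤ (Set.range P.flip.root)) =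
        finrank ℤ (Submodule.span ℤ (Set.range P.root)) := P.finrank_corootSpan_eq'
    rw [e] at this
    exact this
  refine ⟨h1, h2, ?_, ?_⟩
  · rw [← Submodule.finrank_eq_zero]
    omega
  · rw [← Submodule.finrank_eq_zero]
    omega

end ranks

end Groth.Agent.LD.RD
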