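import Groth.Agent.Lib.Lead.RootD15

/-!
# Root data: the adjoint quotient datum
-/

open Set Function Module

namespace Groth.Agent.LD.RD

universe u v w

section adjq

variable {ι : Type u} {M : Type v} {N : Type w} [AddCommGroup M] [AddCommGroup N]
  (P : RootPairing ι ℤ M N)

/-- the coroot functionals restricted to the root span -/
noncomputable def adjCoroot (i : ι) : Module.Dual ℤ (Submodule.span ℤ (Set.range P.root)) :=
  (P.coroot' i).comp (Submodule.subtype _)

lemma adjCoroot_apply (i : ι) (x : Submodule.span ℤ (Set.range P.root)) :
    adjCoroot P i x = P.coroot' i x := rfl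

lemma adjCoroot_injective [Finite ι] : Injective (adjCoroot P) := by
  intro i j hij
  apply P.coroot.injective
  rw [← sub_eq_zero]
  refine eq_zero_of_mem_rootSpan_of_coroot_eq_zero (P := P.flip) ?_ fun k => ?_
  · exact sub_mem (Submodule.subset_span (mem_range_self i)) (Submodule.subset_span (mem_range_self j))
  · have h1 := LinearMap.congr_fun hij ⟨P.root k, Submodule.subset_span (mem_range_self k)⟩
    simp only [adjCoroot_apply] at h1
    show P.toLinearMap (P.root k) (P.coroot i - P.coroot j) = 0
    rw [map_sub, sub_eq_zero]
    exact h1

/-- the adjoint quotient datum: weight lattice the root lattice -/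
noncomputable def adjDatum [Finite ι] [Module.Finite ℤ M] :
    RootPairing ι ℤ (Submodule.span ℤ (Set.range P.root))
      (Module.Dual ℤ (Submodule.span ℤ (Set.range P.root))) :=
  have := free_left P
  { toLinearMap := Module.Dual.eval ℤ (Submodule.span ℤ (Set.range P.root))
    isPerfPair_toLinearMap := inferInstance
    root := ⟨fun i => ⟨P.root i, Submodule.subset_span (mem_range_self i)⟩, fun i j h =>
      P.root.injective (Subtype.ext_iff.1 h)⟩
    coroot := ⟨adjCoroot P, adjCoroot_injective P⟩
    root_coroot_two := fun i => by
      show P.coroot' i (P.root i) = 2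
      simp
    reflectionPerm := P.reflectionPerm
    reflectionPerm_root := fun i j => by
      apply Subtype.ext
      exact P.reflectionPerm_root i j
    reflectionPerm_coroot := fun i j => by
      apply LinearMap.ext
      intro x
      have := congrArg (fun n => P.toLinearMap (x : M) n) (P.reflectionPerm_coroot i j)
      simp only [map_sub, map_smul, smul_eq_mul] at this
      exact this }

end adjq

section adjq2

variable {ι : Type u} {M : Type v} {N : Type w} [AddCommGroup M] [AddCommGroup N]
  (P : RootPairing ι ℤ M N)

/-- the isogeny from the adjoint quotient datum -/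
noncomputable def adjHom [Finite ι] [Module.Finite ℤ M] : RootPairing.Hom (adjDatum P) P where
  weightMap := Submodule.subtype _
  coweightMap := (Submodule.subtype (Submodule.span ℤ (Set.range P.root))).dualMap ∘ₗ
    (P.flip.toPerfPair : N →ₗ[ℤ] Module.Dual ℤ M)
  indexEquiv := Equiv.refl ι
  weight_coweight_transpose := by
    apply LinearMap.ext
    intro n
    apply LinearMap.ext
    intro x
    rfl
  root_weightMap := by
    funext i
    rfl
  coroot_coweightMap := by
    funext i
    apply LinearMap.ext
    intro x
    rfl

/-- S5501 -/
theorem adjoint_iff [Finite ι] [Module.Finite ℤ M] [Module.Finite ℤ N]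
    (hss : Module.finrank ℤ (Submodule.span ℤ (Set.range P.root)) = Module.finrank ℤ M) :
    Submodule.span ℤ (Set.range P.root) = ⊤ ↔
      ∀ (ι' : Type u) (M' N' : Type v) [AddCommGroup M'] [AddCommGroup N'] [Finite ι']
        [Module.Finite ℤ M'] [Module.Finite ℤ N'] (P' : RootPairing ι' ℤ M' N') (f : RootPairing.Hom P' P),
        Function.Injective f.weightMap → Finite (M ⧸ LinearMap.range f.weightMap) →
          Function.Bijective f.weightMap := by
  constructor
  · intro had ι' M' N' _ _ _ _ _ P' f hinj _
    refine ⟨hinj, ?_⟩
    rw [← LinearMap.range_eq_top, eq_top_iff, ← had, Submodule.span_le]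
    rintro _ ⟨i, rfl⟩
    refine ⟨P'.root (f.indexEquiv.symm i), ?_⟩
    rw [RootPairing.Hom.root_weightMap_apply, Equiv.apply_symm_apply]
  · intro h
    have := free_left P
    have hfin : Finite (M ⧸ LinearMap.range (adjHom P).weightMap) := by
      have : LinearMap.range (adjHom P).weightMap = Submodule.span ℤ (Set.range P.root) :=
        Submodule.range_subtype _
      rw [this]
      exact Submodule.finiteQuotientOfFreeOfRankEq _ hss
    have hb := h ι (Submodule.span ℤ (Set.range P.root))
      (Module.Dual ℤ (Submodule.span ℤ (Set.range P.root))) (adjDatum P) (adjHom P)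
      (Submodule.subtype_injective _) hfin
    have := LinearMap.range_eq_top.2 hb.2
    rwa [show LinearMap.range (adjHom P).weightMap = Submodule.span ℤ (Set.range P.root) from
      Submodule.range_subtype _] at this

end adjq2

end Groth.Agent.LD.RD
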