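import Groth.Agent.Lib.Lead.RootD16

/-!
# Root data: p-morphisms
-/

open Set Function Module

namespace Groth.Agent.LD.RD

section pmor

variable {ι M N ι' M' N' : Type*} [AddCommGroup M] [AddCommGroup N] [AddCommGroup M']
  [AddCommGroup N'] {P : RootPairing ι ℤ M N} {P' : RootPairing ι' ℤ M' N'}

/-- pairing relation for a p-morphism -/
lemma pmor_pairing (f : M' →ₗ[ℤ] M) (g : N →ₗ[ℤ] N')
    (hfg : ∀ (m' : M') (n : N), P.toLinearMap (f m') n = P'.toLinearMap m' (g n))
    (u : ι ≃ ι') (q : ι → ℕ)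
    (hroot : ∀ i : ι, f (P'.root (u i)) = (q i : ℤ) • P.root i)
    (hcoroot : ∀ i : ι, g (P.coroot i) = (q i : ℤ) • P'.coroot (u i)) (i j : ι) :
    (q i : ℤ) * P'.pairing (u j) (u i) = (q j : ℤ) * P.pairing j i := by
  have h1 := hfg (P'.root (u j)) (P.coroot i)
  rw [hroot, hcoroot, map_smul, map_smul, LinearMap.smul_apply, P.root_coroot_eq_pairing,
    P'.root_coroot_eq_pairing, smul_eq_mul, smul_eq_mul] at h1
  exact h1.symm

/-- S5500 -/
theorem pmor_len [Fintype ι] [Fintype ι']
    (hirr : ∀ R₁ : Set ι, RootD.IsClosedSub P R₁ → RootD.IsSymmSub P R₁ → RootD.IsClosedSub P R₁ᶜ →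
      RootD.IsSymmSub P R₁ᶜ → R₁ = ∅ ∨ R₁ = Set.univ)
    (f : M' →ₗ[ℤ] M) (g : N →ₗ[ℤ] N')
    (hfg : ∀ (m' : M') (n : N), P.toLinearMap (f m') n = P'.toLinearMap m' (g n))
    (u : ι ≃ ι') (q : ι → ℕ)
    (hroot : ∀ i : ι, f (P'.root (u i)) = (q i : ℤ) • P.root i)
    (hcoroot : ∀ i : ι, g (P.coroot i) = (q i : ℤ) • P'.coroot (u i)) (i j : ι) :
    ((q i : ℤ) ^ 2 * P.RootForm (P.root i) (P.root i)) * P'.RootForm (P'.root (u j)) (P'.root (u j)) =
      ((q j : ℤ) ^ 2 * P.RootForm (P.root j) (P.root j)) * P'.RootForm (P'.root (u i)) (P'.root (u i)) := by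
  have hstep : ∀ a b : ι, ¬ P.IsOrthogonal a b →
      ((q a : ℤ) ^ 2 * P.RootForm (P.root a) (P.root a)) * P'.RootForm (P'.root (u b)) (P'.root (u b)) =
      ((q b : ℤ) ^ 2 * P.RootForm (P.root b) (P.root b)) * P'.RootForm (P'.root (u a)) (P'.root (u a)) := by
    intro a b hab
    obtain ⟨hp, -⟩ := pairing_ne_zero_of_not_orth hab
    have E1 := pairing_mul_len (P := P) a b
    have E2 := pairing_mul_len (P := P') (u a) (u b)
    have H1 := pmor_pairing f g hfg u q hroot hcoroot a b
    have H2 := pmor_pairing f g hfg u q hroot hcoroot b a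
    apply mul_left_cancel₀ hp
    linear_combination (-(q a : ℤ) * P.RootForm (P.root a) (P.root a) * P'.RootForm (P'.root (u b)) (P'.root (u b))) * H2 +
      (-(q a : ℤ) * (q b : ℤ) * P.RootForm (P.root a) (P.root a)) * E2 +
      ((q b : ℤ) * P.RootForm (P.root a) (P.root a) * P'.RootForm (P'.root (u a)) (P'.root (u a))) * H1 +
      ((q b : ℤ)^2 * P'.RootForm (P'.root (u a)) (P'.root (u a))) * E1
  have hchain := chain_of_irr hirr i j
  induction hchain with
  | refl => rfl
  | @tail b c _ hbc ih =>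
    have h1 := hstep b c hbc
    have hpos := len_pos (P := P') (u b)
    apply mul_left_cancel₀ hpos.ne'
    linear_combination (P'.RootForm (P'.root (u c)) (P'.root (u c))) * ih +
      (P'.RootForm (P'.root (u i)) (P'.root (u i))) * h1

end pmor

section pmor2

variable {ι M N ι' M' N' : Type*} [AddCommGroup M] [AddCommGroup N] [AddCommGroup M']
  [AddCommGroup N'] {P : RootPairing ι ℤ M N} {P' : RootPairing ι' ℤ M' N'}

lemma eq_of_pos_smul_eq [P.IsReduced] {l k : ι} {a b : ℤ} (ha : 0 < a) (hb : 0 < b)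
    (h : a • P.root l = b • P.root k) : l = k ∧ a = b := by
  have hM := isAddTorsionFree_left P
  have hnl : ¬ LinearIndependent ℤ ![P.root l, P.root k] := by
    rw [LinearIndependent.pair_iff]
    intro hli
    have := hli a (-b) (by rw [neg_smul, h, add_neg_cancel])
    omega
  rcases RootPairing.IsReduced.eq_or_eq_neg l k hnl with h1 | h1
  · have hlk : l = k := P.root.injective h1
    refine ⟨hlk, ?_⟩
    rw [h1] at h
    have : (a - b) • P.root k = 0 := by rw [sub_smul, h, sub_self]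
    rcases smul_eq_zero.1 this with h2 | h2
    · omega
    · exact absurd h2 (P.ne_zero k)
  · exfalso
    rw [h1, smul_neg] at h
    have : (a + b) • P.root k = 0 := by rw [add_smul, ← h, add_neg_cancel]
    rcases smul_eq_zero.1 this with h2 | h2
    · omega
    · exact P.ne_zero k h2

/-- S5480 (a) -/
theorem pmor_reflection [Finite ι] [P.IsReduced]
    (f : M' →ₗ[ℤ] M) (g : N →ₗ[ℤ] N')
    (hfg : ∀ (m' : M') (n : N), P.toLinearMap (f m') n = P'.toLinearMap m' (g n))
    (u : ι ≃ ι') (q : ι → ℕ) (hq : ∀ i, 0 < q i)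
    (hroot : ∀ i : ι, f (P'.root (u i)) = (q i : ℤ) • P.root i)
    (hcoroot : ∀ i : ι, g (P.coroot i) = (q i : ℤ) • P'.coroot (u i)) (i j : ι) :
    q (P.reflectionPerm i j) = q j ∧ u (P.reflectionPerm i j) = P'.reflectionPerm (u i) (u j) := by
  set l := u.symm (P'.reflectionPerm (u i) (u j)) with hl
  have hul : u l = P'.reflectionPerm (u i) (u j) := by rw [hl, Equiv.apply_symm_apply]
  have h1 : (q l : ℤ) • P.root l = (q j : ℤ) • P.root (P.reflectionPerm i j) := by
    rw [← hroot l, hul, root_reflectionPerm_eq, map_sub, map_smul, hroot, hroot,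
      root_reflectionPerm_eq, smul_sub, smul_smul, smul_smul]
    congr 2
    have := pmor_pairing f g hfg u q hroot hcoroot i j
    linarith
  obtain ⟨h2, h3⟩ := eq_of_pos_smul_eq (by exact_mod_cast hq l) (by exact_mod_cast hq j) h1
  constructor
  · rw [← h2]; exact_mod_cast h3
  · rw [← h2, hul]

/-- S5480 (b) -/
theorem pmor_weyl_q [Finite ι] [P.IsReduced]
    (f : M' →ₗ[ℤ] M) (g : N →ₗ[ℤ] N')
    (hfg : ∀ (m' : M') (n : N), P.toLinearMap (f m') n = P'.toLinearMap m' (g n))
    (u : ι ≃ ι') (q : ι → ℕ) (hq : ∀ i, 0 < q i)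
    (hroot : ∀ i : ι, f (P'.root (u i)) = (q i : ℤ) • P.root i)
    (hcoroot : ∀ i : ι, g (P.coroot i) = (q i : ℤ) • P'.coroot (u i))
    (w : P.Aut) (hw : w ∈ P.weylGroup) (i : ι) : q (w • i) = q i := by
  induction hw using RootPairing.weylGroup.induction generalizing i with
  | mem j => exact (pmor_reflection f g hfg u q hq hroot hcoroot j i).1
  | one => rw [one_smul]
  | mul x y _ _ ihx ihy => rw [mul_smul, ihx, ihy]

end pmor2

section pmor3

variable {ι M N ι' M' N' : Type*} [AddCommGroup M] [AddCommGroup N] [AddCommGroup M']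
  [AddCommGroup N'] {P : RootPairing ι ℤ M N} {P' : RootPairing ι' ℤ M' N'}

lemma weylGroupToPerm_injective [Finite ι] (P : RootPairing ι ℤ M N) :
    Injective P.weylGroupToPerm := by
  rw [injective_iff_map_eq_one]
  intro w hw
  apply Subtype.ext
  refine eq_one_of_forall_smul_idx_eq w.2 fun i => ?_
  have := Equiv.congr_fun hw i
  exact this

/-- S5480 (c) -/
theorem pmor_weyl_iso [Finite ι] [Finite ι'] [P.IsReduced]
    (f : M' →ₗ[ℤ] M) (g : N →ₗ[ℤ] N')
    (hfg : ∀ (m' : M') (n : N), P.toLinearMap (f m') n = P'.toLinearMap m' (g n))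
    (u : ι ≃ ι') (q : ι → ℕ) (hq : ∀ i, 0 < q i)
    (hroot : ∀ i : ι, f (P'.root (u i)) = (q i : ℤ) • P.root i)
    (hcoroot : ∀ i : ι, g (P.coroot i) = (q i : ℤ) • P'.coroot (u i)) :
    ∃ ubar : P.weylGroup ≃* P'.weylGroup,
        (∀ i : ι, ubar (RootPairing.weylGroup.ofIdx P i) = RootPairing.weylGroup.ofIdx P' (u i)) ∧
        ∀ (w : P.weylGroup) (i : ι), u ((w : P.Aut) • i) = ((ubar w : P'.weylGroup) : P'.Aut) • u i := by
  have hinj := weylGroupToPerm_injective P
  have hinj' := weylGroupToPerm_injective P'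
  set c : Equiv.Perm ι ≃* Equiv.Perm ι' := u.permCongrHom with hc
  have hcr : ∀ i, c (P.reflectionPerm i) = P'.reflectionPerm (u i) := by
    intro i
    ext j'
    show u (P.reflectionPerm i (u.symm j')) = P'.reflectionPerm (u i) j'
    rw [(pmor_reflection f g hfg u q hq hroot hcoroot i (u.symm j')).2, Equiv.apply_symm_apply]
  have hmap : (Subgroup.closure (range P.reflectionPerm)).map (c : Equiv.Perm ι →* Equiv.Perm ι') =
      Subgroup.closure (range P'.reflectionPerm) := by
    rw [MonoidHom.map_closure]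
    congr 1
    ext σ
    constructor
    · rintro ⟨_, ⟨i, rfl⟩, rfl⟩
      exact ⟨u i, (hcr i).symm⟩
    · rintro ⟨i', rfl⟩
      exact ⟨_, ⟨u.symm i', rfl⟩, by
        show c (P.reflectionPerm (u.symm i')) = _
        rw [hcr, Equiv.apply_symm_apply]⟩
  let e1 := MonoidHom.ofInjective hinj
  let e2 := MulEquiv.subgroupCongr P.range_weylGroupToPerm
  let e3 := c.subgroupMap (Subgroup.closure (range P.reflectionPerm))
  let e4 := MulEquiv.subgroupCongr hmap
  let e5 := MulEquiv.subgroupCongr P'.range_weylGroupToPerm.symm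
  let e6 := (MonoidHom.ofInjective hinj').symm
  let ubar : P.weylGroup ≃* P'.weylGroup := e1.trans (e2.trans (e3.trans (e4.trans (e5.trans e6))))
  have key : ∀ w : P.weylGroup, P'.weylGroupToPerm (ubar w) = c (P.weylGroupToPerm w) := by
    intro w
    show P'.weylGroupToPerm (e6 (e5 (e4 (e3 (e2 (e1 w)))))) = _
    rw [MonoidHom.apply_ofInjective_symm]
    rfl
  refine ⟨ubar, fun i => ?_, fun w i => ?_⟩
  · apply hinj'
    rw [key]
    exact hcr i
  · have h1 : ((ubar w : P'.weylGroup) : P'.Aut) • u i = P'.weylGroupToPerm (ubar w) (u i) := rfl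
    rw [h1, key]
    show _ = u (P.weylGroupToPerm w (u.symm (u i)))
    rw [Equiv.symm_apply_apply]
    rfl

end pmor3

section pmor4

variable {ι M N ι' M' N' : Type*} [AddCommGroup M] [AddCommGroup N] [AddCommGroup M']
  [AddCommGroup N'] {P : RootPairing ι ℤ M N} {P' : RootPairing ι' ℤ M' N'}

lemma isIndiv_of_reduced [P.IsReduced] (i : ι) : RootD.IsIndiv P i := by
  intro j hj
  have h : (2 : ℤ) • P.root j = (1 : ℤ) • P.root i := by rw [one_smul]; exact hj
  have := (eq_of_pos_smul_eq (by norm_num) (by norm_num) h).2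
  omega

/-- a p-morphism is injective on the root lattice -/
lemma pmor_injOn [Finite ι']
    (f : M' →ₗ[ℤ] M) (g : N →ₗ[ℤ] N')
    (hfg : ∀ (m' : M') (n : N), P.toLinearMap (f m') n = P'.toLinearMap m' (g n))
    (u : ι ≃ ι') (q : ι → ℕ) (hq : ∀ i, 0 < q i)
    (hcoroot : ∀ i : ι, g (P.coroot i) = (q i : ℤ) • P'.coroot (u i))
    {x y : M'} (hx : x ∈ Submodule.span ℤ (Set.range P'.root))
    (hy : y ∈ Submodule.span ℤ (Set.range P'.root)) (hxy : f x = f y) : x = y := by
  rw [← sub_eq_zero]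
  refine eq_zero_of_mem_rootSpan_of_coroot_eq_zero (sub_mem hx hy) fun i' => ?_
  obtain ⟨i, rfl⟩ := u.surjective i'
  have h1 := hfg (x - y) (P.coroot i)
  rw [map_sub, hxy, sub_self, map_zero, LinearMap.zero_apply, hcoroot, map_smul, smul_eq_mul] at h1
  have hqi : (q i : ℤ) ≠ 0 := by have := hq i; omega
  exact (mul_eq_zero.1 h1.symm).resolve_left hqi

/-- key computation: a positive multiple of `u k` is a non-negative combination of `u '' Δ` -/
lemma pmor_cone [Fintype ι] [Finite ι']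
    (f : M' →ₗ[ℤ] M) (g : N →ₗ[ℤ] N')
    (hfg : ∀ (m' : M') (n : N), P.toLinearMap (f m') n = P'.toLinearMap m' (g n))
    (u : ι ≃ ι') (q : ι → ℕ) (hq : ∀ i, 0 < q i)
    (hroot : ∀ i : ι, f (P'.root (u i)) = (q i : ℤ) • P.root i)
    (hcoroot : ∀ i : ι, g (P.coroot i) = (q i : ℤ) • P'.coroot (u i)) (Δ : Set ι) (k : ι) :
    (P.root k ∈ RootD.natSpan P Δ → (∏ j, q j) • P'.root (u k) ∈ RootD.natSpan P' (u '' Δ)) ∧
    (-P.root k ∈ RootD.natSpan P Δ → (∏ j, q j) • (-P'.root (u k)) ∈ RootD.natSpan P' (u '' Δ)) := by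
  classical
  have haux : ∀ x ∈ RootD.natSpan P Δ, ∃ y ∈ RootD.natSpan P' (u '' Δ), f y = (∏ j, q j) • x := by
    intro x hx
    refine AddSubmonoid.closure_induction ?_ ?_ ?_ hx
    · rintro _ ⟨d, hd, rfl⟩
      refine ⟨(∏ j ∈ Finset.univ.erase d, q j) • P'.root (u d),
        nsmul_mem (root_mem_natSpan P' (mem_image_of_mem u hd)) _, ?_⟩
      rw [map_nsmul, hroot, Nat.cast_smul_eq_nsmul, smul_smul,
        ← Finset.mul_prod_erase Finset.univ q (Finset.mem_univ d), mul_comm]
    · exact ⟨0, zero_mem _, by simp⟩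
    · rintro a b _ _ ⟨ya, hya, ha⟩ ⟨yb, hyb, hb⟩
      exact ⟨ya + yb, add_mem hya hyb, by rw [map_add, ha, hb, smul_add]⟩
  have hsp : ∀ y ∈ RootD.natSpan P' (u '' Δ), y ∈ Submodule.span ℤ (Set.range P'.root) :=
    fun y hy => Submodule.span_mono (image_subset_range _ _) (natSpan_le_span P' _ hy)
  have hrk : P'.root (u k) ∈ Submodule.span ℤ (Set.range P'.root) :=
    Submodule.subset_span (mem_range_self _)
  constructor
  · intro hk
    obtain ⟨y, hy, hfy⟩ := haux _ hk
    have : (∏ j, q j) • P'.root (u k) = q k • y := by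
      refine pmor_injOn f g hfg u q hq hcoroot ?_ ?_ ?_
      · exact Submodule.smul_of_tower_mem _ _ hrk
      · exact Submodule.smul_of_tower_mem _ _ (hsp y hy)
      · rw [map_nsmul, map_nsmul, hroot, hfy, Nat.cast_smul_eq_nsmul, smul_comm]
    rw [this]
    exact nsmul_mem hy _
  · intro hk
    obtain ⟨y, hy, hfy⟩ := haux _ hk
    have : (∏ j, q j) • (-P'.root (u k)) = q k • y := by
      refine pmor_injOn f g hfg u q hq hcoroot ?_ ?_ ?_
      · exact Submodule.smul_of_tower_mem _ _ (neg_mem hrk)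
      · exact Submodule.smul_of_tower_mem _ _ (hsp y hy)
      · rw [map_nsmul, map_nsmul, map_neg, hroot, hfy, Nat.cast_smul_eq_nsmul, smul_comm,
          smul_neg, smul_neg, smul_neg]
    rw [this]
    exact nsmul_mem hy _

end pmor4

section pmor5

variable {ι M N ι' M' N' : Type*} [AddCommGroup M] [AddCommGroup N] [AddCommGroup M']
  [AddCommGroup N'] {P : RootPairing ι ℤ M N} {P' : RootPairing ι' ℤ M' N'}

/-- forward direction for simple systems -/
theorem pmor_simple [Finite ι] [Finite ι'] [P'.IsReduced]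
    (f : M' →ₗ[ℤ] M) (g : N →ₗ[ℤ] N')
    (hfg : ∀ (m' : M') (n : N), P.toLinearMap (f m') n = P'.toLinearMap m' (g n))
    (u : ι ≃ ι') (q : ι → ℕ) (hq : ∀ i, 0 < q i)
    (hroot : ∀ i : ι, f (P'.root (u i)) = (q i : ℤ) • P.root i)
    (hcoroot : ∀ i : ι, g (P.coroot i) = (q i : ℤ) • P'.coroot (u i)) {Δ : Set ι}
    (hΔ : RootD.IsSimpleSys P Δ) : RootD.IsSimpleSys P' (u '' Δ) := by
  classical
  have _ : Fintype ι := Fintype.ofFinite ι
  refine isSimpleSys_of_cone (P := P') (u '' Δ) (fun i' _ => isIndiv_of_reduced i') ?_ ?_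
  · -- linear independence
    have _ : Fintype Δ := Fintype.ofFinite Δ
    have _ : Fintype (u '' Δ) := Fintype.ofFinite _
    have hli : LinearIndependent ℤ (fun d : Δ => P.root d) := hΔ.linInd
    show LinearIndependent ℤ (fun d' : (u '' Δ) => P'.root d')
    rw [Fintype.linearIndependent_iff] at hli ⊢
    intro c hc d'
    set e : Δ ≃ (u '' Δ) := u.image Δ with he
    have h1 : ∑ d : Δ, c (e d) • P'.root (u d) = 0 := by
      rw [← hc]
      exact Equiv.sum_comp e (fun d' : (u '' Δ) => c d' • P'.root d')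
    have h2 := congrArg f h1
    rw [map_sum, map_zero] at h2
    have h3 : ∑ d : Δ, (c (e d) * q d) • P.root d = 0 := by
      rw [← h2]
      refine Finset.sum_congr rfl fun d _ => ?_
      rw [map_smul, hroot, smul_smul]
    have h4 := hli (fun d => c (e d) * q d) h3 (e.symm d')
    simp only [Equiv.apply_symm_apply] at h4
    have hqd : (q (e.symm d') : ℤ) ≠ 0 := by have := hq (e.symm d'); omega
    exact (mul_eq_zero.1 h4).resolve_right hqd
  · intro k'
    obtain ⟨k, rfl⟩ := u.surjective k'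
    have hQ : 0 < ∏ j, q j := Finset.prod_pos fun j _ => hq j
    obtain ⟨h1, h2⟩ := pmor_cone f g hfg u q hq hroot hcoroot Δ k
    refine ⟨∏ j, q j, hQ, ?_⟩
    rcases hΔ.mem_or_neg_mem k with h | h
    · exact Or.inl (h1 h)
    · exact Or.inr (h2 h)

/-- reduced case: a simple system is a simple system of the dual datum -/
theorem simple_flip_of_reduced [Finite ι] [P.IsReduced] {Δ : Set ι}
    (hΔ : RootD.IsSimpleSys P Δ) : RootD.IsSimpleSys P.flip Δ := by
  have : Module.IsReflexive ℤ N := Module.IsReflexive.of_isPerfPair P.flip.toLinearMap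
  have : Module.IsReflexive ℤ M := Module.IsReflexive.of_isPerfPair P.toLinearMap
  have hred : P.flip.IsReduced := inferInstance
  have h := isSimpleSys_ind_coroots Δ hΔ
  have hset : {j : ι | ∃ i ∈ Δ, (j = i ∧ RootD.IsIndiv P.flip i) ∨
      (2 : ℤ) • P.coroot j = P.coroot i} = Δ := by
    ext j
    constructor
    · rintro ⟨i, hi, ⟨rfl, -⟩ | h2⟩
      · exact hi
      · exact absurd h2 (isIndiv_of_reduced (P := P.flip) i j)
    · intro hj
      exact ⟨j, hj, Or.inl ⟨rfl, isIndiv_of_reduced (P := P.flip) j⟩⟩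
  rwa [hset] at h

end pmor5

section pmor6

variable {ι M N ι' M' N' : Type*} [AddCommGroup M] [AddCommGroup N] [AddCommGroup M']
  [AddCommGroup N'] {P : RootPairing ι ℤ M N} {P' : RootPairing ι' ℤ M' N'}

lemma two_pol_mem [Fintype ι] (Δ : Set ι) {x : M} (hx : x ∈ RootD.natSpan P Δ) :
    2 • P.Polarization x ∈ RootD.natSpan P.flip Δ := by
  refine AddSubmonoid.closure_induction ?_ ?_ ?_ hx
  · rintro _ ⟨i, hi, rfl⟩
    rw [← P.rootForm_self_smul_coroot]
    have hlen := len_pos (P := P) i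
    have : P.RootForm (P.root i) (P.root i) • P.coroot i =
        (P.RootForm (P.root i) (P.root i)).toNat • P.coroot i := by
      rw [← Nat.cast_smul_eq_nsmul ℤ, Int.toNat_of_nonneg hlen.le]
    rw [this]
    exact nsmul_mem (root_mem_natSpan P.flip (S := Δ) hi) _
  · simp
  · intro a b _ _ ha hb
    rw [map_add, smul_add]
    exact add_mem ha hb

/-- reduced case: a positive system is a positive system of the dual datum -/
theorem pos_flip_of_reduced [Finite ι] [P.IsReduced] {S : Set ι}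
    (hS : RootD.IsPosSys P S) : RootD.IsPosSys P.flip S := by
  have _ : Fintype ι := Fintype.ofFinite ι
  obtain ⟨Δ, hΔ, hSΔ⟩ := exists_simple_eq_posOf hS.disjoint hS.cover (IsPosSys.closed hS)
  have hΔf := simple_flip_of_reduced hΔ
  have hT := IsSimpleSys.isPosSys_posOf hΔf
  have hsub : S ⊆ RootD.posOf P.flip Δ := by
    intro k hk
    rw [hSΔ] at hk
    have h1 := two_pol_mem Δ (show P.root k ∈ RootD.natSpan P Δ from hk)
    rw [← P.rootForm_self_smul_coroot] at h1
    have hlen := len_pos (P := P) k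
    refine hT.sat (P.RootForm (P.root k) (P.root k)).toNat (by omega) ?_
    have : (P.RootForm (P.root k) (P.root k)).toNat • P.flip.root k =
        P.RootForm (P.root k) (P.root k) • P.coroot k := by
      rw [← Nat.cast_smul_eq_nsmul ℤ, Int.toNat_of_nonneg hlen.le]; rfl
    rw [this]
    exact natSpan_mono P.flip (IsSimpleSys.subset_posOf hΔf) h1
  have := eq_of_subset_of_cover_of_disjoint (P := P.flip) hsub hS.cover hT.disjoint
  rw [this]
  exact hT

/-- forward direction for positive systems -/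
theorem pmor_pos [Finite ι] [Finite ι'] [P.IsReduced] [P'.IsReduced]
    (f : M' →ₗ[ℤ] M) (g : N →ₗ[ℤ] N')
    (hfg : ∀ (m' : M') (n : N), P.toLinearMap (f m') n = P'.toLinearMap m' (g n))
    (u : ι ≃ ι') (q : ι → ℕ) (hq : ∀ i, 0 < q i)
    (hroot : ∀ i : ι, f (P'.root (u i)) = (q i : ℤ) • P.root i)
    (hcoroot : ∀ i : ι, g (P.coroot i) = (q i : ℤ) • P'.coroot (u i)) {S : Set ι}
    (hS : RootD.IsPosSys P S) : RootD.IsPosSys P' (u '' S) := by
  classical
  have _ : Fintype ι := Fintype.ofFinite ι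
  obtain ⟨Δ, hΔ, hSΔ⟩ := exists_simple_eq_posOf hS.disjoint hS.cover (IsPosSys.closed hS)
  have hΔ' := pmor_simple f g hfg u q hq hroot hcoroot hΔ
  have hT := IsSimpleSys.isPosSys_posOf hΔ'
  have hQ : 0 < ∏ j, q j := Finset.prod_pos fun j _ => hq j
  have hsub : u '' S ⊆ RootD.posOf P' (u '' Δ) := by
    rintro _ ⟨k, hk, rfl⟩
    rw [hSΔ] at hk
    have h1 := (pmor_cone f g hfg u q hq hroot hcoroot Δ k).1 hk
    exact hT.sat _ hQ (natSpan_mono P' (IsSimpleSys.subset_posOf hΔ') h1)
  have hcov : ∀ i' : ι', i' ∈ u '' S ∨ P'.reflectionPerm i' i' ∈ u '' S := by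
    intro i'
    obtain ⟨k, rfl⟩ := u.surjective i'
    rcases hS.cover k with h | h
    · exact Or.inl ⟨k, h, rfl⟩
    · right
      refine ⟨_, h, ?_⟩
      exact (pmor_reflection f g hfg u q hq hroot hcoroot k k).2
  have := eq_of_subset_of_cover_of_disjoint (P := P') hsub hcov hT.disjoint
  rw [this]
  exact hT

end pmor6

section pmor7

variable {ι M N ι' M' N' : Type*} [AddCommGroup M] [AddCommGroup N] [AddCommGroup M']
  [AddCommGroup N'] {P : RootPairing ι ℤ M N} {P' : RootPairing ι' ℤ M' N'}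

/-- S5481 -/
theorem pmor_simple_pos_iff [Finite ι] [Finite ι'] [P.IsReduced] [P'.IsReduced]
    (f : M' →ₗ[ℤ] M) (g : N →ₗ[ℤ] N')
    (hfg : ∀ (m' : M') (n : N), P.toLinearMap (f m') n = P'.toLinearMap m' (g n))
    (u : ι ≃ ι') (q : ι → ℕ) (hq : ∀ i, 0 < q i)
    (hroot : ∀ i : ι, f (P'.root (u i)) = (q i : ℤ) • P.root i)
    (hcoroot : ∀ i : ι, g (P.coroot i) = (q i : ℤ) • P'.coroot (u i)) (Δ : Set ι) :
    (RootD.IsSimpleSys P Δ ↔ RootD.IsSimpleSys P' (u '' Δ)) ∧
      (RootD.IsPosSys P Δ ↔ RootD.IsPosSys P' (u '' Δ)) := by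
  have : Module.IsReflexive ℤ N := Module.IsReflexive.of_isPerfPair P.flip.toLinearMap
  have : Module.IsReflexive ℤ M := Module.IsReflexive.of_isPerfPair P.toLinearMap
  have : Module.IsReflexive ℤ N' := Module.IsReflexive.of_isPerfPair P'.flip.toLinearMap
  have : Module.IsReflexive ℤ M' := Module.IsReflexive.of_isPerfPair P'.toLinearMap
  have hred : P.flip.IsReduced := inferInstance
  have hred' : P'.flip.IsReduced := inferInstance
  -- the flipped datum
  have hfg₁ : ∀ (m' : N) (n : M'), P'.flip.toLinearMap (g m') n = P.flip.toLinearMap m' (f n) :=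
    fun m' n => (hfg n m').symm
  have hq₁ : ∀ i' : ι', 0 < (q ∘ u.symm) i' := fun i' => hq _
  have hroot₁ : ∀ i' : ι', g (P.flip.root (u.symm i')) =
      ((q ∘ u.symm) i' : ℤ) • P'.flip.root i' := by
    intro i'
    have := hcoroot (u.symm i')
    rw [Equiv.apply_symm_apply] at this
    exact this
  have hcoroot₁ : ∀ i' : ι', f (P'.flip.coroot i') =
      ((q ∘ u.symm) i' : ℤ) • P.flip.coroot (u.symm i') := by
    intro i'
    have := hroot (u.symm i')
    rw [Equiv.apply_symm_apply] at this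
    exact this
  have himg : u.symm '' (u '' Δ) = Δ := Equiv.symm_image_image u Δ
  constructor
  · constructor
    · exact pmor_simple f g hfg u q hq hroot hcoroot
    · intro h
      have h1 := simple_flip_of_reduced h
      have h2 := pmor_simple (P := P'.flip) (P' := P.flip) g f hfg₁ u.symm (q ∘ u.symm) hq₁
        hroot₁ hcoroot₁ h1
      rw [himg] at h2
      exact simple_flip_of_reduced (P := P.flip) h2
  · constructor
    · exact pmor_pos f g hfg u q hq hroot hcoroot
    · intro h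
      have h1 := pos_flip_of_reduced h
      have h2 := pmor_pos (P := P'.flip) (P' := P.flip) g f hfg₁ u.symm (q ∘ u.symm) hq₁
        hroot₁ hcoroot₁ h1
      rw [himg] at h2
      exact pos_flip_of_reduced (P := P.flip) h2

end pmor7

end Groth.Agent.LD.RD
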