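import Groth.Agent.Lib.Lead.RootD17

/-!
# Root data: rank two subgroups, heights
-/

open Set Function Module Submodule

namespace Groth.Agent.LD.RD

--MARK18
section dihedral

lemma card_closure_pair_of_invol {G : Type*} [Group G] {a b : G} (ha : a * a = 1) (hb : b * b = 1)
    (ha1 : a ≠ 1) (hb1 : b ≠ 1) :
    Nat.card (Subgroup.closure ({a, b} : Set G)) = 2 * orderOf (a * b) := by
  set r := a * b with hr
  set H := Subgroup.zpowers r with hH
  set K := Subgroup.closure ({a, b} : Set G) with hK
  have haK : a ∈ K := Subgroup.subset_closure (by simp)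
  have hbK : b ∈ K := Subgroup.subset_closure (by simp)
  have hHK : H ≤ K := by rw [hH, Subgroup.zpowers_le]; exact mul_mem haK hbK
  have hainv : a⁻¹ = a := inv_eq_of_mul_eq_one_right ha
  have hbinv : b⁻¹ = b := inv_eq_of_mul_eq_one_right hb
  have hrinv : r⁻¹ = b * a := by rw [hr, mul_inv_rev, hainv, hbinv]
  have h1 : a * r * a⁻¹ = r⁻¹ := by
    rw [hrinv, hainv, hr, ← mul_assoc, ha, one_mul]
  have hconj : ∀ h ∈ H, a * h * a ∈ H := by
    rintro h ⟨k, rfl⟩
    have : a * r ^ k * a = (r⁻¹) ^ k := by
      rw [← h1, conj_zpow, hainv]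
    rw [this]; exact zpow_mem (inv_mem (Subgroup.mem_zpowers r)) k
  have haH : a ∉ H := by
    rintro ⟨k, hk⟩
    have hk : r ^ k = a := hk
    have hcomm : a * r = r * a := by rw [← hk, ← zpow_one_add, ← zpow_add_one, add_comm]
    have hr2 : r⁻¹ = r := by
      have : a * r * a⁻¹ = r := by rw [hcomm, mul_assoc, mul_inv_cancel, mul_one]
      rw [← h1, this]
    have hrr : r * r = 1 := by nth_rewrite 1 [← hr2]; exact inv_mul_cancel r
    have hr2' : r ^ (2 : ℤ) = 1 := by rw [zpow_two]; exact hrr
    rcases Int.emod_two_eq_zero_or_one k with h0 | h0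
    · have : r ^ k = 1 := by
        rw [← Int.emod_add_mul_ediv k 2, h0, zero_add, zpow_mul, hr2', one_zpow]
      exact ha1 (hk ▸ this)
    · have : r ^ k = r := by
        rw [← Int.emod_add_mul_ediv k 2, h0, zpow_add, zpow_one, zpow_mul, hr2', one_zpow, mul_one]
      have hab : a = r := hk.symm.trans this
      have : a * b = a * 1 := by rw [mul_one, ← hr]; exact hab.symm
      exact hb1 (mul_left_cancel this)
  have haa' : ∀ z, a * (a * z) = z := fun z => by rw [← mul_assoc, ha, one_mul]
  have hidx : H.relIndex K = 2 := by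
    rw [Subgroup.relIndex_eq_two_iff_exists_notMem_and]
    refine ⟨a, haK, haH, ?_⟩
    intro g hg
    induction hg using Subgroup.closure_induction with
    | mem x hx =>
      rcases hx with rfl | rfl
      · left; rw [ha]; exact one_mem _
      · left; rw [← hrinv]; exact inv_mem (Subgroup.mem_zpowers r)
    | one => right; exact one_mem _
    | mul x y _ _ ihx ihy =>
      rcases ihx with hx | hx <;> rcases ihy with hy | hy
      · right
        have e : x * y = (x * a) * (a * (y * a) * a) := by
          simp only [mul_assoc, haa', ha, mul_one]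
          done
        rw [e]; exact mul_mem hx (hconj _ hy)
      · left
        have e : x * y * a = (x * a) * (a * y * a) := by
          simp only [mul_assoc, haa', ha, mul_one]
          done
        rw [e]; exact mul_mem hx (hconj _ hy)
      · left; rw [mul_assoc]; exact mul_mem hx hy
      · right; exact mul_mem hx hy
    | inv x _ ihx =>
      rcases ihx with hx | hx
      · left
        have e : x⁻¹ * a = a * (x * a)⁻¹ * a := by
          rw [mul_inv_rev, hainv]
          simp only [mul_assoc, haa', ha, mul_one]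
          done
        rw [e]; exact hconj _ (inv_mem hx)
      · right; exact inv_mem hx
  have := Subgroup.relIndex_mul_relIndex (H := ⊥) (K := H) (L := K) bot_le hHK
  rw [Subgroup.relIndex_bot_left, Subgroup.relIndex_bot_left, hidx, hH, Nat.card_zpowers] at this
  rw [← this, mul_comm]

end dihedral

section rank2b

variable {ι M N : Type*} [AddCommGroup M] [AddCommGroup N] {P : RootPairing ι ℤ M N}

lemma closure_pair_smul_sub_mem (i j : ι) {g : P.Aut}
    (hg : g ∈ Subgroup.closure ({RootPairing.Equiv.reflection P i, RootPairing.Equiv.reflection P j} : Set P.Aut))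
    (m : M) : g • m - m ∈ Submodule.span ℤ ({P.root i, P.root j} : Set M) := by
  induction hg using Subgroup.closure_induction generalizing m with
  | mem x hx =>
    rcases hx with rfl | rfl
    · rw [RootPairing.Equiv.reflection_smul, P.reflection_apply, sub_sub_cancel_left]
      exact neg_mem (Submodule.smul_mem _ _ (Submodule.subset_span (by simp)))
    · rw [RootPairing.Equiv.reflection_smul, P.reflection_apply, sub_sub_cancel_left]
      exact neg_mem (Submodule.smul_mem _ _ (Submodule.subset_span (by simp)))
  | one => simp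
  | mul x y _ _ ihx ihy =>
    have : (x * y) • m - m = (x • (y • m) - y • m) + (y • m - m) := by rw [mul_smul]; abel
    rw [this]
    exact add_mem (ihx _) (ihy _)
  | inv x _ ihx =>
    have : x⁻¹ • m - m = -(x • (x⁻¹ • m) - x⁻¹ • m) := by rw [smul_inv_smul]; abel
    rw [this]
    exact neg_mem (ihx _)

lemma eq_one_of_closure_pair_fix [Finite ι] {i j : ι}
    (hli : LinearIndependent ℤ ![P.root i, P.root j]) {g : P.Aut}
    (hg : g ∈ Subgroup.closure ({RootPairing.Equiv.reflection P i, RootPairing.Equiv.reflection P j} : Set P.Aut))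
    (hi : g • i = i) (hj : g • j = j) : g = 1 := by
  refine aut_ext fun m => ?_
  rw [one_smul, ← sub_eq_zero]
  obtain ⟨x, y, hxy⟩ := Submodule.mem_span_pair.mp (closure_pair_smul_sub_mem i j hg m)
  have hci : P.coroot' i (g • m - m) = 0 := by
    rw [map_sub, sub_eq_zero]
    have := coroot'_smul g i m
    rwa [hi] at this
  have hcj : P.coroot' j (g • m - m) = 0 := by
    rw [map_sub, sub_eq_zero]
    have := coroot'_smul g j m
    rwa [hj] at this
  rw [← hxy] at hci hcj ⊢
  have e1 : x * 2 + y * P.pairing j i = 0 := by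
    simpa [RootPairing.coroot', P.root_coroot_eq_pairing] using hci
  have e2 : x * P.pairing i j + y * 2 = 0 := by
    simpa [RootPairing.coroot', P.root_coroot_eq_pairing] using hcj
  have hlt := coxeter_lt_four hli
  have hx : x * (4 - P.pairing i j * P.pairing j i) = 0 := by linear_combination 2 * e1 - P.pairing j i * e2
  have hy : y * (4 - P.pairing i j * P.pairing j i) = 0 := by linear_combination 2 * e2 - P.pairing i j * e1
  have hne : (4 - P.pairing i j * P.pairing j i) ≠ 0 := by omega
  have hx0 : x = 0 := by rcases mul_eq_zero.mp hx with h | h; exact h; exact absurd h hne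
  have hy0 : y = 0 := by rcases mul_eq_zero.mp hy with h | h; exact h; exact absurd h hne
  rw [hx0, hy0]; simp

lemma reflection_ne_one [Finite ι] (i : ι) : RootPairing.Equiv.reflection P i ≠ 1 := by
  intro h
  have hM := isAddTorsionFree_left P
  have h1 : RootPairing.Equiv.reflection P i • P.root i = P.root i := by rw [h, one_smul]
  rw [RootPairing.Equiv.reflection_smul, P.reflection_apply_self] at h1
  have h2 : (2 : ℤ) • P.root i = 0 := by
    rw [two_smul]; nth_rewrite 1 [← h1]; simp
  have := (smul_eq_zero.mp h2).resolve_left (by norm_num)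
  exact P.ne_zero i this

theorem card_closure_pair [Finite ι] (i j : ι) (hli : LinearIndependent ℤ ![P.root i, P.root j])
    (n : ℕ) (hn : IsLeast {m : ℕ | 0 < m ∧
      ((RootPairing.Equiv.reflection P i * RootPairing.Equiv.reflection P j) ^ m) • i = i ∧
      ((RootPairing.Equiv.reflection P i * RootPairing.Equiv.reflection P j) ^ m) • j = j} n) :
    Nat.card (Subgroup.closure ({RootPairing.Equiv.reflection P i, RootPairing.Equiv.reflection P j} : Set P.Aut)) = 2 * n := by
  set a := RootPairing.Equiv.reflection P i with ha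
  set b := RootPairing.Equiv.reflection P j with hb
  have haa : a * a = 1 := by
    refine aut_ext fun m => ?_
    rw [mul_smul, ha, RootPairing.Equiv.reflection_smul, RootPairing.Equiv.reflection_smul, one_smul]
    exact P.reflection_same i m
  have hbb : b * b = 1 := by
    refine aut_ext fun m => ?_
    rw [mul_smul, hb, RootPairing.Equiv.reflection_smul, RootPairing.Equiv.reflection_smul, one_smul]
    exact P.reflection_same j m
  rw [card_closure_pair_of_invol haa hbb (reflection_ne_one i) (reflection_ne_one j)]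
  congr 1
  have hmem : ∀ m : ℕ, (a * b) ^ m ∈ Subgroup.closure ({a, b} : Set P.Aut) := fun m =>
    pow_mem (mul_mem (Subgroup.subset_closure (by simp)) (Subgroup.subset_closure (by simp))) m
  obtain ⟨⟨hn0, hni, hnj⟩, hmin⟩ := hn
  rw [orderOf_eq_iff hn0]
  refine ⟨eq_one_of_closure_pair_fix hli (hmem n) hni hnj, fun m hmn hm0 hm1 => ?_⟩
  have : m ∈ {m : ℕ | 0 < m ∧ ((a * b) ^ m) • i = i ∧ ((a * b) ^ m) • j = j} := by
    refine ⟨hm0, ?_, ?_⟩ <;> rw [hm1, one_smul]
  exact absurd (hmin this) (by omega)

end rank2b

--MARK18b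
section rank2c

variable {ι M N : Type*} [AddCommGroup M] [AddCommGroup N] {P : RootPairing ι ℤ M N}
variable {Δ : Set ι}

/-- the last letter of a word that is minimal among words in a sub-alphabet is sent to a
negative root. -/
theorem neg_of_minimal_word' [Finite ι] (hΔ : RootD.IsSimpleSys P Δ) {Δ' : Set ι} (hsub : Δ' ⊆ Δ)
    (l : List ι) (hl : ∀ a ∈ l, a ∈ Δ') (hne : l ≠ [])
    (hmin : ∀ l' : List ι, (∀ a ∈ l', a ∈ Δ') → wprod P l' = wprod P l → l.length ≤ l'.length) :
    wprod P l • l.getLast hne ∉ RootD.posOf P Δ := by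
  intro hpos
  set a := l.getLast hne with ha
  have haΔ : a ∈ Δ := hsub (hl a (List.getLast_mem hne))
  have hl0 : l = l.dropLast ++ [a] := (List.dropLast_append_getLast hne).symm
  set l₀ := l.dropLast with hl₀
  have hl₀Δ' : ∀ x ∈ l₀, x ∈ Δ' := fun x hx => hl x (List.dropLast_subset l hx)
  have hl₀Δ : ∀ x ∈ l₀, x ∈ Δ := fun x hx => hsub (hl₀Δ' x hx)
  have hw : wprod P l = wprod P l₀ * RootPairing.Equiv.reflection P a := by
    conv_lhs => rw [hl0]
    rw [wprod_append]; simp
  have h1 : wprod P l • a = P.reflectionPerm (wprod P l₀ • a) (wprod P l₀ • a) := by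
    rw [hw, mul_smul, reflection_smul_idx, smul_neg_idx]
  have h2 : wprod P l₀ • a ∉ RootD.posOf P Δ := by
    intro h
    exact IsSimpleSys.not_mem_posOf_neg hΔ h (h1 ▸ hpos)
  obtain ⟨u, b, v', huv, heq⟩ := exists_deletion hΔ haΔ l₀ hl₀Δ h2
  have hw' : wprod P (u ++ v') = wprod P l := by
    rw [hw, huv, wprod_append, wprod_append, heq, mul_assoc, mul_assoc, reflection_mul_self,
      mul_one]
  have hlen := hmin (u ++ v') (fun x hx => by
    apply hl₀Δ'
    rw [huv]
    rcases List.mem_append.1 hx with h | h
    · exact List.mem_append_left _ h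
    · exact List.mem_append_right _ (List.mem_cons_of_mem _ h)) hw'
  have : l.length = u.length + v'.length + 2 := by
    rw [hl0, huv]; simp; omega
  rw [List.length_append] at hlen
  omega

lemma coeff_smul_reflection (hΔ : RootD.IsSimpleSys P Δ) (g₀ : P.Aut) (a k : ι) :
    coeff hΔ (g₀ • (RootPairing.Equiv.reflection P a • k)) =
      coeff hΔ (g₀ • k) - P.pairing k a • coeff hΔ (g₀ • a) := by
  classical
  refine coeff_eq hΔ ?_ ?_
  · intro x hx
    have hx' := Finsupp.support_sub hx
    rcases Finset.mem_union.1 hx' with h | h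
    · exact support_coeff hΔ _ h
    · exact support_coeff hΔ _ (Finsupp.support_smul h)
  · rw [map_sub, map_smul, lc_coeff, lc_coeff, root_smul, root_smul, root_smul, reflection_smul_idx,
      root_reflectionPerm_eq, smul_sub, smul_comm]

lemma ht_smul_reflection (hΔ : RootD.IsSimpleSys P Δ) (g₀ : P.Aut) (a k : ι) :
    ht hΔ (g₀ • (RootPairing.Equiv.reflection P a • k)) =
      ht hΔ (g₀ • k) - P.pairing k a * ht hΔ (g₀ • a) := by
  unfold ht
  rw [coeff_smul_reflection, csum_sub]
  congr 1
  simp [csum, Finsupp.sum_smul_index', Finsupp.mul_sum]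

theorem ht_rank2 [Finite ι] (hΔ : RootD.IsSimpleSys P Δ)
    (k i j : ι) (hi : i ∈ Δ) (hj : j ∈ Δ)
    (hα : 0 < P.pairing k i) (hβ : 0 ≤ P.pairing k j) :
    ∀ l : List ι, (∀ x ∈ l, x ∈ ({i, j} : Set ι)) →
      (∀ l' : List ι, (∀ x ∈ l', x ∈ ({i, j} : Set ι)) → wprod P l' = wprod P l → l.length ≤ l'.length) →
      ht hΔ (wprod P l • k) ≤ ht hΔ k ∧ (i ∈ l → ht hΔ (wprod P l • k) < ht hΔ k) := by
  have hsub : ({i, j} : Set ι) ⊆ Δ := by
    rintro x (rfl | rfl) <;> assumption
  intro l
  induction l using List.reverseRecOn with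
  | nil => intro _ _; simp
  | append_singleton l₀ a ih =>
    intro hl hmin
    have hl₀ : ∀ x ∈ l₀, x ∈ ({i, j} : Set ι) := fun x hx => hl x (List.mem_append_left _ hx)
    have ha : a ∈ ({i, j} : Set ι) := hl a (by simp)
    have hmin₀ : ∀ l' : List ι, (∀ x ∈ l', x ∈ ({i, j} : Set ι)) → wprod P l' = wprod P l₀ →
        l₀.length ≤ l'.length := by
      intro l' hl' heq
      have := hmin (l' ++ [a]) (fun x hx => by
        rcases List.mem_append.1 hx with h | h
        · exact hl' x h
        · rw [List.mem_singleton] at h; rw [h]; exact ha) (by rw [wprod_append, wprod_append, heq])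
      simpa using this
    obtain ⟨ih1, ih2⟩ := ih hl₀ hmin₀
    have hneg := neg_of_minimal_word' hΔ hsub (l₀ ++ [a]) hl (by simp) hmin
    rw [List.getLast_append_singleton] at hneg
    have hw : wprod P (l₀ ++ [a]) = wprod P l₀ * RootPairing.Equiv.reflection P a := by
      rw [wprod_append]; simp
    have hpos : wprod P l₀ • a ∈ RootD.posOf P Δ := by
      rcases IsSimpleSys.mem_posOf_or hΔ (wprod P l₀ • a) with h | h
      · exact h
      · exfalso; apply hneg
        rw [hw, mul_smul, reflection_smul_idx, smul_neg_idx]; exact h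
    have hht := ht_pos hΔ hpos
    have hp : 0 ≤ P.pairing k a := by
      rcases ha with rfl | rfl
      · exact hα.le
      · exact hβ
    have key : ht hΔ (wprod P (l₀ ++ [a]) • k) =
        ht hΔ (wprod P l₀ • k) - P.pairing k a * ht hΔ (wprod P l₀ • a) := by
      rw [hw, mul_smul, ht_smul_reflection]
    have hnn : 0 ≤ P.pairing k a * ht hΔ (wprod P l₀ • a) := mul_nonneg hp hht.le
    refine ⟨by rw [key]; linarith, fun hmem => ?_⟩
    rw [key]
    rcases List.mem_append.1 hmem with h | h
    · have := ih2 h; linarith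
    · rw [List.mem_singleton] at h
      have : 0 < P.pairing k a * ht hΔ (wprod P l₀ • a) := by
        subst h; exact mul_pos hα hht
      linarith

theorem ht_rank2_closure [Finite ι] (hΔ : RootD.IsSimpleSys P Δ)
    (k i j : ι) (hi : i ∈ Δ) (hj : j ∈ Δ)
    (hα : 0 < P.pairing k i) (hβ : 0 ≤ P.pairing k j)
    (g : P.Aut) (hg : g ∈ Subgroup.closure
      ({RootPairing.Equiv.reflection P i, RootPairing.Equiv.reflection P j} : Set P.Aut)) :
    ht hΔ (g • k) ≤ ht hΔ k ∧
      (g ≠ 1 → g ≠ RootPairing.Equiv.reflection P j → ht hΔ (g • k) < ht hΔ k) := by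
  have himg : ((fun x : ι => RootPairing.Equiv.reflection P x) '' ({i, j} : Set ι)) =
      ({RootPairing.Equiv.reflection P i, RootPairing.Equiv.reflection P j} : Set P.Aut) := by
    rw [Set.image_pair]
  rw [← himg] at hg
  obtain ⟨l₁, hl₁, rfl⟩ := exists_word_of_mem_closure (P := P) (Δ := ({i, j} : Set ι)) hg
  obtain ⟨l, hl, hlg, -, hmin⟩ := exists_minimal_word (P := P) hl₁
  rw [← hlg]
  obtain ⟨h1, h2⟩ := ht_rank2 hΔ k i j hi hj hα hβ l hl hmin
  refine ⟨h1, fun hne1 hnej => h2 ?_⟩
  by_contra hil
  -- all letters are `j`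
  have hall : ∀ x ∈ l, x = j := by
    intro x hx
    rcases hl x hx with rfl | h
    · exact absurd hx hil
    · exact h
  have hrep : l = List.replicate l.length j := List.eq_replicate_of_mem hall
  rcases Nat.lt_or_ge l.length 2 with hlt | hge
  · interval_cases hlen : l.length
    · rw [List.length_eq_zero_iff] at hlen
      rw [hlen] at hne1; simp at hne1
    · rw [hrep] at hnej; simp at hnej
  · -- delete two letters
    have : l = j :: j :: List.replicate (l.length - 2) j := by
      conv_lhs => rw [hrep]
      have : l.length = (l.length - 2) + 2 := by omega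
      conv_lhs => rw [this]
      rfl
    have hlen := hmin (List.replicate (l.length - 2) j) (fun x hx => by
      rw [List.eq_of_mem_replicate hx]; simp) (by
      conv_rhs => rw [this]
      rw [wprod_cons, wprod_cons, ← mul_assoc, reflection_mul_self, one_mul])
    simp at hlen
    omega

end rank2c

--MARK18c
section adjiso

variable {ι M N ι' M' N' : Type*} [AddCommGroup M] [AddCommGroup N] [AddCommGroup M']
  [AddCommGroup N']

lemma ext_of_span_root [Finite ι] {P₁ P₂ : RootPairing ι ℤ M N}
    (h : span ℤ (range P₁.root) = ⊤)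
    (he : P₁.toLinearMap = P₂.toLinearMap) (hr : P₁.root = P₂.root) : P₁ = P₂ := by
  have : Module.IsReflexive ℤ M := .of_isPerfPair P₁.toLinearMap
  have key : ∀ (P₁ P₂ : RootPairing ι ℤ M N), span ℤ (range P₁.root) = ⊤ →
      P₁.toLinearMap = P₂.toLinearMap → P₁.root = P₂.root →
      range P₁.coroot ⊆ range P₂.coroot := by
    rintro P₁ P₂ hP₁ he hr - ⟨i, rfl⟩
    use i
    apply P₁.flip.toPerfPair.injective
    apply Dual.eq_of_preReflection_mapsTo (finite_range P₁.root) hP₁
    · exact hr ▸ he ▸ P₂.coroot_root_two i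
    · change MapsTo (preReflection _ (P₁.toLinearMap.flip.toPerfPair _)) _ _
      simp_rw [hr, he]
      exact P₂.mapsTo_reflection_root i
    · exact P₁.coroot_root_two i
    · exact P₁.mapsTo_reflection_root i
  exact RootPairing.ext he hr
    (le_antisymm (key P₁ P₂ h he hr) (key P₂ P₁ (hr ▸ h) he.symm hr.symm))

/-- version of `RootPairing.Equiv.mk'` needing only that the roots span. -/
noncomputable def equivMk [Finite ι'] (P : RootPairing ι ℤ M N) (Q : RootPairing ι' ℤ M' N')
    (hQ : span ℤ (range Q.root) = ⊤)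
    (f : M ≃ₗ[ℤ] M') (e : ι ≃ ι') (hf : ∀ i, f (P.root i) = Q.root (e i)) : P.Equiv Q where
  weightMap := f
  coweightMap := Q.flip.toPerfPair.trans (f.dualMap.trans P.flip.toPerfPair.symm)
  indexEquiv := e
  weight_coweight_transpose := by ext; simp
  root_weightMap := by ext; simp [hf]
  coroot_coweightMap := by
    let g : N ≃ₗ[ℤ] N' := P.flip.toPerfPair.trans <| f.symm.dualMap.trans Q.flip.toPerfPair.symm
    suffices Q = P.map e f g by
      ext i
      rw [LinearEquiv.coe_coe, comp_apply, ← LinearEquiv.eq_symm_apply]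
      conv_lhs => rw [this]
      rfl
    apply ext_of_span_root hQ <;> ext
    · simp [RootPairing.map, RootPairing.map, g]
    · simp [hf, RootPairing.map, RootPairing.map]
  bijective_weightMap := LinearEquiv.bijective _
  bijective_coweightMap := LinearEquiv.bijective _


lemma apply_mem_range_root_of_cartan [Finite ι]
    (P : RootPairing ι ℤ M N) (P' : RootPairing ι' ℤ M' N') [P.IsReduced]
    (b : P.Base) (b' : P'.Base) (u : ↥b.support ≃ ↥b'.support)
    (hu : ∀ i j : ↥b.support, P.pairing (i : ι) (j : ι) = P'.pairing (u i : ι') (u j : ι'))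
    (B : Basis b.support ℤ M) (hB : ∀ i, B i = P.root i)
    (f : M ≃ₗ[ℤ] M') (hf : ∀ i : b.support, f (P.root i) = P'.root (u i))
    (m : M) (hm : m ∈ range P.root) : f m ∈ range P'.root := by
  have key (k : b.support) : (P.reflection k).trans f = f.trans (P'.reflection (u k)) := by
    rw [← LinearEquiv.toLinearMap_inj]
    refine B.ext fun j => ?_
    simp [hB, RootPairing.reflection_apply, hf, hu]
  obtain ⟨i, rfl⟩ := hm
  apply b.induction_reflect i
  · exact fun j ⟨k, hk⟩ ↦ ⟨P'.reflectionPerm k k, by simpa⟩
  · exact fun j hj ↦ ⟨u ⟨j, hj⟩, (hf _).symm⟩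
  · intro j k ⟨l, hl⟩ hk
    have h1 : f (P.reflection k (P.root j)) = (P'.reflection (u ⟨k, hk⟩)) (f (P.root j)) := by
      simpa using LinearEquiv.congr_fun (key ⟨k, hk⟩) (P.root j)
    rw [RootPairing.root_reflectionPerm, h1, ← hl, ← RootPairing.root_reflectionPerm]
    exact mem_range_self _

theorem adjoint_iso [Finite ι] [Finite ι']
    (P : RootPairing ι ℤ M N) (P' : RootPairing ι' ℤ M' N') [P.IsReduced] [P'.IsReduced]
    (had : Submodule.span ℤ (Set.range P.root) = ⊤) (had' : Submodule.span ℤ (Set.range P'.root) = ⊤)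
    (b : P.Base) (b' : P'.Base) (u : ↥b.support ≃ ↥b'.support)
    (hu : ∀ i j : ↥b.support, P.pairing (i : ι) (j : ι) = P'.pairing (u i : ι') (u j : ι')) :
    ∃! e : RootPairing.Equiv P P', ∀ i : ↥b.support, e.indexEquiv (i : ι) = (u i : ι') := by
  classical
  have hspan : ⊤ ≤ span ℤ (range fun i : b.support => P.root i) := by
    have : (range fun i : b.support => P.root i) = P.root '' b.support := by
      ext x; simp
    rw [this, b.span_int_root_support, had]
  have hspan' : ⊤ ≤ span ℤ (range fun i : b'.support => P'.root i) := by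
    have : (range fun i : b'.support => P'.root i) = P'.root '' b'.support := by
      ext x; simp
    rw [this, b'.span_int_root_support, had']
  let B : Basis b.support ℤ M := Basis.mk b.linearIndepOn_root hspan
  let B' : Basis b'.support ℤ M' := Basis.mk b'.linearIndepOn_root hspan'
  have hB : ∀ i, B i = P.root i := fun i => by simp [B]
  have hB' : ∀ i, B' i = P'.root i := fun i => by simp [B']
  let f : M ≃ₗ[ℤ] M' := B.equiv B' u
  have hf : ∀ i : b.support, f (P.root i) = P'.root (u i) := by
    intro i
    rw [← hB, Basis.equiv_apply, hB']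
  have hfs : ∀ i : b'.support, f.symm (P'.root i) = P.root (u.symm i) := by
    intro i
    rw [LinearEquiv.symm_apply_eq, hf, Equiv.apply_symm_apply]
  have hmem : ∀ m, f m ∈ range P'.root ↔ m ∈ range P.root := by
    refine fun m ↦ ⟨fun h ↦ ?_, fun h ↦ ?_⟩
    · simpa using apply_mem_range_root_of_cartan P' P b' b u.symm
        (fun i j => by rw [hu]; simp) B' hB' f.symm hfs (f m) h
    · exact apply_mem_range_root_of_cartan P P' b b' u hu B hB f hf m h
  have _ : Fintype ι := Fintype.ofFinite _
  have _ : Fintype ι' := Fintype.ofFinite _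
  let e' : ι ≃ ι' := P.root.toEquivRange.trans <| (f.bijOn hmem).equiv.trans P'.root.toEquivRange.symm
  have he' (i : ι) : f (P.root i) = P'.root (e' i) := by
    simp [e', BijOn.equiv, Embedding.toEquivRange]
  refine ⟨equivMk P P' had' f e' he', ?_, ?_⟩
  · intro i
    apply P'.root.injective
    show P'.root (e' i) = _
    rw [← he', hf]
  · intro e₂ he₂
    have hw : ∀ m, e₂.weightMap m = f m := by
      intro m
      have : e₂.weightMap = (f : M →ₗ[ℤ] M') := by
        refine B.ext fun i => ?_
        rw [hB, RootPairing.Hom.root_weightMap_apply, he₂, LinearEquiv.coe_coe, hf]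
      rw [this]; rfl
    have hwm : e₂.weightMap = (equivMk P P' had' f e' he').weightMap := LinearMap.ext hw
    refine RootPairing.Equiv.ext hwm ?_ ?_
    · refine LinearMap.ext fun n' => ?_
      apply P.flip.toPerfPair.injective
      rw [← RootPairing.Hom.weight_coweight_transpose_apply,
        ← RootPairing.Hom.weight_coweight_transpose_apply, hwm]
    · refine Equiv.ext fun i => ?_
      apply P'.root.injective
      rw [← RootPairing.Hom.root_weightMap_apply, hw, he']
      rfl

end adjiso

end Groth.Agent.LD.RD
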