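import Groth.Agent.Lib.Lead.RootD

/-!
# Root data: positive roots of a simple system, simple reflections
-/

open Set Function

namespace Groth.Agent.LD.RD

variable {ι M N : Type*} [AddCommGroup M] [AddCommGroup N] {P : RootPairing ι ℤ M N}
variable {Δ : Set ι}

/-- coefficient sum of an integer vector -/
noncomputable def csum (c : ι →₀ ℤ) : ℤ := c.sum fun _ a => a

@[simp] lemma csum_add (c d : ι →₀ ℤ) : csum (c + d) = csum c + csum d := by
  simp [csum, Finsupp.sum_add_index']

@[simp] lemma csum_neg (c : ι →₀ ℤ) : csum (-c) = -csum c := by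
  simp [csum, Finsupp.sum_neg_index]

@[simp] lemma csum_single (i : ι) (a : ℤ) : csum (Finsupp.single i a) = a := by
  simp [csum]

@[simp] lemma csum_zero : csum (0 : ι →₀ ℤ) = 0 := by simp [csum]

lemma csum_nonneg {c : ι →₀ ℤ} (h : ∀ j, 0 ≤ c j) : 0 ≤ csum c :=
  Finset.sum_nonneg fun j _ => h j

lemma csum_pos {c : ι →₀ ℤ} (h : ∀ j, 0 ≤ c j) {j : ι} (hj : 0 < c j) : 0 < csum c := by
  classical
  refine Finset.sum_pos' (fun j _ => h j) ⟨j, ?_, hj⟩
  simp [hj.ne']

lemma eq_zero_of_csum_eq_zero {c : ι →₀ ℤ} (h : ∀ j, 0 ≤ c j) (h0 : csum c = 0) : c = 0 := by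
  ext j
  by_contra hj
  have : 0 < c j := lt_of_le_of_ne (h j) (Ne.symm hj)
  exact absurd h0 (csum_pos h this).ne'

section simple

variable (hΔ : RootD.IsSimpleSys P Δ)

include hΔ in
lemma IsSimpleSys.eq_zero_of_mem_of_neg_mem {x : M} (h1 : x ∈ RootD.natSpan P Δ)
    (h2 : -x ∈ RootD.natSpan P Δ) : x = 0 := by
  obtain ⟨c, hc, hcpos, hcx⟩ := (mem_natSpan_iff_int P).1 h1
  obtain ⟨d, hd, hdpos, hdx⟩ := (mem_natSpan_iff_int P).1 h2
  have hcd : c + d = 0 := by
    refine IsSimpleSys.coeff_unique hΔ (c := c + d) (d := 0) ?_ (by simp) (by simp [hcx, hdx])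
    intro i hi
    classical
    have := Finsupp.support_add hi
    rcases Finset.mem_union.1 this with h | h
    · exact hc h
    · exact hd h
  have : c = 0 := by
    ext j
    have h := DFunLike.congr_fun hcd j
    simp only [Finsupp.coe_add, Pi.add_apply, Finsupp.coe_zero, Pi.zero_apply] at h
    have := hcpos j; have := hdpos j
    simp only [Finsupp.coe_zero, Pi.zero_apply]
    omega
  rw [← hcx, this, map_zero]

include hΔ in
lemma IsSimpleSys.subset_posOf : Δ ⊆ RootD.posOf P Δ := fun _ hi => root_mem_natSpan P hi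

include hΔ in
lemma IsSimpleSys.not_mem_posOf_neg {k : ι} (hk : k ∈ RootD.posOf P Δ) :
    P.reflectionPerm k k ∉ RootD.posOf P Δ := by
  intro h
  have h2 : -P.root k ∈ RootD.natSpan P Δ := by simpa [RootD.posOf] using h
  exact P.ne_zero k (IsSimpleSys.eq_zero_of_mem_of_neg_mem hΔ hk h2)

include hΔ in
lemma IsSimpleSys.mem_posOf_or (k : ι) :
    k ∈ RootD.posOf P Δ ∨ P.reflectionPerm k k ∈ RootD.posOf P Δ := by
  rcases hΔ.mem_or_neg_mem k with h | h
  · exact Or.inl h
  · right; simpa [RootD.posOf] using h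

omit hΔ in
lemma natSpan_posOf : RootD.natSpan P (RootD.posOf P Δ) = RootD.natSpan P Δ := by
  apply le_antisymm
  · refine AddSubmonoid.closure_le.2 ?_
    rintro _ ⟨k, hk, rfl⟩
    exact hk
  · exact natSpan_mono P fun i hi => root_mem_natSpan P hi

include hΔ in
lemma IsSimpleSys.isPosSys_posOf : RootD.IsPosSys P (RootD.posOf P Δ) where
  disjoint := fun _ hk => IsSimpleSys.not_mem_posOf_neg hΔ hk
  cover := IsSimpleSys.mem_posOf_or hΔ
  sat := by
    intro k n hn h
    rw [natSpan_posOf] at h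
    rcases hΔ.mem_or_neg_mem k with h' | h'
    · exact h'
    · exfalso
      have h2 : -(n • P.root k) ∈ RootD.natSpan P Δ := by
        rw [← smul_neg]; exact AddSubmonoid.nsmul_mem _ h' n
      have := IsSimpleSys.eq_zero_of_mem_of_neg_mem hΔ h h2
      have hM := isAddTorsionFree_left P
      rw [smul_eq_zero_iff_right hn.ne'] at this
      exact P.ne_zero k this

include hΔ in
/-- A positive system containing `Δ` is `posOf Δ`. -/
lemma IsSimpleSys.eq_posOf_of_subset {S : Set ι} (hS : RootD.IsPosSys P S) (h : Δ ⊆ S) :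
    S = RootD.posOf P Δ := by
  have h1 : RootD.posOf P Δ ⊆ S := fun k hk =>
    hS.sat 1 one_pos (by simpa using natSpan_mono P h hk)
  refine Subset.antisymm (fun k hk => ?_) h1
  rcases IsSimpleSys.mem_posOf_or hΔ k with h' | h'
  · exact h'
  · exact absurd (h1 h') (hS.disjoint hk)

end simple

lemma root_reflectionPerm_eq (i k : ι) :
    P.root (P.reflectionPerm i k) = P.root k - P.pairing k i • P.root i := by
  rw [P.root_reflectionPerm, P.reflection_apply_root]

lemma pairing_pos_symm [Finite ι] {i j : ι} (h : 0 < P.pairing i j) : 0 < P.pairing j i := by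
  have := (P.zero_lt_pairingIn_iff' ℤ (i := i) (j := j)).1 (by rwa [pairingIn_eq])
  rwa [pairingIn_eq] at this

lemma root_sub_root_mem [Finite ι] {i j : ι} (h : 0 < P.pairing i j) (hij : i ≠ j) :
    P.root i - P.root j ∈ range P.root :=
  P.root_sub_root_mem_of_pairingIn_pos (by rwa [pairingIn_eq]) hij

lemma support_sub_single_subset {c : ι →₀ ℤ} {i : ι} (hc : (↑c.support : Set ι) ⊆ Δ) (hi : i ∈ Δ)
    (a : ℤ) : (↑(c - Finsupp.single i a).support : Set ι) ⊆ Δ := by
  classical
  intro j hj
  have := Finsupp.support_sub hj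
  rcases Finset.mem_union.1 this with h | h
  · exact hc h
  · have := Finsupp.support_single_subset h
    simp only [Finset.mem_singleton] at this
    exact this ▸ hi

section simple

variable (hΔ : RootD.IsSimpleSys P Δ)

include hΔ

lemma IsSimpleSys.reflectionPerm_mem_posOf_of_coeff {i k : ι} (hi : i ∈ Δ) {c : ι →₀ ℤ}
    (hc : (↑c.support : Set ι) ⊆ Δ) (hk : Finsupp.linearCombination ℤ P.root c = P.root k)
    {j : ι} (hj : j ≠ i) (hcj : 0 < c j) : P.reflectionPerm i k ∈ RootD.posOf P Δ := by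
  obtain ⟨c', hc', hk', hsign⟩ := IsSimpleSys.exists_coeff hΔ (P.reflectionPerm i k)
  have hc'eq : c' = c - Finsupp.single i (P.pairing k i) := by
    refine IsSimpleSys.coeff_unique hΔ hc' (support_sub_single_subset hc hi _) ?_
    rw [hk', root_reflectionPerm_eq, map_sub, hk]
    simp
  have hj' : 0 < c' j := by
    rw [hc'eq]; simp [Finsupp.single_apply, hj.symm, hcj]
  rcases hsign with h | h
  · exact (mem_natSpan_iff_int P).2 ⟨c', hc', h, hk'⟩
  · exact absurd (h j) (not_le.2 hj')

lemma IsSimpleSys.reflectionPerm_mem_posOf {i k : ι} (hk : k ∈ RootD.posOf P Δ) (hi : i ∈ Δ)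
    (hli : LinearIndependent ℤ ![P.root k, P.root i]) : P.reflectionPerm i k ∈ RootD.posOf P Δ := by
  obtain ⟨c, hc, hpos, hck⟩ := (mem_natSpan_iff_int P).1 hk
  by_cases h : ∃ j, j ≠ i ∧ c j ≠ 0
  · obtain ⟨j, hj, hcj⟩ := h
    exact IsSimpleSys.reflectionPerm_mem_posOf_of_coeff hΔ hi hc hck hj
      (lt_of_le_of_ne (hpos j) (Ne.symm hcj))
  · exfalso
    simp only [not_exists, not_and, not_not] at h
    have hc1 : c = Finsupp.single i (c i) := by
      ext j
      by_cases hj : j = i
      · subst hj; simp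
      · simp [Finsupp.single_apply, Ne.symm hj, h j hj]
    rw [hc1] at hck
    simp only [Finsupp.linearCombination_single] at hck
    rw [LinearIndependent.pair_iff] at hli
    have := hli 1 (-(c i)) (by rw [one_smul, neg_smul, hck]; abel)
    simp at this

lemma IsSimpleSys.pairing_le_zero [Finite ι] {i j : ι} (hi : i ∈ Δ) (hj : j ∈ Δ) (hij : i ≠ j) :
    P.pairing i j ≤ 0 := by
  by_contra h
  rw [not_le] at h
  obtain ⟨k, hk⟩ := root_sub_root_mem h hij
  obtain ⟨c, hc, hck, hsign⟩ := IsSimpleSys.exists_coeff hΔ k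
  have hceq : c = Finsupp.single i 1 - Finsupp.single j 1 := by
    refine IsSimpleSys.coeff_unique hΔ hc ?_ ?_
    · refine support_sub_single_subset ?_ hj _
      intro l hl
      have := Finsupp.support_single_subset hl
      simp only [Finset.mem_singleton] at this
      exact this ▸ hi
    · rw [hck, hk]; simp
  have h1 : c i = 1 := by rw [hceq]; simp [Finsupp.single_apply, hij.symm]
  have h2 : c j = -1 := by rw [hceq]; simp [Finsupp.single_apply, hij]
  rcases hsign with h' | h'
  · have := h' j; omega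
  · have := h' i; omega

omit hΔ in
lemma exists_pairing_pos_of_coeff [Finite ι] {k : ι} {c : ι →₀ ℤ}
    (hck : Finsupp.linearCombination ℤ P.root c = P.root k)
    (hpos : ∀ j, 0 ≤ c j) : ∃ i, 0 < c i ∧ 0 < P.pairing i k := by
  by_contra hcon
  simp only [not_exists, not_and, not_lt] at hcon
  have h2 : (2 : ℤ) = c.sum fun j a => a * P.pairing j k := by
    have := congrArg (P.coroot' k) hck
    rw [P.root_coroot'_eq_pairing, P.pairing_same] at this
    rw [← this, Finsupp.linearCombination_apply, map_finsuppSum]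
    simp [P.root_coroot'_eq_pairing]
  have : c.sum (fun j a => a * P.pairing j k) ≤ 0 := by
    refine Finset.sum_nonpos fun j _ => ?_
    rcases (hpos j).eq_or_lt with h | h
    · simp [← h]
    · exact mul_nonpos_of_nonneg_of_nonpos (hpos j) (hcon j h)
  omega

end simple

section simple

variable (hΔ : RootD.IsSimpleSys P Δ)

/-- The coefficient vector of the root `k` along the simple system `Δ`. -/
noncomputable def coeff (k : ι) : ι →₀ ℤ := (IsSimpleSys.exists_coeff hΔ k).choose

lemma support_coeff (k : ι) : (↑(coeff hΔ k).support : Set ι) ⊆ Δ :=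
  (IsSimpleSys.exists_coeff hΔ k).choose_spec.1

lemma lc_coeff (k : ι) : Finsupp.linearCombination ℤ P.root (coeff hΔ k) = P.root k :=
  (IsSimpleSys.exists_coeff hΔ k).choose_spec.2.1

lemma coeff_sign (k : ι) : (∀ j, 0 ≤ coeff hΔ k j) ∨ (∀ j, coeff hΔ k j ≤ 0) :=
  (IsSimpleSys.exists_coeff hΔ k).choose_spec.2.2

lemma coeff_eq {k : ι} {c : ι →₀ ℤ} (hc : (↑c.support : Set ι) ⊆ Δ)
    (hck : Finsupp.linearCombination ℤ P.root c = P.root k) : coeff hΔ k = c :=
  IsSimpleSys.coeff_unique hΔ (support_coeff hΔ k) hc ((lc_coeff hΔ k).trans hck.symm)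

lemma coeff_ne_zero (k : ι) : coeff hΔ k ≠ 0 := by
  intro h
  have := lc_coeff hΔ k
  rw [h, map_zero] at this
  exact P.ne_zero k this.symm

lemma mem_posOf_iff {k : ι} : k ∈ RootD.posOf P Δ ↔ ∀ j, 0 ≤ coeff hΔ k j := by
  constructor
  · intro hk
    obtain ⟨c, hc, hpos, hck⟩ := (mem_natSpan_iff_int P).1 hk
    rw [coeff_eq hΔ hc hck]; exact hpos
  · intro h
    exact (mem_natSpan_iff_int P).2 ⟨_, support_coeff hΔ k, h, lc_coeff hΔ k⟩

lemma mem_posOf_of_coeff_pos {k j : ι} (h : 0 < coeff hΔ k j) : k ∈ RootD.posOf P Δ := by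
  rw [mem_posOf_iff hΔ]
  rcases coeff_sign hΔ k with h' | h'
  · exact h'
  · exact absurd (h' j) (not_le.2 h)

lemma coeff_simple {i : ι} (hi : i ∈ Δ) : coeff hΔ i = Finsupp.single i 1 := by
  refine coeff_eq hΔ ?_ (by simp)
  intro l hl
  have := Finsupp.support_single_subset hl
  simp only [Finset.mem_singleton] at this
  exact this ▸ hi

lemma coeff_neg (k : ι) : coeff hΔ (P.reflectionPerm k k) = -coeff hΔ k := by
  refine coeff_eq hΔ (by simpa using support_coeff hΔ k) ?_
  rw [map_neg, lc_coeff, root_neg]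

lemma coeff_reflectionPerm {i : ι} (hi : i ∈ Δ) (k : ι) :
    coeff hΔ (P.reflectionPerm i k) = coeff hΔ k - Finsupp.single i (P.pairing k i) := by
  refine coeff_eq hΔ (support_sub_single_subset (support_coeff hΔ k) hi _) ?_
  rw [root_reflectionPerm_eq, map_sub, lc_coeff]; simp

lemma coeff_add {i j k : ι} (h : P.root k = P.root i + P.root j) :
    coeff hΔ k = coeff hΔ i + coeff hΔ j := by
  classical
  refine coeff_eq hΔ ?_ (by rw [map_add, lc_coeff, lc_coeff, h])
  intro l hl
  rcases Finset.mem_union.1 (Finsupp.support_add hl) with h' | h'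
  · exact support_coeff hΔ i h'
  · exact support_coeff hΔ j h'

/-- height of a root along `Δ` -/
noncomputable def ht (k : ι) : ℤ := csum (coeff hΔ k)

lemma ht_pos {k : ι} (hk : k ∈ RootD.posOf P Δ) : 0 < ht hΔ k := by
  have h := (mem_posOf_iff hΔ).1 hk
  have hne := coeff_ne_zero hΔ k
  obtain ⟨j, hj⟩ : ∃ j, coeff hΔ k j ≠ 0 := by
    by_contra hcon
    simp only [not_exists, not_not] at hcon
    exact hne (Finsupp.ext hcon)
  exact csum_pos h (lt_of_le_of_ne (h j) (Ne.symm hj))

lemma ht_simple {i : ι} (hi : i ∈ Δ) : ht hΔ i = 1 := by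
  simp [ht, coeff_simple hΔ hi]

lemma ht_add {i j k : ι} (h : P.root k = P.root i + P.root j) :
    ht hΔ k = ht hΔ i + ht hΔ j := by
  simp [ht, coeff_add hΔ h]

include hΔ in
/-- For a positive non-simple root `k` there is a simple root `i` with `k - i` a positive root and
`⟨k, i^∨⟩ > 0`. -/
lemma IsSimpleSys.exists_sub_simple [Finite ι] {k : ι} (hk : k ∈ RootD.posOf P Δ) (hkΔ : k ∉ Δ) :
    ∃ i ∈ Δ, ∃ l ∈ RootD.posOf P Δ, P.root k = P.root l + P.root i ∧ 0 < P.pairing k i := by
  have hpos := (mem_posOf_iff hΔ).1 hk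
  obtain ⟨i, hci, hik⟩ := exists_pairing_pos_of_coeff (lc_coeff hΔ k) hpos
  have hiΔ : i ∈ Δ := support_coeff hΔ k (by simpa using hci.ne')
  have hne : k ≠ i := fun h => hkΔ (h ▸ hiΔ)
  have hki := pairing_pos_symm hik
  obtain ⟨l, hl⟩ := root_sub_root_mem hki hne
  have hkl : P.root k = P.root l + P.root i := by rw [hl]; abel
  refine ⟨i, hiΔ, l, ?_, hkl, hki⟩
  have hcl : coeff hΔ l = coeff hΔ k - Finsupp.single i 1 := by
    have := coeff_add hΔ hkl
    rw [coeff_simple hΔ hiΔ] at this
    rw [this]; abel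
  rw [mem_posOf_iff hΔ]
  rcases coeff_sign hΔ l with h | h
  · exact h
  · exfalso
    -- all coefficients of `l` are ≤ 0, so `coeff k = single i 1`
    have hk1 : coeff hΔ k = Finsupp.single i 1 := by
      ext j
      have hj := h j
      rw [hcl] at hj
      by_cases hji : j = i
      · subst hji
        simp only [Finsupp.coe_sub, Pi.sub_apply, Finsupp.single_eq_same] at hj ⊢
        omega
      · have hs : (Finsupp.single i (1 : ℤ)) j = 0 := Finsupp.single_eq_of_ne hji
        simp only [Finsupp.coe_sub, Pi.sub_apply, hs, sub_zero] at hj ⊢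
        have := hpos j; omega
    apply hne
    apply P.root.injective
    rw [← lc_coeff hΔ k, hk1]; simp

end simple

end Groth.Agent.LD.RD
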