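import Groth.Agent.Lib.Lead.RootD2

/-!
# Root data: automorphisms, Weyl group action
-/

open Set Function

namespace Groth.Agent.LD.RD

variable {ι M N : Type*} [AddCommGroup M] [AddCommGroup N] {P : RootPairing ι ℤ M N}

lemma smul_def (g : P.Aut) (m : M) : g • m = g.weightMap m := rfl

lemma smul_idx_def (g : P.Aut) (i : ι) : g • i = g.indexEquiv i := rfl

@[simp] lemma root_smul (g : P.Aut) (i : ι) : P.root (g • i) = g • P.root i :=
  RootPairing.Equiv.root_indexEquiv_eq_smul P i g

lemma toLinearMap_smul (g : P.Aut) (m : M) (n : N) :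
    P.toLinearMap (g • m) n = P.toLinearMap m (g.coweightMap n) := by
  have := RootPairing.Hom.weight_coweight_transpose_apply P P n g.toHom
  have := LinearMap.congr_fun this m
  rw [smul_def]
  simpa using this

@[simp] lemma coweightMap_coroot_smul (g : P.Aut) (i : ι) :
    g.coweightMap (P.coroot (g • i)) = P.coroot i := by
  have := RootPairing.Hom.coroot_coweightMap_apply P P (g • i) g.toHom
  simpa [smul_idx_def] using this

@[simp] lemma pairing_smul_smul (g : P.Aut) (i j : ι) : P.pairing (g • i) (g • j) = P.pairing i j := by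
  rw [← P.root_coroot_eq_pairing, root_smul, toLinearMap_smul, coweightMap_coroot_smul,
    P.root_coroot_eq_pairing]

lemma smul_reflection (g : P.Aut) (i : ι) (m : M) :
    g • (P.reflection i m) = P.reflection (g • i) (g • m) := by
  rw [P.reflection_apply, P.reflection_apply, smul_sub, smul_comm, ← root_smul]
  congr 2
  have h := toLinearMap_smul g m (P.coroot (g • i))
  rw [coweightMap_coroot_smul] at h
  simpa using h.symm

lemma aut_ext {g h : P.Aut} (H : ∀ m : M, g • m = h • m) : g = h :=
  RootPairing.Equiv.weightHom_injective P (LinearEquiv.ext H)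

/-- `u s_i u⁻¹ = s_{u i}`. -/
lemma conj_reflection (u : P.Aut) (i : ι) :
    u * RootPairing.Equiv.reflection P i * u⁻¹ = RootPairing.Equiv.reflection P (u • i) := by
  refine aut_ext fun m => ?_
  rw [mul_smul, mul_smul, RootPairing.Equiv.reflection_smul, smul_reflection, smul_inv_smul,
    RootPairing.Equiv.reflection_smul]

@[simp] lemma reflection_smul_idx (i j : ι) :
    RootPairing.Equiv.reflection P i • j = P.reflectionPerm i j := rfl

lemma smul_neg_idx (g : P.Aut) (k : ι) :
    g • (P.reflectionPerm k k) = P.reflectionPerm (g • k) (g • k) := by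
  apply P.root.injective
  rw [root_smul, root_neg, root_neg, root_smul, smul_neg]

end Groth.Agent.LD.RD

namespace Groth.Agent.LD.RD

variable {ι M N : Type*} [AddCommGroup M] [AddCommGroup N] {P : RootPairing ι ℤ M N}

/-- In a partition of the roots into two closed symmetric subsets, a sum relation stays in one part. -/
lemma part_aux {A B : Set ι} (hcA : RootD.IsClosedSub P A) (hsA : RootD.IsSymmSub P A)
    (hcB : RootD.IsClosedSub P B) (hsB : RootD.IsSymmSub P B)
    (hdisj : ∀ x, x ∈ A → x ∈ B → False) (hcov : ∀ x, x ∈ A ∨ x ∈ B)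
    {i j k : ι} (h : P.root k = P.root i + P.root j) (hi : i ∈ A) : j ∈ A ∧ k ∈ A := by
  by_cases hj : j ∈ A
  · exact ⟨hj, hcA hi hj h⟩
  · exfalso
    have hjB : j ∈ B := (hcov j).resolve_left hj
    by_cases hk : k ∈ A
    · have : P.root j = P.root k + P.root (P.reflectionPerm i i) := by rw [root_neg, h]; abel
      exact hj (hcA hk (hsA hi) this)
    · have hkB : k ∈ B := (hcov k).resolve_left hk
      have : P.root i = P.root k + P.root (P.reflectionPerm j j) := by rw [root_neg, h]; abel
      exact hdisj i hi (hcB hkB (hsB hjB) this)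

lemma not_isOrthogonal_of_pairing_ne_zero {a k : ι} (h : P.pairing a k ≠ 0) :
    ¬ P.IsOrthogonal k a := fun ho => h ho.2

lemma not_isOrthogonal_of_pairing_ne_zero' {a k : ι} (h : P.pairing a k ≠ 0) :
    ¬ P.IsOrthogonal a k := fun ho => h ho.1

lemma not_isOrthogonal_neg (j : ι) : ¬ P.IsOrthogonal j (P.reflectionPerm j j) := by
  apply not_isOrthogonal_of_pairing_ne_zero'
  rw [P.pairing_reflectionPerm_self_right, P.pairing_same]; norm_num

lemma not_isOrthogonal_neg' (j : ι) : ¬ P.IsOrthogonal (P.reflectionPerm j j) j := by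
  apply not_isOrthogonal_of_pairing_ne_zero
  rw [P.pairing_reflectionPerm_self_right, P.pairing_same]; norm_num

end Groth.Agent.LD.RD

namespace Groth.Agent.LD.RD

variable {ι M N : Type*} [AddCommGroup M] [AddCommGroup N] {P : RootPairing ι ℤ M N}

@[simp] lemma neg_neg_idx (j : ι) :
    P.reflectionPerm (P.reflectionPerm j j) (P.reflectionPerm j j) = j := by
  apply P.root.injective
  rw [root_neg, root_neg, neg_neg]

end Groth.Agent.LD.RD
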