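import Groth.Agent.Lib.Lead.RootD3
import Groth.Agent.S5448
import Groth.Agent.S5495

/-!
# Root data: transport of simple systems, conjugacy under the Weyl group
-/

open Set Function

namespace Groth.Agent.LD.RD

variable {ι M N : Type*} [AddCommGroup M] [AddCommGroup N] {P : RootPairing ι ℤ M N}

/-- image of a set of indices under an automorphism -/
def gimg (g : P.Aut) (S : Set ι) : Set ι := (fun i : ι => g • i) '' S

lemma mem_gimg {g : P.Aut} {S : Set ι} {i : ι} : i ∈ gimg g S ↔ g⁻¹ • i ∈ S := by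
  constructor
  · rintro ⟨j, hj, rfl⟩; simpa using hj
  · intro h; exact ⟨g⁻¹ • i, h, by simp⟩

lemma smul_mem_gimg {g : P.Aut} {S : Set ι} {i : ι} (hi : i ∈ S) : g • i ∈ gimg g S :=
  ⟨i, hi, rfl⟩

@[simp] lemma gimg_one (S : Set ι) : gimg (1 : P.Aut) S = S := by
  ext i; simp [mem_gimg]

lemma gimg_mul (g h : P.Aut) (S : Set ι) : gimg (g * h) S = gimg g (gimg h S) := by
  ext i; rw [mem_gimg, mem_gimg, mem_gimg, mul_inv_rev, mul_smul]

lemma gimg_mono {g : P.Aut} {S T : Set ι} (h : S ⊆ T) : gimg g S ⊆ gimg g T :=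
  image_mono h

lemma gimg_inv_gimg (g : P.Aut) (S : Set ι) : gimg g⁻¹ (gimg g S) = S := by
  rw [← gimg_mul, inv_mul_cancel, gimg_one]

lemma gimg_gimg_inv (g : P.Aut) (S : Set ι) : gimg g (gimg g⁻¹ S) = S := by
  rw [← gimg_mul, mul_inv_cancel, gimg_one]

lemma smul_mem_natSpan_gimg (g : P.Aut) {S : Set ι} {x : M} (hx : x ∈ RootD.natSpan P S) :
    g • x ∈ RootD.natSpan P (gimg g S) := by
  refine AddSubmonoid.closure_induction ?_ ?_ ?_ hx
  · rintro _ ⟨i, hi, rfl⟩
    rw [← root_smul]
    exact root_mem_natSpan P (smul_mem_gimg hi)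
  · rw [smul_zero]; exact zero_mem _
  · intro a b _ _ ha hb
    rw [smul_add]; exact add_mem ha hb

lemma smul_mem_natSpan_gimg_iff (g : P.Aut) {S : Set ι} {x : M} :
    g • x ∈ RootD.natSpan P (gimg g S) ↔ x ∈ RootD.natSpan P S := by
  refine ⟨fun h => ?_, smul_mem_natSpan_gimg g⟩
  have := smul_mem_natSpan_gimg g⁻¹ h
  rwa [inv_smul_smul, gimg_inv_gimg] at this

lemma posOf_gimg (g : P.Aut) (Δ : Set ι) : RootD.posOf P (gimg g Δ) = gimg g (RootD.posOf P Δ) := by
  ext k
  rw [mem_gimg]
  change P.root k ∈ RootD.natSpan P (gimg g Δ) ↔ P.root (g⁻¹ • k) ∈ RootD.natSpan P Δ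
  rw [root_smul, ← smul_mem_natSpan_gimg_iff g (x := g⁻¹ • P.root k), smul_inv_smul]

lemma IsSimpleSys.gimg (g : P.Aut) {Δ : Set ι} (hΔ : RootD.IsSimpleSys P Δ) :
    RootD.IsSimpleSys P (gimg g Δ) := by
  constructor
  · refine LinearIndepOn.image_of_comp (fun i : ι => g • i) P.root ?_
    have h1 : (P.root ∘ fun i : ι => g • i) = (g.weightEquiv : M →ₗ[ℤ] M) ∘ P.root := by
      ext i; simp [root_smul, smul_def, RootPairing.Equiv.weightEquiv]
    rw [h1]
    exact hΔ.linInd.map_injOn _ (g.weightEquiv.injective.injOn)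
  · intro i
    rcases hΔ.mem_or_neg_mem (g⁻¹ • i) with h | h
    · left
      have := smul_mem_natSpan_gimg g h
      rwa [root_smul, smul_inv_smul] at this
    · right
      have := smul_mem_natSpan_gimg g h
      rwa [root_smul, smul_neg, smul_inv_smul] at this

variable {Δ : Set ι}

section simple2

variable [Finite ι] (hΔ : RootD.IsSimpleSys P Δ)

include hΔ in
/-- A positive root proportional to a simple root `i` is `i` or `2i`. -/
lemma IsSimpleSys.eq_or_eq_two_smul {i k : ι} (hi : i ∈ Δ) (hk : k ∈ RootD.posOf P Δ)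
    (h : ¬ LinearIndependent ℤ ![P.root k, P.root i]) :
    P.root k = P.root i ∨ P.root k = (2 : ℤ) • P.root i := by
  have hM := isAddTorsionFree_left P
  rw [LinearIndependent.pair_iff] at h
  push Not at h
  obtain ⟨a, b, hab, hne⟩ := h
  have ha : a ≠ 0 := by
    intro ha
    rw [ha, zero_smul, zero_add] at hab
    have : b = 0 := by
      rcases smul_eq_zero.1 hab with h | h
      · exact h
      · exact absurd h (P.ne_zero i)
    exact hne ha this
  have hab' : a • P.root k = (-b) • P.root i := by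
    rw [neg_smul]; exact eq_neg_of_add_eq_zero_left hab
  obtain ⟨m, hm⟩ := Groth.Agent.S5495.result P i k (Groth.Agent.S5448.result P Δ hΔ i hi) (-b) a ha hab'
  have hkm : P.root k = m • P.root i := by
    rw [hm, mul_smul] at hab'
    exact smul_right_injective M ha hab'
  -- `m ∣ 2`
  have h2 : (2 : ℤ) = m * P.pairing i k := by
    have := congrArg (P.coroot' k) hkm
    rw [P.root_coroot'_eq_pairing, P.pairing_same, map_smul, P.root_coroot'_eq_pairing] at this
    simpa using this
  -- `m > 0`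
  have hc : coeff hΔ k = Finsupp.single i m := by
    refine coeff_eq hΔ ?_ (by simp [hkm])
    intro l hl
    have := Finsupp.support_single_subset hl
    simp only [Finset.mem_singleton] at this
    exact this ▸ hi
  have hm0 : 0 ≤ m := by
    have := (mem_posOf_iff hΔ).1 hk i
    rwa [hc, Finsupp.single_eq_same] at this
  have hmd : m ∣ 2 := ⟨_, h2⟩
  have hle := Int.le_of_dvd (by norm_num) hmd
  have hne0 : m ≠ 0 := by intro h0; rw [h0] at h2; simp at h2
  have : m = 1 ∨ m = 2 := by omega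
  rcases this with h | h
  · left; rw [hkm, h, one_smul]
  · right; rw [hkm, h]

include hΔ in
lemma IsSimpleSys.posOf_subset_of_closed {P' : Set ι} (hcl : RootD.IsClosedSub P P') (h : Δ ⊆ P') :
    RootD.posOf P Δ ⊆ P' := by
  have key : ∀ n : ℕ, ∀ k ∈ RootD.posOf P Δ, (ht hΔ k).toNat = n → k ∈ P' := by
    intro n
    induction n using Nat.strong_induction_on with
    | _ n ih =>
      intro k hk hn
      by_cases hkΔ : k ∈ Δ
      · exact h hkΔ
      · obtain ⟨i, hi, l, hl, hkl, -⟩ := IsSimpleSys.exists_sub_simple hΔ hk hkΔ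
        have h1 := ht_add hΔ hkl
        rw [ht_simple hΔ hi] at h1
        have h2 := ht_pos hΔ hl
        have hl' : l ∈ P' := ih (ht hΔ l).toNat (by omega) l hl rfl
        exact hcl hl' (h hi) hkl
  exact fun k hk => key _ k hk rfl

end simple2

/-- Key conjugacy lemma: a closed set of roots containing each root or its opposite contains a
Weyl-conjugate of any system of positive roots `posOf Δ`. -/
theorem exists_weyl_posOf_subset [Finite ι] (hΔ : RootD.IsSimpleSys P Δ) {P' : Set ι}
    (hP2 : ∀ i : ι, i ∈ P' ∨ P.reflectionPerm i i ∈ P') (hcl : RootD.IsClosedSub P P') :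
    ∃ g : P.Aut, g ∈ P.weylGroup ∧ gimg g (RootD.posOf P Δ) ⊆ P' := by
  have key : ∀ n : ℕ, ∀ g : P.Aut, g ∈ P.weylGroup →
      (gimg g (RootD.posOf P Δ) \ P').ncard = n →
      ∃ g' : P.Aut, g' ∈ P.weylGroup ∧ gimg g' (RootD.posOf P Δ) ⊆ P' := by
    intro n
    induction n using Nat.strong_induction_on with
    | _ n ih =>
      intro g hg hn
      have hΔg := IsSimpleSys.gimg g hΔ
      have hSg : RootD.posOf P (gimg g Δ) = gimg g (RootD.posOf P Δ) := posOf_gimg g Δ
      by_cases hsub : gimg g Δ ⊆ P'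
      · exact ⟨g, hg, hSg ▸ IsSimpleSys.posOf_subset_of_closed hΔg hcl hsub⟩
      · obtain ⟨a, haΔ, haP⟩ := not_subset.1 hsub
        have hnegP : P.reflectionPerm a a ∈ P' := (hP2 a).resolve_left haP
        have haS : a ∈ RootD.posOf P (gimg g Δ) := IsSimpleSys.subset_posOf hΔg haΔ
        set s := RootPairing.Equiv.reflection P a with hs
        have hs_mem : s * g ∈ P.weylGroup := mul_mem (P.reflection_mem_weylGroup a) hg
        refine ih _ ?_ (s * g) hs_mem rfl
        rw [← hn, gimg_mul, ← hSg]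
        have hsubset : gimg s (RootD.posOf P (gimg g Δ)) \ P' ⊆
            (RootD.posOf P (gimg g Δ) \ P') \ {a} := by
          rintro x ⟨⟨k, hk, rfl⟩, hxP⟩
          change s • k ∉ P' at hxP
          change s • k ∈ (RootD.posOf P (gimg g Δ) \ P') \ {a}
          have hx : s • k = P.reflectionPerm a k := rfl
          by_cases hli : LinearIndependent ℤ ![P.root k, P.root a]
          · have hpos := IsSimpleSys.reflectionPerm_mem_posOf hΔg hk haΔ hli
            refine ⟨⟨hx.symm ▸ hpos, hxP⟩, ?_⟩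
            intro hxa
            simp only [mem_singleton_iff] at hxa
            -- then `k = -a`
            have hk' : k = P.reflectionPerm a a := by
              have := congrArg (P.reflectionPerm a) (hx.symm.trans hxa)
              rwa [P.reflectionPerm_self] at this
            exact IsSimpleSys.not_mem_posOf_neg hΔg haS (hk' ▸ hk)
          · exfalso
            apply hxP
            have hrx : P.root (s • k) = -P.root k := by
              rw [hx, root_reflectionPerm_eq]
              rcases IsSimpleSys.eq_or_eq_two_smul hΔg haΔ hk hli with h | h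
              · have : k = a := P.root.injective h
                subst this
                rw [P.pairing_same]; module
              · have hp : P.pairing k a = 4 := by
                  have := congrArg (P.coroot' a) h
                  rw [P.root_coroot'_eq_pairing, map_smul, P.root_coroot'_eq_pairing,
                    P.pairing_same] at this
                  simpa using this
                rw [hp, h]; module
            rcases IsSimpleSys.eq_or_eq_two_smul hΔg haΔ hk hli with h | h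
            · have : s • k = P.reflectionPerm a a := by
                apply P.root.injective
                rw [hrx, root_neg, h]
              rw [this]; exact hnegP
            · refine hcl hnegP hnegP ?_
              rw [hrx, root_neg, h]; module
        have hfin : ((RootD.posOf P (gimg g Δ) \ P') \ {a}).Finite := Set.toFinite _
        have hlt : ((RootD.posOf P (gimg g Δ) \ P') \ {a}).ncard <
            (RootD.posOf P (gimg g Δ) \ P').ncard := by
          exact Set.ncard_sdiff_singleton_lt_of_mem (s := RootD.posOf P (gimg g Δ) \ P') ⟨haS, haP⟩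
        exact lt_of_le_of_lt (Set.ncard_le_ncard hsubset hfin) hlt
  exact key _ 1 (one_mem _) rfl

section conj

lemma isClosedSub_of_sat {S : Set ι}
    (hsat : ∀ ⦃k : ι⦄ (n : ℕ), 0 < n → n • P.root k ∈ RootD.natSpan P S → k ∈ S) :
    RootD.IsClosedSub P S := by
  intro i j k hi hj h
  refine hsat 1 one_pos ?_
  rw [one_smul, h]
  exact add_mem (root_mem_natSpan P hi) (root_mem_natSpan P hj)

lemma IsPosSys.closed {S : Set ι} (hS : RootD.IsPosSys P S) : RootD.IsClosedSub P S :=
  isClosedSub_of_sat hS.sat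

/-- A set with (P2) contained in a set with (P1) is equal to it. -/
lemma eq_of_subset_of_cover_of_disjoint {S S' : Set ι} (h : S ⊆ S')
    (hcov : ∀ i : ι, i ∈ S ∨ P.reflectionPerm i i ∈ S)
    (hdis : ∀ ⦃i : ι⦄, i ∈ S' → P.reflectionPerm i i ∉ S') : S = S' := by
  refine Subset.antisymm h fun x hx => ?_
  rcases hcov x with h' | h'
  · exact h'
  · exact absurd (h h') (hdis hx)

variable [Finite ι]

/-- A set of roots with (P1), (P2) which is closed is `posOf Δ` for a simple system `Δ`. -/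
lemma exists_simple_eq_posOf {S : Set ι} (hdis : ∀ ⦃i : ι⦄, i ∈ S → P.reflectionPerm i i ∉ S)
    (hcov : ∀ i : ι, i ∈ S ∨ P.reflectionPerm i i ∈ S) (hcl : RootD.IsClosedSub P S) :
    ∃ Δ : Set ι, RootD.IsSimpleSys P Δ ∧ S = RootD.posOf P Δ := by
  obtain ⟨Δ₀, hΔ₀⟩ := exists_isSimpleSys P
  obtain ⟨g, -, hg⟩ := exists_weyl_posOf_subset hΔ₀ hcov hcl
  have hΔ := IsSimpleSys.gimg g hΔ₀
  refine ⟨gimg g Δ₀, hΔ, ?_⟩
  rw [posOf_gimg] at *
  refine (eq_of_subset_of_cover_of_disjoint hg ?_ hdis).symm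
  rw [← posOf_gimg]
  exact IsSimpleSys.mem_posOf_or hΔ

lemma IsSimpleSys.mem_iff_indecomposable (hΔ : RootD.IsSimpleSys P Δ) {k : ι}
    (hk : k ∈ RootD.posOf P Δ) :
    k ∈ Δ ↔ ¬ ∃ i j : ι, i ∈ RootD.posOf P Δ ∧ j ∈ RootD.posOf P Δ ∧
      P.root k = P.root i + P.root j := by
  constructor
  · rintro hkΔ ⟨i, j, hi, hj, hij⟩
    have h := ht_add hΔ hij
    rw [ht_simple hΔ hkΔ] at h
    have := ht_pos hΔ hi
    have := ht_pos hΔ hj
    omega
  · intro h
    by_contra hkΔ
    obtain ⟨i, hi, l, hl, hkl, -⟩ := IsSimpleSys.exists_sub_simple hΔ hk hkΔ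
    exact h ⟨l, i, hl, IsSimpleSys.subset_posOf hΔ hi, hkl⟩

lemma IsSimpleSys.eq_of_posOf_eq {Δ' : Set ι} (hΔ : RootD.IsSimpleSys P Δ)
    (hΔ' : RootD.IsSimpleSys P Δ') (h : RootD.posOf P Δ = RootD.posOf P Δ') : Δ = Δ' := by
  ext k
  constructor
  · intro hk
    have hk1 := IsSimpleSys.subset_posOf hΔ hk
    rw [IsSimpleSys.mem_iff_indecomposable hΔ' (h ▸ hk1), ← h]
    exact (IsSimpleSys.mem_iff_indecomposable hΔ hk1).1 hk
  · intro hk
    have hk1 := IsSimpleSys.subset_posOf hΔ' hk
    rw [IsSimpleSys.mem_iff_indecomposable hΔ (h ▸ hk1), h]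
    exact (IsSimpleSys.mem_iff_indecomposable hΔ' hk1).1 hk

/-- S5445 -/
theorem existsUnique_simple_of_isPosSys {S : Set ι} (hS : RootD.IsPosSys P S) :
    ∃! Δ : Set ι, RootD.IsSimpleSys P Δ ∧ Δ ⊆ S := by
  obtain ⟨Δ, hΔ, hSΔ⟩ := exists_simple_eq_posOf hS.disjoint hS.cover (IsPosSys.closed hS)
  refine ⟨Δ, ⟨hΔ, hSΔ ▸ IsSimpleSys.subset_posOf hΔ⟩, ?_⟩
  rintro Δ' ⟨hΔ', hsub⟩
  have := IsSimpleSys.eq_posOf_of_subset hΔ' hS hsub
  exact IsSimpleSys.eq_of_posOf_eq hΔ' hΔ (this.symm.trans hSΔ)

/-- S5454-type: transitivity on sets `posOf`. -/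
theorem exists_weyl_gimg_posOf_eq {Δ' : Set ι} (hΔ : RootD.IsSimpleSys P Δ)
    (hΔ' : RootD.IsSimpleSys P Δ') :
    ∃ g : P.Aut, g ∈ P.weylGroup ∧ gimg g (RootD.posOf P Δ) = RootD.posOf P Δ' ∧ gimg g Δ = Δ' := by
  have hS' := IsSimpleSys.isPosSys_posOf hΔ'
  obtain ⟨g, hg, hsub⟩ := exists_weyl_posOf_subset hΔ hS'.cover (IsPosSys.closed hS')
  have hΔg := IsSimpleSys.gimg g hΔ
  have heq : gimg g (RootD.posOf P Δ) = RootD.posOf P Δ' := by
    refine eq_of_subset_of_cover_of_disjoint hsub ?_ hS'.disjoint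
    rw [← posOf_gimg]
    exact IsSimpleSys.mem_posOf_or hΔg
  refine ⟨g, hg, heq, ?_⟩
  exact IsSimpleSys.eq_of_posOf_eq hΔg hΔ' ((posOf_gimg g Δ).trans heq)

end conj

end Groth.Agent.LD.RD
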