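import Groth.Agent.Lib.Lead.RootD4
import Groth.Agent.S5467

/-!
# Root data: faithfulness of the Weyl group, generation by simple reflections
-/

open Set Function

namespace Groth.Agent.LD.RD

variable {ι M N : Type*} [AddCommGroup M] [AddCommGroup N] {P : RootPairing ι ℤ M N}
variable {Δ : Set ι}

lemma eq_zero_of_mem_rootSpan_of_coroot_eq_zero [Finite ι] {x : M}
    (hx : x ∈ Submodule.span ℤ (range P.root)) (h : ∀ i, P.coroot' i x = 0) : x = 0 := by
  have _ : Fintype ι := Fintype.ofFinite ι
  refine P.eq_zero_of_mem_rootSpan_of_rootForm_self_eq_zero hx ?_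
  rw [P.rootForm_apply_apply]
  exact Finset.sum_eq_zero fun i _ => by rw [h i, mul_zero]

lemma weyl_smul_sub_mem_rootSpan {g : P.Aut} (hg : g ∈ P.weylGroup) (m : M) :
    g • m - m ∈ Submodule.span ℤ (range P.root) := by
  induction hg using RootPairing.weylGroup.induction generalizing m with
  | mem i =>
    rw [RootPairing.Equiv.reflection_smul, P.reflection_apply, sub_sub_cancel_left]
    exact neg_mem (Submodule.smul_mem _ _ (Submodule.subset_span (mem_range_self i)))
  | one => simp
  | mul x y hx hy ihx ihy =>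
    have : (x * y) • m - m = (x • (y • m) - y • m) + (y • m - m) := by rw [mul_smul]; abel
    rw [this]
    exact add_mem (ihx _) (ihy _)

lemma coroot'_smul (g : P.Aut) (i : ι) (m : M) : P.coroot' (g • i) (g • m) = P.coroot' i m := by
  have := toLinearMap_smul g m (P.coroot (g • i))
  rw [coweightMap_coroot_smul] at this
  simpa using this

/-- An element of the Weyl group fixing all roots is trivial. -/
theorem eq_one_of_forall_smul_idx_eq [Finite ι] {g : P.Aut} (hg : g ∈ P.weylGroup)
    (h : ∀ i : ι, g • i = i) : g = 1 := by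
  refine aut_ext fun m => ?_
  rw [one_smul, ← sub_eq_zero]
  refine eq_zero_of_mem_rootSpan_of_coroot_eq_zero (weyl_smul_sub_mem_rootSpan hg m) fun i => ?_
  rw [map_sub, sub_eq_zero]
  have := coroot'_smul g i m
  rwa [h i] at this

section gen

lemma csum_sub (c d : ι →₀ ℤ) : csum (c - d) = csum c - csum d := by
  rw [sub_eq_add_neg, csum_add, csum_neg, sub_eq_add_neg]

lemma ht_reflectionPerm (hΔ : RootD.IsSimpleSys P Δ) {i : ι} (hi : i ∈ Δ) (k : ι) :
    ht hΔ (P.reflectionPerm i k) = ht hΔ k - P.pairing k i := by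
  simp [ht, coeff_reflectionPerm hΔ hi, csum_sub]

lemma reflection_neg (k : ι) :
    RootPairing.Equiv.reflection P (P.reflectionPerm k k) = RootPairing.Equiv.reflection P k := by
  refine aut_ext fun m => ?_
  rw [RootPairing.Equiv.reflection_smul, RootPairing.Equiv.reflection_smul, P.reflection_apply,
    P.reflection_apply, root_neg]
  have : P.coroot (P.reflectionPerm k k) = -P.coroot k := by
    rw [P.coroot_reflectionPerm, P.coreflection_apply_self]
  have h2 : P.coroot' (P.reflectionPerm k k) m = -(P.coroot' k m) := by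
    simp [RootPairing.coroot', this]
  rw [h2]
  simp

lemma reflection_eq_of_two_smul [Finite ι] {i k : ι} (h : P.root k = (2 : ℤ) • P.root i) :
    RootPairing.Equiv.reflection P k = RootPairing.Equiv.reflection P i := by
  have hN := isAddTorsionFree_right P
  have hc : (2 : ℤ) • P.coroot k = P.coroot i := RootPairing.smul_coroot_eq_of_root_eq_smul i k 2 h
  refine aut_ext fun m => ?_
  have h2 : P.coroot' i m = 2 * P.coroot' k m := by
    simp [RootPairing.coroot', ← hc]
  rw [RootPairing.Equiv.reflection_smul, RootPairing.Equiv.reflection_smul, P.reflection_apply,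
    P.reflection_apply, h, h2]
  module

lemma isIndiv_smul (g : P.Aut) {k : ι} (hk : RootD.IsIndiv P k) : RootD.IsIndiv P (g • k) := by
  intro j hj
  apply hk (g⁻¹ • j)
  rw [root_smul] at *
  calc (2 : ℤ) • g⁻¹ • P.root j = g⁻¹ • ((2 : ℤ) • P.root j) := (smul_comm _ _ _).symm
    _ = P.root k := by rw [hj, inv_smul_smul]

lemma isIndiv_neg {k : ι} (hk : RootD.IsIndiv P k) : RootD.IsIndiv P (P.reflectionPerm k k) := by
  intro j hj
  apply hk (P.reflectionPerm j j)
  rw [root_neg] at *
  rw [smul_neg, hj, neg_neg]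

variable [Finite ι] (hΔ : RootD.IsSimpleSys P Δ)

include hΔ in
/-- Every positive indivisible root is conjugate to a simple root under the group generated by the
simple reflections. -/
lemma IsSimpleSys.exists_simple_conj {k : ι} (hk : k ∈ RootD.posOf P Δ) (hind : RootD.IsIndiv P k) :
    ∃ g ∈ Subgroup.closure ((fun i : ι => RootPairing.Equiv.reflection P i) '' Δ),
      ∃ i ∈ Δ, g • i = k := by
  have key : ∀ n : ℕ, ∀ k ∈ RootD.posOf P Δ, RootD.IsIndiv P k → (ht hΔ k).toNat = n →
      ∃ g ∈ Subgroup.closure ((fun i : ι => RootPairing.Equiv.reflection P i) '' Δ),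
        ∃ i ∈ Δ, g • i = k := by
    intro n
    induction n using Nat.strong_induction_on with
    | _ n ih =>
      intro k hk hind hn
      by_cases hkΔ : k ∈ Δ
      · exact ⟨1, one_mem _, k, hkΔ, one_smul _ _⟩
      · obtain ⟨i, hi, hpos, hmem⟩ := Groth.Agent.S5467.result P Δ hΔ k hk hkΔ hind
        have hht := ht_reflectionPerm hΔ hi k
        have h2 := ht_pos hΔ hmem
        have hind' : RootD.IsIndiv P (P.reflectionPerm i k) :=
          isIndiv_smul (RootPairing.Equiv.reflection P i) hind
        obtain ⟨g, hg, j, hj, hgj⟩ := ih (ht hΔ (P.reflectionPerm i k)).toNat (by omega) _ hmem hind' rfl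
        refine ⟨RootPairing.Equiv.reflection P i * g, mul_mem (Subgroup.subset_closure ⟨i, hi, rfl⟩) hg,
          j, hj, ?_⟩
        rw [mul_smul, hgj, reflection_smul_idx, P.reflectionPerm_self]
  exact key _ k hk hind rfl

omit [Finite ι] in
lemma exists_indiv_half (k : ι) [Finite ι] : ∃ k₀ : ι, RootD.IsIndiv P k₀ ∧
    (k₀ = k ∨ P.root k = (2 : ℤ) • P.root k₀) := by
  by_cases hk : RootD.IsIndiv P k
  · exact ⟨k, hk, Or.inl rfl⟩
  · simp only [RootD.IsIndiv, not_forall, not_not] at hk
    obtain ⟨k₀, hk₀⟩ := hk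
    refine ⟨k₀, ?_, Or.inr hk₀.symm⟩
    intro j hj
    -- `root k = 4 • root j`, impossible
    have h4 : P.root k = (4 : ℤ) • P.root j := by
      rw [← hk₀, ← hj, smul_smul]; norm_num
    have := congrArg (P.coroot' k) h4
    rw [P.root_coroot'_eq_pairing, P.pairing_same, map_smul, P.root_coroot'_eq_pairing] at this
    simp only [smul_eq_mul] at this
    omega

include hΔ in
lemma IsSimpleSys.reflection_mem_closure (k : ι) :
    RootPairing.Equiv.reflection P k ∈
      Subgroup.closure ((fun i : ι => RootPairing.Equiv.reflection P i) '' Δ) := by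
  obtain ⟨k₀, hind, hk₀⟩ := exists_indiv_half (P := P) k
  have h1 : RootPairing.Equiv.reflection P k = RootPairing.Equiv.reflection P k₀ := by
    rcases hk₀ with h | h
    · rw [h]
    · exact reflection_eq_of_two_smul h
  rw [h1]
  -- WLOG `k₀` positive
  have key : ∀ l ∈ RootD.posOf P Δ, RootD.IsIndiv P l → RootPairing.Equiv.reflection P l ∈
      Subgroup.closure ((fun i : ι => RootPairing.Equiv.reflection P i) '' Δ) := by
    intro l hl hlind
    obtain ⟨g, hg, i, hi, hgi⟩ := IsSimpleSys.exists_simple_conj hΔ hl hlind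
    rw [← hgi, ← conj_reflection]
    exact mul_mem (mul_mem hg (Subgroup.subset_closure ⟨i, hi, rfl⟩)) (inv_mem hg)
  rcases IsSimpleSys.mem_posOf_or hΔ k₀ with h | h
  · exact key k₀ h hind
  · rw [← reflection_neg]
    exact key _ h (isIndiv_neg hind)

include hΔ in
theorem IsSimpleSys.closure_reflection_eq :
    Subgroup.closure ((fun i : ι => RootPairing.Equiv.reflection P i) '' Δ) = P.weylGroup := by
  apply le_antisymm
  · refine (Subgroup.closure_le _).2 ?_
    rintro _ ⟨i, -, rfl⟩
    exact P.reflection_mem_weylGroup i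
  · refine (Subgroup.closure_le _).2 ?_
    rintro _ ⟨k, rfl⟩
    exact IsSimpleSys.reflection_mem_closure hΔ k

end gen

end Groth.Agent.LD.RD
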