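import Groth.Agent.Lib.Lead.RootD5

/-!
# Root data: words in simple reflections, deletion, simple transitivity
-/

open Set Function

namespace Groth.Agent.LD.RD

variable {ι M N : Type*} [AddCommGroup M] [AddCommGroup N] {P : RootPairing ι ℤ M N}
variable {Δ : Set ι}

/-- product of the reflections along a word -/
noncomputable def wprod (P : RootPairing ι ℤ M N) (l : List ι) : P.Aut :=
  (l.map fun a => RootPairing.Equiv.reflection P a).prod

@[simp] lemma wprod_nil : wprod P [] = 1 := rfl

@[simp] lemma wprod_cons (a : ι) (l : List ι) :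
    wprod P (a :: l) = RootPairing.Equiv.reflection P a * wprod P l := by
  simp [wprod]

lemma wprod_append (l₁ l₂ : List ι) : wprod P (l₁ ++ l₂) = wprod P l₁ * wprod P l₂ := by
  simp [wprod]

lemma reflection_mul_self (a : ι) :
    RootPairing.Equiv.reflection P a * RootPairing.Equiv.reflection P a = 1 := by
  rw [mul_eq_one_iff_inv_eq, RootPairing.Equiv.reflection_inv]

lemma wprod_mem_weylGroup (l : List ι) : wprod P l ∈ P.weylGroup := by
  induction l with
  | nil => exact one_mem _
  | cons a l ih => rw [wprod_cons]; exact mul_mem (P.reflection_mem_weylGroup a) ih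

lemma wprod_mem_closure {l : List ι} (hl : ∀ a ∈ l, a ∈ Δ) :
    wprod P l ∈ Subgroup.closure ((fun i : ι => RootPairing.Equiv.reflection P i) '' Δ) := by
  induction l with
  | nil => exact one_mem _
  | cons a l ih =>
    rw [wprod_cons]
    exact mul_mem (Subgroup.subset_closure ⟨a, hl a (by simp), rfl⟩)
      (ih fun b hb => hl b (by simp [hb]))

lemma exists_word_of_mem_closure {g : P.Aut}
    (hg : g ∈ Subgroup.closure ((fun i : ι => RootPairing.Equiv.reflection P i) '' Δ)) :
    ∃ l : List ι, (∀ a ∈ l, a ∈ Δ) ∧ wprod P l = g := by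
  induction hg using Subgroup.closure_induction'' with
  | one => exact ⟨[], by simp, rfl⟩
  | mem x hx =>
    obtain ⟨i, hi, rfl⟩ := hx
    exact ⟨[i], by simpa using hi, by simp⟩
  | inv_mem x hx =>
    obtain ⟨i, hi, rfl⟩ := hx
    exact ⟨[i], by simpa using hi, by simp⟩
  | mul x y _ _ hx hy =>
    obtain ⟨l₁, h₁, rfl⟩ := hx
    obtain ⟨l₂, h₂, rfl⟩ := hy
    refine ⟨l₁ ++ l₂, ?_, wprod_append l₁ l₂⟩
    intro a ha
    rcases List.mem_append.1 ha with h | h
    · exact h₁ a h
    · exact h₂ a h

section simple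

variable [Finite ι] (hΔ : RootD.IsSimpleSys P Δ)

include hΔ in
/-- Deletion lemma. -/
lemma exists_deletion {a : ι} (ha : a ∈ Δ) : ∀ v : List ι, (∀ x ∈ v, x ∈ Δ) →
    wprod P v • a ∉ RootD.posOf P Δ →
    ∃ (u : List ι) (b : ι) (v' : List ι), v = u ++ b :: v' ∧
      wprod P (b :: v') = wprod P v' * RootPairing.Equiv.reflection P a := by
  intro v
  induction v with
  | nil =>
    intro _ h
    exact absurd (by simpa using IsSimpleSys.subset_posOf hΔ ha) h
  | cons b v' ih =>
    intro hv h
    have hb : b ∈ Δ := hv b (by simp)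
    have hv' : ∀ x ∈ v', x ∈ Δ := fun x hx => hv x (by simp [hx])
    by_cases hβ : wprod P v' • a ∈ RootD.posOf P Δ
    · -- `β = wprod v' • a` is positive and `s_b β` is not, so `β = b`
      refine ⟨[], b, v', rfl, ?_⟩
      set β := wprod P v' • a with hβdef
      have hind : RootD.IsIndiv P β :=
        isIndiv_smul (wprod P v') (Groth.Agent.S5448.result P Δ hΔ a ha)
      have hsb : P.reflectionPerm b β ∉ RootD.posOf P Δ := by
        rw [wprod_cons, mul_smul] at h
        exact h
      have hnli : ¬ LinearIndependent ℤ ![P.root β, P.root b] := fun hli =>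
        hsb (IsSimpleSys.reflectionPerm_mem_posOf hΔ hβ hb hli)
      have hβb : β = b := by
        rcases IsSimpleSys.eq_or_eq_two_smul hΔ hb hβ hnli with h' | h'
        · exact P.root.injective h'
        · exact absurd h'.symm (hind b)
      rw [wprod_cons, ← hβb, hβdef, ← conj_reflection]
      group
    · obtain ⟨u, b', v'', hv'', heq⟩ := ih hv' hβ
      exact ⟨b :: u, b', v'', by rw [hv'']; rfl, heq⟩

include hΔ in
/-- S5504: the last letter of a minimal word is sent to a negative root. -/
theorem neg_of_minimal_word (l : List ι) (hl : ∀ a ∈ l, a ∈ Δ) (hne : l ≠ [])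
    (hmin : ∀ l' : List ι, (∀ a ∈ l', a ∈ Δ) → wprod P l' = wprod P l → l.length ≤ l'.length) :
    wprod P l • l.getLast hne ∉ RootD.posOf P Δ := by
  intro hpos
  set a := l.getLast hne with ha
  have haΔ : a ∈ Δ := hl a (List.getLast_mem hne)
  have hl0 : l = l.dropLast ++ [a] := (List.dropLast_append_getLast hne).symm
  set l₀ := l.dropLast with hl₀
  have hl₀Δ : ∀ x ∈ l₀, x ∈ Δ := fun x hx => hl x (List.dropLast_subset l hx)
  have hw : wprod P l = wprod P l₀ * RootPairing.Equiv.reflection P a := by
    conv_lhs => rw [hl0]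
    rw [wprod_append]; simp
  have h1 : wprod P l • a = P.reflectionPerm (wprod P l₀ • a) (wprod P l₀ • a) := by
    rw [hw, mul_smul, reflection_smul_idx, smul_neg_idx]
  have h2 : wprod P l₀ • a ∉ RootD.posOf P Δ := by
    intro h
    exact IsSimpleSys.not_mem_posOf_neg hΔ h (h1 ▸ hpos)
  obtain ⟨u, b, v', huv, heq⟩ := exists_deletion hΔ haΔ l₀ hl₀Δ h2
  have hw' : wprod P (u ++ v') = wprod P l := by
    rw [hw, huv, wprod_append, wprod_append, heq, mul_assoc, mul_assoc, reflection_mul_self,
      mul_one]
  have hlen := hmin (u ++ v') (fun x hx => by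
    apply hl₀Δ
    rw [huv]
    rcases List.mem_append.1 hx with h | h
    · exact List.mem_append_left _ h
    · exact List.mem_append_right _ (List.mem_cons_of_mem _ h)) hw'
  have : l.length = u.length + v'.length + 2 := by
    rw [hl0, huv]; simp; omega
  rw [List.length_append] at hlen
  omega

include hΔ in
/-- Simple transitivity: an element of the Weyl group preserving `posOf Δ` is trivial. -/
theorem eq_one_of_gimg_posOf_subset {g : P.Aut} (hg : g ∈ P.weylGroup)
    (h : ∀ k ∈ RootD.posOf P Δ, g • k ∈ RootD.posOf P Δ) : g = 1 := by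
  rw [← IsSimpleSys.closure_reflection_eq hΔ] at hg
  obtain ⟨l₀, hl₀, hl₀g⟩ := exists_word_of_mem_closure hg
  -- choose a word of minimal length
  classical
  have hex : ∃ n : ℕ, ∃ l : List ι, (∀ a ∈ l, a ∈ Δ) ∧ wprod P l = g ∧ l.length = n :=
    ⟨_, l₀, hl₀, hl₀g, rfl⟩
  obtain ⟨l, hl, hlg, hlen⟩ := Nat.find_spec hex
  have hmin : ∀ l' : List ι, (∀ a ∈ l', a ∈ Δ) → wprod P l' = wprod P l → l.length ≤ l'.length := by
    intro l' hl' heq
    rw [hlen]
    exact Nat.find_min' hex ⟨l', hl', heq.trans hlg, rfl⟩
  by_cases hne : l = []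
  · rw [← hlg, hne]; rfl
  · exfalso
    have := neg_of_minimal_word hΔ l hl hne hmin
    apply this
    rw [hlg]
    exact h _ (IsSimpleSys.subset_posOf hΔ (hl _ (List.getLast_mem hne)))

end simple

section parabolic

variable (hΔ : RootD.IsSimpleSys P Δ) {Δ' : Set ι}

include hΔ in
lemma exists_coeff_ne_zero_of_not_inSpan {k : ι} (hk : k ∉ RootD.inSpan P Δ') :
    ∃ j, j ∉ Δ' ∧ coeff hΔ k j ≠ 0 := by
  by_contra hcon
  simp only [not_exists, not_and, not_not] at hcon
  apply hk
  show P.root k ∈ Submodule.span ℤ (P.root '' Δ')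
  rw [Finsupp.mem_span_image_iff_linearCombination]
  refine ⟨coeff hΔ k, ?_, lc_coeff hΔ k⟩
  rw [Finsupp.mem_supported]
  intro j hj
  by_contra hj'
  exact (Finsupp.mem_support_iff.1 hj) (hcon j hj')

include hΔ in
lemma parabolic_step (hsub : Δ' ⊆ Δ) {i k : ι} (hi : i ∈ Δ') (hk : k ∈ RootD.posOf P Δ)
    (hk' : k ∉ RootD.inSpan P Δ') :
    P.reflectionPerm i k ∈ RootD.posOf P Δ ∧ P.reflectionPerm i k ∉ RootD.inSpan P Δ' := by
  obtain ⟨j, hjΔ', hj⟩ := exists_coeff_ne_zero_of_not_inSpan hΔ hk'
  have hpos : 0 < coeff hΔ k j := lt_of_le_of_ne ((mem_posOf_iff hΔ).1 hk j) (Ne.symm hj)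
  have hji : j ≠ i := fun h => hjΔ' (h ▸ hi)
  refine ⟨IsSimpleSys.reflectionPerm_mem_posOf_of_coeff hΔ (hsub hi) (support_coeff hΔ k)
    (lc_coeff hΔ k) hji hpos, ?_⟩
  intro h
  apply hk'
  have h1 : P.root (P.reflectionPerm i k) ∈ Submodule.span ℤ (P.root '' Δ') := h
  show P.root k ∈ Submodule.span ℤ (P.root '' Δ')
  have : P.root k = P.root (P.reflectionPerm i k) + P.pairing k i • P.root i := by
    rw [root_reflectionPerm_eq]; abel
  rw [this]
  exact add_mem h1 (Submodule.smul_mem _ _ (Submodule.subset_span ⟨i, hi, rfl⟩))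

include hΔ in
/-- S5462 -/
theorem parabolic_preserves (hsub : Δ' ⊆ Δ) {g : P.Aut}
    (hg : g ∈ Subgroup.closure ((fun i : ι => RootPairing.Equiv.reflection P i) '' Δ'))
    {k : ι} (hk : k ∈ RootD.posOf P Δ) (hk' : k ∉ RootD.inSpan P Δ') :
    g • k ∈ RootD.posOf P Δ ∧ g • k ∉ RootD.inSpan P Δ' := by
  induction hg using Subgroup.closure_induction'' generalizing k with
  | one => simpa using ⟨hk, hk'⟩
  | mem x hx =>
    obtain ⟨i, hi, rfl⟩ := hx
    exact parabolic_step hΔ hsub hi hk hk'
  | inv_mem x hx =>
    obtain ⟨i, hi, rfl⟩ := hx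
    rw [RootPairing.Equiv.reflection_inv]
    exact parabolic_step hΔ hsub hi hk hk'
  | mul x y _ _ hx hy =>
    rw [mul_smul]
    obtain ⟨h1, h2⟩ := hy hk hk'
    exact hx h1 h2

/-- elements of a parabolic subgroup move vectors by elements of the span of `Δ'` -/
lemma parabolic_smul_sub_mem {g : P.Aut}
    (hg : g ∈ Subgroup.closure ((fun i : ι => RootPairing.Equiv.reflection P i) '' Δ')) (m : M) :
    g • m - m ∈ Submodule.span ℤ (P.root '' Δ') := by
  induction hg using Subgroup.closure_induction'' generalizing m with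
  | one => simp
  | mem x hx =>
    obtain ⟨i, hi, rfl⟩ := hx
    rw [RootPairing.Equiv.reflection_smul, P.reflection_apply, sub_sub_cancel_left]
    exact neg_mem (Submodule.smul_mem _ _ (Submodule.subset_span ⟨i, hi, rfl⟩))
  | inv_mem x hx =>
    obtain ⟨i, hi, rfl⟩ := hx
    rw [RootPairing.Equiv.reflection_inv, RootPairing.Equiv.reflection_smul, P.reflection_apply,
      sub_sub_cancel_left]
    exact neg_mem (Submodule.smul_mem _ _ (Submodule.subset_span ⟨i, hi, rfl⟩))
  | mul x y _ _ hx hy =>
    have : (x * y) • m - m = (x • (y • m) - y • m) + (y • m - m) := by rw [mul_smul]; abel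
    rw [this]
    exact add_mem (hx _) (hy _)

end parabolic

section parabolic2

lemma exists_minimal_word {l : List ι} (hl : ∀ a ∈ l, a ∈ Δ) :
    ∃ l' : List ι, (∀ a ∈ l', a ∈ Δ) ∧ wprod P l' = wprod P l ∧ l'.length ≤ l.length ∧
      ∀ l'' : List ι, (∀ a ∈ l'', a ∈ Δ) → wprod P l'' = wprod P l' → l'.length ≤ l''.length := by
  classical
  have hex : ∃ n : ℕ, ∃ l' : List ι, (∀ a ∈ l', a ∈ Δ) ∧ wprod P l' = wprod P l ∧ l'.length = n :=
    ⟨_, l, hl, rfl, rfl⟩
  obtain ⟨l', hl', hlg, hlen⟩ := Nat.find_spec hex
  refine ⟨l', hl', hlg, ?_, ?_⟩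
  · rw [hlen]; exact Nat.find_min' hex ⟨l, hl, rfl, rfl⟩
  · intro l'' hl'' heq
    rw [hlen]
    exact Nat.find_min' hex ⟨l'', hl'', heq.trans hlg, rfl⟩

variable [Finite ι] (hΔ : RootD.IsSimpleSys P Δ) {Δ' : Set ι}

include hΔ in
/-- S5463, the hard direction. -/
theorem mem_parabolic_of_forall (hsub : Δ' ⊆ Δ) {g : P.Aut} (hg : g ∈ P.weylGroup)
    (hC : ∀ k : ι, ∃ n : ℕ, 0 < n ∧
      n • (P.root (g • k) - P.root k) ∈ Submodule.span ℤ (P.root '' Δ')) :
    g ∈ Subgroup.closure ((fun i : ι => RootPairing.Equiv.reflection P i) '' Δ') := by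
  rw [← IsSimpleSys.closure_reflection_eq hΔ] at hg
  obtain ⟨l₀, hl₀, hl₀g⟩ := exists_word_of_mem_closure hg
  have key : ∀ n : ℕ, ∀ l : List ι, l.length = n → (∀ a ∈ l, a ∈ Δ) →
      (∀ k : ι, ∃ n : ℕ, 0 < n ∧
        n • (P.root ((wprod P l • k : ι)) - P.root k) ∈ Submodule.span ℤ (P.root '' Δ')) →
      wprod P l ∈ Subgroup.closure ((fun i : ι => RootPairing.Equiv.reflection P i) '' Δ') := by
    intro n
    induction n using Nat.strong_induction_on with
    | _ n ih =>
      intro l hlen hl hC
      obtain ⟨l', hl', hlg, hlen', hmin⟩ := exists_minimal_word (P := P) hl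
      rw [← hlg] at hC ⊢
      by_cases hne : l' = []
      · rw [hne]; exact one_mem _
      · set a := l'.getLast hne with ha
        have haΔ : a ∈ Δ := hl' a (List.getLast_mem hne)
        have hneg := neg_of_minimal_word hΔ l' hl' hne hmin
        rw [← ha] at hneg
        -- `a ∈ Δ'`
        have haΔ' : a ∈ Δ' := by
          obtain ⟨m, hm, hmem⟩ := hC a
          rw [Finsupp.mem_span_image_iff_linearCombination] at hmem
          obtain ⟨e, he, hlc⟩ := hmem
          rw [Finsupp.mem_supported] at he
          -- the coefficient vector of `-(g a)`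
          have hnegpos : P.reflectionPerm (wprod P l' • a) (wprod P l' • a) ∈ RootD.posOf P Δ :=
            (IsSimpleSys.mem_posOf_or hΔ _).resolve_left hneg
          set d := coeff hΔ (P.reflectionPerm (wprod P l' • a) (wprod P l' • a)) with hd
          have hdpos := (mem_posOf_iff hΔ).1 hnegpos
          have hlcd : Finsupp.linearCombination ℤ P.root d = -P.root (wprod P l' • a) := by
            rw [hd, lc_coeff, root_neg]
          have hee : e = (-(m : ℤ)) • (d + Finsupp.single a 1) := by
            refine IsSimpleSys.coeff_unique hΔ (he.trans hsub) ?_ ?_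
            · intro j hj
              classical
              have hj' : j ∈ (d + Finsupp.single a 1).support := by
                simp only [Finset.mem_coe, Finsupp.mem_support_iff, Finsupp.smul_apply,
                  smul_eq_mul, ne_eq, mul_eq_zero, not_or] at hj ⊢
                exact hj.2
              rcases Finset.mem_union.1 (Finsupp.support_add hj') with h | h
              · exact support_coeff hΔ _ h
              · have := Finsupp.support_single_subset h
                simp only [Finset.mem_singleton] at this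
                exact this ▸ haΔ
            · rw [hlc, LinearMap.map_smul, map_add, hlcd, Finsupp.linearCombination_single,
                ← natCast_zsmul]
              module
          apply he
          rw [hee]
          have hda : 0 ≤ d a := hdpos a
          have hm' : (-(m : ℤ)) ≠ 0 := by omega
          have hd1 : d a + 1 ≠ 0 := by omega
          simp only [Finset.mem_coe, Finsupp.mem_support_iff, Finsupp.smul_apply, Finsupp.add_apply,
            Finsupp.single_eq_same, smul_eq_mul, ne_eq]
          exact mul_ne_zero hm' hd1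
        -- the shorter word
        have hl0 : l' = l'.dropLast ++ [a] := (List.dropLast_append_getLast hne).symm
        set l₁ := l'.dropLast with hl₁
        have hl₁Δ : ∀ x ∈ l₁, x ∈ Δ := fun x hx => hl' x (List.dropLast_subset l' hx)
        have hw : wprod P l' = wprod P l₁ * RootPairing.Equiv.reflection P a := by
          conv_lhs => rw [hl0]
          rw [wprod_append]; simp
        have hw1 : wprod P l₁ = wprod P l' * RootPairing.Equiv.reflection P a := by
          rw [hw, mul_assoc, reflection_mul_self, mul_one]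
        have hlen1 : l₁.length < n := by
          have : l'.length = l₁.length + 1 := by
            conv_lhs => rw [hl0]
            simp
          omega
        have hC1 : ∀ k : ι, ∃ n : ℕ, 0 < n ∧
            n • (P.root ((wprod P l₁ • k : ι)) - P.root k) ∈ Submodule.span ℤ (P.root '' Δ') := by
          intro k
          obtain ⟨m, hm, hmem⟩ := hC (P.reflectionPerm a k)
          refine ⟨m, hm, ?_⟩
          have e1 : P.root (wprod P l₁ • k) - P.root k =
              (P.root (wprod P l' • P.reflectionPerm a k) - P.root (P.reflectionPerm a k)) +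
                (-(P.pairing k a)) • P.root a := by
            rw [hw1, mul_smul, reflection_smul_idx, root_reflectionPerm_eq a k]
            module
          rw [e1, smul_add]
          exact add_mem hmem (Submodule.smul_of_tower_mem _ _
            (Submodule.smul_mem _ _ (Submodule.subset_span ⟨a, haΔ', rfl⟩)))
        have := ih l₁.length hlen1 l₁ rfl hl₁Δ hC1
        rw [hw]
        exact mul_mem this (Subgroup.subset_closure ⟨a, haΔ', rfl⟩)
  rw [← hl₀g]
  exact key _ l₀ rfl hl₀ (by rw [hl₀g]; exact hC)

end parabolic2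

end Groth.Agent.LD.RD
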