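import Groth.Agent.Lib.Lead.RootD6

/-!
# Root data: the chain lemma (a root which is a sum of roots can be reached by successive additions)
-/

open Set Function

namespace Groth.Agent.LD.RD

variable {ι M N : Type*} [AddCommGroup M] [AddCommGroup N] {P : RootPairing ι ℤ M N}
variable {Δ : Set ι}

/-- `k` can be reached from `0` by successively adding roots indexed by `T`, all partial sums being
roots. -/
inductive Reach (P : RootPairing ι ℤ M N) (T : Set ι) : ι → Prop
  | base {i : ι} (hi : i ∈ T) : Reach P T i
  | step {k i k' : ι} (h : Reach P T k') (hi : i ∈ T) (hk : P.root k = P.root k' + P.root i) :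
      Reach P T k

lemma Reach.mono {T T' : Set ι} (h : T ⊆ T') {k : ι} (hk : Reach P T k) : Reach P T' k := by
  induction hk with
  | base hi => exact Reach.base (h hi)
  | step _ hi hk ih => exact Reach.step ih (h hi) hk

lemma Reach.mem_of_closed {T S : Set ι} (hcl : RootD.IsClosedSub P S) (h : T ⊆ S) {k : ι}
    (hk : Reach P T k) : k ∈ S := by
  induction hk with
  | base hi => exact h hi
  | step _ hi hk ih => exact hcl ih (h hi) hk

theorem reach_of_lc [Finite ι] : ∀ (n : ℕ) (c : ι →₀ ℕ) (k : ι), (c.sum fun _ a => a) = n →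
    Finsupp.linearCombination ℕ P.root c = P.root k → Reach P (↑c.support) k := by
  intro n
  induction n with
  | zero =>
    intro c k hn hck
    exfalso
    have hc0 : c = 0 := by
      ext j
      by_contra hj
      have hj' : j ∈ c.support := Finsupp.mem_support_iff.2 hj
      have : c j ≤ c.sum fun _ a => a := Finset.single_le_sum (f := fun i => c i) (fun _ _ => Nat.zero_le _) hj'
      rw [hn] at this
      exact hj (Nat.le_zero.1 this)
    rw [hc0, map_zero] at hck
    exact P.ne_zero k hck.symm
  | succ n ih =>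
    intro c k hn hck
    have hckz : Finsupp.linearCombination ℤ P.root (castZ c) = P.root k := by
      rw [linearCombination_castZ, hck]
    obtain ⟨i, hci, hik⟩ := exists_pairing_pos_of_coeff hckz (fun j => by simp)
    have hci' : 0 < c i := by simpa using hci
    have hisupp : i ∈ c.support := Finsupp.mem_support_iff.2 hci'.ne'
    by_cases hik' : i = k
    · exact Reach.base (hik' ▸ hisupp)
    · obtain ⟨k', hk'⟩ := root_sub_root_mem (pairing_pos_symm hik) (Ne.symm hik')
      have hsum : P.root k = P.root k' + P.root i := by rw [hk']; abel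
      -- the smaller coefficient vector
      have hcdec : c = (c - Finsupp.single i 1) + Finsupp.single i 1 := by
        ext j
        by_cases hj : j = i
        · subst hj; simp; omega
        · simp [Finsupp.single_apply, Ne.symm hj]
      have hsum' : ((c - Finsupp.single i 1).sum fun _ a => a) = n := by
        have h1 : (c.sum fun _ a => a) =
            ((c - Finsupp.single i 1).sum fun _ a => a) + ((Finsupp.single i 1).sum fun _ a => a) := by
          conv_lhs => rw [hcdec]
          exact Finsupp.sum_add_index' (fun _ => rfl) (fun _ _ _ => rfl)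
        rw [Finsupp.sum_single_index rfl] at h1
        omega
      have hlc' : Finsupp.linearCombination ℕ P.root (c - Finsupp.single i 1) = P.root k' := by
        have h1 : Finsupp.linearCombination ℕ P.root c =
            Finsupp.linearCombination ℕ P.root (c - Finsupp.single i 1) + P.root i := by
          conv_lhs => rw [hcdec]
          rw [map_add]; simp
        rw [hck, hsum] at h1
        exact (add_right_cancel h1).symm
      have hreach := ih (c - Finsupp.single i 1) k' hsum' hlc'
      refine Reach.step (hreach.mono ?_) hisupp hsum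
      intro j hj
      simp only [Finset.mem_coe, Finsupp.mem_support_iff, Finsupp.coe_tsub, Pi.sub_apply, ne_eq] at hj ⊢
      omega

/-- A closed set of roots contains every root in the additive monoid it generates. -/
theorem mem_of_closed_of_mem_natSpan [Finite ι] {S : Set ι} (hcl : RootD.IsClosedSub P S) {k : ι}
    (hk : P.root k ∈ RootD.natSpan P S) : k ∈ S := by
  obtain ⟨c, hc, hck⟩ := (mem_natSpan_iff P).1 hk
  exact (reach_of_lc _ c k rfl hck).mem_of_closed hcl hc

section chainfin

lemma reach_fin {n : ℕ} (a : Fin n → ι) {k : ι} (h : Reach P (range a) k) :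
    ∃ (l : ℕ) (b : Fin l → Fin n), 0 < l ∧
      (∀ p : Fin l, ∃ j : ι, P.root j =
        ∑ q ∈ Finset.univ.filter (fun q : Fin l => q.val ≤ p.val), P.root (a (b q))) ∧
      P.root k = ∑ q, P.root (a (b q)) := by
  induction h with
  | @base i hi =>
    obtain ⟨j₀, rfl⟩ := hi
    refine ⟨1, fun _ => j₀, one_pos, fun p => ⟨a j₀, ?_⟩, by simp⟩
    have : Finset.univ.filter (fun q : Fin 1 => q.val ≤ p.val) = Finset.univ := by
      ext q; simp [Fin.fin_one_eq_zero]
    rw [this]; simp
  | @step k i k' _ hi hk ih =>
    obtain ⟨j₀, rfl⟩ := hi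
    obtain ⟨l, b, hl, hpart, htot⟩ := ih
    refine ⟨l + 1, Fin.snoc b j₀, Nat.succ_pos _, ?_, ?_⟩
    · intro p
      refine Fin.lastCases ?_ (fun p' => ?_) p
      · refine ⟨k, ?_⟩
        have : Finset.univ.filter (fun q : Fin (l + 1) => q.val ≤ (Fin.last l).val) = Finset.univ := by
          ext q; simp [Fin.is_le]
        rw [this, Fin.sum_univ_castSucc]
        simp [hk, htot]
      · obtain ⟨j, hj⟩ := hpart p'
        refine ⟨j, ?_⟩
        rw [hj, Finset.sum_filter, Finset.sum_filter, Fin.sum_univ_castSucc]
        have hlast : ¬ ((Fin.last l).val ≤ (Fin.castSucc p').val) := by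
          simp only [Fin.val_last, Fin.val_castSucc, not_le]; exact p'.isLt
        simp [hlast]
    · rw [Fin.sum_univ_castSucc]
      simp [hk, htot]

end chainfin

section parab

lemma neg_mem_natSpan_neg {S : Set ι} {x : M} (hx : x ∈ RootD.natSpan P S) :
    -x ∈ RootD.natSpan P ((fun i => P.reflectionPerm i i) '' S) := by
  refine AddSubmonoid.closure_induction ?_ (by simp) (fun a b _ _ ha hb => ?_) hx
  · rintro _ ⟨i, hi, rfl⟩
    rw [← root_neg]
    exact root_mem_natSpan P ⟨i, hi, rfl⟩
  · rw [neg_add]; exact add_mem ha hb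

variable [Finite ι]

/-- S5458 -/
theorem parabolic_eq (hΔ : RootD.IsSimpleSys P Δ) {P' : Set ι} (hcl : RootD.IsClosedSub P P')
    (hSP : RootD.posOf P Δ ⊆ P') :
    P' = RootD.posOf P Δ ∪
      {k : ι | -P.root k ∈ RootD.natSpan P {i : ι | i ∈ Δ ∧ P.reflectionPerm i i ∈ P'}} := by
  set Δ'' : Set ι := {i : ι | i ∈ Δ ∧ P.reflectionPerm i i ∈ P'} with hΔ''
  apply Subset.antisymm
  · intro k hk
    by_cases hkS : k ∈ RootD.posOf P Δ
    · exact Or.inl hkS
    · right
      have hneg : P.reflectionPerm k k ∈ RootD.posOf P Δ :=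
        (IsSimpleSys.mem_posOf_or hΔ k).resolve_left hkS
      have key : ∀ n : ℕ, ∀ β ∈ RootD.posOf P Δ, (ht hΔ β).toNat = n →
          P.reflectionPerm β β ∈ P' → P.root β ∈ RootD.natSpan P Δ'' := by
        intro n
        induction n using Nat.strong_induction_on with
        | _ n ih =>
          intro β hβ hn hβP
          by_cases hβΔ : β ∈ Δ
          · exact root_mem_natSpan P ⟨hβΔ, hβP⟩
          · obtain ⟨i, hi, l, hl, hβl, -⟩ := IsSimpleSys.exists_sub_simple hΔ hβ hβΔ
            have h1 := ht_add hΔ hβl
            rw [ht_simple hΔ hi] at h1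
            have h2 := ht_pos hΔ hl
            have hi'' : i ∈ Δ'' := by
              refine ⟨hi, hcl hβP (hSP hl) ?_⟩
              rw [root_neg, root_neg, hβl]; abel
            have hlP : P.reflectionPerm l l ∈ P' := by
              refine hcl hβP (hSP (IsSimpleSys.subset_posOf hΔ hi)) ?_
              rw [root_neg, root_neg, hβl]; abel
            have := ih (ht hΔ l).toNat (by omega) l hl rfl hlP
            rw [hβl]
            exact add_mem this (root_mem_natSpan P hi'')
      have := key _ _ hneg rfl (by rwa [neg_neg_idx])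
      rwa [root_neg] at this
  · rintro k (hk | hk)
    · exact hSP hk
    · have h1 := neg_mem_natSpan_neg hk
      rw [neg_neg] at h1
      refine mem_of_closed_of_mem_natSpan hcl (natSpan_mono P ?_ h1)
      rintro _ ⟨i, hi, rfl⟩
      exact hi.2

/-- S5459 -/
theorem exists_parabolic_eq {P' : Set ι} (hP2 : ∀ i : ι, i ∈ P' ∨ P.reflectionPerm i i ∈ P')
    (hcl : RootD.IsClosedSub P P') :
    ∃ Δ Δ' : Set ι, RootD.IsSimpleSys P Δ ∧ Δ' ⊆ Δ ∧
      P' = RootD.posOf P Δ ∪ {k : ι | -P.root k ∈ RootD.natSpan P Δ'} := by
  obtain ⟨Δ₀, hΔ₀⟩ := exists_isSimpleSys P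
  obtain ⟨g, -, hg⟩ := exists_weyl_posOf_subset hΔ₀ hP2 hcl
  have hΔ := IsSimpleSys.gimg g hΔ₀
  rw [← posOf_gimg] at hg
  exact ⟨gimg g Δ₀, _, hΔ, fun i hi => hi.1, parabolic_eq hΔ hcl hg⟩

end parab

end Groth.Agent.LD.RD
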