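import Groth.Agent.Lib.Lead.RootD7
import Groth.Agent.S5505
import Groth.Agent.S5506
import Groth.Agent.S5508

/-!
# Root data: decomposition into irreducible components and simple systems
-/

open Set Function

namespace Groth.Agent.LD.RD

variable {ι M N : Type*} [AddCommGroup M] [AddCommGroup N] {P : RootPairing ι ℤ M N}
variable {Δ : Set ι}

lemma mem_inSpan_iff {S : Set ι} {k : ι} :
    k ∈ RootD.inSpan P S ↔ ∃ e : ι →₀ ℤ, (↑e.support : Set ι) ⊆ S ∧
      Finsupp.linearCombination ℤ P.root e = P.root k := by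
  show P.root k ∈ Submodule.span ℤ (P.root '' S) ↔ _
  rw [Finsupp.mem_span_image_iff_linearCombination]
  simp [Finsupp.mem_supported]

lemma inSpan_mono {S T : Set ι} (h : S ⊆ T) : RootD.inSpan P S ⊆ RootD.inSpan P T :=
  fun _ hk => Submodule.span_mono (image_mono h) hk

lemma neg_mem_inSpan {S : Set ι} {k : ι} (hk : k ∈ RootD.inSpan P S) :
    P.reflectionPerm k k ∈ RootD.inSpan P S := by
  show P.root _ ∈ Submodule.span ℤ (P.root '' S)
  rw [root_neg]; exact neg_mem hk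

lemma neg_mem_inSpan_iff {S : Set ι} {k : ι} :
    P.reflectionPerm k k ∈ RootD.inSpan P S ↔ k ∈ RootD.inSpan P S := by
  refine ⟨fun h => ?_, neg_mem_inSpan⟩
  have := neg_mem_inSpan h
  rwa [neg_neg_idx] at this

/-- spans of disjoint subsets of a simple system contain no common root -/
lemma IsSimpleSys.not_mem_inSpan_of_disjoint (hΔ : RootD.IsSimpleSys P Δ) {A B : Set ι}
    (hA : A ⊆ Δ) (hB : B ⊆ Δ) (hAB : Disjoint A B) {k : ι} (hkA : k ∈ RootD.inSpan P A)
    (hkB : k ∈ RootD.inSpan P B) : False := by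
  obtain ⟨e, he, hek⟩ := mem_inSpan_iff.1 hkA
  obtain ⟨e', he', hek'⟩ := mem_inSpan_iff.1 hkB
  have hee : e = e' := IsSimpleSys.coeff_unique hΔ (he.trans hA) (he'.trans hB) (hek.trans hek'.symm)
  have h0 : e = 0 := by
    ext j
    by_contra hj
    have hj' : j ∈ e.support := Finsupp.mem_support_iff.2 hj
    exact Set.disjoint_left.1 hAB (he hj') (he' (hee ▸ hj'))
  rw [h0, map_zero] at hek
  exact P.ne_zero k hek.symm

section decomp

variable [Finite ι] (hΔ : RootD.IsSimpleSys P Δ) {R' : Set ι}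
  (hc : RootD.IsClosedSub P R') (hs : RootD.IsSymmSub P R') (hc' : RootD.IsClosedSub P R'ᶜ)
  (hs' : RootD.IsSymmSub P R'ᶜ)

include hΔ hc hs hc' hs' in
lemma subset_inSpan_inter : R' ⊆ RootD.inSpan P (Δ ∩ R') := by
  have key : ∀ n : ℕ, ∀ k ∈ RootD.posOf P Δ, (ht hΔ k).toNat = n → k ∈ R' →
      k ∈ RootD.inSpan P (Δ ∩ R') := by
    intro n
    induction n using Nat.strong_induction_on with
    | _ n ih =>
      intro k hk hn hkR
      by_cases hkΔ : k ∈ Δ
      · exact Submodule.subset_span ⟨k, ⟨hkΔ, hkR⟩, rfl⟩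
      · obtain ⟨i, hi, l, hl, hkl, -⟩ := IsSimpleSys.exists_sub_simple hΔ hk hkΔ
        have h1 := ht_add hΔ hkl
        rw [ht_simple hΔ hi] at h1
        have h2 := ht_pos hΔ hl
        -- `l, i ∈ R'`
        have hli : l ∈ R' ∧ i ∈ R' := by
          by_contra hcon
          have hl' : l ∉ R' := by
            intro hlR
            have := part_aux hc hs hc' hs' (fun x hx hx' => hx' hx)
              (fun x => by by_cases hx : x ∈ R'; exacts [Or.inl hx, Or.inr hx]) hkl hlR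
            exact hcon ⟨hlR, this.1⟩
          have := part_aux hc' hs' hc hs (fun x hx hx' => hx hx')
            (fun x => by by_cases hx : x ∈ R'; exacts [Or.inr hx, Or.inl hx]) hkl hl'
          exact this.2 hkR
        have hl'' := ih (ht hΔ l).toNat (by omega) l hl rfl hli.1
        show P.root k ∈ Submodule.span ℤ (P.root '' (Δ ∩ R'))
        rw [hkl]
        exact add_mem hl'' (Submodule.subset_span ⟨i, ⟨hi, hli.2⟩, rfl⟩)
  intro k hkR
  rcases IsSimpleSys.mem_posOf_or hΔ k with h | h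
  · exact key _ k h rfl hkR
  · rw [← neg_mem_inSpan_iff]
    exact key _ _ h rfl (hs hkR)

end decomp

/-- S5482 -/
theorem decomp_simple [Finite ι] (hΔ : RootD.IsSimpleSys P Δ) {R' : Set ι}
    (hc : RootD.IsClosedSub P R') (hs : RootD.IsSymmSub P R') (hc' : RootD.IsClosedSub P R'ᶜ)
    (hs' : RootD.IsSymmSub P R'ᶜ) :
    R' = RootD.inSpan P (Δ ∩ R') ∧ R'ᶜ = RootD.inSpan P (Δ \ R') ∧
      ∀ i ∈ Δ ∩ R', ∀ j ∈ Δ \ R', P.IsOrthogonal i j := by
  have h1 := subset_inSpan_inter hΔ hc hs hc' hs'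
  have h2 : R'ᶜ ⊆ RootD.inSpan P (Δ \ R') := by
    have := subset_inSpan_inter hΔ hc' hs' (by rwa [compl_compl]) (by rwa [compl_compl])
    rwa [show Δ ∩ R'ᶜ = Δ \ R' from rfl] at this
  have hdisj : Disjoint (Δ ∩ R') (Δ \ R') :=
    Set.disjoint_left.2 fun x hx hx' => hx'.2 hx.2
  refine ⟨Subset.antisymm h1 ?_, Subset.antisymm h2 ?_, ?_⟩
  · intro k hk
    by_contra hkR
    exact IsSimpleSys.not_mem_inSpan_of_disjoint hΔ inter_subset_left sdiff_subset hdisj hk (h2 hkR)
  · intro k hk hkR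
    exact IsSimpleSys.not_mem_inSpan_of_disjoint hΔ inter_subset_left sdiff_subset hdisj (h1 hkR) hk
  · intro i hi j hj
    by_contra hno
    exact hj.2 (Groth.Agent.S5505.result P R' hc hs hc' hs' i j hi.2 hno)

end Groth.Agent.LD.RD

namespace Groth.Agent.LD.RD

variable {ι M N : Type*} [AddCommGroup M] [AddCommGroup N] {P : RootPairing ι ℤ M N}
variable {Δ : Set ι}

lemma inSpan_empty : RootD.inSpan P (∅ : Set ι) = ∅ := by
  ext k
  simp only [mem_empty_iff_false, iff_false]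
  intro hk
  have : P.root k ∈ Submodule.span ℤ (P.root '' (∅ : Set ι)) := hk
  simp only [image_empty, Submodule.span_empty, Submodule.mem_bot] at this
  exact P.ne_zero k this

/-- S5494 -/
theorem connected_chain [Finite ι] (hΔ : RootD.IsSimpleSys P Δ)
    (hconn : ∀ Δ' : Set ι, Δ' ⊆ Δ → (∀ i ∈ Δ', ∀ j ∈ Δ \ Δ', P.IsOrthogonal i j) → Δ' = ∅ ∨ Δ' = Δ)
    (i j : ι) : Relation.ReflTransGen (fun a b : ι => ¬ P.IsOrthogonal a b) i j := by
  set C : Set ι := {j : ι | Relation.ReflTransGen (fun a b : ι => ¬ P.IsOrthogonal a b) i j} with hC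
  obtain ⟨h1, h2, h3, h4⟩ := Groth.Agent.S5506.result P i
  obtain ⟨e1, e2, e3⟩ := decomp_simple hΔ h1 h2 h3 h4
  have hiC : i ∈ C := Relation.ReflTransGen.refl
  rcases hconn (Δ ∩ C) inter_subset_left (by
      intro a ha b hb
      refine e3 a ha b ⟨hb.1, fun hbC => hb.2 ⟨hb.1, hbC⟩⟩) with h | h
  · exfalso
    rw [← hC] at e1
    rw [h, inSpan_empty] at e1
    rw [e1] at hiC
    exact hiC
  · have hΔC : Δ \ C = ∅ := by
      ext x
      simp only [mem_sdiff, mem_empty_iff_false, iff_false, not_and, not_not]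
      intro hx
      have hx' : x ∈ Δ ∩ C := by rw [h]; exact hx
      exact hx'.2
    rw [← hC] at e2
    rw [hΔC, inSpan_empty] at e2
    have : j ∈ C := by
      by_contra hj
      have : j ∈ Cᶜ := hj
      rw [e2] at this
      exact this
    exact this

section orth

lemma pairing_eq_zero_of_mem_inSpan {A : Set ι} {k i : ι} (hk : k ∈ RootD.inSpan P A)
    (h : ∀ a ∈ A, P.pairing a i = 0) : P.pairing k i = 0 := by
  obtain ⟨e, he, hek⟩ := mem_inSpan_iff.1 hk
  have := congrArg (P.coroot' i) hek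
  rw [P.root_coroot'_eq_pairing, Finsupp.linearCombination_apply, map_finsuppSum] at this
  rw [← this]
  refine Finset.sum_eq_zero fun a ha => ?_
  show (P.coroot' i) (e a • P.root a) = 0
  rw [map_smul, P.root_coroot'_eq_pairing, h a (he ha), smul_zero]

lemma reflectionPerm_mem_inSpan {A : Set ι} {k i : ι} (hk : k ∈ RootD.inSpan P A)
    (h : i ∈ A ∨ P.pairing k i = 0) : P.reflectionPerm i k ∈ RootD.inSpan P A := by
  show P.root (P.reflectionPerm i k) ∈ Submodule.span ℤ (P.root '' A)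
  rw [root_reflectionPerm_eq]
  rcases h with h | h
  · exact sub_mem hk (Submodule.smul_mem _ _ (Submodule.subset_span ⟨i, h, rfl⟩))
  · rw [h, zero_smul, sub_zero]; exact hk

/-- S5483 -/
theorem mem_inSpan_or [Finite ι] (hΔ : RootD.IsSimpleSys P Δ) {Δ' : Set ι} (hsub : Δ' ⊆ Δ)
    (horth : ∀ i ∈ Δ', ∀ j ∈ Δ \ Δ', P.IsOrthogonal i j) (k : ι) :
    (k ∈ RootD.inSpan P Δ' ∨ k ∈ RootD.inSpan P (Δ \ Δ')) ∧
      ¬ (k ∈ RootD.inSpan P Δ' ∧ k ∈ RootD.inSpan P (Δ \ Δ')) := by
  refine ⟨?_, fun h => IsSimpleSys.not_mem_inSpan_of_disjoint hΔ hsub sdiff_subset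
    (Set.disjoint_left.2 fun x hx hx' => hx'.2 hx) h.1 h.2⟩
  -- stability under simple reflections
  have hstep : ∀ i ∈ Δ, ∀ k : ι, (k ∈ RootD.inSpan P Δ' ∨ k ∈ RootD.inSpan P (Δ \ Δ')) →
      (P.reflectionPerm i k ∈ RootD.inSpan P Δ' ∨ P.reflectionPerm i k ∈ RootD.inSpan P (Δ \ Δ')) := by
    intro i hi k hk
    by_cases hiΔ' : i ∈ Δ'
    · rcases hk with hk | hk
      · exact Or.inl (reflectionPerm_mem_inSpan hk (Or.inl hiΔ'))
      · refine Or.inr (reflectionPerm_mem_inSpan hk (Or.inr ?_))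
        exact pairing_eq_zero_of_mem_inSpan hk fun b hb => (horth i hiΔ' b hb).2
    · have hiB : i ∈ Δ \ Δ' := ⟨hi, hiΔ'⟩
      rcases hk with hk | hk
      · refine Or.inl (reflectionPerm_mem_inSpan hk (Or.inr ?_))
        exact pairing_eq_zero_of_mem_inSpan hk fun a ha => (horth a ha i hiB).1
      · exact Or.inr (reflectionPerm_mem_inSpan hk (Or.inl hiB))
  have hW : ∀ g : P.Aut, g ∈ Subgroup.closure ((fun i : ι => RootPairing.Equiv.reflection P i) '' Δ) →
      ∀ k : ι, (k ∈ RootD.inSpan P Δ' ∨ k ∈ RootD.inSpan P (Δ \ Δ')) →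
      (g • k ∈ RootD.inSpan P Δ' ∨ g • k ∈ RootD.inSpan P (Δ \ Δ')) := by
    intro g hg
    induction hg using Subgroup.closure_induction'' with
    | one => intro k hk; simpa using hk
    | mem x hx =>
      obtain ⟨i, hi, rfl⟩ := hx
      exact fun k hk => hstep i hi k hk
    | inv_mem x hx =>
      obtain ⟨i, hi, rfl⟩ := hx
      rw [RootPairing.Equiv.reflection_inv]
      exact fun k hk => hstep i hi k hk
    | mul x y _ _ hx hy =>
      intro k hk
      rw [mul_smul]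
      exact hx _ (hy k hk)
  obtain ⟨hcl, hconj⟩ := Groth.Agent.S5508.result P Δ hΔ
  obtain ⟨k₀, hind, hk₀⟩ := exists_indiv_half (P := P) k
  have hk₀Q : k₀ ∈ RootD.inSpan P Δ' ∨ k₀ ∈ RootD.inSpan P (Δ \ Δ') := by
    obtain ⟨g, hg, i, hi, rfl⟩ := hconj k₀ hind
    refine hW g (hcl ▸ hg) i ?_
    by_cases hiΔ' : i ∈ Δ'
    · exact Or.inl (Submodule.subset_span ⟨i, hiΔ', rfl⟩)
    · exact Or.inr (Submodule.subset_span ⟨i, ⟨hi, hiΔ'⟩, rfl⟩)
  rcases hk₀ with h | h
  · exact h ▸ hk₀Q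
  · rcases hk₀Q with h' | h'
    · left
      show P.root k ∈ Submodule.span ℤ (P.root '' Δ')
      rw [h]; exact Submodule.smul_mem _ _ h'
    · right
      show P.root k ∈ Submodule.span ℤ (P.root '' (Δ \ Δ'))
      rw [h]; exact Submodule.smul_mem _ _ h'

end orth

end Groth.Agent.LD.RD
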