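import Groth.Agent.Lib.Lead.RootD8

/-!
# Root data: lengths of roots for the canonical form
-/

open Set Function

namespace Groth.Agent.LD.RD

variable {ι M N : Type*} [AddCommGroup M] [AddCommGroup N] {P : RootPairing ι ℤ M N}
variable {Δ : Set ι}

lemma rootForm_smul_smul [Fintype ι] (g : P.Aut) (x y : M) : P.RootForm (g • x) (g • y) = P.RootForm x y := by
  rw [P.rootForm_apply_apply, P.rootForm_apply_apply]
  refine Fintype.sum_equiv g.indexEquiv.symm _ _ fun i => ?_
  have h1 := coroot'_smul g (g.indexEquiv.symm i) x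
  have h2 := coroot'_smul g (g.indexEquiv.symm i) y
  have hi : g • (g.indexEquiv.symm i) = i := by rw [smul_idx_def]; simp
  rw [hi] at h1 h2
  rw [h1, h2]

lemma len_smul [Fintype ι] (g : P.Aut) (i : ι) :
    P.RootForm (P.root (g • i)) (P.root (g • i)) = P.RootForm (P.root i) (P.root i) := by
  rw [root_smul, rootForm_smul_smul]

lemma len_pos [Fintype ι] (i : ι) : 0 < P.RootForm (P.root i) (P.root i) :=
  P.rootForm_pos_of_ne_zero (Submodule.subset_span (mem_range_self i)) (P.ne_zero i)

lemma pairing_mul_len [Fintype ι] (i j : ι) :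
    P.pairing j i * P.RootForm (P.root i) (P.root i) =
      P.pairing i j * P.RootForm (P.root j) (P.root j) :=
  P.toInvariantForm.pairing_mul_eq_pairing_mul_swap i j

lemma two_mul_rootForm [Fintype ι] (i j : ι) :
    2 * P.RootForm (P.root i) (P.root j) = P.pairing i j * P.RootForm (P.root j) (P.root j) :=
  P.toInvariantForm.two_mul_apply_root_root i j

lemma pairing_ne_zero_of_not_orth {i j : ι} (h : ¬ P.IsOrthogonal i j) :
    P.pairing i j ≠ 0 ∧ P.pairing j i ≠ 0 := by
  constructor
  · intro h0
    exact h ⟨h0, (P.pairing_eq_zero_iff' (i := i) (j := j)).1 h0⟩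
  · intro h0
    exact h ⟨(P.pairing_eq_zero_iff' (i := j) (j := i)).1 h0, h0⟩

/-- S5487 -/
theorem len_mul_colen [Fintype ι] {i j : ι} (h : ¬ P.IsOrthogonal i j) :
    P.RootForm (P.root i) (P.root i) * P.CorootForm (P.coroot i) (P.coroot i) =
      P.RootForm (P.root j) (P.root j) * P.CorootForm (P.coroot j) (P.coroot j) := by
  obtain ⟨h1, h2⟩ := pairing_ne_zero_of_not_orth h
  have e1 := pairing_mul_len (P := P) i j
  have e2 := pairing_mul_len (P := P.flip) i j
  simp only [RootPairing.pairing_flip, RootPairing.flip_root] at e2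
  have e2' : P.pairing i j * P.CorootForm (P.coroot i) (P.coroot i) =
      P.pairing j i * P.CorootForm (P.coroot j) (P.coroot j) := e2
  have : (P.pairing i j * P.pairing j i) *
      (P.RootForm (P.root i) (P.root i) * P.CorootForm (P.coroot i) (P.coroot i)) =
      (P.pairing i j * P.pairing j i) *
      (P.RootForm (P.root j) (P.root j) * P.CorootForm (P.coroot j) (P.coroot j)) := by
    linear_combination (P.pairing i j * P.CorootForm (P.coroot i) (P.coroot i)) * e1 +
      (P.pairing i j * P.RootForm (P.root j) (P.root j)) * e2'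
  exact mul_left_cancel₀ (mul_ne_zero h1 h2) this

section conjlen

variable [Fintype ι]

/-- S5469 -/
theorem exists_weyl_of_len_eq {i j : ι} (hno : ¬ P.IsOrthogonal i j)
    (hl : P.RootForm (P.root i) (P.root i) = P.RootForm (P.root j) (P.root j)) :
    ∃ g : P.Aut, g ∈ P.weylGroup ∧ g • i = j := by
  have hM := isAddTorsionFree_left P
  obtain ⟨h1, h2⟩ := pairing_ne_zero_of_not_orth hno
  have e1 := pairing_mul_len (P := P) i j
  rw [hl] at e1
  have hpp : P.pairing j i = P.pairing i j := mul_right_cancel₀ (len_pos j).ne' e1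
  have hset := P.pairingIn_pairingIn_mem_set_of_isCrystallographic i j
  rw [pairingIn_eq, pairingIn_eq, hpp] at hset
  set p := P.pairing i j with hp
  have hcases : p = 1 ∨ p = -1 ∨ p = 2 ∨ p = -2 := by
    simp only [mem_insert_iff, mem_singleton_iff, Prod.mk.injEq] at hset
    omega
  have hs : ∀ a b : ι, RootPairing.Equiv.reflection P a • P.root b =
      P.root b - P.pairing b a • P.root a := fun a b => by
    rw [RootPairing.Equiv.reflection_smul, P.reflection_apply_root]
  rcases hcases with h | h | h | h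
  · refine ⟨RootPairing.Equiv.reflection P j * RootPairing.Equiv.reflection P i *
      RootPairing.Equiv.reflection P j, mul_mem (mul_mem (P.reflection_mem_weylGroup j)
        (P.reflection_mem_weylGroup i)) (P.reflection_mem_weylGroup j), ?_⟩
    apply P.root.injective
    rw [root_smul]
    simp only [mul_smul, RootPairing.Equiv.reflection_smul, P.reflection_apply_root, map_sub,
      map_smul, P.pairing_same, hpp, ← hp]
    rw [h]
    module
  · refine ⟨RootPairing.Equiv.reflection P i * RootPairing.Equiv.reflection P j,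
      mul_mem (P.reflection_mem_weylGroup i) (P.reflection_mem_weylGroup j), ?_⟩
    apply P.root.injective
    rw [root_smul]
    simp only [mul_smul, RootPairing.Equiv.reflection_smul, P.reflection_apply_root, map_sub,
      map_smul, P.pairing_same, hpp, ← hp]
    rw [h]
    module
  · refine ⟨1, one_mem _, ?_⟩
    rw [one_smul]
    exact (P.pairing_two_two_iff i j).1 ⟨h, hpp.trans h⟩
  · refine ⟨RootPairing.Equiv.reflection P i, P.reflection_mem_weylGroup i, ?_⟩
    apply P.root.injective
    have := (P.pairing_neg_two_neg_two_iff i j).1 ⟨h, hpp.trans h⟩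
    rw [reflection_smul_idx, root_neg, this, neg_neg]

end conjlen

section irr

lemma pairing_reflectionPerm_left (y x z : ι) :
    P.pairing (P.reflectionPerm y x) z = P.pairing x z - P.pairing x y * P.pairing y z := by
  rw [← P.root_coroot'_eq_pairing, root_reflectionPerm_eq, map_sub, map_smul,
    P.root_coroot'_eq_pairing, P.root_coroot'_eq_pairing, smul_eq_mul]

lemma three_chain {x y z : ι} (hxy : ¬ P.IsOrthogonal x y) (hyz : ¬ P.IsOrthogonal y z) :
    ¬ P.IsOrthogonal x z ∨ ¬ P.IsOrthogonal (P.reflectionPerm y x) z := by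
  by_cases h : P.IsOrthogonal x z
  · right
    apply not_isOrthogonal_of_pairing_ne_zero'
    rw [pairing_reflectionPerm_left, h.1, zero_sub, neg_ne_zero]
    exact mul_ne_zero (pairing_ne_zero_of_not_orth hxy).1 (pairing_ne_zero_of_not_orth hyz).1
  · exact Or.inl h

lemma exists_weyl_not_orth {i j : ι}
    (h : Relation.ReflTransGen (fun a b : ι => ¬ P.IsOrthogonal a b) i j) :
    ∃ w : P.Aut, w ∈ P.weylGroup ∧ ¬ P.IsOrthogonal (w • i) j := by
  induction h using Relation.ReflTransGen.head_induction_on with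
  | refl =>
    refine ⟨1, one_mem _, ?_⟩
    rw [one_smul]
    apply not_isOrthogonal_of_pairing_ne_zero'
    rw [P.pairing_same]; norm_num
  | @head a c h' _ ih =>
    obtain ⟨w, hw, hwc⟩ := ih
    -- `w a ~ w c ~ j`
    have h1 : ¬ P.IsOrthogonal (w • a) (w • c) := by
      intro ho
      apply h'
      exact ⟨by simpa using ho.1, by simpa using ho.2⟩
    rcases three_chain h1 hwc with h2 | h2
    · exact ⟨w, hw, h2⟩
    · refine ⟨RootPairing.Equiv.reflection P (w • c) * w,
        mul_mem (P.reflection_mem_weylGroup _) hw, ?_⟩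
      rw [mul_smul, reflection_smul_idx]
      exact h2

/-- irreducibility in the sense of closed symmetric partitions gives chains between any two roots -/
lemma chain_of_irr [Finite ι]
    (hirr : ∀ R' : Set ι, RootD.IsClosedSub P R' → RootD.IsSymmSub P R' → RootD.IsClosedSub P R'ᶜ →
      RootD.IsSymmSub P R'ᶜ → R' = ∅ ∨ R' = Set.univ) (i j : ι) :
    Relation.ReflTransGen (fun a b : ι => ¬ P.IsOrthogonal a b) i j := by
  obtain ⟨h1, h2, h3, h4⟩ := Groth.Agent.S5506.result P i
  rcases hirr _ h1 h2 h3 h4 with h | h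
  · exfalso
    have : i ∈ {j : ι | Relation.ReflTransGen (fun a b : ι => ¬ P.IsOrthogonal a b) i j} :=
      Relation.ReflTransGen.refl
    rw [h] at this
    exact this
  · have : j ∈ (Set.univ : Set ι) := mem_univ j
    rw [← h] at this
    exact this

/-- S5470 -/
theorem exists_weyl_of_len_eq_of_irr [Fintype ι]
    (hirr : ∀ R' : Set ι, RootD.IsClosedSub P R' → RootD.IsSymmSub P R' → RootD.IsClosedSub P R'ᶜ →
      RootD.IsSymmSub P R'ᶜ → R' = ∅ ∨ R' = Set.univ) (i j : ι)
    (hl : P.RootForm (P.root i) (P.root i) = P.RootForm (P.root j) (P.root j)) :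
    ∃ g : P.Aut, g ∈ P.weylGroup ∧ g • i = j := by
  obtain ⟨w, hw, hwo⟩ := exists_weyl_not_orth (chain_of_irr hirr i j)
  obtain ⟨g, hg, hgj⟩ := exists_weyl_of_len_eq hwo (by rw [len_smul, hl])
  exact ⟨g * w, mul_mem hg hw, by rw [mul_smul, hgj]⟩

end irr

section irr2

lemma isOrthogonal_flip_iff (i j : ι) : P.flip.IsOrthogonal i j ↔ P.IsOrthogonal i j := by
  constructor
  · intro h; exact ⟨h.2, h.1⟩
  · intro h; exact ⟨h.2, h.1⟩

/-- S5498 -/
theorem irr_flip_and_len_const [Fintype ι]
    (hirr : ∀ R' : Set ι, RootD.IsClosedSub P R' → RootD.IsSymmSub P R' → RootD.IsClosedSub P R'ᶜ →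
      RootD.IsSymmSub P R'ᶜ → R' = ∅ ∨ R' = Set.univ) :
    (∀ R' : Set ι, RootD.IsClosedSub P.flip R' → RootD.IsSymmSub P.flip R' →
      RootD.IsClosedSub P.flip R'ᶜ → RootD.IsSymmSub P.flip R'ᶜ → R' = ∅ ∨ R' = Set.univ) ∧
    ∀ i j : ι, P.RootForm (P.root i) (P.root i) * P.CorootForm (P.coroot i) (P.coroot i) =
      P.RootForm (P.root j) (P.root j) * P.CorootForm (P.coroot j) (P.coroot j) := by
  constructor
  · intro R' hc hs hc' hs'
    by_cases hne : R' = ∅
    · exact Or.inl hne
    · right
      obtain ⟨i, hi⟩ := Set.nonempty_iff_ne_empty.2 hne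
      ext j
      simp only [mem_univ, iff_true]
      have hchain := chain_of_irr hirr i j
      induction hchain with
      | refl => exact hi
      | tail _ hbc ih =>
        exact Groth.Agent.S5505.result P.flip R' hc hs hc' hs' _ _ ih
          (fun ho => hbc ((isOrthogonal_flip_iff _ _).1 ho))
  · intro i j
    have hchain := chain_of_irr hirr i j
    induction hchain with
    | refl => rfl
    | tail _ hbc ih => exact ih.trans (len_mul_colen hbc)

end irr2

section ratios

variable [Fintype ι]

lemma len_ratio_aux [P.IsReduced] {i k : ι} (h : ¬ P.IsOrthogonal i k) :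
    P.RootForm (P.root i) (P.root i) = P.RootForm (P.root k) (P.root k) ∨
    P.RootForm (P.root i) (P.root i) = 2 * P.RootForm (P.root k) (P.root k) ∨
    P.RootForm (P.root i) (P.root i) = 3 * P.RootForm (P.root k) (P.root k) ∨
    2 * P.RootForm (P.root i) (P.root i) = P.RootForm (P.root k) (P.root k) ∨
    3 * P.RootForm (P.root i) (P.root i) = P.RootForm (P.root k) (P.root k) := by
  obtain ⟨h1, h2⟩ := pairing_ne_zero_of_not_orth h
  have e := pairing_mul_len (P := P) i k
  have hset := P.pairingIn_pairingIn_mem_set_of_isCrystal_of_isRed i k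
  rw [pairingIn_eq, pairingIn_eq] at hset
  simp only [mem_insert_iff, mem_singleton_iff, Prod.mk.injEq] at hset
  set a := P.RootForm (P.root i) (P.root i)
  set b := P.RootForm (P.root k) (P.root k)
  rcases hset with h | h | h | h | h | h | h | h | h | h | h | h | h <;>
    obtain ⟨ha, hb⟩ := h <;> rw [ha, hb] at e <;> omega

/-- S5471 -/
theorem len_ratios [P.IsReduced]
    (hirr : ∀ R' : Set ι, RootD.IsClosedSub P R' → RootD.IsSymmSub P R' → RootD.IsClosedSub P R'ᶜ →
      RootD.IsSymmSub P R'ᶜ → R' = ∅ ∨ R' = Set.univ)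
    (i₀ : ι) (hmin : ∀ i : ι, P.RootForm (P.root i₀) (P.root i₀) ≤ P.RootForm (P.root i) (P.root i)) :
    (∀ i : ι, P.RootForm (P.root i) (P.root i) = P.RootForm (P.root i₀) (P.root i₀) ∨
        P.RootForm (P.root i) (P.root i) = 2 * P.RootForm (P.root i₀) (P.root i₀) ∨
        P.RootForm (P.root i) (P.root i) = 3 * P.RootForm (P.root i₀) (P.root i₀)) ∧
      ¬ ((∃ i : ι, P.RootForm (P.root i) (P.root i) = 2 * P.RootForm (P.root i₀) (P.root i₀)) ∧
          ∃ j : ι, P.RootForm (P.root j) (P.root j) = 3 * P.RootForm (P.root i₀) (P.root i₀)) := by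
  have hm := len_pos (P := P) i₀
  constructor
  · intro i
    obtain ⟨w, -, hwo⟩ := exists_weyl_not_orth (chain_of_irr hirr i₀ i)
    have hlen := len_smul w i₀
    have hwo' : ¬ P.IsOrthogonal i (w • i₀) := fun ho => hwo ho.symm
    have := len_ratio_aux hwo'
    rw [hlen] at this
    have := hmin i
    have := len_pos (P := P) i
    omega
  · rintro ⟨⟨i, hi⟩, ⟨j, hj⟩⟩
    obtain ⟨w, -, hwo⟩ := exists_weyl_not_orth (chain_of_irr hirr i j)
    have hlen := len_smul w i
    have hwo' : ¬ P.IsOrthogonal j (w • i) := fun ho => hwo ho.symm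
    have := len_ratio_aux hwo'
    rw [hlen, hi, hj] at this
    omega

end ratios

end Groth.Agent.LD.RD
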