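import Mathlib

namespace Groth.Agent.LD.SLC

universe u

variable {R : Type u} [CommRing R]

/-- contraction of the extension of `K` to the localization at `m` -/
noncomputable def J (K : Ideal R) (m : Ideal R) [m.IsPrime] : Ideal R :=
  (K.map (algebraMap R (Localization.AtPrime m))).comap (algebraMap R (Localization.AtPrime m))

theorem mem_J (K m : Ideal R) [m.IsPrime] (r : R) : r ∈ J K m ↔ ∃ s, s ∉ m ∧ s * r ∈ K := by
  unfold J
  rw [Ideal.mem_comap, IsLocalization.algebraMap_mem_map_algebraMap_iff m.primeCompl]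
  constructor
  · rintro ⟨s, hs, h⟩; exact ⟨s, hs, h⟩
  · rintro ⟨s, hs, h⟩; exact ⟨s, hs, h⟩

theorem K_le_J (K m : Ideal R) [hm : m.IsPrime] : K ≤ J K m := fun r hr =>
  (mem_J K m r).2 ⟨1, (Ideal.ne_top_iff_one m).1 hm.ne_top, by simpa using hr⟩

theorem exists_mul_pow_mem (K : Ideal R) (hK : ∀ p : Ideal R, p.IsPrime → K ≤ p → p.IsMaximal)
    (P : Ideal R) [hP : P.IsPrime] (t : R) (ht : t ∈ P) :
    ∃ u, u ∉ P ∧ ∃ N : ℕ, u * t ^ N ∈ K := by
  by_contra hcon
  push Not at hcon
  let S : Submonoid R := P.primeCompl ⊔ Submonoid.powers t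
  have hdisj : Disjoint (K : Set R) S := by
    rw [Set.disjoint_left]
    intro x hxK hxS
    obtain ⟨u, hu, v, hv, rfl⟩ := Submonoid.mem_sup.1 hxS
    obtain ⟨N, rfl⟩ := hv
    exact hcon u hu N hxK
  obtain ⟨Q, hQ, hKQ, hQS⟩ := Ideal.exists_le_prime_disjoint K S hdisj
  have hQmax := hK Q hQ hKQ
  have hQP : Q ≤ P := by
    intro x hx
    by_contra hxP
    exact Set.disjoint_left.1 hQS hx (Submonoid.mem_sup_left hxP)
  have hQeq : Q = P := hQmax.eq_of_le hP.ne_top hQP
  have htQ : t ∈ Q := hQeq ▸ ht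
  exact Set.disjoint_left.1 hQS htQ (Submonoid.mem_sup_right (Submonoid.mem_powers t))

theorem eq_of_J_le (K : Ideal R) (hK : ∀ p : Ideal R, p.IsPrime → K ≤ p → p.IsMaximal)
    (m : Ideal R) [hm : m.IsMaximal] (P : Ideal R) [hP : P.IsPrime] (hJP : J K m ≤ P) : P = m := by
  have hKP : K ≤ P := (K_le_J K m).trans hJP
  have hPmax := hK P hP hKP
  by_contra hne
  have hnle : ¬ P ≤ m := fun h => hne (hPmax.eq_of_le hm.ne_top h)
  obtain ⟨t, htP, htm⟩ := Set.not_subset.1 hnle
  obtain ⟨u, hu, N, huN⟩ := exists_mul_pow_mem K hK P t htP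
  have huJ : u ∈ J K m := (mem_J K m u).2
    ⟨t ^ N, fun h => htm (hm.isPrime.mem_of_pow_mem _ h), by rwa [mul_comm]⟩
  exact hu (hJP huJ)

theorem coprime_J (K : Ideal R) (hK : ∀ p : Ideal R, p.IsPrime → K ≤ p → p.IsMaximal)
    (m m' : Ideal R) [hm : m.IsMaximal] [hm' : m'.IsMaximal] (hne : m ≠ m') :
    IsCoprime (J K m) (J K m') := by
  rw [Ideal.isCoprime_iff_sup_eq]
  by_contra h
  obtain ⟨M, hM, hle⟩ := Ideal.exists_le_maximal _ h
  have := hM.isPrime
  have h1 := eq_of_J_le K hK m M (le_sup_left.trans hle)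
  have h2 := eq_of_J_le K hK m' M (le_sup_right.trans hle)
  exact hne (h1.symm.trans h2)

theorem mem_of_forall (K : Ideal R) (r : R)
    (h : ∀ m : Ideal R, m.IsMaximal → K ≤ m → ∃ s, s ∉ m ∧ s * r ∈ K) : r ∈ K := by
  by_contra hr
  have hC : Submodule.colon K ({r} : Set R) ≠ ⊤ := by
    intro htop
    have : (1 : R) ∈ Submodule.colon K ({r} : Set R) := htop ▸ Submodule.mem_top
    rw [Submodule.mem_colon_singleton, one_smul] at this
    exact hr this
  obtain ⟨M, hM, hle⟩ := Ideal.exists_le_maximal _ hC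
  have hKM : K ≤ M := fun a ha => hle (Submodule.mem_colon_singleton.2 (K.mul_mem_right r ha))
  obtain ⟨s, hs, hsr⟩ := h M hM hKM
  exact hs (hle (Submodule.mem_colon_singleton.2 hsr))

theorem local_surj (K : Ideal R) (hK : ∀ p : Ideal R, p.IsPrime → K ≤ p → p.IsMaximal)
    (m : Ideal R) [hm : m.IsMaximal] (z : Localization.AtPrime m) :
    ∃ r : R, algebraMap R (Localization.AtPrime m) r - z ∈ K.map (algebraMap R (Localization.AtPrime m)) := by
  obtain ⟨x, s, rfl⟩ := IsLocalization.exists_mk'_eq m.primeCompl z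
  have hsup : J K m ⊔ Ideal.span {(s : R)} = ⊤ := by
    by_contra h
    obtain ⟨M, hM, hle⟩ := Ideal.exists_le_maximal _ h
    have := hM.isPrime
    have h1 := eq_of_J_le K hK m M (le_sup_left.trans hle)
    have : (s : R) ∈ M := hle (Ideal.mem_sup_right (Ideal.subset_span rfl))
    exact s.2 (h1 ▸ this)
  have h1 : (1 : R) ∈ J K m ⊔ Ideal.span {(s : R)} := hsup ▸ Submodule.mem_top
  obtain ⟨j, hj, b, hb, hjb⟩ := Submodule.mem_sup.1 h1
  obtain ⟨a, rfl⟩ := Ideal.mem_span_singleton'.1 hb
  refine ⟨x * a, ?_⟩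
  rw [← Ideal.unit_mul_mem_iff_mem _ (IsLocalization.map_units (Localization.AtPrime m) s)]
  have hcalc : algebraMap R (Localization.AtPrime m) (s : R) *
      (algebraMap R (Localization.AtPrime m) (x * a) - IsLocalization.mk' (Localization.AtPrime m) x s)
      = - (algebraMap R (Localization.AtPrime m) x * algebraMap R (Localization.AtPrime m) j) := by
    rw [mul_sub, IsLocalization.mk'_spec', ← map_mul, ← map_mul, ← map_sub, ← map_neg]
    congr 1
    linear_combination x * hjb
  rw [hcalc]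
  exact neg_mem (Ideal.mul_mem_left _ _ hj)

theorem joint_surj {ι : Type*} [Finite ι] (K : Ideal R)
    (hK : ∀ p : Ideal R, p.IsPrime → K ≤ p → p.IsMaximal)
    (m : ι → Ideal R) [hm : ∀ i, (m i).IsMaximal] (hinj : Function.Injective m)
    (z : ∀ i, Localization.AtPrime (m i)) :
    ∃ r : R, ∀ i, algebraMap R (Localization.AtPrime (m i)) r - z i ∈
      K.map (algebraMap R (Localization.AtPrime (m i))) := by
  choose r0 hr0 using fun i => local_surj K hK (m i) (z i)
  have hcop : Pairwise (Function.onFun IsCoprime (fun i => J K (m i))) := by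
    intro i i' hii'
    exact coprime_J K hK (m i) (m i') (fun h => hii' (hinj h))
  obtain ⟨r, hr⟩ := Ideal.pi_quotient_surjective hcop (fun i => Ideal.Quotient.mk _ (r0 i))
  refine ⟨r, fun i => ?_⟩
  have h1 : r - r0 i ∈ J K (m i) := Ideal.Quotient.eq.1 (hr i)
  have h2 : algebraMap R (Localization.AtPrime (m i)) (r - r0 i) ∈
      K.map (algebraMap R (Localization.AtPrime (m i))) := h1
  have h3 := Ideal.add_mem _ h2 (hr0 i)
  convert h3 using 1
  rw [map_sub]; ring


theorem main (R : Type u) [CommRing R] (hR : Finite (MaximalSpectrum R)) (I : Ideal R)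
    (hI : ∀ (p : Ideal R), p.IsPrime → I ≤ p → p.IsMaximal) :
    Function.Bijective (LinearMap.pi (fun m : {m : MaximalSpectrum R // I ≤ m.asIdeal} =>
      AdicCompletion.map I (Algebra.linearMap R (Localization.AtPrime m.1.asIdeal)))) := by
  have hfin : Finite {m : MaximalSpectrum R // I ≤ m.asIdeal} := Subtype.finite
  have hK : ∀ n : ℕ, ∀ p : Ideal R, p.IsPrime → I ^ n ≤ p → p.IsMaximal :=
    fun n p hp h => hI p hp (hp.le_of_pow_le h)
  have hmemR : ∀ (n : ℕ) (r : R), r ∈ (I ^ n • ⊤ : Submodule R R) ↔ r ∈ I ^ n := by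
    intro n r
    simp
  have hmemL : ∀ (n : ℕ) (m : {m : MaximalSpectrum R // I ≤ m.asIdeal})
      (z : Localization.AtPrime m.1.asIdeal),
      z ∈ (I ^ n • ⊤ : Submodule R (Localization.AtPrime m.1.asIdeal)) ↔
        z ∈ (I ^ n).map (algebraMap R (Localization.AtPrime m.1.asIdeal)) := by
    intro n m z
    rw [Ideal.smul_top_eq_map, Submodule.restrictScalars_mem]
  -- levelwise injectivity
  have hA : ∀ (n : ℕ) (r : R),
      (∀ m : {m : MaximalSpectrum R // I ≤ m.asIdeal},
        Algebra.linearMap R (Localization.AtPrime m.1.asIdeal) r ∈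
          (I ^ n • ⊤ : Submodule R (Localization.AtPrime m.1.asIdeal))) → r ∈ I ^ n := by
    intro n r h
    apply mem_of_forall (I ^ n) r
    intro M hM hKM
    have h1 := h ⟨⟨M, hM⟩, hM.isPrime.le_of_pow_le hKM⟩
    rw [hmemL] at h1
    obtain ⟨s, hs, hsr⟩ := (IsLocalization.algebraMap_mem_map_algebraMap_iff M.primeCompl _ _ _).1 h1
    exact ⟨s, hs, hsr⟩
  constructor
  · rw [injective_iff_map_eq_zero]
    intro x hx
    apply AdicCompletion.ext
    intro n
    obtain ⟨r, hr⟩ := Submodule.Quotient.mk_surjective _ (x.val n)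
    rw [AdicCompletion.val_zero_apply, ← hr, Submodule.Quotient.mk_eq_zero, hmemR]
    apply hA
    intro m
    have h1 : AdicCompletion.map I (Algebra.linearMap R (Localization.AtPrime m.1.asIdeal)) x = 0 :=
      congrFun hx m
    have h2 : (AdicCompletion.map I (Algebra.linearMap R (Localization.AtPrime m.1.asIdeal)) x).val n = 0 := by
      rw [h1]; rfl
    rw [AdicCompletion.map_val_apply, ← hr, LinearMap.reduceModIdeal_apply,
      Submodule.Quotient.mk_eq_zero] at h2
    exact h2
  · intro y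
    have hB : ∀ n : ℕ, ∃ r : R, ∀ m : {m : MaximalSpectrum R // I ≤ m.asIdeal},
        (Submodule.Quotient.mk (Algebra.linearMap R (Localization.AtPrime m.1.asIdeal) r) :
          Localization.AtPrime m.1.asIdeal ⧸ (I ^ n • ⊤ : Submodule R (Localization.AtPrime m.1.asIdeal)))
          = (y m).val n := by
      intro n
      choose z hz using fun m : {m : MaximalSpectrum R // I ≤ m.asIdeal} =>
        Submodule.Quotient.mk_surjective _ ((y m).val n)
      have hinj : Function.Injective (fun m : {m : MaximalSpectrum R // I ≤ m.asIdeal} => m.1.asIdeal) := by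
        intro a b hab
        exact Subtype.ext (MaximalSpectrum.ext hab)
      obtain ⟨r, hr⟩ := joint_surj (I ^ n) (hK n)
        (fun m : {m : MaximalSpectrum R // I ≤ m.asIdeal} => m.1.asIdeal)
        (hm := fun m => m.1.isMaximal) hinj z
      refine ⟨r, fun m => ?_⟩
      rw [← hz m, Submodule.Quotient.eq, hmemL]
      exact hr m
    choose r hr using hB
    have hcompat : ∀ {k n : ℕ} (hkn : k ≤ n), r n - r k ∈ I ^ k := by
      intro k n hkn
      apply hA
      intro m
      rw [← Submodule.Quotient.mk_eq_zero, map_sub, Submodule.Quotient.mk_sub, sub_eq_zero, hr k m]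
      have h1 := (y m).2 hkn
      rw [← h1, ← hr n m]
      rfl
    let x : AdicCompletion I R := ⟨fun n => Submodule.Quotient.mk (r n), fun {k n} hkn => by
      change Submodule.Quotient.mk (r n) = Submodule.Quotient.mk (r k)
      rw [Submodule.Quotient.eq, hmemR]
      exact hcompat hkn⟩
    refine ⟨x, ?_⟩
    funext m
    apply AdicCompletion.ext
    intro n
    rw [LinearMap.pi_apply, AdicCompletion.map_val_apply]
    change (Algebra.linearMap R (Localization.AtPrime m.1.asIdeal)).reduceModIdeal (I ^ n)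
      (Submodule.Quotient.mk (r n)) = _
    rw [LinearMap.reduceModIdeal_apply, hr n m]

end Groth.Agent.LD.SLC
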