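import Groth.Prelude.Def_W4stk3formalspacesTaut
import Mathlib

set_option autoImplicit false
set_option linter.unusedSectionVars false
set_option linter.unusedVariables false
universe u v w
open LinTop Topology UniformSpace Filter

namespace Groth.Agent.LD.TT

--MARK1
section basic
variable {A : Type u} [CommRing A] [TopologicalSpace A] [IsTopologicalRing A]

theorem ideal_isOpen_mono {I J : Ideal A} (h : I ≤ J) (hI : IsOpen (I : Set A)) : IsOpen (J : Set A) :=
  Submodule.isOpen_mono h hI

theorem ideal_isClosed_of_isOpen {I : Ideal A} (hI : IsOpen (I : Set A)) : IsClosed (I : Set A) :=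
  AddSubgroup.isClosed_of_isOpen I.toAddSubgroup hI

theorem closure_eq_of_isOpen {I : Ideal A} (hI : IsOpen (I : Set A)) : closure (I : Set A) = I :=
  (ideal_isClosed_of_isOpen hI).closure_eq

theorem isOpen_closure_of_isOpen {I : Ideal A} (hI : IsOpen (I : Set A)) :
    IsOpen (closure (I : Set A)) := by
  rw [closure_eq_of_isOpen hI]; exact hI

/-- closure of an ideal containing an open ideal is open -/
theorem isOpen_closure_of_le {I J : Ideal A} (h : I ≤ J) (hI : IsOpen (I : Set A)) :
    IsOpen (closure (J : Set A)) :=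
  isOpen_closure_of_isOpen (ideal_isOpen_mono h hI)

theorem isOpen_closure_mono {I J : Ideal A} (h : I ≤ J) (hI : IsOpen (closure (I : Set A))) :
    IsOpen (closure (J : Set A)) := by
  have h1 : I.closure ≤ J.closure := fun x hx => closure_mono (show (I : Set A) ⊆ J from h) hx
  exact ideal_isOpen_mono h1 hI

theorem exists_open_ideal_subset [IsLinearTopology A A] {U : Set A} (hU : U ∈ 𝓝 (0 : A)) :
    ∃ K : Ideal A, IsOpen (K : Set A) ∧ (K : Set A) ⊆ U := by
  obtain ⟨K, hK, hKU⟩ := (IsLinearTopology.hasBasis_open_ideal (R := A)).mem_iff.1 hU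
  exact ⟨K, hK, hKU⟩

theorem open_ideal_mem_nhds {K : Ideal A} (hK : IsOpen (K : Set A)) : (K : Set A) ∈ 𝓝 (0 : A) :=
  hK.mem_nhds K.zero_mem

end basic

section hom
variable {A : Type u} [CommRing A] [TopologicalSpace A] [IsTopologicalRing A]
variable {B : Type v} [CommRing B] [TopologicalSpace B] [IsTopologicalRing B]

theorem isOpen_comap {φ : A →+* B} (hφ : Continuous φ) {J : Ideal B} (hJ : IsOpen (J : Set B)) :
    IsOpen ((J.comap φ : Ideal A) : Set A) := hJ.preimage hφ

end hom

theorem S10151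
    (A : Type u) [CommRing A] [TopologicalSpace A] [IsTopologicalRing A] [IsLinearTopology A A]
    (B : Type v) [CommRing B] [TopologicalSpace B] [IsTopologicalRing B] [IsLinearTopology B B]
    (C : Type w) [CommRing C] [TopologicalSpace C] [IsTopologicalRing C] [IsLinearTopology C C]
    (φ : A →+* B) (ψ : B →+* C) (hφ : Continuous φ) (hψ : Continuous ψ)
    (h : LinTop.IsTaut (ψ.comp φ)) : LinTop.IsTaut ψ := by
  refine ⟨hψ, ?_, ?_⟩
  · intro J hJ
    have h1 := h.2.1 (J.comap φ) (isOpen_comap hφ hJ)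
    refine isOpen_closure_mono ?_ h1
    rw [← Ideal.map_map]
    exact Ideal.map_mono Ideal.map_comap_le
  · intro U hU
    obtain ⟨K, hK, hKU⟩ := exists_open_ideal_subset hU
    refine ⟨K.comap ψ, isOpen_comap hψ hK, ?_⟩
    refine (closure_mono (show ((K.comap ψ).map ψ : Set C) ⊆ K from Ideal.map_comap_le)).trans ?_
    rw [closure_eq_of_isOpen hK]
    exact hKU

--MARK2
section nilrad
variable {B : Type v} [CommRing B] [TopologicalSpace B] [IsTopologicalRing B] [IsLinearTopology B B]

theorem isTopologicallyNilpotent_iff_open_ideal (f : B) :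
    IsTopologicallyNilpotent f ↔ ∀ K : Ideal B, IsOpen (K : Set B) → ∀ᶠ n in Filter.atTop, f ^ n ∈ K := by
  unfold IsTopologicallyNilpotent
  rw [(IsLinearTopology.hasBasis_open_ideal (R := B)).tendsto_right_iff]
  rfl

theorem isClosed_topologicalNilradical : IsClosed ((topologicalNilradical B : Ideal B) : Set B) := by
  rw [← closure_subset_iff_isClosed]
  intro f hf
  show f ∈ topologicalNilradical B
  rw [IsTopologicallyNilpotent.mem_topologicalNilradical_iff, isTopologicallyNilpotent_iff_open_ideal]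
  intro K hK
  have hnb : {x : B | x - f ∈ K} ∈ 𝓝 f := by
    have hc : Continuous fun x : B => x - f := by fun_prop
    have : (fun x : B => x - f) ⁻¹' (K : Set B) ∈ 𝓝 f :=
      hc.continuousAt.preimage_mem_nhds (by simpa using open_ideal_mem_nhds hK)
    exact this
  obtain ⟨g, hg1, hg2⟩ := mem_closure_iff_nhds.1 hf _ hnb
  have hg2' : g ∈ topologicalNilradical B := hg2
  rw [IsTopologicallyNilpotent.mem_topologicalNilradical_iff, isTopologicallyNilpotent_iff_open_ideal] at hg2'
  filter_upwards [hg2' K hK] with n hn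
  have hdvd : g - f ∣ g ^ n - f ^ n := sub_dvd_pow_sub_pow g f n
  have h3 : g ^ n - f ^ n ∈ K := K.mem_of_dvd hdvd hg1
  have : f ^ n = g ^ n - (g ^ n - f ^ n) := by ring
  rw [this]
  exact K.sub_mem hn h3

theorem closure_map_le_topologicalNilradical
    {A : Type u} [CommRing A] [TopologicalSpace A]
    (φ : A →+* B) (hφ : Continuous φ) (I : Ideal A) (hI : ∀ f ∈ I, IsTopologicallyNilpotent f) :
    (I.map φ).closure ≤ topologicalNilradical B := by
  have h1 : I.map φ ≤ topologicalNilradical B := by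
    rw [Ideal.map_le_iff_le_comap]
    intro f hf
    rw [Ideal.mem_comap, IsTopologicallyNilpotent.mem_topologicalNilradical_iff]
    exact (hI f hf).map hφ
  intro x hx
  exact (closure_minimal (show ((I.map φ : Ideal B) : Set B) ⊆ topologicalNilradical B from h1)
    isClosed_topologicalNilradical) hx

end nilrad

theorem S10149
    (A : Type u) [CommRing A] [TopologicalSpace A] [IsTopologicalRing A] [IsLinearTopology A A]
    (B : Type v) [CommRing B] [TopologicalSpace B] [IsTopologicalRing B] [IsLinearTopology B B] :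
    IsClosed ((topologicalNilradical B : Ideal B) : Set B) ∧
      ∀ (φ : A →+* B), Continuous φ → ∀ I : Ideal A, (∀ f ∈ I, IsTopologicallyNilpotent f) →
        ∀ g ∈ (I.map φ).closure, IsTopologicallyNilpotent g := by
  refine ⟨isClosed_topologicalNilradical, ?_⟩
  intro φ hφ I hI g hg
  exact IsTopologicallyNilpotent.mem_topologicalNilradical_iff.1 (closure_map_le_topologicalNilradical φ hφ I hI hg)

theorem S10153
    (A : Type u) [CommRing A] [TopologicalSpace A] [IsTopologicalRing A] [IsLinearTopology A A]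
    (B : Type v) [CommRing B] [TopologicalSpace B] [IsTopologicalRing B] [IsLinearTopology B B]
    (φ : A →+* B) (hφ : LinTop.IsTaut φ) (hA : LinTop.IsWeaklyPreadmissible A) :
    LinTop.IsWeaklyPreadmissible B := by
  obtain ⟨_, I, hI1, hI2⟩ := hA
  refine ⟨inferInstance, (I.map φ).closure, hφ.2.1 I hI1, ?_⟩
  intro g hg
  exact IsTopologicallyNilpotent.mem_topologicalNilradical_iff.1 (closure_map_le_topologicalNilradical φ hφ.1 I hI2 hg)

--MARK3
section closurepow
variable {A : Type u} [CommRing A] [TopologicalSpace A] [IsTopologicalRing A]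

theorem closure_mul_le (I J : Ideal A) : I.closure * J.closure ≤ (I * J).closure := by
  rw [Ideal.mul_le]
  intro a ha b hb
  exact map_mem_closure₂ continuous_mul ha hb (fun x hx y hy => Ideal.mul_mem_mul hx hy)

theorem closure_mono' {I J : Ideal A} (h : I ≤ J) : I.closure ≤ J.closure :=
  fun _ hx => closure_mono (show (I : Set A) ⊆ J from h) hx

theorem closure_pow_le (I : Ideal A) (n : ℕ) : I.closure ^ n ≤ (I ^ n).closure := by
  induction n with
  | zero =>
    intro x _
    rw [pow_zero, Ideal.one_eq_top]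
    exact subset_closure (Set.mem_univ x)
  | succ n ih =>
    rw [pow_succ, pow_succ]
    exact (Ideal.mul_mono_left ih).trans (closure_mul_le _ _)

end closurepow

theorem S10152
    (A : Type u) [CommRing A] [TopologicalSpace A] [IsTopologicalRing A] [IsLinearTopology A A]
    (B : Type v) [CommRing B] [TopologicalSpace B] [IsTopologicalRing B] [IsLinearTopology B B]
    (φ : A →+* B) (hφ : LinTop.IsTaut φ) (hA : (nhds (0 : A)).IsCountablyGenerated) :
    (nhds (0 : B)).IsCountablyGenerated := by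
  obtain ⟨s, hs⟩ := (𝓝 (0 : A)).exists_antitone_basis
  have : ∀ n, ∃ K : Ideal A, IsOpen (K : Set A) ∧ (K : Set A) ⊆ s n :=
    fun n => exists_open_ideal_subset (hs.mem n)
  choose I hI1 hI2 using this
  have hb : (𝓝 (0:B)).HasBasis (fun _ : ℕ => True)
      (fun n => closure (((I n).map φ : Ideal B) : Set B)) := by
    constructor
    intro U
    constructor
    · intro hU
      obtain ⟨I', hI'1, hI'2⟩ := hφ.2.2 U hU
      obtain ⟨n, _, hn⟩ := hs.toHasBasis.mem_iff.1 (open_ideal_mem_nhds hI'1)
      refine ⟨n, trivial, (closure_mono ?_).trans hI'2⟩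
      exact Ideal.map_mono (show I n ≤ I' from fun x hx => hn (hI2 n hx))
    · rintro ⟨n, _, hn⟩
      exact Filter.mem_of_superset
        ((hφ.2.1 (I n) (hI1 n)).mem_nhds (subset_closure (Ideal.zero_mem _))) hn
  exact hb.isCountablyGenerated

theorem S10154
    (A : Type u) [CommRing A] [TopologicalSpace A] [IsTopologicalRing A] [IsLinearTopology A A]
    (B : Type v) [CommRing B] [TopologicalSpace B] [IsTopologicalRing B] [IsLinearTopology B B]
    (φ : A →+* B) (hφ : LinTop.IsTaut φ) (hA : LinTop.IsPreadmissible A) :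
    LinTop.IsPreadmissible B := by
  obtain ⟨_, I, hI1, hI2⟩ := hA
  refine ⟨inferInstance, (I.map φ).closure, hφ.2.1 I hI1, ?_⟩
  intro U hU
  obtain ⟨I', hI'1, hI'2⟩ := hφ.2.2 U hU
  obtain ⟨n, hn0, hn⟩ := hI2 (I' : Set A) (open_ideal_mem_nhds hI'1)
  refine ⟨n, hn0, ?_⟩
  have h1 : (I.map φ).closure ^ n ≤ ((I.map φ) ^ n).closure := closure_pow_le _ n
  have h2 : (I.map φ) ^ n = (I ^ n).map φ := (Ideal.map_pow φ I n).symm
  have h3 : (I ^ n).map φ ≤ I'.map φ := Ideal.map_mono hn
  intro x hx
  apply hI'2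
  have h4 := h1 hx
  rw [h2] at h4
  exact closure_mono (show (((I ^ n).map φ : Ideal B) : Set B) ⊆ I'.map φ from h3) h4

--MARK4
section cl
variable {A : Type u} [CommRing A] [TopologicalSpace A] [IsTopologicalRing A]
variable {B : Type v} [CommRing B] [TopologicalSpace B] [IsTopologicalRing B]

theorem map_closure_le (φ : A →+* B) (hφ : Continuous φ) (I : Ideal A) :
    (I.closure).map φ ≤ (I.map φ).closure := by
  rw [Ideal.map_le_iff_le_comap]
  intro x hx
  rw [Ideal.mem_comap]
  exact map_mem_closure hφ hx (fun y hy => Ideal.mem_map_of_mem φ hy)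

theorem ideal_closure_closure (I : Ideal A) : I.closure.closure = I.closure := by
  apply SetLike.ext'
  show closure (closure (I : Set A)) = closure (I : Set A)
  exact _root_.closure_closure

theorem closure_map_closure (φ : A →+* B) (hφ : Continuous φ) (I : Ideal A) :
    ((I.closure).map φ).closure = (I.map φ).closure := by
  apply le_antisymm
  · have := closure_mono' (map_closure_le φ hφ I)
    rwa [ideal_closure_closure] at this
  · exact closure_mono' (Ideal.map_mono (fun x hx => subset_closure hx))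

end cl

theorem S10165
    (A : Type u) [CommRing A] [TopologicalSpace A] [IsTopologicalRing A] [IsLinearTopology A A]
    (B : Type v) [CommRing B] [TopologicalSpace B] [IsTopologicalRing B] [IsLinearTopology B B]
    (φ : A →+* B) (hφ : LinTop.IsTaut φ) (hA : LinTop.IsWeaklyPreadic A) :
    LinTop.IsWeaklyPreadic B := by
  obtain ⟨_, I, hI1, hI2⟩ := hA
  refine ⟨inferInstance, I.map φ, ?_, ?_⟩
  · intro n
    have h1 := hφ.2.1 ((I ^ n).closure) (hI1 n)
    have h2 := closure_map_closure φ hφ.1 (I ^ n)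
    rw [← Ideal.map_pow]
    have h3 : closure ((((I ^ n).closure).map φ : Ideal B) : Set B) =
        closure (((I ^ n).map φ : Ideal B) : Set B) := congrArg (fun J : Ideal B => (J : Set B)) h2
    rw [← h3]
    exact h1
  · intro U hU
    obtain ⟨I', hI'1, hI'2⟩ := hφ.2.2 U hU
    obtain ⟨n, hn⟩ := hI2 (I' : Set A) (open_ideal_mem_nhds hI'1)
    refine ⟨n, ?_⟩
    rw [← Ideal.map_pow]
    refine (closure_mono ?_).trans hI'2
    exact Ideal.map_mono (show I ^ n ≤ I' from fun x hx => hn (subset_closure hx))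

--MARK5
section adic
variable {A : Type u} [CommRing A] [TopologicalSpace A] [IsTopologicalRing A]

theorem IsAdic.isOpen_pow {J : Ideal A} (h : IsAdic J) (n : ℕ) : IsOpen ((J ^ n : Ideal A) : Set A) :=
  (isAdic_iff.1 h).1 n

theorem IsAdic.isOpen {J : Ideal A} (h : IsAdic J) : IsOpen (J : Set A) := by
  have := IsAdic.isOpen_pow h 1
  rwa [pow_one] at this

theorem IsAdic.exists_pow_subset {J : Ideal A} (h : IsAdic J) {U : Set A} (hU : U ∈ 𝓝 (0 : A)) :
    ∃ n : ℕ, 0 < n ∧ ((J ^ n : Ideal A) : Set A) ⊆ U := by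
  obtain ⟨n, hn⟩ := (isAdic_iff.1 h).2 U hU
  refine ⟨n + 1, Nat.succ_pos n, ?_⟩
  exact (show ((J ^ (n + 1) : Ideal A) : Set A) ⊆ (J ^ n : Ideal A) from
    Ideal.pow_le_pow_right (Nat.le_succ n)).trans hn

theorem IsAdic.isIdealOfDefinition {J : Ideal A} (h : IsAdic J) : IsIdealOfDefinition A J :=
  ⟨IsAdic.isOpen h, fun _ hU => IsAdic.exists_pow_subset h hU⟩

/-- in a preadic ring, powers of an open ideal are open -/
theorem isOpen_pow_of_isPreadic (hA : IsPreadic A) {I : Ideal A} (hI : IsOpen (I : Set A)) (n : ℕ) :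
    IsOpen ((I ^ n : Ideal A) : Set A) := by
  obtain ⟨I₀, h₀⟩ := hA
  obtain ⟨k, _, hk⟩ := IsAdic.exists_pow_subset h₀ (open_ideal_mem_nhds hI)
  have h1 : (I₀ ^ k) ^ n ≤ I ^ n := Ideal.pow_right_mono (show I₀ ^ k ≤ I from hk) n
  rw [← pow_mul] at h1
  exact ideal_isOpen_mono h1 (IsAdic.isOpen_pow h₀ _)

end adic

theorem S10157
    (A : Type u) [CommRing A] [TopologicalSpace A] [IsTopologicalRing A] (hA : LinTop.IsPreadic A)
    (B : Type v) [CommRing B] [TopologicalSpace B] [IsTopologicalRing B] (hB : LinTop.IsPreadic B)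
    (φ : A →+* B) (hφ : Continuous φ) (h : LinTop.IsAdicHom φ) : LinTop.IsTaut φ := by
  obtain ⟨I, hI, hIB⟩ := h
  refine ⟨hφ, ?_, ?_⟩
  · intro I' hI'
    obtain ⟨n, _, hn⟩ := hI.2 (I' : Set A) (open_ideal_mem_nhds hI')
    have h1 : (I.map φ) ^ n ≤ I'.map φ := by
      rw [← Ideal.map_pow]
      exact Ideal.map_mono hn
    exact isOpen_closure_of_le h1 (IsAdic.isOpen_pow hIB n)
  · intro U hU
    obtain ⟨n, _, hn⟩ := IsAdic.exists_pow_subset hIB hU
    refine ⟨I ^ n, isOpen_pow_of_isPreadic hA hI.1 n, ?_⟩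
    rw [Ideal.map_pow, closure_eq_of_isOpen (IsAdic.isOpen_pow hIB n)]
    exact hn

theorem S10156
    (A : Type u) [CommRing A] [TopologicalSpace A] [IsTopologicalRing A] (hA : LinTop.IsPreadic A)
    (B : Type v) [CommRing B] [TopologicalSpace B] [IsTopologicalRing B] (hB : LinTop.IsPreadic B)
    (C : Type w) [CommRing C] [TopologicalSpace C] [IsTopologicalRing C] (hC : LinTop.IsPreadic C)
    (φ : A →+* B) (ψ : B →+* C) (hφ : Continuous φ) (hψ : Continuous ψ)
    (h : LinTop.IsAdicHom (ψ.comp φ)) : LinTop.IsAdicHom ψ := by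
  obtain ⟨I, hI, hIC⟩ := h
  obtain ⟨J₀, hJ₀⟩ := hB
  refine ⟨J₀, IsAdic.isIdealOfDefinition hJ₀, ?_⟩
  set IC := I.map (ψ.comp φ) with hICdef
  -- I^n ⊆ φ⁻¹ J₀
  obtain ⟨n, _, hn⟩ := hI.2 ((J₀.comap φ : Ideal A) : Set A)
    (open_ideal_mem_nhds (isOpen_comap hφ (IsAdic.isOpen hJ₀)))
  have h1 : IC ^ n ≤ J₀.map ψ := by
    rw [hICdef, ← Ideal.map_pow, ← Ideal.map_map]
    apply Ideal.map_mono
    rw [Ideal.map_le_iff_le_comap]
    exact hn
  obtain ⟨m, _, hm⟩ := IsAdic.exists_pow_subset hJ₀
    (open_ideal_mem_nhds (isOpen_comap hψ (IsAdic.isOpen hIC)))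
  have h2 : (J₀.map ψ) ^ m ≤ IC := by
    rw [← Ideal.map_pow, Ideal.map_le_iff_le_comap]
    exact hm
  rw [isAdic_iff]
  constructor
  · intro k
    have h3 : (IC ^ n) ^ k ≤ (J₀.map ψ) ^ k := Ideal.pow_right_mono h1 k
    rw [← pow_mul] at h3
    exact ideal_isOpen_mono h3 (IsAdic.isOpen_pow hIC _)
  · intro s hs
    obtain ⟨j, _, hj⟩ := IsAdic.exists_pow_subset hIC hs
    refine ⟨m * j, ?_⟩
    have h4 : ((J₀.map ψ) ^ m) ^ j ≤ IC ^ j := Ideal.pow_right_mono h2 j
    rw [← pow_mul] at h4
    exact (show (((J₀.map ψ) ^ (m * j) : Ideal C) : Set C) ⊆ (IC ^ j : Ideal C) from h4).trans hj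

--MARK6
section weak
variable {A : Type u} [CommRing A] [TopologicalSpace A] [IsTopologicalRing A]

theorem isOpen_inf {I J : Ideal A} (hI : IsOpen (I : Set A)) (hJ : IsOpen (J : Set A)) :
    IsOpen ((I ⊓ J : Ideal A) : Set A) := hI.inter hJ

theorem IsWeakIdealOfDefinition.inf_left {I J : Ideal A} (hI : IsOpen (I : Set A))
    (hJ : IsWeakIdealOfDefinition A J) : IsWeakIdealOfDefinition A (I ⊓ J) :=
  ⟨isOpen_inf hI hJ.1, fun f hf => hJ.2 f hf.2⟩

end weak

theorem S10150
    (A : Type u) [CommRing A] [TopologicalSpace A] [IsTopologicalRing A] [IsLinearTopology A A]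
    (B : Type v) [CommRing B] [TopologicalSpace B] [IsTopologicalRing B] [IsLinearTopology B B]
    (hA : LinTop.IsWeaklyPreadmissible A) (hB : LinTop.IsWeaklyPreadmissible B)
    (φ : A →+* B) (hφ : Continuous φ) :
    LinTop.IsTaut φ ↔
      ((∀ I : Ideal A, LinTop.IsWeakIdealOfDefinition A I →
          LinTop.IsWeakIdealOfDefinition B (I.map φ).closure) ∧
        ∀ U ∈ nhds (0 : B), ∃ I : Ideal A, LinTop.IsWeakIdealOfDefinition A I ∧
          ((I.map φ).closure : Set B) ⊆ U) := by
  obtain ⟨_, Iw, hIw⟩ := hA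
  constructor
  · intro h
    refine ⟨fun I hI => ⟨h.2.1 I hI.1, fun g hg => ?_⟩, fun U hU => ?_⟩
    · exact IsTopologicallyNilpotent.mem_topologicalNilradical_iff.1
        (closure_map_le_topologicalNilradical φ hφ I hI.2 hg)
    · obtain ⟨I', hI'1, hI'2⟩ := h.2.2 U hU
      refine ⟨I' ⊓ Iw, IsWeakIdealOfDefinition.inf_left hI'1 hIw, ?_⟩
      exact fun x hx => hI'2 (closure_mono' (Ideal.map_mono inf_le_left) hx)
  · rintro ⟨h1, h2⟩
    refine ⟨hφ, fun I' hI' => ?_, fun U hU => ?_⟩
    · have h3 := (h1 _ (IsWeakIdealOfDefinition.inf_left hI' hIw)).1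
      exact isOpen_closure_mono (Ideal.map_mono inf_le_left) h3
    · obtain ⟨I, hI, hIU⟩ := h2 U hU
      exact ⟨I, hI.1, hIU⟩

theorem S10160
    (A : Type u) [CommRing A] [UniformSpace A] [IsUniformAddGroup A] [IsTopologicalRing A]
    (hA : LinTop.IsWeaklyAdic A) :
    LinTop.IsAdmissible A ∧ (nhds (0 : A)).IsCountablyGenerated := by
  obtain ⟨⟨hlin, I, hI1, hI2⟩, hT2, hC⟩ := hA
  have hmono : ∀ n, closure ((I ^ (n + 1) : Ideal A) : Set A) ⊆ closure ((I ^ n : Ideal A) : Set A) :=
    fun n => closure_mono (show ((I ^ (n + 1) : Ideal A) : Set A) ⊆ (I ^ n : Ideal A) from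
      Ideal.pow_le_pow_right (Nat.le_succ n))
  refine ⟨⟨⟨hlin, I.closure, ?_, ?_⟩, hT2, hC⟩, ?_⟩
  · have := hI1 1
    rwa [pow_one] at this
  · intro U hU
    obtain ⟨n, hn⟩ := hI2 U hU
    refine ⟨n + 1, Nat.succ_pos n, ?_⟩
    intro x hx
    exact hn (hmono n (closure_pow_le I (n + 1) hx))
  · have hb : (𝓝 (0:A)).HasBasis (fun _ : ℕ => True)
        (fun n => closure ((I ^ n : Ideal A) : Set A)) := by
      constructor
      intro U
      constructor
      · intro hU
        obtain ⟨n, hn⟩ := hI2 U hU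
        exact ⟨n, trivial, hn⟩
      · rintro ⟨n, _, hn⟩
        exact Filter.mem_of_superset ((hI1 n).mem_nhds (subset_closure (Ideal.zero_mem _))) hn
    exact hb.isCountablyGenerated

--MARK7
section fflat
variable {A : Type u} [CommRing A] [TopologicalSpace A] [IsTopologicalRing A]
variable {B : Type v} [CommRing B] [TopologicalSpace B] [IsTopologicalRing B]

/-- Key lemma: in the taut faithfully flat situation, `φ⁻¹(closure(IB)) = I` for open ideals. -/
theorem comap_closure_map_eq {φ : A →+* B} (hφ : IsTautFFlat φ) {I : Ideal A}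
    (hI : IsOpen (I : Set A)) : (I.map φ).closure.comap φ = I := by
  apply le_antisymm
  · intro x hx
    rw [Ideal.mem_comap] at hx
    have hinj := (hφ.2 I hI).injective
    have h1 : descentMap φ I (Ideal.Quotient.mk I x) = 0 := by
      show Ideal.Quotient.mk _ (φ x) = 0
      rw [Ideal.Quotient.eq_zero_iff_mem]
      exact hx
    have h2 := hinj (h1.trans (map_zero _).symm)
    rwa [Ideal.Quotient.eq_zero_iff_mem] at h2
  · intro x hx
    rw [Ideal.mem_comap]
    exact subset_closure (Ideal.mem_map_of_mem φ hx)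

end fflat

theorem S10166
    (A : Type u) [CommRing A] [TopologicalSpace A] [IsTopologicalRing A] [IsLinearTopology A A]
    (B : Type v) [CommRing B] [TopologicalSpace B] [IsTopologicalRing B] [IsLinearTopology B B]
    (φ : A →+* B) (hφ : LinTop.IsTautFFlat φ) (hB : (nhds (0 : B)).IsCountablyGenerated) :
    (nhds (0 : A)).IsCountablyGenerated := by
  obtain ⟨s, hs⟩ := (𝓝 (0 : B)).exists_antitone_basis
  have : ∀ n, ∃ I : Ideal A, IsOpen (I : Set A) ∧ closure (((I.map φ : Ideal B)) : Set B) ⊆ s n :=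
    fun n => hφ.1.2.2 (s n) (hs.mem n)
  choose I hI1 hI2 using this
  have hb : (𝓝 (0:A)).HasBasis (fun _ : ℕ => True) (fun n => ((I n : Ideal A) : Set A)) := by
    constructor
    intro U
    constructor
    · intro hU
      obtain ⟨I', hI'1, hI'2⟩ := exists_open_ideal_subset hU
      have hop := hφ.1.2.1 I' hI'1
      obtain ⟨n, _, hn⟩ := hs.toHasBasis.mem_iff.1 (hop.mem_nhds (subset_closure (Ideal.zero_mem _)))
      refine ⟨n, trivial, fun x hx => hI'2 ?_⟩
      have h1 : x ∈ (I'.map φ).closure.comap φ := by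
        rw [Ideal.mem_comap]
        exact hn (hI2 n (subset_closure (Ideal.mem_map_of_mem φ hx)))
      rwa [comap_closure_map_eq hφ hI'1] at h1
    · rintro ⟨n, _, hn⟩
      exact Filter.mem_of_superset (open_ideal_mem_nhds (hI1 n)) hn
  exact hb.isCountablyGenerated

theorem S10167
    (A : Type u) [CommRing A] [TopologicalSpace A] [IsTopologicalRing A] [IsLinearTopology A A]
    (B : Type v) [CommRing B] [TopologicalSpace B] [IsTopologicalRing B] [IsLinearTopology B B]
    (φ : A →+* B) (hφ : LinTop.IsTautFFlat φ) (hB : LinTop.IsWeaklyPreadmissible B) :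
    LinTop.IsWeaklyPreadmissible A := by
  obtain ⟨_, J, hJ1, hJ2⟩ := hB
  obtain ⟨I, hI1, hI2⟩ := hφ.1.2.2 (J : Set B) (open_ideal_mem_nhds hJ1)
  refine ⟨inferInstance, I, hI1, ?_⟩
  intro f hf
  rw [isTopologicallyNilpotent_iff_open_ideal]
  intro I' hI'
  have hfJ : IsTopologicallyNilpotent (φ f) := hJ2 _ (hI2 (subset_closure (Ideal.mem_map_of_mem φ hf)))
  rw [isTopologicallyNilpotent_iff_open_ideal] at hfJ
  have hop : IsOpen (((I'.map φ).closure : Ideal B) : Set B) := hφ.1.2.1 I' hI'
  filter_upwards [hfJ _ hop] with n hn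
  have h1 : f ^ n ∈ (I'.map φ).closure.comap φ := by
    rw [Ideal.mem_comap, map_pow]
    exact hn
  rwa [comap_closure_map_eq hφ hI'] at h1

theorem S10168
    (A : Type u) [CommRing A] [TopologicalSpace A] [IsTopologicalRing A] [IsLinearTopology A A]
    (B : Type v) [CommRing B] [TopologicalSpace B] [IsTopologicalRing B] [IsLinearTopology B B]
    (φ : A →+* B) (hφ : LinTop.IsTautFFlat φ) (hB : LinTop.IsPreadmissible B) :
    LinTop.IsPreadmissible A := by
  obtain ⟨_, J, hJ1, hJ2⟩ := hB
  obtain ⟨I, hI1, hI2⟩ := hφ.1.2.2 (J : Set B) (open_ideal_mem_nhds hJ1)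
  refine ⟨inferInstance, I, hI1, ?_⟩
  intro U hU
  obtain ⟨I', hI'1, hI'2⟩ := exists_open_ideal_subset hU
  have hop : IsOpen (((I'.map φ).closure : Ideal B) : Set B) := hφ.1.2.1 I' hI'1
  obtain ⟨n, hn0, hn⟩ := hJ2 _ (open_ideal_mem_nhds hop)
  refine ⟨n, hn0, fun x hx => hI'2 ?_⟩
  have hIJ : I.map φ ≤ J := fun y hy => hI2 (subset_closure hy)
  have h1 : x ∈ (I'.map φ).closure.comap φ := by
    rw [Ideal.mem_comap]
    apply hn
    have h2 : φ x ∈ (I ^ n).map φ := Ideal.mem_map_of_mem φ hx
    rw [Ideal.map_pow] at h2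
    exact Ideal.pow_right_mono hIJ n h2
  rwa [comap_closure_map_eq hφ hI'1] at h1

--MARK8
section clos
variable {A : Type u} [CommRing A] [TopologicalSpace A] [IsTopologicalRing A] [IsLinearTopology A A]

theorem mem_closure_of_forall_sup {K : Ideal A} {x : A}
    (h : ∀ I' : Ideal A, IsOpen (I' : Set A) → x ∈ K ⊔ I') : x ∈ closure (K : Set A) := by
  rw [mem_closure_iff_nhds]
  intro t ht
  -- t ∈ 𝓝 x; translate
  have hc : Continuous fun y : A => x - y := by fun_prop
  have h0 : (fun y : A => x - y) ⁻¹' t ∈ 𝓝 (0 : A) := by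
    apply hc.continuousAt.preimage_mem_nhds
    simpa using ht
  obtain ⟨I', hI'1, hI'2⟩ := exists_open_ideal_subset h0
  obtain ⟨k, hk, i, hi, hki⟩ := Submodule.mem_sup.1 (h I' hI'1)
  refine ⟨k, ?_, hk⟩
  have := hI'2 hi
  simp only [Set.mem_preimage] at this
  have e : x - i = k := by rw [← hki]; ring
  rwa [e] at this

theorem closure_closure_pow_eq (I : Ideal A) (n : ℕ) :
    (I.closure ^ n).closure = (I ^ n).closure := by
  apply le_antisymm
  · have := closure_mono' (closure_pow_le I n)
    rwa [ideal_closure_closure] at this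
  · exact closure_mono' (Ideal.pow_right_mono (fun x hx => subset_closure hx) n)

end clos

theorem S10169
    (A : Type u) [CommRing A] [TopologicalSpace A] [IsTopologicalRing A] [IsLinearTopology A A]
    (B : Type v) [CommRing B] [TopologicalSpace B] [IsTopologicalRing B] [IsLinearTopology B B]
    (φ : A →+* B) (hφ : LinTop.IsTautFFlat φ) (hB : LinTop.IsWeaklyPreadic B) :
    LinTop.IsWeaklyPreadic A := by
  obtain ⟨_, J, hJ1, hJ2⟩ := hB
  have hJ1' : ∀ n, IsOpen (((J ^ n).closure : Ideal B) : Set B) := hJ1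
  -- choose I with closure(IB) ⊆ closure(J)
  obtain ⟨I, hI1, hI2⟩ := hφ.1.2.2 _ ((hJ1 1).mem_nhds (subset_closure (Ideal.zero_mem _)))
  rw [pow_one] at hI2
  have hI2' : (I.map φ).closure ≤ J.closure := hI2
  -- closure(I^n B) is open in B
  have hopenB : ∀ n, IsOpen ((((I ^ n).map φ).closure : Ideal B) : Set B) := by
    intro n
    have hop1 : IsOpen (((I.map φ).closure : Ideal B) : Set B) := hφ.1.2.1 I hI1
    obtain ⟨m, hm⟩ := hJ2 _ (open_ideal_mem_nhds hop1)
    have hm' : (J ^ m).closure ≤ (I.map φ).closure := hm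
    -- (J^(m*n)).closure ≤ ((I.map φ)^n).closure
    have h1 : ((J ^ m) ^ n).closure ≤ ((I.map φ) ^ n).closure := by
      rw [← closure_closure_pow_eq (J ^ m) n, ← closure_closure_pow_eq (I.map φ) n]
      exact closure_mono' (Ideal.pow_right_mono hm' n)
    rw [← pow_mul] at h1
    rw [Ideal.map_pow]
    exact ideal_isOpen_mono h1 (hJ1' (m * n))
  refine ⟨inferInstance, I, ?_, ?_⟩
  · intro n
    obtain ⟨I₁, hI₁1, hI₁2⟩ := hφ.1.2.2 _ (open_ideal_mem_nhds (hopenB n))
    have hsub : I₁ ≤ (I ^ n).closure := by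
      intro x hx
      apply mem_closure_of_forall_sup
      intro I' hI'
      have hopen' : IsOpen ((I ^ n ⊔ I' : Ideal A) : Set A) := ideal_isOpen_mono le_sup_right hI'
      rw [← comap_closure_map_eq hφ hopen', Ideal.mem_comap]
      have h2 : ((I ^ n).map φ).closure ≤ ((I ^ n ⊔ I').map φ).closure :=
        closure_mono' (Ideal.map_mono le_sup_left)
      exact h2 (hI₁2 (subset_closure (Ideal.mem_map_of_mem φ hx)))
    exact ideal_isOpen_mono hsub hI₁1
  · intro U hU
    obtain ⟨I', hI'1, hI'2⟩ := exists_open_ideal_subset hU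
    have hop : IsOpen (((I'.map φ).closure : Ideal B) : Set B) := hφ.1.2.1 I' hI'1
    obtain ⟨n, hn⟩ := hJ2 _ (open_ideal_mem_nhds hop)
    have hn' : (J ^ n).closure ≤ (I'.map φ).closure := hn
    refine ⟨n, ?_⟩
    have h3 : I ^ n ≤ I' := by
      intro x hx
      rw [← comap_closure_map_eq hφ hI'1, Ideal.mem_comap]
      apply hn'
      have h4 : φ x ∈ (I.map φ) ^ n := by
        rw [← Ideal.map_pow]; exact Ideal.mem_map_of_mem φ hx
      have h5 : (I.map φ) ^ n ≤ (J ^ n).closure := by
        refine (Ideal.pow_right_mono (show I.map φ ≤ J.closure from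
          fun y hy => hI2' (subset_closure hy)) n).trans (closure_pow_le J n)
      exact h5 h4
    refine (closure_mono (show ((I ^ n : Ideal A) : Set A) ⊆ I' from h3)).trans ?_
    rw [closure_eq_of_isOpen hI'1]
    exact hI'2

--MARK9
section compl
variable {A : Type u} [CommRing A] [UniformSpace A] [IsUniformAddGroup A] [IsTopologicalRing A]

local notation "ι" => (UniformSpace.Completion.coeRingHom : A →+* UniformSpace.Completion A)

/-- closure of the image of an ideal in the completion, as an ideal. -/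
noncomputable def clIm (I : Ideal A) : Ideal (Completion A) where
  carrier := closure (ι '' (I : Set A))
  add_mem' := by
    intro a b ha hb
    exact map_mem_closure₂ continuous_add ha hb (by
      rintro _ ⟨x, hx, rfl⟩ _ ⟨y, hy, rfl⟩
      exact ⟨x + y, I.add_mem hx hy, map_add _ _ _⟩)
  zero_mem' := subset_closure ⟨0, I.zero_mem, map_zero _⟩
  smul_mem' := by
    intro c x hx
    -- first for c in the range of ι
    have h1 : ∀ a : A, ι a * x ∈ closure (ι '' (I : Set A)) := by
      intro a
      refine map_mem_closure (continuous_const_mul (ι a)) hx ?_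
      rintro _ ⟨y, hy, rfl⟩
      exact ⟨a * y, I.mul_mem_left a hy, map_mul _ _ _⟩
    have hd : DenseRange (ι : A → Completion A) := Completion.denseRange_coe
    have hc : Continuous fun c : Completion A => c * x := continuous_mul_const x
    have h2 : c ∈ closure (Set.range (ι : A → Completion A)) := hd c
    have h3 := map_mem_closure hc h2 (t := closure (ι '' (I : Set A))) (by
      rintro _ ⟨a, rfl⟩
      exact h1 a)
    rw [closure_closure] at h3
    exact h3

theorem clIm_coe (I : Ideal A) : ((clIm I : Ideal (Completion A)) : Set (Completion A)) =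
    closure (ι '' (I : Set A)) := rfl

theorem map_closure_eq_clIm (I : Ideal A) : (I.map ι).closure = clIm I := by
  apply le_antisymm
  · have h1 : I.map ι ≤ clIm I := by
      rw [Ideal.map_le_iff_le_comap]
      intro x hx
      exact subset_closure ⟨x, hx, rfl⟩
    have h2 : IsClosed ((clIm I : Ideal (Completion A)) : Set (Completion A)) := isClosed_closure
    intro x hx
    exact closure_minimal (show ((I.map ι : Ideal _) : Set (Completion A)) ⊆ clIm I from h1) h2 hx
  · intro x hx
    refine closure_mono ?_ hx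
    rintro _ ⟨y, hy, rfl⟩
    exact Ideal.mem_map_of_mem _ hy

theorem clIm_mem_nhds {I : Ideal A} (hI : IsOpen (I : Set A)) :
    ((clIm I : Ideal (Completion A)) : Set (Completion A)) ∈ 𝓝 (0 : Completion A) := by
  have h := (Completion.isDenseInducing_coe (α := A)).closure_image_mem_nhds (open_ideal_mem_nhds hI)
  rw [Completion.coe_zero] at h
  exact h

theorem isOpen_clIm {I : Ideal A} (hI : IsOpen (I : Set A)) :
    IsOpen ((clIm I : Ideal (Completion A)) : Set (Completion A)) :=
  AddSubgroup.isOpen_of_mem_nhds (clIm I).toAddSubgroup (clIm_mem_nhds hI)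

theorem exists_clIm_subset [IsLinearTopology A A] {U : Set (Completion A)}
    (hU : U ∈ 𝓝 (0 : Completion A)) :
    ∃ I : Ideal A, IsOpen (I : Set A) ∧ ((clIm I : Ideal (Completion A)) : Set (Completion A)) ⊆ U := by
  obtain ⟨V, hV, hVc, hVU⟩ := exists_mem_nhds_isClosed_subset hU
  have h0 : (ι : A → Completion A) ⁻¹' V ∈ 𝓝 (0 : A) := by
    apply (Completion.continuous_coe A).continuousAt.preimage_mem_nhds
    rw [Completion.coe_zero]
    exact hV
  obtain ⟨I, hI1, hI2⟩ := exists_open_ideal_subset h0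
  refine ⟨I, hI1, ?_⟩
  refine (closure_minimal ?_ hVc).trans hVU
  rintro _ ⟨y, hy, rfl⟩
  exact hI2 hy

end compl

theorem S10162
    (A : Type u) [CommRing A] [UniformSpace A] [IsUniformAddGroup A] [IsTopologicalRing A] [IsLinearTopology A A] :
    LinTop.IsTaut (UniformSpace.Completion.coeRingHom : A →+* UniformSpace.Completion A) := by
  refine ⟨Completion.continuous_coe A, ?_, ?_⟩
  · intro I hI
    have := isOpen_clIm hI
    rw [← map_closure_eq_clIm] at this
    exact this
  · intro U hU
    obtain ⟨I, hI1, hI2⟩ := exists_clIm_subset hU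
    refine ⟨I, hI1, ?_⟩
    rw [← map_closure_eq_clIm] at hI2
    exact hI2

--MARK10
theorem isLinearTopology_completion
    (A : Type u) [CommRing A] [UniformSpace A] [IsUniformAddGroup A] [IsTopologicalRing A]
    [IsLinearTopology A A] : IsLinearTopology (Completion A) (Completion A) := by
  have hb : (𝓝 (0 : Completion A)).HasBasis (fun I : Ideal A => IsOpen (I : Set A))
      (fun I => ((clIm I : Ideal (Completion A)) : Set (Completion A))) := by
    constructor
    intro U
    constructor
    · intro hU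
      obtain ⟨I, hI1, hI2⟩ := exists_clIm_subset hU
      exact ⟨I, hI1, hI2⟩
    · rintro ⟨I, hI1, hI2⟩
      exact Filter.mem_of_superset (clIm_mem_nhds hI1) hI2
  exact IsLinearTopology.mk_of_hasBasis (Completion A) hb

theorem S10161
    (A : Type u) [CommRing A] [UniformSpace A] [IsUniformAddGroup A] [IsTopologicalRing A]
    [IsLinearTopology A A] (hA : LinTop.IsWeaklyPreadic A) :
    LinTop.IsWeaklyAdic (UniformSpace.Completion A) := by
  have := isLinearTopology_completion A
  refine ⟨?_, inferInstance, inferInstance⟩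
  exact S10165 A (Completion A) _ (S10162 A) hA

--MARK11
/-- A copy of `A` with the `I`-adic topology. -/
def AdicCopy (A : Type u) [CommRing A] (I : Ideal A) : Type u := A

namespace AdicCopy
variable (A : Type u) [CommRing A] (I : Ideal A)

instance : CommRing (AdicCopy A I) := inferInstanceAs (CommRing A)
instance : TopologicalSpace (AdicCopy A I) := I.adicTopology
instance : IsTopologicalRing (AdicCopy A I) :=
  I.adic_basis.toRing_subgroups_basis.toRingFilterBasis.isTopologicalRing

/-- the identity map -/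
def toA : AdicCopy A I →+* A := RingHom.id A

/-- the ideal `I` in the copy -/
def ideal : Ideal (AdicCopy A I) := I

theorem isAdic : IsAdic (ideal A I) := rfl

theorem map_toA_pow (n : ℕ) : ((ideal A I) ^ n).map (toA A I) = I ^ n := Ideal.map_id _

end AdicCopy

theorem isLinearTopology_of_isAdic {A : Type u} [CommRing A] [TopologicalSpace A]
    {J : Ideal A} (h : IsAdic J) : IsLinearTopology A A := by
  have : ‹TopologicalSpace A› = J.adicTopology := h
  subst this
  exact J.isLinearTopology

theorem S10159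
    (A : Type u) [CommRing A] [TopologicalSpace A] [IsTopologicalRing A] [IsLinearTopology A A] :
    List.TFAE [LinTop.IsWeaklyPreadic A,
      ∃ (A' : Type u) (_ : CommRing A') (_ : TopologicalSpace A') (_ : IsTopologicalRing A')
        (φ : A' →+* A), LinTop.IsPreadic A' ∧ LinTop.IsTaut φ,
      LinTop.IsPreadmissible A ∧ ∃ I : Ideal A, LinTop.IsIdealOfDefinition A I ∧
        ∀ n : ℕ, 0 < n → IsOpen (closure ((I ^ n : Ideal A) : Set A)),
      LinTop.IsPreadmissible A ∧ ∀ I : Ideal A, LinTop.IsIdealOfDefinition A I →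
        ∀ n : ℕ, 0 < n → IsOpen (closure ((I ^ n : Ideal A) : Set A))] := by
  tfae_have 1 → 2 := by
    rintro ⟨_, I, hI1, hI2⟩
    refine ⟨AdicCopy A I, inferInstance, inferInstance, inferInstance, AdicCopy.toA A I,
      ⟨AdicCopy.ideal A I, AdicCopy.isAdic A I⟩, ?_, ?_, ?_⟩
    · apply continuous_of_continuousAt_zero
      intro U hU
      rw [map_zero] at hU
      obtain ⟨n, hn⟩ := hI2 U hU
      have h1 : (((AdicCopy.ideal A I) ^ n : Ideal (AdicCopy A I)) : Set (AdicCopy A I)) ∈
          𝓝 (0 : AdicCopy A I) := open_ideal_mem_nhds (IsAdic.isOpen_pow (AdicCopy.isAdic A I) n)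
      refine Filter.mem_of_superset h1 ?_
      intro x hx
      exact hn (subset_closure hx)
    · intro K hK
      obtain ⟨n, _, hn⟩ := IsAdic.exists_pow_subset (AdicCopy.isAdic A I) (open_ideal_mem_nhds hK)
      have h1 : I ^ n ≤ K.map (AdicCopy.toA A I) := by
        rw [← AdicCopy.map_toA_pow]
        exact Ideal.map_mono hn
      exact isOpen_closure_mono h1 (hI1 n)
    · intro U hU
      obtain ⟨n, hn⟩ := hI2 U hU
      refine ⟨(AdicCopy.ideal A I) ^ n, IsAdic.isOpen_pow (AdicCopy.isAdic A I) n, ?_⟩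
      rw [AdicCopy.map_toA_pow]
      exact hn
  tfae_have 2 → 1 := by
    rintro ⟨A', _, _, _, φ, ⟨J, hJ⟩, hφ⟩
    have := isLinearTopology_of_isAdic hJ
    refine S10165 A' A φ hφ ⟨inferInstance, J, fun n => ?_, fun U hU => ?_⟩
    · exact isOpen_closure_of_isOpen (IsAdic.isOpen_pow hJ n)
    · obtain ⟨n, _, hn⟩ := IsAdic.exists_pow_subset hJ hU
      refine ⟨n, ?_⟩
      rw [closure_eq_of_isOpen (IsAdic.isOpen_pow hJ n)]
      exact hn
  tfae_have 1 → 4 := by
    rintro ⟨_, I, hI1, hI2⟩
    have hmono : ∀ n, closure ((I ^ (n + 1) : Ideal A) : Set A) ⊆ closure ((I ^ n : Ideal A) : Set A) :=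
      fun n => closure_mono (show ((I ^ (n + 1) : Ideal A) : Set A) ⊆ (I ^ n : Ideal A) from
        Ideal.pow_le_pow_right (Nat.le_succ n))
    refine ⟨⟨inferInstance, I.closure, ?_, ?_⟩, ?_⟩
    · have := hI1 1
      rwa [pow_one] at this
    · intro U hU
      obtain ⟨n, hn⟩ := hI2 U hU
      refine ⟨n + 1, Nat.succ_pos n, ?_⟩
      intro x hx
      exact hn (hmono n (closure_pow_le I (n + 1) hx))
    · intro I' hI' n _
      obtain ⟨m, hm⟩ := hI2 (I' : Set A) (open_ideal_mem_nhds hI'.1)
      have hm' : (I ^ m).closure ≤ I' := hm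
      have h1 : ((I ^ m).closure ^ n).closure ≤ (I' ^ n).closure :=
        closure_mono' (Ideal.pow_right_mono hm' n)
      rw [closure_closure_pow_eq, ← pow_mul] at h1
      exact ideal_isOpen_mono h1 (hI1 (m * n))
  tfae_have 4 → 3 := by
    rintro ⟨hp, h⟩
    obtain ⟨_, I, hI⟩ := hp
    exact ⟨⟨inferInstance, I, hI⟩, I, hI, h I hI⟩
  tfae_have 3 → 1 := by
    rintro ⟨_, I, hI, h⟩
    refine ⟨inferInstance, I, fun n => ?_, fun U hU => ?_⟩
    · rcases Nat.eq_zero_or_pos n with rfl | hn
      · rw [pow_zero, Ideal.one_eq_top]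
        simp
      · exact h n hn
    · obtain ⟨K, hK1, hK2⟩ := exists_open_ideal_subset hU
      obtain ⟨n, _, hn⟩ := hI.2 (K : Set A) (open_ideal_mem_nhds hK1)
      refine ⟨n, (closure_mono hn).trans ?_⟩
      rw [closure_eq_of_isOpen hK1]
      exact hK2
  tfae_finish

--MARK12
section complete
variable {A : Type u} [CommRing A] [UniformSpace A] [IsUniformAddGroup A] [IsTopologicalRing A]
  [IsLinearTopology A A]

theorem nonarchimedeanAddGroup_of_linear : NonarchimedeanAddGroup A where
  is_nonarchimedean U hU := by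
    obtain ⟨K, hK1, hK2⟩ := exists_open_ideal_subset hU
    exact ⟨⟨K.toAddSubgroup, hK1⟩, hK2⟩

variable (I : Ideal A)
  (hopen : ∀ n : ℕ, IsOpen (closure ((I ^ n : Ideal A) : Set A)))
  (hbasis : ∀ U ∈ nhds (0 : A), ∃ n : ℕ, closure ((I ^ n : Ideal A) : Set A) ⊆ U)

include hbasis in
theorem tendsto_zero_of_mem_closure_pow (f : ℕ → A) (hf : ∀ k, f k ∈ (I ^ k).closure) :
    Tendsto f atTop (𝓝 0) := by
  rw [tendsto_def]
  intro U hU
  obtain ⟨n, hn⟩ := hbasis U hU
  rw [mem_atTop_sets]
  refine ⟨n, fun m hm => hn ?_⟩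
  exact closure_mono' (Ideal.pow_le_pow_right hm) (hf m)

include hopen in
theorem exists_approx (k : ℕ) (x : A) (hx : x ∈ (I ^ k).closure) :
    ∃ y ∈ I ^ k, x - y ∈ (I ^ (k + 1)).closure := by
  have hc : Continuous fun z : A => x - z := by fun_prop
  have hnb : {z : A | x - z ∈ (I ^ (k + 1)).closure} ∈ 𝓝 x := by
    have : (fun z : A => x - z) ⁻¹' (((I ^ (k + 1)).closure : Ideal A) : Set A) ∈ 𝓝 x := by
      apply hc.continuousAt.preimage_mem_nhds
      rw [sub_self]
      exact open_ideal_mem_nhds (hopen (k + 1))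
    exact this
  obtain ⟨y, hy1, hy2⟩ := mem_closure_iff_nhds.1 hx _ hnb
  exact ⟨y, hy2, hy1⟩

open Classical in
/-- one approximation step -/
noncomputable def nxt (k : ℕ) (x : A) : A :=
  if h : ∃ y ∈ I ^ k, x - y ∈ (I ^ (k + 1)).closure then x - h.choose else 0

include hopen in
theorem nxt_mem (k : ℕ) (x : A) (hx : x ∈ (I ^ k).closure) : nxt I k x ∈ (I ^ (k + 1)).closure := by
  have h := exists_approx I hopen k x hx
  rw [nxt, dif_pos h]
  exact h.choose_spec.2

include hopen in
theorem sub_nxt_mem (k : ℕ) (x : A) (hx : x ∈ (I ^ k).closure) : x - nxt I k x ∈ I ^ k := by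
  have h := exists_approx I hopen k x hx
  rw [nxt, dif_pos h, sub_sub_cancel]
  exact h.choose_spec.1

/-- the approximating sequence -/
noncomputable def seqX (n : ℕ) (x₀ : A) : ℕ → A
  | 0 => x₀
  | k + 1 => nxt I (n + k) (seqX n x₀ k)

include hopen in
theorem seqX_mem (n : ℕ) (x₀ : A) (hx : x₀ ∈ (I ^ n).closure) (k : ℕ) :
    seqX I n x₀ k ∈ (I ^ (n + k)).closure := by
  induction k with
  | zero => exact hx
  | succ k ih => exact nxt_mem I hopen (n + k) _ ih

include hopen in
theorem seqX_sub_mem (n : ℕ) (x₀ : A) (hx : x₀ ∈ (I ^ n).closure) (k : ℕ) :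
    seqX I n x₀ k - seqX I n x₀ (k + 1) ∈ I ^ (n + k) :=
  sub_nxt_mem I hopen (n + k) _ (seqX_mem I hopen n x₀ hx k)

theorem sum_seqX (n : ℕ) (x₀ : A) (N : ℕ) :
    ∑ k ∈ Finset.range N, (seqX I n x₀ k - seqX I n x₀ (k + 1)) = x₀ - seqX I n x₀ N := by
  rw [Finset.sum_range_sub']
  rfl

include hopen hbasis in
theorem closure_pow_le_self_of_fg [T2Space A] [CompleteSpace A] (hfg : I.FG) (n : ℕ) :
    (I ^ n).closure ≤ I ^ n := by
  classical
  have hna : NonarchimedeanAddGroup A := nonarchimedeanAddGroup_of_linear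
  intro x₀ hx₀
  obtain ⟨s, hs⟩ := (hfg.pow (n := n) : (I ^ n).FG)
  -- the differences
  set y : ℕ → A := fun k => seqX I n x₀ k - seqX I n x₀ (k + 1) with hy
  have hymem : ∀ k, y k ∈ I ^ (n + k) := seqX_sub_mem I hopen n x₀ hx₀
  -- decompose
  have hdec : ∀ k, ∃ a : (↑(s : Set A) : Type u) →₀ A, (∀ i, a i ∈ I ^ k) ∧
      (a.sum fun i c => c • (i : A)) = y k := by
    intro k
    have h1 : y k ∈ I ^ k • Submodule.span A ((fun i : A => i) '' (s : Set A)) := by
      rw [Set.image_id', show Submodule.span A (s : Set A) = I ^ n from hs, smul_eq_mul, mul_comm,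
        ← pow_add]
      exact hymem k
    obtain ⟨a, ha, hsum⟩ := (Submodule.mem_ideal_smul_span_iff_exists_sum' (I := I ^ k)
      (s : Set A) (fun i : A => i) (y k)).1 h1
    exact ⟨a, ha, hsum⟩
  choose a ha1 ha2 using hdec
  -- each coefficient sequence is summable
  have hsummable : ∀ i : (↑(s : Set A) : Type u), Summable (fun k => a k i) := by
    intro i
    apply NonarchimedeanAddGroup.summable_of_tendsto_cofinite_zero
    rw [Nat.cofinite_eq_atTop]
    exact tendsto_zero_of_mem_closure_pow I hbasis _ (fun k => subset_closure (ha1 k i))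
  -- y as a finite sum
  have hy2 : ∀ k, y k = ∑ i : (↑(s : Set A) : Type u), a k i * (i : A) := by
    intro k
    rw [← ha2 k, Finsupp.sum_fintype]
    · simp [smul_eq_mul]
    · intro i; simp
  have hsum1 : HasSum y (∑ i : (↑(s : Set A) : Type u), (∑' k, a k i) * (i : A)) := by
    have : y = fun k => ∑ i : (↑(s : Set A) : Type u), a k i * (i : A) := funext hy2
    rw [this]
    apply hasSum_sum
    intro i _
    exact (hsummable i).hasSum.mul_right _
  have hsum2 : HasSum y x₀ := by
    rw [hsum1.summable.hasSum_iff_tendsto_nat]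
    have h3 : (fun N => ∑ k ∈ Finset.range N, y k) = fun N => x₀ - seqX I n x₀ N :=
      funext (sum_seqX I n x₀)
    rw [h3]
    have h4 : Tendsto (fun N => seqX I n x₀ N) atTop (𝓝 0) := by
      refine tendsto_zero_of_mem_closure_pow I hbasis _ (fun k => ?_)
      exact closure_mono' (Ideal.pow_le_pow_right (Nat.le_add_left k n))
        (seqX_mem I hopen n x₀ hx₀ k)
    simpa using (tendsto_const_nhds (x := x₀)).sub h4
  rw [hsum2.unique hsum1]
  refine Ideal.sum_mem _ (fun i _ => Ideal.mul_mem_left _ _ ?_)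
  rw [← hs]
  exact Submodule.subset_span i.2

include hopen hbasis in
theorem S10163' [T2Space A] [CompleteSpace A] (hfg : I.FG) : IsAdic I := by
  rw [isAdic_iff]
  have heq : ∀ n, closure ((I ^ n : Ideal A) : Set A) = ((I ^ n : Ideal A) : Set A) := by
    intro n
    apply Set.Subset.antisymm
    · exact closure_pow_le_self_of_fg I hopen hbasis hfg n
    · exact subset_closure
  constructor
  · intro n
    rw [← heq n]
    exact hopen n
  · intro U hU
    obtain ⟨n, hn⟩ := hbasis U hU
    exact ⟨n, by rw [← heq n]; exact hn⟩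

end complete

theorem S10163
    (A : Type u) [CommRing A] [UniformSpace A] [IsUniformAddGroup A] [IsTopologicalRing A] [IsLinearTopology A A] [T2Space A] [CompleteSpace A]
    (I : Ideal A) (hfg : I.FG) (hopen : ∀ n : ℕ, IsOpen (closure ((I ^ n : Ideal A) : Set A)))
    (hbasis : ∀ U ∈ nhds (0 : A), ∃ n : ℕ, closure ((I ^ n : Ideal A) : Set A) ⊆ U) :
    IsAdic I := S10163' I hopen hbasis hfg

theorem S10158
    (A : Type u) [CommRing A] [TopologicalSpace A] [IsTopologicalRing A] (hA : LinTop.IsPreadic A)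
    (I : Ideal A) (hI : LinTop.IsIdealOfDefinition A I) (hfg : I.FG)
    (B : Type v) [CommRing B] [UniformSpace B] [IsUniformAddGroup B] [IsTopologicalRing B]
    [IsLinearTopology B B] [T2Space B] [CompleteSpace B]
    (φ : A →+* B) (hφ : LinTop.IsTaut φ) :
    IsAdic (I.map φ) := by
  apply S10163' (I.map φ) ?_ ?_ (hfg.map φ)
  · intro n
    rw [← Ideal.map_pow]
    exact hφ.2.1 _ (isOpen_pow_of_isPreadic hA hI.1 n)
  · intro U hU
    obtain ⟨I', hI'1, hI'2⟩ := hφ.2.2 U hU
    obtain ⟨n, _, hn⟩ := hI.2 (I' : Set A) (open_ideal_mem_nhds hI'1)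
    refine ⟨n, ?_⟩
    rw [← Ideal.map_pow]
    exact (closure_mono (show (((I ^ n).map φ : Ideal B) : Set B) ⊆ I'.map φ from
      Ideal.map_mono hn)).trans hI'2

--MARK13
section s10164
variable {A : Type u} [CommRing A] [TopologicalSpace A] [IsTopologicalRing A] [IsLinearTopology A A]

/-- closure of an ideal is contained in `K + U` for any open ideal `U` -/
theorem closure_le_sup_of_isOpen (K : Ideal A) {U : Ideal A} (hU : IsOpen (U : Set A)) :
    K.closure ≤ K ⊔ U := by
  intro x hx
  have hc : Continuous fun z : A => x - z := by fun_prop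
  have hnb : {z : A | x - z ∈ U} ∈ 𝓝 x := by
    have : (fun z : A => x - z) ⁻¹' (U : Set A) ∈ 𝓝 x := by
      apply hc.continuousAt.preimage_mem_nhds
      rw [sub_self]
      exact open_ideal_mem_nhds hU
    exact this
  obtain ⟨y, hy1, hy2⟩ := mem_closure_iff_nhds.1 hx _ hnb
  have : x = y + (x - y) := by ring
  rw [this]
  exact Ideal.add_mem _ (Ideal.mem_sup_left hy2) (Ideal.mem_sup_right hy1)

theorem mul_closure_le (K L : Ideal A) : K * L.closure ≤ (K * L).closure :=
  (Ideal.mul_mono_left (fun x hx => subset_closure hx)).trans (closure_mul_le K L)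

/-- lifting finite generation modulo an ideal -/
theorem exists_fg_le_sup {I K : Ideal A} (hfg : (I.map (Ideal.Quotient.mk K)).FG) :
    ∃ J : Ideal A, J.FG ∧ J ≤ I ∧ I ≤ J ⊔ K := by
  classical
  obtain ⟨t, ht⟩ := hfg
  have hex : ∀ q : A ⧸ K, q ∈ t → ∃ x ∈ I, Ideal.Quotient.mk K x = q := by
    intro q hq
    have h1 : q ∈ I.map (Ideal.Quotient.mk K) := by
      rw [← ht]; exact Submodule.subset_span hq
    exact (Ideal.mem_map_iff_of_surjective _ Ideal.Quotient.mk_surjective).1 h1
  let g : A ⧸ K → A := fun q => if hq : q ∈ t then (hex q hq).choose else 0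
  have hg1 : ∀ q ∈ t, g q ∈ I := by
    intro q hq
    simp only [g, dif_pos hq]
    exact (hex q hq).choose_spec.1
  have hg2 : ∀ q ∈ t, Ideal.Quotient.mk K (g q) = q := by
    intro q hq
    simp only [g, dif_pos hq]
    exact (hex q hq).choose_spec.2
  refine ⟨Ideal.span ((t.image g : Finset A) : Set A), ⟨t.image g, rfl⟩, ?_, ?_⟩
  · rw [Ideal.span_le]
    intro x hx
    rw [Finset.coe_image] at hx
    obtain ⟨q, hq, rfl⟩ := hx
    exact hg1 q hq
  · have hmap : (Ideal.span ((t.image g : Finset A) : Set A)).map (Ideal.Quotient.mk K) =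
        I.map (Ideal.Quotient.mk K) := by
      rw [Ideal.map_span, ← ht]
      congr 1
      ext q
      rw [Finset.coe_image]
      constructor
      · rintro ⟨_, ⟨q', hq', rfl⟩, rfl⟩
        rw [hg2 q' hq']; exact hq'
      · intro hq
        exact ⟨g q, ⟨q, hq, rfl⟩, hg2 q hq⟩
    have h2 := Ideal.comap_map_of_surjective (Ideal.Quotient.mk K) Ideal.Quotient.mk_surjective
      (Ideal.span ((t.image g : Finset A) : Set A))
    rw [hmap] at h2
    have h3 : Ideal.comap (Ideal.Quotient.mk K) ⊥ = K := by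
      rw [← RingHom.ker_eq_comap_bot, Ideal.mk_ker]
    rw [h3] at h2
    rw [← h2]
    exact Ideal.le_comap_map

end s10164

theorem S10164
    (A : Type u) [CommRing A] [UniformSpace A] [IsUniformAddGroup A] [IsTopologicalRing A] (hA : LinTop.IsWeaklyAdic A)
    (I : Ideal A) (hI : LinTop.IsIdealOfDefinition A I)
    (hfg : (I.map (Ideal.Quotient.mk ((I ^ 2).closure))).FG) :
    LinTop.IsAdicRing A ∧ ∃ J : Ideal A, LinTop.IsIdealOfDefinition A J ∧ J.FG := by
  obtain ⟨hwp, hT2, hC⟩ := hA
  have hlin : IsLinearTopology A A := hwp.1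
  -- closure(I^n) open and a basis
  have h4 := ((S10159 A).out 0 3).1 hwp
  have hopenI : ∀ n : ℕ, IsOpen (((I ^ n).closure : Ideal A) : Set A) := by
    intro n
    rcases Nat.eq_zero_or_pos n with rfl | hn
    · rw [pow_zero, Ideal.one_eq_top]
      show IsOpen (closure (Set.univ : Set A))
      simp
    · exact h4.2 I hI n hn
  have hbasisI : ∀ U ∈ nhds (0 : A), ∃ n : ℕ, closure ((I ^ n : Ideal A) : Set A) ⊆ U := by
    intro U hU
    obtain ⟨K, hK1, hK2⟩ := exists_open_ideal_subset hU
    obtain ⟨n, _, hn⟩ := hI.2 (K : Set A) (open_ideal_mem_nhds hK1)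
    refine ⟨n, (closure_mono hn).trans ?_⟩
    rw [closure_eq_of_isOpen hK1]
    exact hK2
  -- finitely generated J
  obtain ⟨J, hJfg, hJI, hIJ⟩ := exists_fg_le_sup hfg
  -- I ≤ J ⊔ closure(I^(m+2)) for all m
  have hstep : ∀ m : ℕ, I ≤ J ⊔ (I ^ (m + 2)).closure := by
    intro m
    induction m with
    | zero => exact hIJ
    | succ m ih =>
      have h1 : I ^ 2 ≤ J ⊔ (I ^ (m + 1 + 2)).closure := by
        rw [pow_two]
        refine (Ideal.mul_mono_right ih).trans ?_
        rw [Ideal.mul_sup]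
        refine sup_le_sup Ideal.mul_le_right ?_
        refine (mul_closure_le I (I ^ (m + 2))).trans ?_
        rw [← pow_succ']
      have h2 : (I ^ 2).closure ≤ J ⊔ (I ^ (m + 1 + 2)).closure := by
        refine (closure_mono' h1).trans ?_
        refine (closure_le_sup_of_isOpen _ (hopenI (m + 1 + 2))).trans ?_
        rw [sup_assoc, sup_idem]
      exact hIJ.trans (sup_le le_sup_left h2)
  -- I ≤ closure J
  have hIcl : I ≤ J.closure := by
    intro x hx
    apply mem_closure_of_forall_sup
    intro U hU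
    obtain ⟨m, hm⟩ := hbasisI (U : Set A) (open_ideal_mem_nhds hU)
    have h1 : (I ^ (m + 2)).closure ≤ U :=
      (closure_mono' (Ideal.pow_le_pow_right (Nat.le_add_right m 2))).trans hm
    exact (sup_le_sup_left h1 J) (hstep m hx)
  have hJcl : J.closure = I := by
    apply le_antisymm
    · intro x hx
      have h1 : x ∈ (I.closure : Set A) := closure_mono' hJI hx
      have h2 : (I.closure : Set A) = I := closure_eq_of_isOpen hI.1
      rw [h2] at h1
      exact h1
    · exact hIcl
  have hpow : ∀ n, (J ^ n).closure = (I ^ n).closure := by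
    intro n
    rw [← closure_closure_pow_eq J n, hJcl]
  have hadic : IsAdic J := by
    apply S10163' J ?_ ?_ hJfg
    · intro n
      have := hopenI n
      rw [← hpow n] at this
      exact this
    · intro U hU
      obtain ⟨n, hn⟩ := hbasisI U hU
      refine ⟨n, ?_⟩
      have h5 : closure ((J ^ n : Ideal A) : Set A) = closure ((I ^ n : Ideal A) : Set A) :=
        congrArg (fun K : Ideal A => (K : Set A)) (hpow n)
      rw [h5]
      exact hn
  exact ⟨⟨⟨J, hadic⟩, hT2, hC⟩, J, IsAdic.isIdealOfDefinition hadic, hJfg⟩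

--MARK14
section approx
variable {A : Type u} [CommRing A] [UniformSpace A] [IsUniformAddGroup A] [IsTopologicalRing A]
  [IsLinearTopology A A] [T2Space A] [CompleteSpace A]
variable {B : Type v} [CommRing B] [TopologicalSpace B] [IsTopologicalRing B] [T2Space B]
variable (φ : A →+* B) (I : ℕ → Ideal A) (J : ℕ → Set B)

open Classical in
/-- one approximation step in `B`: returns the chosen element of `A` -/
noncomputable def liftStep (k : ℕ) (b : B) : A :=
  if h : ∃ i ∈ I k, b - φ i ∈ J (k + 1) then h.choose else 0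

/-- the sequence of remainders -/
noncomputable def remSeq (n : ℕ) (b : B) : ℕ → B
  | 0 => b
  | k + 1 => remSeq n b k - φ (liftStep φ I J (n + k) (remSeq n b k))

variable (happrox : ∀ k, ∀ b ∈ J k, ∃ i ∈ I k, b - φ i ∈ J (k + 1))

include happrox in
theorem remSeq_mem (n : ℕ) (b : B) (hb : b ∈ J n) (k : ℕ) : remSeq φ I J n b k ∈ J (n + k) := by
  induction k with
  | zero => exact hb
  | succ k ih =>
    have h := happrox (n + k) _ ih
    show remSeq φ I J n b k - φ (liftStep φ I J (n + k) (remSeq φ I J n b k)) ∈ J (n + (k + 1))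
    rw [liftStep, dif_pos h]
    exact h.choose_spec.2

include happrox in
theorem liftStep_mem (n : ℕ) (b : B) (hb : b ∈ J n) (k : ℕ) :
    liftStep φ I J (n + k) (remSeq φ I J n b k) ∈ I (n + k) := by
  have h := happrox (n + k) _ (remSeq_mem φ I J happrox n b hb k)
  rw [liftStep, dif_pos h]
  exact h.choose_spec.1

theorem map_sum_liftStep (n : ℕ) (b : B) (N : ℕ) :
    φ (∑ k ∈ Finset.range N, liftStep φ I J (n + k) (remSeq φ I J n b k)) =
      b - remSeq φ I J n b N := by
  induction N with
  | zero => simp [remSeq]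
  | succ N ih =>
    rw [Finset.sum_range_succ, map_add, ih]
    show _ = b - (remSeq φ I J n b N - φ (liftStep φ I J (n + N) (remSeq φ I J n b N)))
    ring

include happrox in
theorem exists_lift_of_approx (hφ : Continuous φ)
    (hIopen : ∀ k, IsOpen (I k : Set A)) (hIanti : Antitone I)
    (hIbasis : ∀ U ∈ 𝓝 (0 : A), ∃ k, (I k : Set A) ⊆ U)
    (hJ0 : ∀ U ∈ 𝓝 (0 : B), ∃ k, ∀ m, k ≤ m → J m ⊆ U)
    (n : ℕ) (b : B) (hb : b ∈ J n) : ∃ a ∈ I n, φ a = b := by
  have hna : NonarchimedeanAddGroup A := nonarchimedeanAddGroup_of_linear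
  set d : ℕ → A := fun k => liftStep φ I J (n + k) (remSeq φ I J n b k) with hd
  have hdmem : ∀ k, d k ∈ I (n + k) := liftStep_mem φ I J happrox n b hb
  have hd0 : Tendsto d atTop (𝓝 0) := by
    rw [tendsto_def]
    intro U hU
    obtain ⟨k, hk⟩ := hIbasis U hU
    rw [mem_atTop_sets]
    refine ⟨k, fun m hm => hk ?_⟩
    exact hIanti (show k ≤ n + m by omega) (hdmem m)
  have hsum : Summable d := by
    apply NonarchimedeanAddGroup.summable_of_tendsto_cofinite_zero
    rw [Nat.cofinite_eq_atTop]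
    exact hd0
  have hts := hsum.hasSum.tendsto_sum_nat
  refine ⟨∑' k, d k, ?_, ?_⟩
  · -- in I n since closed
    refine (ideal_isClosed_of_isOpen (hIopen n)).mem_of_tendsto hts (Eventually.of_forall fun N => ?_)
    refine Ideal.sum_mem _ (fun k _ => ?_)
    exact hIanti (Nat.le_add_right n k) (hdmem k)
  · -- φ of the sum
    have h1 : Tendsto (fun N => φ (∑ k ∈ Finset.range N, d k)) atTop (𝓝 (φ (∑' k, d k))) :=
      (hφ.tendsto _).comp hts
    have h2 : Tendsto (fun N => φ (∑ k ∈ Finset.range N, d k)) atTop (𝓝 b) := by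
      have h3 : (fun N => φ (∑ k ∈ Finset.range N, d k)) = fun N => b - remSeq φ I J n b N :=
        funext (map_sum_liftStep φ I J n b)
      rw [h3]
      have h4 : Tendsto (fun N => remSeq φ I J n b N) atTop (𝓝 0) := by
        rw [tendsto_def]
        intro U hU
        obtain ⟨k, hk⟩ := hJ0 U hU
        rw [mem_atTop_sets]
        refine ⟨k, fun m hm => hk (n + m) (by omega) ?_⟩
        exact remSeq_mem φ I J happrox n b hb m
      simpa using (tendsto_const_nhds (x := b)).sub h4
    exact tendsto_nhds_unique h1 h2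

end approx

section dense
variable {A : Type u} [CommRing A] [TopologicalSpace A] [IsTopologicalRing A]
variable {B : Type v} [CommRing B] [TopologicalSpace B] [IsTopologicalRing B]

/-- closure of the image of an ideal under a ring hom with dense range, as an ideal. -/
noncomputable def clImG (φ : A →+* B) (hd : DenseRange φ) (I : Ideal A) : Ideal B where
  carrier := closure (φ '' (I : Set A))
  add_mem' := by
    intro a b ha hb
    exact map_mem_closure₂ continuous_add ha hb (by
      rintro _ ⟨x, hx, rfl⟩ _ ⟨y, hy, rfl⟩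
      exact ⟨x + y, I.add_mem hx hy, map_add _ _ _⟩)
  zero_mem' := subset_closure ⟨0, I.zero_mem, map_zero _⟩
  smul_mem' := by
    intro c x hx
    have h1 : ∀ a : A, φ a * x ∈ closure (φ '' (I : Set A)) := by
      intro a
      refine map_mem_closure (continuous_const_mul (φ a)) hx ?_
      rintro _ ⟨y, hy, rfl⟩
      exact ⟨a * y, I.mul_mem_left a hy, map_mul _ _ _⟩
    have hc : Continuous fun c : B => c * x := continuous_mul_const x
    have h2 : c ∈ closure (Set.range (φ : A → B)) := hd c
    have h3 := map_mem_closure hc h2 (t := closure (φ '' (I : Set A))) (by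
      rintro _ ⟨a, rfl⟩
      exact h1 a)
    rw [closure_closure] at h3
    exact h3

theorem map_closure_eq_clImG (φ : A →+* B) (hd : DenseRange φ) (I : Ideal A) :
    (I.map φ).closure = clImG φ hd I := by
  apply le_antisymm
  · have h1 : I.map φ ≤ clImG φ hd I := by
      rw [Ideal.map_le_iff_le_comap]
      intro x hx
      exact subset_closure ⟨x, hx, rfl⟩
    have h2 : IsClosed ((clImG φ hd I : Ideal B) : Set B) := isClosed_closure
    intro x hx
    exact closure_minimal (show ((I.map φ : Ideal _) : Set B) ⊆ clImG φ hd I from h1) h2 hx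
  · intro x hx
    refine closure_mono ?_ hx
    rintro _ ⟨y, hy, rfl⟩
    exact Ideal.mem_map_of_mem _ hy

theorem mem_closure_image_of_mem (φ : A →+* B) (hd : DenseRange φ) (I : Ideal A) {b : B}
    (hb : b ∈ (I.map φ).closure) : b ∈ closure (φ '' (I : Set A)) := by
  rw [map_closure_eq_clImG φ hd I] at hb
  exact hb

theorem exists_antitone_open_ideal_basis [IsLinearTopology A A]
    (hA : (𝓝 (0 : A)).IsCountablyGenerated) :
    ∃ I : ℕ → Ideal A, (∀ k, IsOpen (I k : Set A)) ∧ Antitone I ∧
      ∀ U ∈ 𝓝 (0 : A), ∃ k, (I k : Set A) ⊆ U := by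
  obtain ⟨s, hs⟩ := (𝓝 (0 : A)).exists_antitone_basis
  have : ∀ n, ∃ K : Ideal A, IsOpen (K : Set A) ∧ (K : Set A) ⊆ s n :=
    fun n => exists_open_ideal_subset (hs.mem n)
  choose K hK1 hK2 using this
  let I : ℕ → Ideal A := fun n => Nat.rec (K 0) (fun m Im => Im ⊓ K (m + 1)) n
  have hI0 : I 0 = K 0 := rfl
  have hIs : ∀ n, I (n + 1) = I n ⊓ K (n + 1) := fun n => rfl
  have hIK : ∀ n, I n ≤ K n := by
    intro n
    cases n with
    | zero => exact le_of_eq hI0
    | succ n => rw [hIs]; exact inf_le_right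
  refine ⟨I, ?_, ?_, ?_⟩
  · intro n
    induction n with
    | zero => rw [hI0]; exact hK1 0
    | succ n ih => rw [hIs]; exact isOpen_inf ih (hK1 (n + 1))
  · apply antitone_nat_of_succ_le
    intro n
    rw [hIs]; exact inf_le_left
  · intro U hU
    obtain ⟨n, _, hn⟩ := hs.toHasBasis.mem_iff.1 hU
    exact ⟨n, fun x hx => hn (hK2 n (hIK n hx))⟩

end dense

theorem S10155
    (A : Type u) [CommRing A] [UniformSpace A] [IsUniformAddGroup A] [IsTopologicalRing A]
    [IsLinearTopology A A] [T2Space A] [CompleteSpace A] (hA : (nhds (0 : A)).IsCountablyGenerated)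
    (B : Type v) [CommRing B] [UniformSpace B] [IsUniformAddGroup B] [IsTopologicalRing B]
    [IsLinearTopology B B] [T2Space B]
    (φ : A →+* B) (hφ : LinTop.IsTaut φ) (hd : DenseRange φ) :
    Function.Surjective φ ∧ IsOpenQuotientMap φ ∧ CompleteSpace B := by
  have hna : NonarchimedeanAddGroup A := nonarchimedeanAddGroup_of_linear
  obtain ⟨I, hIopen, hIanti, hIbasis⟩ := exists_antitone_open_ideal_basis hA
  set J : ℕ → Set B := fun k => (((I k).map φ).closure : Ideal B) with hJ
  have hJopen : ∀ k, IsOpen (J k) := fun k => hφ.2.1 (I k) (hIopen k)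
  have hJ0 : ∀ U ∈ 𝓝 (0 : B), ∃ k, ∀ m, k ≤ m → J m ⊆ U := by
    intro U hU
    obtain ⟨I', hI'1, hI'2⟩ := hφ.2.2 U hU
    obtain ⟨k, hk⟩ := hIbasis (I' : Set A) (open_ideal_mem_nhds hI'1)
    refine ⟨k, fun m hm => ?_⟩
    refine (closure_mono ?_).trans hI'2
    exact Ideal.map_mono (show I m ≤ I' from fun x hx => hk (hIanti hm hx))
  have hJnhds : ∀ k, J k ∈ 𝓝 (0 : B) := fun k =>
    (hJopen k).mem_nhds (subset_closure (Ideal.zero_mem _))
  have happrox : ∀ k, ∀ b ∈ J k, ∃ i ∈ I k, b - φ i ∈ J (k + 1) := by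
    intro k b hb
    have hb' := mem_closure_image_of_mem φ hd (I k) hb
    have hc : Continuous fun z : B => b - z := by fun_prop
    have hnb : {z : B | b - z ∈ J (k + 1)} ∈ 𝓝 b := by
      have : (fun z : B => b - z) ⁻¹' (J (k + 1)) ∈ 𝓝 b := by
        apply hc.continuousAt.preimage_mem_nhds
        rw [sub_self]
        exact hJnhds (k + 1)
      exact this
    obtain ⟨_, hy1, ⟨i, hi, rfl⟩⟩ := mem_closure_iff_nhds.1 hb' _ hnb
    exact ⟨i, hi, hy1⟩
  have hlift : ∀ n, ∀ b ∈ J n, ∃ a ∈ I n, φ a = b :=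
    exists_lift_of_approx φ I J happrox hφ.1 hIopen hIanti hIbasis hJ0
  have hsurj : Function.Surjective φ := by
    intro b
    have hc : Continuous fun z : B => b - z := by fun_prop
    have hnb : {z : B | b - z ∈ J 0} ∈ 𝓝 b := by
      have : (fun z : B => b - z) ⁻¹' (J 0) ∈ 𝓝 b := by
        apply hc.continuousAt.preimage_mem_nhds
        rw [sub_self]
        exact hJnhds 0
      exact this
    obtain ⟨_, hy1, ⟨a₀, rfl⟩⟩ := mem_closure_iff_nhds.1 (hd b) _ hnb
    obtain ⟨a, _, ha⟩ := hlift 0 _ hy1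
    exact ⟨a₀ + a, by rw [map_add, ha]; ring⟩
  have hopenmap : IsOpenMap φ := by
    rw [isOpenMap_iff_nhds_le]
    intro x
    rw [Filter.le_map_iff]
    intro s hs
    have hc : Continuous fun y : A => x + y := by fun_prop
    have h0 : (fun y : A => x + y) ⁻¹' s ∈ 𝓝 (0 : A) := by
      apply hc.continuousAt.preimage_mem_nhds
      rw [add_zero]; exact hs
    obtain ⟨k, hk⟩ := hIbasis _ h0
    have hc2 : Continuous fun w : B => w - φ x := by fun_prop
    have h1 : (fun w : B => w - φ x) ⁻¹' (J k) ∈ 𝓝 (φ x) := by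
      apply hc2.continuousAt.preimage_mem_nhds
      rw [sub_self]; exact hJnhds k
    refine Filter.mem_of_superset h1 ?_
    intro w hw
    obtain ⟨a, ha1, ha2⟩ := hlift k _ hw
    refine ⟨x + a, hk ha1, ?_⟩
    rw [map_add, ha2]; ring
  refine ⟨hsurj, ⟨hsurj, hφ.1, hopenmap⟩, ?_⟩
  -- completeness
  have hBc : (𝓝 (0 : B)).IsCountablyGenerated := S10152 A B φ hφ hA
  have hUc : (uniformity B).IsCountablyGenerated := IsUniformAddGroup.uniformity_countably_generated
  refine UniformSpace.complete_of_convergent_controlled_sequences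
    (fun N => {p : B × B | p.2 - p.1 ∈ J N}) (fun N => ?_) (fun u hu => ?_)
  · rw [uniformity_eq_comap_nhds_zero B]
    exact Filter.preimage_mem_comap (hJnhds N)
  · have hdiff : ∀ k, u (k + 1) - u k ∈ J k := fun k => hu k k (k + 1) le_rfl (Nat.le_succ k)
    have hex : ∀ k, ∃ a ∈ I k, φ a = u (k + 1) - u k := fun k => hlift k _ (hdiff k)
    choose d hd1 hd2 using hex
    obtain ⟨a₀, ha₀⟩ := hsurj (u 0)
    have hd0 : Tendsto d atTop (𝓝 0) := by
      rw [tendsto_def]
      intro U hU
      obtain ⟨k, hk⟩ := hIbasis U hU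
      rw [mem_atTop_sets]
      exact ⟨k, fun m hm => hk (hIanti hm (hd1 m))⟩
    have hsum : Summable d := by
      apply NonarchimedeanAddGroup.summable_of_tendsto_cofinite_zero
      rw [Nat.cofinite_eq_atTop]
      exact hd0
    have hts := hsum.hasSum.tendsto_sum_nat
    refine ⟨φ (a₀ + ∑' k, d k), ?_⟩
    have h1 : Tendsto (fun N => φ (a₀ + ∑ k ∈ Finset.range N, d k)) atTop
        (𝓝 (φ (a₀ + ∑' k, d k))) :=
      (hφ.1.tendsto _).comp (tendsto_const_nhds.add hts)
    have h2 : (fun N => φ (a₀ + ∑ k ∈ Finset.range N, d k)) = u := by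
      funext N
      rw [map_add, map_sum, ha₀]
      simp_rw [hd2]
      rw [Finset.sum_range_sub]
      ring
    rw [h2] at h1
    exact h1

end Groth.Agent.LD.TT
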