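import Mathlib

namespace Groth.Agent.LD.Toeplitz

open Finset

theorem key (n d N : ℕ) (hN : n + 1 ≤ N) :
    ∑ s ∈ range N, n.choose (s + d) * n.choose s = (2 * n).choose (n + d) := by
  by_cases hd : n < d
  · rw [Nat.choose_eq_zero_of_lt (by omega)]
    apply Finset.sum_eq_zero
    intro s _
    rw [Nat.choose_eq_zero_of_lt (by omega), zero_mul]
  · push Not at hd
    have h1 : (2 * n).choose (n + d) = (2 * n).choose (n - d) :=
      Nat.choose_symm_of_eq_add (by omega)
    rw [h1, two_mul, Nat.add_choose_eq, Finset.Nat.sum_antidiagonal_eq_sum_range_succ_mk]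
    have hsub : range (n - d).succ ⊆ range N := by
      apply Finset.range_subset_range.2; omega
    rw [← Finset.sum_subset hsub]
    · apply Finset.sum_congr rfl
      intro k hk
      rw [Finset.mem_range] at hk
      rw [mul_comm]
      congr 1
      exact Nat.choose_symm_of_eq_add (by omega)
    · intro s _ hs
      rw [Finset.mem_range] at hs
      rw [Nat.choose_eq_zero_of_lt (by omega), zero_mul]

/-- the factor matrix -/
noncomputable def B (n m : ℕ) : Matrix (Fin m) (Fin (m + n)) ℝ :=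
  Matrix.of fun i l => if (i : ℕ) ≤ (l : ℕ) then (-1 : ℝ) ^ ((i : ℕ) + (l : ℕ)) * (n.choose ((l : ℕ) - (i : ℕ)) : ℝ) else 0

theorem entry (n m i j : ℕ) (hij : i ≤ j) (hj : j < m) :
    ∑ l ∈ range (m + n),
      (if i ≤ l then (-1 : ℝ) ^ (i + l) * (n.choose (l - i) : ℝ) else 0) *
      (if j ≤ l then (-1 : ℝ) ^ (j + l) * (n.choose (l - j) : ℝ) else 0)
      = (-1 : ℝ) ^ (i + j) * ((2 * n).choose (n + (j - i)) : ℝ) := by
  have hsplit : range (m + n) = range j ∪ Ico j (m + n) := by
    ext x; simp only [mem_range, mem_union, mem_Ico]; omega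
  have hdisj : Disjoint (range j) (Ico j (m + n)) := by
    rw [Finset.disjoint_left]; intro x hx hx'
    simp only [mem_range, mem_Ico] at hx hx'; omega
  rw [hsplit, Finset.sum_union hdisj]
  have h0 : ∑ l ∈ range j,
      (if i ≤ l then (-1 : ℝ) ^ (i + l) * (n.choose (l - i) : ℝ) else 0) *
      (if j ≤ l then (-1 : ℝ) ^ (j + l) * (n.choose (l - j) : ℝ) else 0) = 0 := by
    apply Finset.sum_eq_zero
    intro l hl
    rw [mem_range] at hl
    rw [if_neg (by omega : ¬ j ≤ l), mul_zero]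
  rw [h0, zero_add, Finset.sum_Ico_eq_sum_range]
  rw [← key n (j - i) (m + n - j) (by omega)]
  push_cast
  rw [Finset.mul_sum]
  apply Finset.sum_congr rfl
  intro s _
  rw [if_pos (by omega : i ≤ j + s), if_pos (by omega : j ≤ j + s)]
  have e1 : j + s - i = s + (j - i) := by omega
  have e2 : j + s - j = s := by omega
  rw [e1, e2]
  have e3 : (-1 : ℝ) ^ (i + (j + s)) * (-1 : ℝ) ^ (j + (j + s)) = (-1 : ℝ) ^ (i + j) := by
    rw [← pow_add]
    have : i + (j + s) + (j + (j + s)) = (i + j) + 2 * (j + s) := by ring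
    rw [this, pow_add, pow_mul]; norm_num
  calc (-1 : ℝ) ^ (i + (j + s)) * (n.choose (s + (j - i)) : ℝ) * ((-1 : ℝ) ^ (j + (j + s)) * (n.choose s : ℝ))
      = ((-1 : ℝ) ^ (i + (j + s)) * (-1 : ℝ) ^ (j + (j + s))) * ((n.choose (s + (j - i)) : ℝ) * (n.choose s : ℝ)) := by ring
    _ = _ := by rw [e3]

theorem mat_eq (n m : ℕ) :
    (Matrix.of fun i j : Fin m =>
        (-1 : ℝ) ^ ((i : ℕ) + (j : ℕ)) * (Nat.choose (2 * n) (n + Nat.dist i j) : ℝ)) =
      B n m * (B n m).conjTranspose := by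
  ext i j
  rw [Matrix.mul_apply]
  simp only [Matrix.of_apply, Matrix.conjTranspose_apply, B, star_trivial]
  rw [Fin.sum_univ_eq_sum_range (fun l => (if (i : ℕ) ≤ l then (-1 : ℝ) ^ ((i : ℕ) + l) * (n.choose (l - (i : ℕ)) : ℝ) else 0) *
      (if (j : ℕ) ≤ l then (-1 : ℝ) ^ ((j : ℕ) + l) * (n.choose (l - (j : ℕ)) : ℝ) else 0)) (m + n)]
  rcases le_total (i : ℕ) (j : ℕ) with h | h
  · rw [entry n m i j h j.2, Nat.dist_eq_sub_of_le h]
  · have := entry n m j i h i.2
    rw [Nat.dist_comm, Nat.dist_eq_sub_of_le h, add_comm (i : ℕ) (j : ℕ), ← this]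
    apply Finset.sum_congr rfl
    intro l _
    rw [mul_comm]

theorem B_inj (n m : ℕ) : Function.Injective (B n m).vecMul := by
  intro x y hxy
  have hz : Matrix.vecMul (x - y) (B n m) = 0 := by
    have hxy' : Matrix.vecMul x (B n m) = Matrix.vecMul y (B n m) := hxy
    rw [Matrix.sub_vecMul, hxy', sub_self]
  suffices h : x - y = 0 from sub_eq_zero.1 h
  set z := x - y with hzdef
  have hall : ∀ k : ℕ, ∀ i : Fin m, (i : ℕ) = k → z i = 0 := by
    intro k
    induction k using Nat.strong_induction_on with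
    | _ k ih =>
      intro i hik
      have hcol := congrFun hz (Fin.castAdd n i)
      simp only [Matrix.vecMul, dotProduct, Pi.zero_apply] at hcol
      rw [Finset.sum_eq_single i] at hcol
      · simp only [B, Matrix.of_apply, Fin.val_castAdd, le_refl, if_true, Nat.sub_self,
          Nat.choose_zero_right, Nat.cast_one, mul_one] at hcol
        have : (-1 : ℝ) ^ ((i : ℕ) + (i : ℕ)) = 1 := by
          rw [← two_mul, pow_mul]; norm_num
        rw [this, mul_one] at hcol
        exact hcol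
      · intro i' _ hne
        rcases lt_or_gt_of_ne (fun h => hne (Fin.ext h) : (i' : ℕ) ≠ (i : ℕ)) with hlt | hgt
        · rw [ih i' (by omega) i' rfl, zero_mul]
        · simp only [B, Matrix.of_apply, Fin.val_castAdd]
          rw [if_neg (by omega), mul_zero]
      · intro h; exact absurd (Finset.mem_univ i) h
  funext i
  exact hall i i rfl

theorem posDef_even (n m : ℕ) :
    (Matrix.of fun i j : Fin m =>
        (-1 : ℝ) ^ ((i : ℕ) + (j : ℕ)) * (Nat.choose (2 * n) (n + Nat.dist i j) : ℝ)).PosDef := by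
  rw [mat_eq]
  exact Matrix.PosDef.mul_conjTranspose_self _ (B_inj n m)

theorem det_odd_ne_zero (n m : ℕ) :
    (Matrix.of fun i j : Fin m =>
        (-1 : ℤ) ^ ((i : ℕ) + (j : ℕ)) *
          (if (j : ℕ) ≤ (i : ℕ) then (Nat.choose (2 * n + 1) (n + 1 + ((i : ℕ) - (j : ℕ))) : ℤ)
            else (Nat.choose (2 * n + 1) (n + ((j : ℕ) - (i : ℕ))) : ℤ))).det ≠ 0 := by
  set A : Matrix (Fin m) (Fin m) ℤ := Matrix.of fun i j : Fin m =>
        (-1 : ℤ) ^ ((i : ℕ) + (j : ℕ)) *
          (if (j : ℕ) ≤ (i : ℕ) then (Nat.choose (2 * n + 1) (n + 1 + ((i : ℕ) - (j : ℕ))) : ℤ)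
            else (Nat.choose (2 * n + 1) (n + ((j : ℕ) - (i : ℕ))) : ℤ)) with hA
  intro hdet
  set AR : Matrix (Fin m) (Fin m) ℝ := (Int.castRingHom ℝ).mapMatrix A with hAR
  have hdetR : AR.det = 0 := by
    rw [hAR, ← RingHom.map_det, hdet, map_zero]
  have hsum : AR + AR.transpose = Matrix.of fun i j : Fin m =>
        (-1 : ℝ) ^ ((i : ℕ) + (j : ℕ)) * (Nat.choose (2 * (n + 1)) ((n + 1) + Nat.dist i j) : ℝ) := by
    ext i j
    simp only [Matrix.add_apply, Matrix.transpose_apply, hAR, hA, RingHom.mapMatrix_apply,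
      Matrix.map_apply, Matrix.of_apply, Int.coe_castRingHom]
    have hP : ∀ d : ℕ, (2 * (n + 1)).choose (n + 1 + d) = (2 * n + 1).choose (n + d) + (2 * n + 1).choose (n + 1 + d) := by
      intro d
      have : 2 * (n + 1) = (2 * n + 1) + 1 := by ring
      rw [this, show n + 1 + d = (n + d) + 1 by ring, Nat.choose_succ_succ]
    rcases lt_trichotomy (i : ℕ) (j : ℕ) with h | h | h
    · rw [if_neg (by omega), if_pos (by omega), Nat.dist_eq_sub_of_le h.le, hP, add_comm (j : ℕ) (i : ℕ)]
      push_cast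
      ring
    · rw [if_pos (by omega), if_pos (by omega), h, Nat.dist_self, Nat.sub_self, hP]
      have : (2 * n + 1).choose (n + 0) = (2 * n + 1).choose (n + 1 + 0) :=
        Nat.choose_symm_of_eq_add (by omega)
      rw [this]
      push_cast
      ring
    · rw [if_pos (by omega), if_neg (by omega), Nat.dist_comm, Nat.dist_eq_sub_of_le h.le, hP,
        add_comm (j : ℕ) (i : ℕ)]
      push_cast
      ring
  have hpd := posDef_even (n + 1) m
  rw [← hsum] at hpd
  obtain ⟨x, hx, hx0⟩ := Matrix.exists_mulVec_eq_zero_iff.2 hdetR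
  have hpos := hpd.dotProduct_mulVec_pos hx
  rw [star_trivial, Matrix.add_mulVec, dotProduct_add, hx0, dotProduct_zero, zero_add,
    Matrix.dotProduct_mulVec, Matrix.vecMul_transpose, hx0, zero_dotProduct] at hpos
  exact lt_irrefl _ hpos

end Groth.Agent.LD.Toeplitz
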