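import Mathlib

open MeasureTheory
open scoped ComplexOrder

namespace Groth.Agent.LD.Toeplitz2

noncomputable def E (n : ℤ) (y : ℝ) : ℂ := Complex.exp (Complex.I * (n : ℂ) * (y : ℂ))

theorem E_add (a b : ℤ) (y : ℝ) : E (a + b) y = E a y * E b y := by
  unfold E; rw [← Complex.exp_add]; congr 1; push_cast; ring

theorem E_conj (n : ℤ) (y : ℝ) : (starRingEnd ℂ) (E n y) = E (-n) y := by
  unfold E
  rw [← Complex.exp_conj]
  congr 1
  simp [Complex.conj_I]

theorem E_cont (n : ℤ) : Continuous (E n) := by unfold E; fun_prop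

theorem int_E (n : ℤ) :
    ∫ y in (0:ℝ)..(2 * Real.pi), E n y = if n = 0 then (2 * Real.pi : ℂ) else 0 := by
  unfold E
  split_ifs with h
  · subst h; simp
  · have hc : Complex.I * (n:ℂ) ≠ 0 := mul_ne_zero Complex.I_ne_zero (Int.cast_ne_zero.2 h)
    rw [integral_exp_mul_complex hc]
    have h1 : Complex.exp (Complex.I * n * ((2 * Real.pi : ℝ) : ℂ)) = 1 := by
      have := Complex.exp_int_mul_two_pi_mul_I n
      rw [← this]; congr 1; push_cast; ring
    rw [h1]; simp


theorem quad_eq (m : ℕ) (t : ℤ → ℂ) (A : Matrix (Fin m) (Fin m) ℂ)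
    (hA : ∀ i j : Fin m, A i j = t ((j : ℤ) - (i : ℤ))) (x : Fin m → ℂ) :
    ∫ y in (0:ℝ)..(2 * Real.pi),
      (∑ k ∈ Finset.Ioo (-(m : ℤ)) (m : ℤ), t k * E k y) *
        ((starRingEnd ℂ) (∑ j : Fin m, x j * E (-(j:ℤ)) y) * (∑ j : Fin m, x j * E (-(j:ℤ)) y))
      = (2 * Real.pi : ℂ) * (star x ⬝ᵥ A.mulVec x) := by
  have hexp : ∀ y : ℝ, (∑ k ∈ Finset.Ioo (-(m : ℤ)) (m : ℤ), t k * E k y) *
        ((starRingEnd ℂ) (∑ j : Fin m, x j * E (-(j:ℤ)) y) * (∑ j : Fin m, x j * E (-(j:ℤ)) y))
      = ∑ k ∈ Finset.Ioo (-(m : ℤ)) (m : ℤ), ∑ i : Fin m, ∑ j : Fin m,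
          (t k * (starRingEnd ℂ) (x i) * x j) * E (k + (i:ℤ) + -(j:ℤ)) y := by
    intro y
    rw [map_sum]
    simp only [map_mul, E_conj, neg_neg]
    rw [Finset.sum_mul_sum, Finset.sum_mul_sum]
    apply Finset.sum_congr rfl; intro k _
    apply Finset.sum_congr rfl; intro i _
    rw [Finset.mul_sum]
    apply Finset.sum_congr rfl; intro j _
    rw [E_add, E_add]; ring
  simp_rw [hexp]
  have hii : ∀ (k : ℤ) (i j : Fin m), IntervalIntegrable
      (fun y : ℝ => (t k * (starRingEnd ℂ) (x i) * x j) * E (k + (i:ℤ) + -(j:ℤ)) y) volume 0 (2 * Real.pi) :=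
    fun k i j => (continuous_const.mul (E_cont _)).intervalIntegrable _ _
  rw [intervalIntegral.integral_finset_sum]
  swap
  · intro k _
    apply Continuous.intervalIntegrable
    exact continuous_finset_sum _ (fun i _ => continuous_finset_sum _ (fun j _ => continuous_const.mul (E_cont _)))
  have h2 : ∀ k ∈ Finset.Ioo (-(m : ℤ)) (m : ℤ), ∫ y in (0:ℝ)..(2 * Real.pi), ∑ i : Fin m, ∑ j : Fin m,
          (t k * (starRingEnd ℂ) (x i) * x j) * E (k + (i:ℤ) + -(j:ℤ)) y
      = ∑ i : Fin m, ∑ j : Fin m, (t k * (starRingEnd ℂ) (x i) * x j) *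
          (if k + (i:ℤ) + -(j:ℤ) = 0 then (2 * Real.pi : ℂ) else 0) := by
    intro k _
    rw [intervalIntegral.integral_finset_sum]
    swap
    · intro i _
      apply Continuous.intervalIntegrable
      exact continuous_finset_sum _ (fun j _ => continuous_const.mul (E_cont _))
    apply Finset.sum_congr rfl; intro i _
    rw [intervalIntegral.integral_finset_sum (fun j _ => hii k i j)]
    apply Finset.sum_congr rfl; intro j _
    rw [intervalIntegral.integral_const_mul, int_E]
  rw [Finset.sum_congr rfl h2, Finset.sum_comm]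
  simp only [dotProduct, Matrix.mulVec, Pi.star_apply, Finset.mul_sum]
  apply Finset.sum_congr rfl; intro i _
  rw [Finset.sum_comm]
  apply Finset.sum_congr rfl; intro j _
  rw [Finset.sum_eq_single ((j:ℤ) - (i:ℤ))]
  · rw [if_pos (by ring), hA]
    simp only [RCLike.star_def]
    ring
  · intro k _ hk
    rw [if_neg, mul_zero]
    intro h; apply hk; linarith
  · intro h
    exfalso; apply h
    rw [Finset.mem_Ioo]
    have hi := i.2; have hj := j.2
    constructor <;> omega


theorem E_neg_pow (j : ℕ) (y : ℝ) : E (-(j:ℤ)) y = (E (-1) y) ^ j := by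
  unfold E
  rw [← Complex.exp_nat_mul]
  congr 1; push_cast; ring

theorem fiber_countable (r : ℂ) : {y : ℝ | E (-1) y = r}.Countable := by
  by_cases hne : ∃ y0 : ℝ, E (-1) y0 = r
  · obtain ⟨y0, hy0⟩ := hne
    apply Set.Countable.mono _ (Set.countable_range (fun n : ℤ => y0 - 2 * Real.pi * n))
    intro y hy
    rw [Set.mem_setOf_eq, ← hy0] at hy
    unfold E at hy
    rw [Complex.exp_eq_exp_iff_exists_int] at hy
    obtain ⟨n, hn⟩ := hy
    refine ⟨n, ?_⟩
    apply Complex.ofReal_injective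
    push_cast
    push_cast at hn
    linear_combination (-Complex.I) * hn + (-(y:ℂ) + y0 - 2 * Real.pi * n) * Complex.I_sq
  · apply Set.Countable.mono _ Set.countable_empty
    intro y hy
    exact (hne ⟨y, hy⟩).elim

theorem zero_countable (m : ℕ) (x : Fin m → ℂ) (hx : x ≠ 0) :
    {y : ℝ | ∑ j : Fin m, x j * E (-(j:ℤ)) y = 0}.Countable := by
  classical
  set P : Polynomial ℂ := ∑ j : Fin m, Polynomial.monomial (j : ℕ) (x j) with hP
  have hcoeff : ∀ j0 : Fin m, P.coeff j0 = x j0 := by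
    intro j0
    rw [hP, Polynomial.finset_sum_coeff]
    rw [Finset.sum_eq_single j0]
    · rw [Polynomial.coeff_monomial, if_pos rfl]
    · intro j _ hj
      rw [Polynomial.coeff_monomial, if_neg]
      intro h; exact hj (Fin.ext h)
    · intro h; exact absurd (Finset.mem_univ _) h
  have hP0 : P ≠ 0 := by
    intro h0
    apply hx
    funext j0
    rw [← hcoeff j0, h0]; simp
  have heval : ∀ y : ℝ, ∑ j : Fin m, x j * E (-(j:ℤ)) y = P.eval (E (-1) y) := by
    intro y
    rw [hP, Polynomial.eval_finset_sum]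
    apply Finset.sum_congr rfl; intro j _
    rw [Polynomial.eval_monomial, E_neg_pow]
  have hsub : {y : ℝ | ∑ j : Fin m, x j * E (-(j:ℤ)) y = 0} ⊆
      ⋃ r ∈ P.roots.toFinset, {y : ℝ | E (-1) y = r} := by
    intro y hy
    rw [Set.mem_setOf_eq, heval] at hy
    simp only [Set.mem_iUnion, Set.mem_setOf_eq]
    refine ⟨E (-1) y, ?_, rfl⟩
    rw [Multiset.mem_toFinset, Polynomial.mem_roots hP0]
    exact hy
  apply Set.Countable.mono hsub
  apply Set.Countable.biUnion (Finset.countable_toSet _)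
  intro r _
  exact fiber_countable r

theorem posDef (m : ℕ) (t : ℤ → ℂ) (A : Matrix (Fin m) (Fin m) ℂ)
    (hA : ∀ i j : Fin m, A i j = t ((j : ℤ) - (i : ℤ))) (hH : A.IsHermitian)
    (hpos : Set.Countable {y : ℝ | ¬ 0 < (∑ k ∈ Finset.Ioo (-(m : ℤ)) (m : ℤ),
        t k * Complex.exp (Complex.I * (k : ℂ) * (y : ℂ))).re}) :
    A.PosDef := by
  apply Matrix.PosDef.of_dotProduct_mulVec_pos hH
  intro x hx
  rw [Complex.pos_iff]
  refine ⟨?_, (hH.im_star_dotProduct_mulVec_self x).symm⟩
  set F : ℝ → ℂ := fun y => ∑ k ∈ Finset.Ioo (-(m : ℤ)) (m : ℤ), t k * E k y with hF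
  set g : ℝ → ℂ := fun y => ∑ j : Fin m, x j * E (-(j:ℤ)) y with hg
  have hFc : Continuous F := continuous_finset_sum _ (fun k _ => continuous_const.mul (E_cont _))
  have hgc : Continuous g := continuous_finset_sum _ (fun k _ => continuous_const.mul (E_cont _))
  have hS : {y : ℝ | ¬ 0 < (F y).re}.Countable := hpos
  have hq : ∫ y in (0:ℝ)..(2 * Real.pi), F y * ((starRingEnd ℂ) (g y) * g y)
      = (2 * Real.pi : ℂ) * (star x ⬝ᵥ A.mulVec x) := quad_eq m t A hA x
  have hre : ∫ y in (0:ℝ)..(2*Real.pi), (F y).re * Complex.normSq (g y)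
      = 2 * Real.pi * (star x ⬝ᵥ A.mulVec x).re := by
    have h1 := congrArg Complex.re hq
    rw [← Complex.reCLM_apply, ← ContinuousLinearMap.intervalIntegral_comp_comm] at h1
    · rw [show ((2:ℂ) * (Real.pi:ℂ)) = (((2 * Real.pi : ℝ)) : ℂ) by push_cast; ring,
        Complex.re_ofReal_mul] at h1
      rw [← h1]
      apply intervalIntegral.integral_congr
      intro y _
      simp only [Complex.reCLM_apply]
      rw [← Complex.normSq_eq_conj_mul_self, Complex.re_mul_ofReal]
    · apply Continuous.intervalIntegrable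
      exact hFc.mul ((Complex.continuous_conj.comp hgc).mul hgc)
  -- nonnegativity everywhere
  have hnn : ∀ y : ℝ, 0 ≤ (F y).re := by
    have hd : Dense {y : ℝ | ¬ 0 < (F y).re}ᶜ := hS.dense_compl ℝ
    have hcl : IsClosed {y : ℝ | 0 ≤ (F y).re} :=
      isClosed_le continuous_const (Complex.continuous_re.comp hFc)
    have hsub : {y : ℝ | ¬ 0 < (F y).re}ᶜ ⊆ {y : ℝ | 0 ≤ (F y).re} := by
      intro y hy
      simp only [Set.mem_compl_iff, Set.mem_setOf_eq, not_not] at hy
      exact hy.le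
    intro y
    have := closure_minimal hsub hcl (hd y)
    exact this
  have hcont : Continuous (fun y : ℝ => (F y).re * Complex.normSq (g y)) :=
    (Complex.continuous_re.comp hFc).mul (Complex.continuous_normSq.comp hgc)
  have hex : ∃ c ∈ Set.Icc (0:ℝ) (2 * Real.pi), 0 < (F c).re * Complex.normSq (g c) := by
    by_contra hcon
    push Not at hcon
    have hIcc : Set.Icc (0:ℝ) (2 * Real.pi) ⊆ {y : ℝ | ¬ 0 < (F y).re} ∪ {y : ℝ | g y = 0} := by
      intro c hc
      have h1 := hcon c hc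
      have h2 : 0 ≤ (F c).re * Complex.normSq (g c) := mul_nonneg (hnn c) (Complex.normSq_nonneg _)
      have h3 : (F c).re * Complex.normSq (g c) = 0 := le_antisymm h1 h2
      rcases mul_eq_zero.1 h3 with h4 | h4
      · left; simp only [Set.mem_setOf_eq, h4, lt_irrefl, not_false_eq_true]
      · right; exact Complex.normSq_eq_zero.1 h4
    have hc2 : (Set.Icc (0:ℝ) (2 * Real.pi)).Countable :=
      Set.Countable.mono hIcc (hS.union (zero_countable m x hx))
    rw [Cardinal.Real.Icc_countable_iff] at hc2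
    have := Real.pi_pos
    linarith
  have hint := intervalIntegral.integral_pos (by positivity : (0:ℝ) < 2 * Real.pi) hcont.continuousOn
    (fun y _ => mul_nonneg (hnn y) (Complex.normSq_nonneg _)) hex
  rw [hre] at hint
  have h2pi : (0:ℝ) < 2 * Real.pi := by positivity
  exact (mul_pos_iff_of_pos_left h2pi).1 hint

end Groth.Agent.LD.Toeplitz2
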