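import Mathlib

namespace Groth.Agent.LD.UFI

open FractionalIdeal nonZeroDivisors

section Dom
variable {D : Type*} [CommRing D] [IsDomain D]

/-- invertible ideal -/
def Inv (I : Ideal D) : Prop := IsUnit ((I : FractionalIdeal D⁰ (FractionRing D)))

theorem Inv.mul {I J : Ideal D} (hI : Inv I) (hJ : Inv J) : Inv (I * J) := by
  unfold Inv; rw [coeIdeal_mul]; exact IsUnit.mul hI hJ

theorem Inv.of_mul_left {I J : Ideal D} (h : Inv (I * J)) : Inv I := by
  unfold Inv at *; rw [coeIdeal_mul] at h; exact isUnit_of_mul_isUnit_left h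

theorem Inv.cancel {I J J' : Ideal D} (hI : Inv I) (h : I * J = I * J') : J = J' := by
  apply coeIdeal_injective (K := FractionRing D)
  have := congrArg (fun X : Ideal D => (X : FractionalIdeal D⁰ (FractionRing D))) h
  simp only [coeIdeal_mul] at this
  exact (IsUnit.mul_right_inj hI).1 this

theorem inv_span_singleton {a : D} (ha : a ≠ 0) : Inv (Ideal.span {a}) := by
  unfold Inv
  rw [coeIdeal_span_singleton]
  have h0 : algebraMap D (FractionRing D) a ≠ 0 :=
    mt (IsFractionRing.to_map_eq_zero_iff).1 ha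
  refine IsUnit.of_mul_eq_one (spanSingleton _ (algebraMap D (FractionRing D) a)⁻¹) ?_
  rw [spanSingleton_mul_spanSingleton, mul_inv_cancel₀ h0, spanSingleton_one]

theorem inv_top : Inv (⊤ : Ideal D) := by
  unfold Inv; rw [coeIdeal_top]; exact isUnit_one

theorem inv_of_mem_of_prod {s : Multiset (Ideal D)} (hs : Inv s.prod) {p : Ideal D} (hp : p ∈ s) :
    Inv p := by
  obtain ⟨s', rfl⟩ := Multiset.exists_cons_of_mem hp
  rw [Multiset.prod_cons] at hs
  exact hs.of_mul_left

theorem inv_prod {s : Multiset (Ideal D)} (hs : ∀ p ∈ s, Inv p) : Inv s.prod := by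
  induction s using Multiset.induction_on with
  | empty => rw [Multiset.prod_zero, Ideal.one_eq_top]; exact inv_top
  | cons a s ih =>
    rw [Multiset.prod_cons]
    exact (hs a (Multiset.mem_cons_self a s)).mul (ih fun p hp => hs p (Multiset.mem_cons_of_mem hp))

theorem uniq : ∀ (n : ℕ) (s t : Multiset (Ideal D)), Multiset.card s = n →
    (∀ p ∈ s, p.IsPrime ∧ Inv p) → (∀ p ∈ t, p.IsPrime ∧ Inv p) → s.prod = t.prod → s = t := by
  intro n
  induction n with
  | zero =>
    intro s t hs _ ht hprod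
    rw [Multiset.card_eq_zero] at hs; subst hs
    by_contra hne
    obtain ⟨q, hq⟩ := Multiset.exists_mem_of_ne_zero (Ne.symm hne)
    have h1 : t.prod ≤ q := Ideal.multiset_prod_le_inf.trans (Multiset.inf_le hq)
    rw [← hprod, Multiset.prod_zero, Ideal.one_eq_top, top_le_iff] at h1
    exact (ht q hq).1.ne_top h1
  | succ n ih =>
    intro s t hs hS hT hprod
    classical
    have hsne : s ≠ 0 := by intro h; rw [h] at hs; simp at hs
    obtain ⟨p, hpmin⟩ := Finset.exists_minimal (s := s.toFinset) (Multiset.toFinset_nonempty.2 hsne)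
    have hp : p ∈ s := Multiset.mem_toFinset.1 hpmin.1
    have hmin : ∀ p' ∈ s, p' ≤ p → p ≤ p' := fun p' hp' h => hpmin.2 (Multiset.mem_toFinset.2 hp') h
    have hpP := (hS p hp).1
    have h1 : t.prod ≤ p := by
      rw [← hprod]; exact Ideal.multiset_prod_le_inf.trans (Multiset.inf_le hp)
    obtain ⟨q, hq, hqp⟩ := (hpP.multiset_prod_le).1 h1
    have hqP := (hT q hq).1
    have h2 : s.prod ≤ q := by
      rw [hprod]; exact Ideal.multiset_prod_le_inf.trans (Multiset.inf_le hq)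
    obtain ⟨p', hp', hp'q⟩ := (hqP.multiset_prod_le).1 h2
    have hpp' : p ≤ p' := hmin p' hp' (hp'q.trans hqp)
    have hqeq : q = p := le_antisymm hqp (hpp'.trans hp'q)
    subst hqeq
    obtain ⟨s', rfl⟩ := Multiset.exists_cons_of_mem hp
    obtain ⟨t', rfl⟩ := Multiset.exists_cons_of_mem hq
    rw [Multiset.prod_cons, Multiset.prod_cons] at hprod
    have h3 : s'.prod = t'.prod := (hS q hp).2.cancel hprod
    have hs' : Multiset.card s' = n := by
      rw [Multiset.card_cons] at hs; omega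
    rw [ih s' t' hs' (fun x hx => hS x (Multiset.mem_cons_of_mem hx))
      (fun x hx => hT x (Multiset.mem_cons_of_mem hx)) h3]

end Dom


section Main
variable {R : Type*} [CommRing R] [IsDomain R]

theorem mapprod (p : Ideal R) (s : Multiset (Ideal R)) :
    (s.map (Ideal.map (Ideal.Quotient.mk p))).prod = s.prod.map (Ideal.Quotient.mk p) := by
  have := map_multiset_prod (Ideal.mapHom (Ideal.Quotient.mk p)) s
  simpa using this.symm

theorem sup_span_eq_top
    (h : ∀ I : Ideal R, I ≠ ⊥ → ∃! s : Multiset (Ideal R), (∀ p ∈ s, p.IsPrime ∧ p ≠ ⊥) ∧ s.prod = I)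
    (p : Ideal R) [hp : p.IsPrime] (hpi : Inv p) (a : R) (ha : a ∉ p) : p ⊔ Ideal.span {a} = ⊤ := by
  have ha0 : a ≠ 0 := fun h0 => ha (h0 ▸ p.zero_mem)
  set I1 : Ideal R := p ⊔ Ideal.span {a} with hI1
  set I2 : Ideal R := p ⊔ Ideal.span {a * a} with hI2
  have haI1 : a ∈ I1 := Ideal.mem_sup_right (Ideal.subset_span rfl)
  have hI1ne : I1 ≠ ⊥ := fun h0 => ha0 (by rw [h0] at haI1; exact haI1)
  have haaI2 : a * a ∈ I2 := Ideal.mem_sup_right (Ideal.subset_span rfl)
  have hI2ne : I2 ≠ ⊥ := fun h0 => mul_ne_zero ha0 ha0 (by rw [h0] at haaI2; exact haaI2)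
  obtain ⟨s1, ⟨hs1, hprod1⟩, -⟩ := h I1 hI1ne
  obtain ⟨s2, ⟨hs2, hprod2⟩, -⟩ := h I2 hI2ne
  let π := Ideal.Quotient.mk p
  have hπ : Function.Surjective π := Ideal.Quotient.mk_surjective
  have hker : RingHom.ker π = p := Ideal.mk_ker
  have hπa : π a ≠ 0 := fun h0 => ha (Ideal.Quotient.eq_zero_iff_mem.1 h0)
  have hple1 : ∀ q ∈ s1, p ≤ q := fun q hq => by
    have h1 : p ≤ s1.prod := by rw [hprod1]; exact le_sup_left
    exact h1.trans (Ideal.multiset_prod_le_inf.trans (Multiset.inf_le hq))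
  have hple2 : ∀ q ∈ s2, p ≤ q := fun q hq => by
    have h1 : p ≤ s2.prod := by rw [hprod2]; exact le_sup_left
    exact h1.trans (Ideal.multiset_prod_le_inf.trans (Multiset.inf_le hq))
  have hcm : ∀ q : Ideal R, p ≤ q → Ideal.comap π (Ideal.map π q) = q := by
    intro q hq
    rw [Ideal.comap_map_of_surjective π hπ, ← RingHom.ker_eq_comap_bot, hker]
    exact sup_eq_left.2 hq
  have hmapI1 : I1.map π = Ideal.span {π a} := by
    rw [hI1, Ideal.map_sup, Ideal.map_quotient_self, bot_sup_eq, Ideal.map_span, Set.image_singleton]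
  have hmapI2 : I2.map π = Ideal.span {π a * π a} := by
    rw [hI2, Ideal.map_sup, Ideal.map_quotient_self, bot_sup_eq, Ideal.map_span, Set.image_singleton,
      map_mul]
  set t1 : Multiset (Ideal (R ⧸ p)) := s1.map (Ideal.map π) with ht1
  set t2 : Multiset (Ideal (R ⧸ p)) := s2.map (Ideal.map π) with ht2
  have hpt1 : t1.prod = Ideal.span {π a} := by rw [ht1, mapprod, hprod1, hmapI1]
  have hpt2 : t2.prod = Ideal.span {π a * π a} := by rw [ht2, mapprod, hprod2, hmapI2]
  have hT1 : ∀ q ∈ t1, q.IsPrime ∧ Inv q := by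
    intro q hq
    have hinv : Inv q := inv_of_mem_of_prod (by rw [hpt1]; exact inv_span_singleton hπa) hq
    obtain ⟨q0, hq0, rfl⟩ := Multiset.mem_map.1 hq
    have := (hs1 q0 hq0).1
    exact ⟨Ideal.map_isPrime_of_surjective hπ (hker.le.trans (hple1 q0 hq0)), hinv⟩
  have hT2 : ∀ q ∈ t2, q.IsPrime ∧ Inv q := by
    intro q hq
    have hinv : Inv q := inv_of_mem_of_prod
      (by rw [hpt2]; exact inv_span_singleton (mul_ne_zero hπa hπa)) hq
    obtain ⟨q0, hq0, rfl⟩ := Multiset.mem_map.1 hq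
    have := (hs2 q0 hq0).1
    exact ⟨Ideal.map_isPrime_of_surjective hπ (hker.le.trans (hple2 q0 hq0)), hinv⟩
  have hT11 : ∀ q ∈ t1 + t1, q.IsPrime ∧ Inv q := by
    intro q hq
    rcases Multiset.mem_add.1 hq with h' | h' <;> exact hT1 q h'
  have hprodeq : (t1 + t1).prod = t2.prod := by
    rw [Multiset.prod_add, hpt1, hpt2, Ideal.span_singleton_mul_span_singleton]
  have hteq : t1 + t1 = t2 := uniq _ (t1 + t1) t2 rfl hT11 hT2 hprodeq
  have hseq : s1 + s1 = s2 := by
    have h1 := congrArg (Multiset.map (Ideal.comap π)) hteq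
    rw [Multiset.map_add, ht1, ht2, Multiset.map_map, Multiset.map_map] at h1
    have e1 : Multiset.map (Ideal.comap π ∘ Ideal.map π) s1 = s1 := by
      conv_rhs => rw [← Multiset.map_id s1]
      exact Multiset.map_congr rfl (fun q hq => hcm q (hple1 q hq))
    have e2 : Multiset.map (Ideal.comap π ∘ Ideal.map π) s2 = s2 := by
      conv_rhs => rw [← Multiset.map_id s2]
      exact Multiset.map_congr rfl (fun q hq => hcm q (hple2 q hq))
    rw [e1, e2] at h1
    exact h1
  have hI2eq : I2 = I1 * I1 := by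
    rw [← hprod2, ← hseq, Multiset.prod_add, hprod1]
  -- now p ≤ p * I1
  have hle : p ≤ p * I1 := by
    intro x hx
    have hx2 : x ∈ I1 * I1 := hI2eq ▸ (Ideal.mem_sup_left hx : x ∈ I2)
    have hexp : I1 * I1 = p * I1 ⊔ Ideal.span {a} * I1 := Ideal.sup_mul p (Ideal.span {a}) I1
    have hexp2 : Ideal.span {a} * I1 = Ideal.span {a} * p ⊔ Ideal.span {a * a} := by
      have := Ideal.mul_sup (Ideal.span {a}) p (Ideal.span {a})
      rw [Ideal.span_singleton_mul_span_singleton] at this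
      exact this
    rw [hexp, hexp2] at hx2
    obtain ⟨y, hy, z, hz, rfl⟩ := Submodule.mem_sup.1 hx2
    obtain ⟨z1, hz1, z2, hz2, rfl⟩ := Submodule.mem_sup.1 hz
    obtain ⟨c, rfl⟩ := Ideal.mem_span_singleton'.1 hz2
    have hyp : y ∈ p := Ideal.mul_le_left hy
    have hz1p : z1 ∈ p := Ideal.mul_le_right hz1
    have hz1' : z1 ∈ p * I1 := by
      rw [mul_comm] at hz1
      exact Ideal.mul_mono_right (le_sup_right) hz1
    have hcaa : c * (a * a) ∈ p := by
      have : c * (a * a) = (y + (z1 + c * (a * a))) - y - z1 := by ring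
      rw [this]
      exact p.sub_mem (p.sub_mem hx hyp) hz1p
    have hc : c ∈ p := by
      rcases hp.mem_or_mem hcaa with h' | h'
      · exact h'
      · rcases hp.mem_or_mem h' with h'' | h'' <;> exact absurd h'' ha
    have hz2' : c * (a * a) ∈ p * I1 := Ideal.mul_mem_mul hc (I1.mul_mem_left a haI1)
    exact (p * I1).add_mem hy ((p * I1).add_mem hz1' hz2')
  have heq : p * I1 = p * ⊤ := by
    rw [Ideal.mul_top]
    exact le_antisymm Ideal.mul_le_left hle
  exact hpi.cancel heq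

theorem maximal_of_inv
    (h : ∀ I : Ideal R, I ≠ ⊥ → ∃! s : Multiset (Ideal R), (∀ p ∈ s, p.IsPrime ∧ p ≠ ⊥) ∧ s.prod = I)
    (p : Ideal R) [hp : p.IsPrime] (hpi : Inv p) : p.IsMaximal := by
  rw [Ideal.isMaximal_iff]
  refine ⟨(Ideal.ne_top_iff_one p).1 hp.ne_top, fun J a hpJ hap haJ => ?_⟩
  have h1 := sup_span_eq_top h p hpi a hap
  have : p ⊔ Ideal.span {a} ≤ J := sup_le hpJ ((Ideal.span_singleton_le_iff_mem J).2 haJ)
  rw [h1] at this
  exact this Submodule.mem_top

theorem inv_of_prime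
    (h : ∀ I : Ideal R, I ≠ ⊥ → ∃! s : Multiset (Ideal R), (∀ p ∈ s, p.IsPrime ∧ p ≠ ⊥) ∧ s.prod = I)
    (p : Ideal R) [hp : p.IsPrime] (hp0 : p ≠ ⊥) : Inv p := by
  obtain ⟨a, hap, ha0⟩ := Submodule.exists_mem_ne_zero_of_ne_bot hp0
  have hne : Ideal.span {a} ≠ ⊥ := by
    rw [Ne, Ideal.span_singleton_eq_bot]; exact ha0
  obtain ⟨s, ⟨hs, hprod⟩, -⟩ := h _ hne
  have hinv : Inv s.prod := by rw [hprod]; exact inv_span_singleton ha0
  have hle : s.prod ≤ p := by rw [hprod]; exact (Ideal.span_singleton_le_iff_mem p).2 hap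
  obtain ⟨q, hq, hqp⟩ := (hp.multiset_prod_le).1 hle
  have hqP := (hs q hq).1
  have hqi : Inv q := inv_of_mem_of_prod hinv hq
  have hqmax := maximal_of_inv h q hqi
  have : q = p := hqmax.eq_of_le hp.ne_top hqp
  exact this ▸ hqi

theorem inv_of_ne_bot
    (h : ∀ I : Ideal R, I ≠ ⊥ → ∃! s : Multiset (Ideal R), (∀ p ∈ s, p.IsPrime ∧ p ≠ ⊥) ∧ s.prod = I)
    (I : Ideal R) (hI : I ≠ ⊥) : Inv I := by
  obtain ⟨s, ⟨hs, hprod⟩, -⟩ := h I hI
  rw [← hprod]
  apply inv_prod
  intro p hp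
  have := (hs p hp).1
  exact inv_of_prime h p (hs p hp).2

theorem isDedekind
    (h : ∀ I : Ideal R, I ≠ ⊥ → ∃! s : Multiset (Ideal R), (∀ p ∈ s, p.IsPrime ∧ p ≠ ⊥) ∧ s.prod = I) :
    IsDedekindDomain R := by
  refine (isDedekindDomain_iff_mul_inv_cancel (A := R) (K := FractionRing R)).2 ?_
  intro I hI
  rw [FractionalIdeal.mul_inv_cancel_iff_isUnit]
  obtain ⟨a, J, ha, rfl⟩ := exists_eq_spanSingleton_mul I
  have h0 : algebraMap R (FractionRing R) a ≠ 0 :=
    mt (IsFractionRing.to_map_eq_zero_iff).1 ha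
  have hJ : J ≠ ⊥ := by
    rintro rfl
    apply hI
    simp
  apply IsUnit.mul
  · refine IsUnit.of_mul_eq_one (spanSingleton _ (algebraMap R (FractionRing R) a)) ?_
    rw [spanSingleton_mul_spanSingleton, inv_mul_cancel₀ h0, spanSingleton_one]
  · exact inv_of_ne_bot h J hJ

end Main

end Groth.Agent.LD.UFI
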