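import Groth.Agent.Lib.Helper8.SmLift.Quot
import Groth.Agent.Lib.Helper7.W2Et

/-! # Smooth algebras over a perfect field lift to `W₂(k)` together with Frobenius (S13148)

Combination of helper8's lifting of smooth algebras along arbitrary quotients
(`SmLift.exists_smooth_lift`) and helper7's twisted lifting for formally smooth algebras. -/

set_option autoImplicit false
universe u

namespace Groth.Agent.LD.W2Smooth

open FrobAlg Groth.Agent.H7.W2D

theorem res_sigma (p : ℕ) [Fact p.Prime] (k : Type u) [Field k] [CharP k p] [PerfectRing k p]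
    (w : W2 p k) : res p k (sigma p k w) = res p k w ^ p := by
  obtain ⟨v, hv⟩ := exists_sigma_sub (p := p) (k := k) w
  have h1 : sigma p k w = w ^ p + (p : W2 p k) * v := by rw [← hv]; ring
  rw [h1, map_add, map_mul, map_pow, map_natCast, CharP.cast_eq_zero, zero_mul, add_zero]

theorem res_surjective (p : ℕ) [Fact p.Prime] (k : Type u) [CommRing k] :
    Function.Surjective (res p k) := by
  intro a
  refine ⟨WittVector.truncate 2 (WittVector.teichmuller p a), ?_⟩
  rw [res_truncate, WittVector.teichmuller_coeff_zero]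

/-- **S13148.** -/
theorem isFLiftable_of_smooth (p : ℕ) [Fact p.Prime] (k : Type u) [Field k] [CharP k p]
    [PerfectRing k p] (A : Type u) [CommRing A] [Algebra k A] [Algebra.Smooth k A] :
    FrobAlg.IsFLiftable p k A := by
  classical
  let W := W2 p k
  let I : Ideal W := RingHom.ker (res p k)
  let e : W ⧸ I ≃+* k := RingHom.quotientKerEquivOfSurjective (res_surjective p k)
  have he : ∀ w : W, e (Ideal.Quotient.mk I w) = res p k w := fun w =>
    RingHom.quotientKerEquivOfSurjective_apply_mk _ w
  letI algk : Algebra (W ⧸ I) k := e.toRingHom.toAlgebra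
  letI algA : Algebra (W ⧸ I) A := ((algebraMap k A).comp e.toRingHom).toAlgebra
  haveI : IsScalarTower (W ⧸ I) k A := IsScalarTower.of_algebraMap_eq fun _ => rfl
  haveI : Algebra.Smooth (W ⧸ I) k :=
    Algebra.Smooth.of_equiv (AlgEquiv.ofRingEquiv (f := e) (fun _ => rfl))
  haveI : Algebra.Smooth (W ⧸ I) A := Algebra.Smooth.comp (W ⧸ I) k A
  obtain ⟨B, _, _, hsm, ⟨ε⟩⟩ := Groth.Agent.H8.SmLift.exists_smooth_lift (R := W) (A₀ := A) I
  haveI := hsm
  let ι : W →+* B := algebraMap W B
  let π : B →+* A := (ε : (B ⧸ I.map (algebraMap W B)) →+* A).comp (Ideal.Quotient.mk _)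
  have hπι : ∀ w : W, π (ι w) = algebraMap k A (res p k w) := by
    intro w
    change ε (Ideal.Quotient.mk _ (algebraMap W B w)) = _
    have h1 : Ideal.Quotient.mk (I.map (algebraMap W B)) (algebraMap W B w) =
        algebraMap (W ⧸ I) (B ⧸ I.map (algebraMap W B)) (Ideal.Quotient.mk I w) := rfl
    rw [h1, ε.commutes]
    change algebraMap k A (e (Ideal.Quotient.mk I w)) = _
    rw [he]
  have hL : IsLift p k A B ι π := by
    refine ⟨RingHom.flat_algebraMap_iff.mpr inferInstance, ?_, ?_, ?_⟩
    · exact ε.surjective.comp Ideal.Quotient.mk_surjective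
    · ext x
      change ε (Ideal.Quotient.mk _ x) = 0 ↔ x ∈ I.map (algebraMap W B)
      rw [map_eq_zero_iff _ ε.injective, Ideal.Quotient.eq_zero_iff_mem]
    · ext w
      exact hπι w
  have hN : IsNilpotent (RingHom.ker π) := by
    refine ⟨2, ?_⟩
    rw [ker_pi hL, Ideal.span_singleton_pow, sq, p_mul_p hL]
    simp
  have hp0 : (p : A) = 0 := by
    rw [← map_natCast (algebraMap k A), CharP.cast_eq_zero, map_zero]
  obtain ⟨F, hF1, hF2⟩ := exists_lift_of_formallySmooth (R := W) (S := B)
    (ι.comp (sigma p k)) π hL.surj hN ((powP p A hp0).comp π) (fun w => by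
      change (π (ι w)) ^ p = π (ι (sigma p k w))
      rw [hπι, hπι, res_sigma, map_pow])
  exact ⟨B, inferInstance, ι, π, F, ⟨hL, RingHom.ext (fun w => hF1 w), fun b => hF2 b⟩⟩

end Groth.Agent.LD.W2Smooth
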